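import Groth.Agent.MultT.Rigid
import Mathlib.RingTheory.Bialgebra.TensorProduct
import Mathlib.RingTheory.Filtration
import Mathlib.RingTheory.AdicCompletion.Basic

/-!
# Isotrivial groups: charts over a finite extension
-/

universe u

open TensorProduct

noncomputable section

namespace Groth.Agent.MultT

variable {R : Type u} [CommRing R] {A : Type u} [CommRing A] [HopfAlgebra R A]

/-- The reassociation used for charts over a single base change. -/
theorem bijective_lid_map {S : Type u} [CommRing S] [Algebra R S] :
    Function.Bijective (Bialgebra.TensorProduct.map (R := R) (S := S) (A := S) (C := S)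
      (B := R ⊗[R] A) (D := A) (BialgHom.id S S)
      (Bialgebra.TensorProduct.lid R A : R ⊗[R] A →ₐc[R] A)) := by
  let l := LinearEquiv.lTensor S (TensorProduct.lid R A)
  have : ∀ z, Bialgebra.TensorProduct.map (R := R) (S := S) (A := S) (C := S) (B := R ⊗[R] A) (D := A)
      (BialgHom.id S S) (Bialgebra.TensorProduct.lid R A : R ⊗[R] A →ₐc[R] A) z = l z := by
    intro z
    induction z using TensorProduct.induction_on with
    | zero => rw [map_zero, map_zero]
    | tmul a b => rfl
    | add a b ha hb => rw [map_add, map_add, ha, hb]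
  rw [funext this]
  exact l.bijective

/-- A chart from a diagonalisation of a single base change. -/
abbrev chartOfBaseChange {S : Type u} [CommRing S] [Algebra R S] {M : Type u} [CommGroup M]
    (e : (S ⊗[R] A) ≃ₐc[S] MonoidAlgebra S M) : Chart R A :=
  chartOfEquiv (S₀ := R) (S := S) ((BialgEquiv.ofBijective _ bijective_lid_map).trans e)

/-- Homomorphisms into an isotrivial group congruent modulo all powers of a separated ideal agree. -/
theorem eq_of_forall_mod_pow [IsNoetherianRing R] (hA : SGA3b.IsIsotrivial R A) (I : Ideal R)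
    (hI : I ≤ (⊥ : Ideal R).jacobson) {a b : A}
    (h : ∀ n : ℕ, a - b ∈ Ideal.map (algebraMap R A) (I ^ (n + 1))) : a = b := by
  obtain ⟨S, _, _, -, hfin, hff, M, _, ⟨e⟩⟩ := hA
  let c := chartOfBaseChange e
  have hzero : ∀ m, c.cf m (a - b) = 0 := by
    intro m
    let v : S := c.cf m (a - b)
    have h1 : v ∈ (⨅ n : ℕ, I ^ n • ⊤ : Submodule R S) := by
      refine (Submodule.mem_iInf _).mpr fun n => ?_
      have hmem : v ∈ Ideal.map (algebraMap R S) (I ^ (n + 1)) :=
        c.cf_mem_of_mem (h n) m
      rw [← Submodule.restrictScalars_mem R, ← Ideal.smul_top_eq_map] at hmem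
      exact Submodule.smul_mono_left (Ideal.pow_le_pow_right n.le_succ) hmem
    rw [Ideal.iInf_pow_smul_eq_bot_of_le_jacobson I (M := S) hI] at h1
    exact (show v = 0 from h1)
  have hj : c.j (a - b) = 0 := cfM_ext fun m => by
    rw [← c.cf_apply, hzero, map_zero]
  have h2 : (1 : S) ⊗ₜ[R] (a - b) = 0 := c.bij.1 (by
    refine Eq.trans ?_ (map_zero (c.j.toLinearMap.liftBaseChange c.S)).symm
    show c.j.toLinearMap.liftBaseChange c.S ((1 : c.S) ⊗ₜ[R] (a - b)) = 0
    rw [LinearMap.liftBaseChange_tmul, one_smul]
    exact hj)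
  exact sub_eq_zero.mp ((Module.FaithfullyFlat.one_tmul_eq_zero_iff (R := R) (A := S) (M := A) (a - b)).mp h2)

end Groth.Agent.MultT
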