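import Groth.Agent.MultT.Basic2
import Groth.Agent.MultT.Isotrivial
import Mathlib

/-! Base change of groups of multiplicative type. -/

set_option autoImplicit false

open TensorProduct Coalgebra

universe u

namespace Groth.Agent.MultT

variable {R : Type u} [CommRing R] {A : Type u} [CommRing A] [HopfAlgebra R A]

/-- Transitivity of base change of Hopf algebras. -/
noncomputable def bcTrans (R : Type u) [CommRing R] (T S : Type u) [CommRing T] [CommRing S]
    [Algebra R T] [Algebra R S] [Algebra T S] [IsScalarTower R T S] (A : Type u) [CommRing A]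
    [HopfAlgebra R A] : S ⊗[T] (T ⊗[R] A) ≃ₐc[S] S ⊗[R] A :=
  BialgEquiv.ofAlgEquiv (Algebra.TensorProduct.cancelBaseChange R T S S A)
    (by
      refine Algebra.TensorProduct.ext (Subsingleton.elim _ _) (Algebra.TensorProduct.ext
        (Subsingleton.elim _ _) (AlgHom.ext fun a => ?_))
      simp [Algebra.smul_def])
    (by
      refine Algebra.TensorProduct.ext (Subsingleton.elim _ _) (Algebra.TensorProduct.ext
        (Subsingleton.elim _ _) (AlgHom.ext fun a => ?_))
      simp only [AlgHom.comp_apply, AlgHom.restrictScalars_apply, Algebra.TensorProduct.includeRight_apply,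
        Bialgebra.comulAlgHom_apply, AlgEquiv.coe_toAlgHom, Algebra.TensorProduct.cancelBaseChange_tmul,
        TensorProduct.comul_tmul, CommSemiring.comul_apply, one_smul]
      induction comul (R := R) a using TensorProduct.induction_on with
      | zero => simp
      | tmul x y => simp
      | add x y hx hy => simp only [TensorProduct.tmul_add, map_add, hx, hy])

theorem bcTrans_tmul (T S : Type u) [CommRing T] [CommRing S]
    [Algebra R T] [Algebra R S] [Algebra T S] [IsScalarTower R T S] (s : S) (t : T) (a : A) :
    bcTrans R T S A (s ⊗ₜ (t ⊗ₜ a)) = (t • s) ⊗ₜ a :=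
  Algebra.TensorProduct.cancelBaseChange_tmul R T S S A s t a

theorem isDiag_of_equiv {B : Type u} [CommRing B] [HopfAlgebra R B] (e : A ≃ₐc[R] B)
    (h : SGA3b.IsDiag R B) : SGA3b.IsDiag R A := by
  obtain ⟨M, _, ⟨f⟩⟩ := h
  exact ⟨M, inferInstance, ⟨e.trans f⟩⟩

set_option backward.isDefEq.respectTransparency false in
/-- Diagonalisable groups stay so after any further base change. -/
theorem isDiag_baseChange {T : Type u} [CommRing T] [Algebra R T] (h : SGA3b.IsDiag T (T ⊗[R] A))
    (S : Type u) [CommRing S] [Algebra R S] [hTS : Algebra T S] [hT : IsScalarTower R T S] :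
    SGA3b.IsDiag S (S ⊗[R] A) := by
  obtain ⟨M, _, ⟨e⟩⟩ := h
  obtain ⟨f⟩ := @Chart.exists_bialgEquiv _ _ _ _ _ (chartOfBaseChange e) S _ hTS _ hT
  exact ⟨M, inferInstance, ⟨f⟩⟩

set_option backward.isDefEq.respectTransparency false in
/-- Groups of multiplicative type are stable under base change. -/
theorem isMultType_baseChange (h : SGA3b.IsMultType R A) (T : Type u) [CommRing T] [Algebra R T] :
    SGA3b.IsMultType T (T ⊗[R] A) := by
  obtain ⟨s, hs, h⟩ := h
  refine ⟨algebraMap R T '' s, by rw [← Ideal.map_span, hs, Ideal.map_top], ?_⟩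
  rintro g ⟨f, hf, rfl⟩
  obtain ⟨S, _, _, hff, M, _, ⟨e⟩⟩ := h f hf
  let L := Localization.Away f
  let L' := Localization.Away (algebraMap R T f)
  letI : Algebra R S := Algebra.compHom S (algebraMap R L)
  haveI : IsScalarTower R L S := .of_algebraMap_eq fun _ => rfl
  letI : Algebra L L' := (IsLocalization.Away.map L L' (algebraMap R T) f).toAlgebra
  haveI : IsScalarTower R L L' := .of_algebraMap_eq fun r => by
    show _ = IsLocalization.Away.map L L' (algebraMap R T) f (algebraMap R L r)
    rw [IsLocalization.Away.map, IsLocalization.map_eq, ← IsScalarTower.algebraMap_apply]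
  let S' := L' ⊗[L] S
  letI : Algebra S S' := Algebra.TensorProduct.rightAlgebra
  haveI : IsScalarTower R S S' := .of_algebraMap_eq fun r => by
    show _ = (1 : L') ⊗ₜ[L] algebraMap R S r
    rw [IsScalarTower.algebraMap_apply R L S, Algebra.algebraMap_eq_smul_one (algebraMap R L r),
      TensorProduct.tmul_smul, TensorProduct.smul_tmul', Algebra.smul_def, mul_one,
      ← IsScalarTower.algebraMap_apply]
    rfl
  have hTS : IsScalarTower R S S' := inferInstance
  obtain ⟨φ⟩ := @Chart.exists_bialgEquiv _ _ _ _ _ (chartOfEquiv e) S' _ (Algebra.TensorProduct.rightAlgebra : Algebra S S') _ hTS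
  refine ⟨S', inferInstance, inferInstance, inferInstance, M, inferInstance,
    ⟨((bcTrans T L' S' (T ⊗[R] A)).trans (bcTrans R T S' A)).trans φ⟩⟩

end Groth.Agent.MultT
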