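import Groth.Agent.MultT.Basic2
import Mathlib

/-! The equivalence attached to a chart, with its formula. -/

set_option autoImplicit false

open TensorProduct WithConv Coalgebra

universe u

namespace Groth.Agent.MultT

variable {R : Type u} [CommRing R] {A : Type u} [CommRing A] [HopfAlgebra R A]

/-- The base change of the Hopf algebra to any algebra over a chart is a group algebra. -/
theorem Chart.exists_bialgEquiv_tmul (c : Chart R A) (T : Type u) [CommRing T] [Algebra c.S T] [Algebra R T]
    [IsScalarTower R c.S T] : ∃ e : (T ⊗[R] A) ≃ₐc[T] MonoidAlgebra T c.M,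
      ∀ a, e ((1 : T) ⊗ₜ a) = MonoidAlgebra.mapAlgHom c.M (IsScalarTower.toAlgHom R c.S T) (c.j a) := by
  classical
  let π : MonoidAlgebra c.S c.M →ₐ[R] MonoidAlgebra T c.M :=
    MonoidAlgebra.mapAlgHom c.M (IsScalarTower.toAlgHom R c.S T)
  let g : T ⊗[R] A →ₐ[T] MonoidAlgebra T c.M :=
    Algebra.TensorProduct.lift (Algebra.ofId _ _) (π.comp c.j) fun _ _ => Commute.all _ _
  let b := (Algebra.TensorProduct.basis T (MonoidAlgebra.basis c.M c.S |>.map c.linEquiv.symm))
  let χ := TensorProduct.AlgebraTensorModule.cancelBaseChange R c.S T T A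
  have hπs : ∀ (l : c.M) (s : c.S), π (MonoidAlgebra.single l s) = MonoidAlgebra.single l (algebraMap c.S T s) :=
    fun l s => by simp [π]
  have hbasis : ∀ l, g (χ (b l)) = MonoidAlgebra.basis c.M T l := by
    intro l
    have key : ∀ z : c.S ⊗[R] A, g (χ ((1 : T) ⊗ₜ z)) = π (c.linEquiv z) := by
      intro z
      induction z using TensorProduct.induction_on with
      | zero => simp
      | add y w hy hw => simp only [TensorProduct.tmul_add, map_add, hy, hw]
      | tmul s a =>
        rw [Chart.linEquiv_tmul]
        simp [χ, g, Algebra.smul_def, Algebra.ofId_apply, π, MonoidAlgebra.coe_algebraMap]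
    simp only [b, Algebra.TensorProduct.basis_apply, Module.Basis.map_apply]
    rw [key, LinearEquiv.apply_symm_apply]
    simp [MonoidAlgebra.basis_apply, hπs]
  let E : T ⊗[R] A ≃ₗ[T] MonoidAlgebra T c.M := (b.map χ).equiv (MonoidAlgebra.basis c.M T) (Equiv.refl _)
  have hgE : g.toLinearMap = E.toLinearMap := (b.map χ).ext fun l => by
    show g ((b.map χ) l) = E ((b.map χ) l)
    simp only [E]
    rw [Module.Basis.equiv_apply, Module.Basis.map_apply, hbasis]
    rfl
  have hbij : Function.Bijective g := by
    have h : (g : T ⊗[R] A → MonoidAlgebra T c.M) = E := funext fun x => LinearMap.congr_fun hgE x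
    rw [h]
    exact E.bijective
  have hexp : ∀ a : A, π (c.j a) = ∑ l ∈ (c.j a).coeff.support,
      MonoidAlgebra.single l (algebraMap c.S T (c.cf l a)) := by
    intro a
    conv_lhs => rw [← MonoidAlgebra.sum_coeff_single (c.j a)]
    rw [Finsupp.sum, map_sum]
    exact Finset.sum_congr rfl fun l _ => hπs l _
  refine ⟨BialgEquiv.ofBijective (BialgHom.ofAlgHom g ?_ ?_) hbij, fun a => ?_⟩
  rotate_left 2
  · show g ((1 : T) ⊗ₜ a) = _
    simp [g]; rw [← MonoidAlgebra.one_def, one_mul]
  · refine Algebra.TensorProduct.ext' fun t a => ?_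
    simp only [AlgHom.comp_apply, g, Algebra.TensorProduct.lift_tmul, Algebra.ofId_apply, map_mul,
      AlgHom.commutes, Algebra.algebraMap_self, RingHom.id_apply, Bialgebra.counitAlgHom_apply,
      TensorProduct.counit_tmul, CommSemiring.counit_apply, smul_eq_mul]
    rw [hexp, map_sum]
    simp only [MonoidAlgebra.counit_single, CommSemiring.counit_apply]
    rw [← map_sum, Algebra.smul_def, IsScalarTower.algebraMap_apply R c.S T, ← c.total a, mul_comm]
    rfl
  · refine Algebra.TensorProduct.ext (Subsingleton.elim _ _) (AlgHom.ext fun a => ?_)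
    simp only [AlgHom.comp_apply, AlgHom.restrictScalars_apply, Algebra.TensorProduct.includeRight_apply,
      Bialgebra.comulAlgHom_apply]
    let bT := (MonoidAlgebra.basis c.M T).tensorProduct (MonoidAlgebra.basis c.M T)
    apply bT.repr.injective
    refine Finsupp.ext fun ⟨l, n⟩ => ?_
    have hl : ∀ x : A, (MonoidAlgebra.basis c.M T).repr (g ((1 : T) ⊗ₜ x)) l = algebraMap c.S T (c.cf l x) := by
      intro x; simp [g, π, MonoidAlgebra.basis]; rfl
    have hn : ∀ x : A, (MonoidAlgebra.basis c.M T).repr (g ((1 : T) ⊗ₜ x)) n = algebraMap c.S T (c.cf n x) := by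
      intro x; simp [g, π, MonoidAlgebra.basis]; rfl
    have h1 : bT.repr (Algebra.TensorProduct.map g g (comul (R := T) ((1 : T) ⊗ₜ[R] a))) (l, n) =
        algebraMap c.S T ((c.cf l * c.cf n).ofConv a) := by
      rw [LinearMap.convMul_apply, TensorProduct.comul_tmul, CommSemiring.comul_apply]
      induction comul (R := R) a using TensorProduct.induction_on with
      | zero => simp
      | tmul x y =>
        simp only [TensorProduct.AlgebraTensorModule.tensorTensorTensorComm_tmul,
          Algebra.TensorProduct.map_tmul, bT, Module.Basis.tensorProduct_repr_tmul_apply, hl, hn,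
          TensorProduct.map_tmul, LinearMap.mul'_apply, map_mul]
        rw [smul_eq_mul, mul_comm]
      | add x y hx hy => simp only [TensorProduct.tmul_add, map_add, Finsupp.add_apply, hx, hy]
    rw [h1]
    have hgexp : g ((1 : T) ⊗ₜ a) = ∑ k ∈ (c.j a).coeff.support,
        MonoidAlgebra.single k (algebraMap c.S T (c.cf k a)) := by
      rw [← hexp]; simp [g]; rw [← MonoidAlgebra.one_def, one_mul]
    rw [hgexp, map_sum, map_sum, Finsupp.finset_sum_apply]
    have h2 : ∀ k : c.M, bT.repr (comul (R := T) (MonoidAlgebra.single k (algebraMap c.S T (c.cf k a)))) (l, n) =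
        if k = l ∧ k = n then algebraMap c.S T (c.cf k a) else 0 := by
      intro k
      rw [show MonoidAlgebra.single k (algebraMap c.S T (c.cf k a)) =
        algebraMap c.S T (c.cf k a) • MonoidAlgebra.single k (1 : T) by
          rw [MonoidAlgebra.smul_single, smul_eq_mul, mul_one], map_smul,
        (MonoidAlgebra.isGroupLikeElem_single_one k).comul_eq_tmul_self, map_smul, Finsupp.smul_apply]
      simp [bT, MonoidAlgebra.basis, Finsupp.single_apply]
      split_ifs <;> aesop
    rw [Finset.sum_congr rfl fun k _ => h2 k]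
    by_cases hln : l = n
    · subst hln
      rw [c.cf_mul_self]
      simp only [and_self, Finset.sum_ite_eq']
      split_ifs with hs
      · rfl
      · rw [show c.cf l a = 0 from Finsupp.notMem_support_iff.1 hs, map_zero]
    · rw [c.cf_mul_ne hln]
      rw [Finset.sum_eq_zero fun k _ => if_neg fun h => hln (h.1.symm.trans h.2)]
      simp

end Groth.Agent.MultT
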