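import Groth.Agent.MultT.DescentHopf
import Groth.Agent.MultT.ChartEquiv
import Groth.Agent.MultT.Isotrivial
import Groth.Agent.MultT.BaseChange
import Mathlib

/-! Descent data for diagonalisable groups: from cocycle to coaction, and lifting of descent data from a
closed subscheme along a henselian pair. -/

set_option autoImplicit false
set_option synthInstance.maxHeartbeats 400000

open TensorProduct MonoidAlgebra

universe u

noncomputable section

namespace Groth.Agent.MultT

section Cocycle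

variable {R S : Type u} [CommRing R] [CommRing S] [Algebra R S] {M : Type u} [CommGroup M]

/-- The projection to the outer factors. -/
abbrev p02 (R S : Type u) [CommRing R] [CommRing S] [Algebra R S] : S ⊗[R] S →ₐ[R] S ⊗[R] (S ⊗[R] S) :=
  Algebra.TensorProduct.map (AlgHom.id R S) (iR R S)

/-- The projection to the first two factors. -/
abbrev p01 (R S : Type u) [CommRing R] [CommRing S] [Algebra R S] : S ⊗[R] S →ₐ[R] S ⊗[R] (S ⊗[R] S) :=
  Algebra.TensorProduct.map (AlgHom.id R S) (iL R S)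

/-- The projection to the last two factors. -/
abbrev p12 (R S : Type u) [CommRing R] [CommRing S] [Algebra R S] : S ⊗[R] S →ₐ[R] S ⊗[R] (S ⊗[R] S) :=
  Algebra.TensorProduct.includeRight

/-- The image of a family under a map of coefficient rings. -/
abbrev mapFam {T T' N : Type u} [CommRing T] [CommRing T'] [Algebra R T] [Algebra R T'] [CommGroup N]
    (f : T →ₐ[R] T') (χ : M →* MonoidAlgebra T N) : M →* MonoidAlgebra T' N :=
  (mapAlgHom N f).toRingHom.toMonoidHom.comp χ

theorem act_act {T : Type u} [CommRing T] {L N : Type u} [CommGroup L] [CommGroup N]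
    (χ : M →* MonoidAlgebra T N) (ψ : N →* MonoidAlgebra T L) (z : MonoidAlgebra T M) :
    act ψ (act χ z) = act ((act ψ).toRingHom.toMonoidHom.comp χ) z := by
  induction z using MonoidAlgebra.induction_linear with
  | zero => simp
  | add x y hx hy => simp only [map_add, hx, hy]
  | single m t => rw [lift_single, lift_single, map_smul]; rfl

theorem act_of {T : Type u} [CommRing T] (z : MonoidAlgebra T M) : act (MonoidAlgebra.of T M) z = z := by
  induction z using MonoidAlgebra.induction_linear with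
  | zero => simp
  | add x y hx hy => simp only [map_add, hx, hy]
  | single m t => simp

theorem mapAlgHom_mapAlgHom {T T' T'' : Type u} [CommRing T] [CommRing T'] [CommRing T''] [Algebra R T]
    [Algebra R T'] [Algebra R T''] (f : T →ₐ[R] T') (g : T' →ₐ[R] T'') (z : MonoidAlgebra T M) :
    mapAlgHom M g (mapAlgHom M f z) = mapAlgHom M (g.comp f) z := by
  ext m; simp

theorem mapAlgHom_smul {T T' : Type u} [CommRing T] [CommRing T'] [Algebra R T] [Algebra R T']
    (f : T →ₐ[R] T') (t : T) (z : MonoidAlgebra T M) : mapAlgHom M f (t • z) = f t • mapAlgHom M f z := by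
  ext m; simp

theorem quot_kills (I : Ideal R) (T : Type u) [CommRing T] [Algebra R T] (x : R) (hx : x ∈ I) :
    algebraMap R (T ⧸ I.map (algebraMap R T)) x = 0 :=
  Ideal.Quotient.eq_zero_iff_mem.2 (Ideal.mem_map_of_mem _ hx)

theorem counit_rho (χ : M →* MonoidAlgebra (S ⊗[R] S) M)
    (hn : ∀ m, mapAlgHom M (Algebra.TensorProduct.lmul' R) (χ m) = single m (1 : S)) (z : MonoidAlgebra S M) :
    (LinearMap.id : MonoidAlgebra S M →ₗ[R] MonoidAlgebra S M).liftBaseChange S (rho χ z) = z := by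
  have h : ∀ y, (LinearMap.id : MonoidAlgebra S M →ₗ[R] MonoidAlgebra S M).liftBaseChange S y =
      mapAlgHom M (Algebra.TensorProduct.lmul' R) (omega R S M y) := by
    intro y
    induction y using TensorProduct.induction_on with
    | zero => simp
    | add x y hx hy => simp only [map_add, hx, hy]
    | tmul s w =>
      induction w using MonoidAlgebra.induction_linear with
      | zero => simp
      | add x y hx hy => simp only [TensorProduct.tmul_add, map_add, hx, hy]
      | single m t => simp [TensorProduct.smul_tmul']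
  rw [h, omega_rho, mapAlgHom_act, mapAlgHom_mapAlgHom]
  have h2 : mapAlgHom M ((Algebra.TensorProduct.lmul' R).comp (iL R S)) z = z := by
    ext m; simp
  rw [h2]
  refine Eq.trans ?_ (act_of z)
  congr 1
  congr 1
  exact MonoidHom.ext hn

theorem coassoc_rho (χ : M →* MonoidAlgebra (S ⊗[R] S) M)
    (hc : ∀ m, act (mapFam (p12 R S) χ) (mapAlgHom M (p01 R S) (χ m)) = mapAlgHom M (p02 R S) (χ m))
    (z : MonoidAlgebra S M) :
    LinearMap.lTensor S (rho χ).toLinearMap (rho χ z) =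
      LinearMap.lTensor S (TensorProduct.mk R S (MonoidAlgebra S M) 1) (rho χ z) := by
  let O := (LinearEquiv.lTensor S (omega R S M).toLinearEquiv).trans
    (rTensorEquivAlgEquiv R R S (S ⊗[R] S) (M := M)).toLinearEquiv
  have hO : ∀ (a : S) (w : S ⊗[R] MonoidAlgebra S M),
      O (a ⊗ₜ w) = a • mapAlgHom M (p12 R S) (omega R S M w) := fun a w =>
    MonoidAlgebra.rTensorEquiv_tmulAlgEquiv (R := R) (S := R) (A := S) (B := S ⊗[R] S) a _
  have h1 : ∀ y, O (LinearMap.lTensor S (rho χ).toLinearMap y) =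
      act (mapFam (p12 R S) χ) (mapAlgHom M (p01 R S) (omega R S M y)) := by
    intro y
    induction y using TensorProduct.induction_on with
    | zero => simp
    | add x y hx hy => simp only [map_add, hx, hy]
    | tmul a w =>
      rw [LinearMap.lTensor_tmul, AlgHom.toLinearMap_apply, hO, omega_rho]
      induction w using MonoidAlgebra.induction_linear with
      | zero => simp
      | add x y hx hy => simp only [TensorProduct.tmul_add, map_add, smul_add, hx, hy]
      | single n b =>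
        rw [show omega R S M (a ⊗ₜ single n b) = single n (a ⊗ₜ b) by simp [TensorProduct.smul_tmul']]
        rw [mapAlgHom_single, lift_single, mapAlgHom_single, lift_single, mapAlgHom_smul, ← smul_assoc]
        congr 1
        simp [TensorProduct.smul_tmul']
  have h2 : ∀ y, O (LinearMap.lTensor S (TensorProduct.mk R S (MonoidAlgebra S M) 1) y) =
      mapAlgHom M (p02 R S) (omega R S M y) := by
    intro y
    induction y using TensorProduct.induction_on with
    | zero => simp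
    | add x y hx hy => simp only [map_add, hx, hy]
    | tmul a w =>
      rw [LinearMap.lTensor_tmul, TensorProduct.mk_apply, hO, omega_one_tmul]
      induction w using MonoidAlgebra.induction_linear with
      | zero => simp
      | add x y hx hy => simp only [TensorProduct.tmul_add, map_add, smul_add, hx, hy]
      | single n b => simp [TensorProduct.smul_tmul']
  apply O.injective
  rw [h1, h2, omega_rho, mapAlgHom_act, mapAlgHom_act, act_act, mapAlgHom_mapAlgHom, mapAlgHom_mapAlgHom]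
  rw [show (p01 R S).comp (iL R S) = (p02 R S).comp (iL R S) from AlgHom.ext fun s => by simp]
  congr 2
  exact MonoidHom.ext hc

end Cocycle

section Trans

variable {K : Type u} [CommRing K] {A₀ : Type u} [CommRing A₀] [HopfAlgebra K A₀]
  {S₀ : Type u} [CommRing S₀] [Algebra K S₀] {M : Type u} [CommGroup M]
  (e₀ : (S₀ ⊗[K] A₀) ≃ₐc[S₀] MonoidAlgebra S₀ M) {T : Type u} [CommRing T] [Algebra K T]

theorem exists_baseEquiv (f : S₀ →ₐ[K] T) : ∃ e : (T ⊗[K] A₀) ≃ₐc[T] MonoidAlgebra T M,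
    ∀ a, e ((1 : T) ⊗ₜ a) = mapAlgHom M f (e₀ ((1 : S₀) ⊗ₜ a)) := by
  letI : Algebra (chartOfBaseChange e₀).S T := f.toRingHom.toAlgebra
  haveI : IsScalarTower K (chartOfBaseChange e₀).S T := .of_algebraMap_eq fun k => (f.commutes k).symm
  obtain ⟨e, he⟩ := (chartOfBaseChange e₀).exists_bialgEquiv_tmul T
  refine ⟨e, fun a => ?_⟩
  refine (he a).trans ?_
  have hj : (chartOfBaseChange e₀).j a = e₀ ((1 : S₀) ⊗ₜ a) := by
    show e₀ ((1 : S₀) ⊗ₜ ((1 : K) • a)) = _
    rw [one_smul]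
  rw [hj]
  rfl

theorem baseEquiv_map {f : S₀ →ₐ[K] T} {e : (T ⊗[K] A₀) ≃ₐc[T] MonoidAlgebra T M}
    (he : ∀ a, e ((1 : T) ⊗ₜ a) = mapAlgHom M f (e₀ ((1 : S₀) ⊗ₜ a))) (w : S₀ ⊗[K] A₀) :
    e (Algebra.TensorProduct.map f (AlgHom.id K A₀) w) = mapAlgHom M f (e₀ w) := by
  induction w using TensorProduct.induction_on with
  | zero => simp
  | add x y hx hy => simp only [map_add, hx, hy]
  | tmul s a =>
    rw [Algebra.TensorProduct.map_tmul, AlgHom.id_apply, show s ⊗ₜ[K] a = s • ((1 : S₀) ⊗ₜ[K] a) by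
      rw [TensorProduct.smul_tmul', smul_eq_mul, mul_one], show f s ⊗ₜ[K] a = f s • ((1 : T) ⊗ₜ[K] a) by
      rw [TensorProduct.smul_tmul', smul_eq_mul, mul_one], map_smul, map_smul, he, Algebra.smul_def,
      Algebra.smul_def, map_mul]
    simp [MonoidAlgebra.coe_algebraMap]

theorem exists_trans (f g : S₀ →ₐ[K] T) : ∃ χ : M →* MonoidAlgebra T M, (∀ m, IsGL (χ m)) ∧
    ∀ a, act χ (mapAlgHom M f (e₀ ((1 : S₀) ⊗ₜ a))) = mapAlgHom M g (e₀ ((1 : S₀) ⊗ₜ a)) := by
  obtain ⟨ef, hef⟩ := exists_baseEquiv e₀ f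
  obtain ⟨eg, heg⟩ := exists_baseEquiv e₀ g
  let θ := ef.symm.trans eg
  let θh : MonoidAlgebra T M →ₐc[T] MonoidAlgebra T M := θ
  refine ⟨(θh : MonoidAlgebra T M →ₐ[T] MonoidAlgebra T M).toRingHom.toMonoidHom.comp (MonoidAlgebra.of T M),
    fun m => isGL_of_isGroupLikeElem ((MonoidAlgebra.isGroupLikeElem_single_one m).map θh), fun a => ?_⟩
  have h : ∀ z, act ((θh : MonoidAlgebra T M →ₐ[T] MonoidAlgebra T M).toRingHom.toMonoidHom.comp
      (MonoidAlgebra.of T M)) z = θh z := by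
    intro z
    induction z using MonoidAlgebra.induction_linear with
    | zero => simp
    | add x y hx hy => simp only [map_add, hx, hy]
    | single m t => rw [lift_single, show single m t = t • single m (1 : T) by simp, map_smul]; rfl
  rw [h, ← hef, ← heg]
  show eg (ef.symm (ef _)) = _
  rw [BialgEquiv.symm_apply_apply]

theorem trans_unique {f : S₀ →ₐ[K] T} {χ χ' : M →* MonoidAlgebra T M}
    (h : ∀ a, act χ (mapAlgHom M f (e₀ ((1 : S₀) ⊗ₜ a))) = act χ' (mapAlgHom M f (e₀ ((1 : S₀) ⊗ₜ a)))) :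
    χ = χ' := by
  obtain ⟨e, he⟩ := exists_baseEquiv e₀ f
  have key : ∀ y, act χ (e y) = act χ' (e y) := by
    intro y
    induction y using TensorProduct.induction_on with
    | zero => simp
    | add x y hx hy => simp only [map_add, hx, hy]
    | tmul t a =>
      rw [show t ⊗ₜ[K] a = t • ((1 : T) ⊗ₜ[K] a) by rw [TensorProduct.smul_tmul', smul_eq_mul, mul_one],
        map_smul, map_smul, map_smul, he, h]
  refine MonoidHom.ext fun m => ?_
  have := key (e.symm (single m 1))
  rw [BialgEquiv.apply_symm_apply] at this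
  simpa using this

end Trans

section Lift

variable {R : Type u} [CommRing R] {I : Ideal R}

/-- Algebras killed by the ideal are algebras over the quotient. -/
abbrev quotAlgebra (I : Ideal R) (T : Type u) [CommRing T] [Algebra R T]
    (h : ∀ x ∈ I, algebraMap R T x = 0) : Algebra (R ⧸ I) T :=
  (Ideal.Quotient.lift I (algebraMap R T) h).toAlgebra

variable {S : Type u} [CommRing S] [Algebra R S] {S₀ : Type u} [CommRing S₀] [Algebra (R ⧸ I) S₀] [Algebra R S₀]
  [IsScalarTower R (R ⧸ I) S₀]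

theorem exists_factor (π : S →ₐ[R] S₀) (hπ : Function.Surjective π)
    (hker : RingHom.ker π = I.map (algebraMap R S)) {T : Type u} [CommRing T] [Algebra R T] [Algebra (R ⧸ I) T]
    [IsScalarTower R (R ⧸ I) T] (q : S →ₐ[R] T) : ∃ f : S₀ →ₐ[R ⧸ I] T, ∀ s, f (π s) = q s := by
  have hle : RingHom.ker π.toRingHom ≤ RingHom.ker q.toRingHom := by
    show RingHom.ker π ≤ RingHom.ker q.toRingHom
    rw [hker, Ideal.map_le_iff_le_comap]
    intro x hx
    show q (algebraMap R S x) = 0
    rw [AlgHom.commutes, IsScalarTower.algebraMap_apply R (R ⧸ I) T, Ideal.Quotient.algebraMap_eq,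
      Ideal.Quotient.eq_zero_iff_mem.2 hx, map_zero]
  let F : S₀ →+* T := RingHom.liftOfSurjective π.toRingHom hπ ⟨q.toRingHom, hle⟩
  have hF : ∀ s, F (π s) = q s := fun s => RingHom.liftOfRightInverse_comp_apply _ _ _ _ s
  refine ⟨{ toRingHom := F, commutes' := fun k => ?_ }, hF⟩
  obtain ⟨r, rfl⟩ := Ideal.Quotient.mk_surjective k
  show F (algebraMap (R ⧸ I) S₀ (algebraMap R (R ⧸ I) r)) = algebraMap (R ⧸ I) T (algebraMap R (R ⧸ I) r)
  rw [← IsScalarTower.algebraMap_apply, ← IsScalarTower.algebraMap_apply, ← π.commutes, hF, q.commutes]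

variable {A₀ : Type u} [CommRing A₀] [HopfAlgebra (R ⧸ I) A₀] {M : Type u} [CommGroup M]
  (e₀ : (S₀ ⊗[R ⧸ I] A₀) ≃ₐc[S₀] MonoidAlgebra S₀ M)

/-- A family on the square of a lift extends the descent datum of a diagonalisation over the quotient. -/
def Compat (π : S →ₐ[R] S₀) (χ : M →* MonoidAlgebra (S ⊗[R] S) M) : Prop :=
  ∀ (T : Type u) [CommRing T] [Algebra R T] [Algebra (R ⧸ I) T] [IsScalarTower R (R ⧸ I) T]
    (f g : S₀ →ₐ[R ⧸ I] T) (a : A₀),
    act (mapFam (Algebra.TensorProduct.lift ((f.restrictScalars R).comp π) ((g.restrictScalars R).comp π)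
        fun _ _ => Commute.all _ _) χ) (mapAlgHom M (f.restrictScalars R) (e₀ ((1 : S₀) ⊗ₜ a))) =
      mapAlgHom M (g.restrictScalars R) (e₀ ((1 : S₀) ⊗ₜ a))

variable [HenselianRing R I] [Module.Finite R S]

theorem exists_compat (π : S →ₐ[R] S₀) (hπ : Function.Surjective π)
    (hker : RingHom.ker π = I.map (algebraMap R S)) :
    ∃ χ : M →* MonoidAlgebra (S ⊗[R] S) M, (∀ m, IsGL (χ m)) ∧ Compat e₀ π χ := by
  let J := I.map (algebraMap R (S ⊗[R] S))
  let T₀ := (S ⊗[R] S) ⧸ J
  have hT₀ : ∀ x ∈ I, algebraMap R T₀ x = 0 := quot_kills I (S ⊗[R] S)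
  letI : Algebra (R ⧸ I) T₀ := quotAlgebra I T₀ hT₀
  haveI : IsScalarTower R (R ⧸ I) T₀ := .of_algebraMap_eq fun _ => rfl
  haveI : Algebra.IsIntegral R (S ⊗[R] S) := Algebra.IsIntegral.of_finite R _
  have hJ : J ≤ Ideal.jacobson ⊥ := Hensel.map_le_jacobson (HenselianRing.jac : I ≤ _)
  let mk : S ⊗[R] S →ₐ[R] T₀ := Ideal.Quotient.mkₐ R J
  obtain ⟨f₀, hf₀⟩ := exists_factor π hπ hker (mk.comp (iL R S))
  obtain ⟨g₀, hg₀⟩ := exists_factor π hπ hker (mk.comp (iR R S))
  obtain ⟨χ₀, hgl₀, hχ₀⟩ := exists_trans e₀ f₀ g₀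
  choose χ hgl hχ using fun m => exists_isGL_lift (R := R) (T := S ⊗[R] S) (I := I) (χ₀ m) (hgl₀ m)
  have hmul : ∀ m n, χ (m * n) = χ m * χ n := fun m n =>
    IsGL.ext_mod (R := R) hJ (hgl _) ((hgl m).mul (hgl n)) (by rw [map_mul, hχ, hχ, hχ, map_mul])
  have hone : χ 1 = 1 := IsGL.ext_mod (R := R) hJ (hgl _) (by
    rw [MonoidAlgebra.one_def]; exact isGL_single 1) (by rw [hχ, map_one, map_one])
  refine ⟨{ toFun := χ, map_one' := hone, map_mul' := hmul }, hgl, ?_⟩
  intro T _ _ _ _ f g a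
  let φ : S ⊗[R] S →ₐ[R] T := Algebra.TensorProduct.lift ((f.restrictScalars R).comp π)
    ((g.restrictScalars R).comp π) fun _ _ => Commute.all _ _
  have hφ : ∀ x, x ∈ J → φ x = 0 := by
    intro x hx
    have : J ≤ RingHom.ker φ := by
      rw [Ideal.map_le_iff_le_comap]
      intro x hx
      show φ (algebraMap R _ x) = 0
      rw [AlgHom.commutes, IsScalarTower.algebraMap_apply R (R ⧸ I) T, Ideal.Quotient.algebraMap_eq,
        Ideal.Quotient.eq_zero_iff_mem.2 hx, map_zero]
    exact this hx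
  let φ₀ : T₀ →ₐ[R] T := Ideal.Quotient.liftₐ J φ hφ
  have hf : φ₀.comp (f₀.restrictScalars R) = f.restrictScalars R := AlgHom.ext fun s₀ => by
    obtain ⟨s, rfl⟩ := hπ s₀
    show φ₀ (f₀ (π s)) = f (π s)
    rw [hf₀]
    show φ (s ⊗ₜ 1) = _
    simp [φ]
  have hg : φ₀.comp (g₀.restrictScalars R) = g.restrictScalars R := AlgHom.ext fun s₀ => by
    obtain ⟨s, rfl⟩ := hπ s₀
    show φ₀ (g₀ (π s)) = g (π s)
    rw [hg₀]
    show φ ((1 : S) ⊗ₜ s) = _
    simp [φ]
  have h1 : mapFam φ { toFun := χ, map_one' := hone, map_mul' := hmul } = mapFam φ₀ χ₀ := MonoidHom.ext fun m => by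
    show mapAlgHom M φ (χ m) = mapAlgHom M φ₀ (χ₀ m)
    rw [← hχ m, mapAlgHom_mapAlgHom]
    rfl
  show act (mapFam φ _) _ = _
  rw [h1, ← hf, ← hg, ← mapAlgHom_mapAlgHom, ← mapAlgHom_mapAlgHom, ← mapAlgHom_act]
  congr 1
  exact hχ₀ a

omit [HenselianRing R I] [Module.Finite R S] in
theorem compat_trans (π : S →ₐ[R] S₀) (hπ : Function.Surjective π)
    (hker : RingHom.ker π = I.map (algebraMap R S)) (χ : M →* MonoidAlgebra (S ⊗[R] S) M)
    (hc : Compat e₀ π χ) (T : Type u) [CommRing T] [Algebra R T] [Algebra (R ⧸ I) T] [IsScalarTower R (R ⧸ I) T]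
    (q0 q1 q2 : S →ₐ[R] T) (r01 r12 r02 : S ⊗[R] S →ₐ[R] T) (h01 : ∀ s t, r01 (s ⊗ₜ t) = q0 s * q1 t)
    (h12 : ∀ s t, r12 (s ⊗ₜ t) = q1 s * q2 t) (h02 : ∀ s t, r02 (s ⊗ₜ t) = q0 s * q2 t) (m : M) :
    act (mapFam r12 χ) (mapAlgHom M r01 (χ m)) = mapAlgHom M r02 (χ m) := by
  obtain ⟨f0, hf0⟩ := exists_factor π hπ hker q0
  obtain ⟨f1, hf1⟩ := exists_factor π hπ hker q1
  obtain ⟨f2, hf2⟩ := exists_factor π hπ hker q2
  have e01 : r01 = Algebra.TensorProduct.lift ((f0.restrictScalars R).comp π)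
      ((f1.restrictScalars R).comp π) fun _ _ => Commute.all _ _ :=
    Algebra.TensorProduct.ext' fun s t => by simp [h01, hf0, hf1]
  have e12 : r12 = Algebra.TensorProduct.lift ((f1.restrictScalars R).comp π)
      ((f2.restrictScalars R).comp π) fun _ _ => Commute.all _ _ :=
    Algebra.TensorProduct.ext' fun s t => by simp [h12, hf1, hf2]
  have e02 : r02 = Algebra.TensorProduct.lift ((f0.restrictScalars R).comp π)
      ((f2.restrictScalars R).comp π) fun _ _ => Commute.all _ _ :=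
    Algebra.TensorProduct.ext' fun s t => by simp [h02, hf0, hf2]
  have key := trans_unique e₀ (f := f0) (χ := (act (mapFam r12 χ)).toRingHom.toMonoidHom.comp (mapFam r01 χ))
    (χ' := mapFam r02 χ)
    (fun a => by
      rw [← act_act]
      show act _ (act _ (mapAlgHom M (f0.restrictScalars R) _)) = act _ (mapAlgHom M (f0.restrictScalars R) _)
      rw [e01, e12, e02, hc T f0 f1 a, hc T f1 f2 a, hc T f0 f2 a])
  exact DFunLike.congr_fun key m

theorem cocycle_gen (π : S →ₐ[R] S₀) (hπ : Function.Surjective π)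
    (hker : RingHom.ker π = I.map (algebraMap R S)) (χ : M →* MonoidAlgebra (S ⊗[R] S) M)
    (hgl : ∀ m, IsGL (χ m)) (hc : Compat e₀ π χ) (U : Type u) [CommRing U] [Algebra R U] [Algebra.IsIntegral R U]
    (q0 q1 q2 : S →ₐ[R] U) (r01 r12 r02 : S ⊗[R] S →ₐ[R] U) (h01 : ∀ s t, r01 (s ⊗ₜ t) = q0 s * q1 t)
    (h12 : ∀ s t, r12 (s ⊗ₜ t) = q1 s * q2 t) (h02 : ∀ s t, r02 (s ⊗ₜ t) = q0 s * q2 t) (m : M) :
    act (mapFam r12 χ) (mapAlgHom M r01 (χ m)) = mapAlgHom M r02 (χ m) := by
  let J := I.map (algebraMap R U)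
  letI : Algebra (R ⧸ I) (U ⧸ J) := quotAlgebra I (U ⧸ J) (quot_kills I U)
  haveI : IsScalarTower R (R ⧸ I) (U ⧸ J) := .of_algebraMap_eq fun _ => rfl
  have hJ : J ≤ Ideal.jacobson ⊥ := Hensel.map_le_jacobson (HenselianRing.jac : I ≤ _)
  let mk : U →ₐ[R] U ⧸ J := Ideal.Quotient.mkₐ R J
  refine IsGL.ext_mod (R := R) hJ (IsGL.act (fun n => (hgl n).map _) ((hgl m).map _)) ((hgl m).map _) ?_
  refine (mapAlgHom_act mk _ _).trans ?_
  have hfam : mapFam mk (mapFam r12 χ) = mapFam (mk.comp r12) χ := MonoidHom.ext fun n =>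
    mapAlgHom_mapAlgHom _ _ _
  rw [mapAlgHom_mapAlgHom, mapAlgHom_mapAlgHom]
  show act (mapFam mk (mapFam r12 χ)) _ = _
  rw [hfam]
  exact compat_trans e₀ π hπ hker χ hc (U ⧸ J) (mk.comp q0) (mk.comp q1) (mk.comp q2)
    (mk.comp r01) (mk.comp r12) (mk.comp r02)
    (fun s t => by simp [h01]) (fun s t => by simp [h12]) (fun s t => by simp [h02]) m

theorem cocycle_of_compat (π : S →ₐ[R] S₀) (hπ : Function.Surjective π)
    (hker : RingHom.ker π = I.map (algebraMap R S)) (χ : M →* MonoidAlgebra (S ⊗[R] S) M)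
    (hgl : ∀ m, IsGL (χ m)) (hc : Compat e₀ π χ) (m : M) :
    act (mapFam (p12 R S) χ) (mapAlgHom M (p01 R S) (χ m)) = mapAlgHom M (p02 R S) (χ m) := by
  haveI : Algebra.IsIntegral R (S ⊗[R] (S ⊗[R] S)) := Algebra.IsIntegral.of_finite R _
  exact cocycle_gen e₀ π hπ hker χ hgl hc (S ⊗[R] (S ⊗[R] S)) Algebra.TensorProduct.includeLeft
    ((p12 R S).comp (iL R S)) ((p12 R S).comp (iR R S)) (p01 R S) (p12 R S) (p02 R S)
    (fun s t => by simp) (fun s t => by simp) (fun s t => by simp) m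

theorem norm_of_compat (π : S →ₐ[R] S₀) (hker : RingHom.ker π = I.map (algebraMap R S))
    (χ : M →* MonoidAlgebra (S ⊗[R] S) M) (hgl : ∀ m, IsGL (χ m)) (hc : Compat e₀ π χ) (m : M) :
    mapAlgHom M (Algebra.TensorProduct.lmul' R) (χ m) = single m (1 : S) := by
  haveI : Algebra.IsIntegral R S := Algebra.IsIntegral.of_finite R _
  have hJ : I.map (algebraMap R S) ≤ Ideal.jacobson ⊥ := Hensel.map_le_jacobson (HenselianRing.jac : I ≤ _)
  have hid : ((AlgHom.id (R ⧸ I) S₀).restrictScalars R).comp π = π := AlgHom.ext fun _ => rfl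
  have key := trans_unique e₀ (f := AlgHom.id (R ⧸ I) S₀)
    (χ := mapFam (Algebra.TensorProduct.lift (((AlgHom.id (R ⧸ I) S₀).restrictScalars R).comp π)
      (((AlgHom.id (R ⧸ I) S₀).restrictScalars R).comp π) fun _ _ => Commute.all _ _) χ)
    (χ' := MonoidAlgebra.of S₀ M) (fun a => by rw [act_of]; exact hc S₀ _ _ a)
  have h1 : Algebra.TensorProduct.lift (((AlgHom.id (R ⧸ I) S₀).restrictScalars R).comp π)
      (((AlgHom.id (R ⧸ I) S₀).restrictScalars R).comp π) (fun _ _ => Commute.all _ _) =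
      π.comp (Algebra.TensorProduct.lmul' R) := Algebra.TensorProduct.ext' fun s t => by simp
  rw [h1] at key
  ext n
  refine Hensel.eq_of_idempotent hJ (((hgl m).map _).idem n) ((isGL_single m).idem n) ?_
  rw [← hker, RingHom.mem_ker, map_sub, sub_eq_zero]
  have h2 := congrArg (fun z => z.coeff n) (DFunLike.congr_fun key m)
  simp only [mapFam, MonoidHom.comp_apply, RingHom.toMonoidHom_eq_coe, MonoidHom.coe_coe,
    AlgHom.toRingHom_eq_coe, RingHom.coe_coe, MonoidAlgebra.of_apply, MonoidAlgebra.coeff_mapAlgHom,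
    AlgHom.comp_apply] at h2
  rw [coeff_mapAlgHom, h2, MonoidAlgebra.coeff_single, MonoidAlgebra.coeff_single]
  classical
  rw [Finsupp.single_apply, Finsupp.single_apply]
  split_ifs <;> simp

end Lift

end Groth.Agent.MultT
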