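import Groth.Agent.MultT.ChartEquiv
import Groth.Agent.MultT.DescentDatum
import Mathlib

/-! Diagonalisability over finite products, and invariance of the type. -/

set_option autoImplicit false
set_option synthInstance.maxHeartbeats 400000

open TensorProduct MonoidAlgebra WithConv

universe u

noncomputable section

namespace Groth.Agent.MultT

/-- A group diagonalisable with the same type over finitely many algebras is so over their product. -/
theorem isDiag_pi {R : Type u} [CommRing R] {A : Type u} [CommRing A] [HopfAlgebra R A] {ι : Type u} [Finite ι]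
    (S : ι → Type u) [∀ i, CommRing (S i)] [∀ i, Algebra R (S i)] (M : Type u) [CommGroup M]
    (e : ∀ i, (S i ⊗[R] A) ≃ₐc[S i] MonoidAlgebra (S i) M) : SGA3b.IsDiag (∀ i, S i) ((∀ i, S i) ⊗[R] A) := by
  classical
  haveI := Fintype.ofFinite ι
  let Φ : MonoidAlgebra (∀ i, S i) M →ₐ[R] ∀ i, MonoidAlgebra (S i) M :=
    AlgHom.pi fun i => mapAlgHom M (Pi.evalAlgHom R S i)
  have hΦ : ∀ z i m, (Φ z i).coeff m = z.coeff m i := fun z i m => by simp [Φ]
  have hΦi : Function.Injective Φ := fun z w h => by
    ext m i; rw [← hΦ, ← hΦ, h]
  have hΦs : Function.Surjective Φ := by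
    intro y
    refine ⟨MonoidAlgebra.ofCoeff (Finsupp.onFinset (Finset.univ.biUnion fun i => (y i).coeff.support)
      (fun m i => (y i).coeff m) fun m hm => ?_), ?_⟩
    · by_contra h
      simp only [Finset.mem_biUnion, Finset.mem_univ, true_and, Finsupp.mem_support_iff, not_exists, not_not] at h
      exact hm (funext h)
    · funext i
      ext m
      rw [hΦ]; rfl
  let Φe := AlgEquiv.ofBijective Φ ⟨hΦi, hΦs⟩
  let c : ∀ i, Chart R A := fun i => chartOfBaseChange (e i)
  let ji : ∀ i, A →ₐ[R] MonoidAlgebra (S i) M := fun i => (c i).j
  let j : A →ₐ[R] MonoidAlgebra (∀ i, S i) M := Φe.symm.toAlgHom.comp (AlgHom.pi ji)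
  have hj : ∀ a i, Φ (j a) i = ji i a := fun a i => congrFun (Φe.apply_symm_apply _) i
  have hcoeff : ∀ a m i, (j a).coeff m i = cfM (S i) m (ji i a) := fun a m i => by rw [← hΦ, hj]; rfl
  let cj : Chart R A :=
    { S := ∀ i, S i
      M := M
      j := j
      orth := by
        intro m n
        apply WithConv.ext
        ext a i
        have h := congrArg (fun f : WithConv (A →ₗ[R] S i) => f.ofConv a) ((c i).orth m n)
        simp only [LinearMap.convMul_apply] at h ⊢
        have key : ∀ z : A ⊗[R] A, (LinearMap.mul' R (∀ l, S l) (TensorProduct.map
            ((cfM (∀ l, S l) m).restrictScalars R ∘ₗ j.toLinearMap)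
            ((cfM (∀ l, S l) n).restrictScalars R ∘ₗ j.toLinearMap) z)) i =
            LinearMap.mul' R (S i) (TensorProduct.map ((cfM (S i) m).restrictScalars R ∘ₗ (ji i).toLinearMap)
              ((cfM (S i) n).restrictScalars R ∘ₗ (ji i).toLinearMap) z) := by
          intro z
          induction z using TensorProduct.induction_on with
          | zero => simp
          | add x y hx hy => simp only [map_add, Pi.add_apply, hx, hy]
          | tmul x y =>
            simp only [TensorProduct.map_tmul, LinearMap.mul'_apply, Pi.mul_apply]
            exact congrArg₂ (· * ·) (hcoeff x m i) (hcoeff y n i)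
        refine (key _).trans (h.trans ?_)
        by_cases hmn : m = n
        · refine (congrArg (fun f : WithConv (A →ₗ[R] S i) => f.ofConv a) (if_pos hmn)).trans ?_
          rw [if_pos hmn]; exact (hcoeff a m i).symm
        · refine (congrArg (fun f : WithConv (A →ₗ[R] S i) => f.ofConv a) (if_neg hmn)).trans ?_
          rw [if_neg hmn]; rfl
      total := by
        intro a
        funext i
        have hs : ∀ z : MonoidAlgebra (∀ l, S l) M, (z.coeff.sum fun _ s => s) i =
            (Φ z i).coeff.sum fun _ s => s := by
          intro z
          induction z using MonoidAlgebra.induction_linear with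
          | zero => simp
          | add x y hx hy =>
            rw [map_add, Pi.add_apply, MonoidAlgebra.coeff_add, MonoidAlgebra.coeff_add,
              Finsupp.sum_add_index' (fun _ => rfl) (fun _ _ _ => rfl),
              Finsupp.sum_add_index' (fun _ => rfl) (fun _ _ _ => rfl), Pi.add_apply, hx, hy]
          | single m t => simp [Φ]
        rw [hs, hj]
        exact (c i).total a
      bij := by
        let L := j.toLinearMap.liftBaseChange (∀ i, S i)
        let Li := fun i => (ji i).toLinearMap.liftBaseChange (S i)
        let P : (∀ i, S i) ⊗[R] A →ₗ[R] ∀ i, S i ⊗[R] A :=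
          LinearMap.pi fun i => (Pi.evalAlgHom R S i).toLinearMap.rTensor A
        have hP : Function.Bijective P := by
          have : (P : _ → _) = fun z => fun i => TensorProduct.comm R A (S i)
              (TensorProduct.piRight R R A S (TensorProduct.comm R (∀ i, S i) A z) i) := by
            funext z i
            induction z using TensorProduct.induction_on with
            | zero => simp [P]
            | add x y hx hy => simp only [map_add, Pi.add_apply, hx, hy]
            | tmul s a => simp [P]
          rw [this]
          exact (((TensorProduct.comm R (∀ i, S i) A).trans (TensorProduct.piRight R R A S)).trans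
            (LinearEquiv.piCongrRight fun i => TensorProduct.comm R A (S i))).bijective
        have hcomm : (Φ : _ → _) ∘ L = (fun w i => Li i (w i)) ∘ P := by
          funext z i
          simp only [Function.comp_apply]
          induction z using TensorProduct.induction_on with
          | zero => simp
          | add x y hx hy => simp only [map_add, Pi.add_apply, hx, hy]
          | tmul s a =>
            simp only [L, Li, P, LinearMap.liftBaseChange_tmul, LinearMap.pi_apply, LinearMap.rTensor_tmul]
            ext m
            rw [hΦ]
            simp only [MonoidAlgebra.coeff_smul_apply, Pi.smul_apply, smul_eq_mul, Pi.mul_apply, AlgHom.toLinearMap_apply]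
            rw [← hj a i, hΦ]
            rfl
        have h2 : Function.Bijective ((Φ : _ → _) ∘ L) := by
          rw [hcomm]
          exact (Function.Bijective.piMap fun i => (c i).bij).comp hP
        exact (Function.Bijective.of_comp_iff' (f := (Φ : _ → _)) ⟨hΦi, hΦs⟩ L).1 h2 }
  letI : Algebra cj.S (∀ i, S i) := Algebra.id _
  haveI : IsScalarTower R cj.S (∀ i, S i) := IsScalarTower.right
  obtain ⟨E, -⟩ := cj.exists_bialgEquiv_tmul (∀ i, S i)
  exact ⟨M, inferInstance, ⟨E⟩⟩

/-- The type of a diagonalisable group over a nontrivial ring without idempotents is well defined. -/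
theorem nonempty_mulEquiv {K : Type u} [Field K] {M N : Type u} [CommGroup M] [CommGroup N]
    (θ : MonoidAlgebra K M ≃ₐc[K] MonoidAlgebra K N) : Nonempty (M ≃* N) := by
  have h : ∀ m, ∃ n, θ (single m 1) = single n 1 := fun m => by
    obtain ⟨n, hn⟩ := isGroupLikeElem_iff_mem_range_single_one.1 ((isGroupLikeElem_single_one m).map θ)
    exact ⟨n, hn.symm⟩
  choose f hf using h
  have hinj : Function.Injective f := fun a b hab => by
    have : θ (single a (1 : K)) = θ (single b 1) := by rw [hf, hf, hab]
    exact MonoidAlgebra.single_left_injective one_ne_zero (θ.injective this)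
  have hsurj : Function.Surjective f := fun n => by
    obtain ⟨m, hm⟩ := isGroupLikeElem_iff_mem_range_single_one.1 ((isGroupLikeElem_single_one n).map θ.symm)
    refine ⟨m, MonoidAlgebra.single_left_injective (one_ne_zero (α := K)) ?_⟩
    show single (f m) 1 = _
    beta_reduce at hm ⊢
    rw [← hf, hm, BialgEquiv.apply_symm_apply]
  refine ⟨MulEquiv.mk (Equiv.ofBijective f ⟨hinj, hsurj⟩) fun a b => ?_⟩
  refine MonoidAlgebra.single_left_injective (one_ne_zero (α := K)) ?_
  show single (f (a * b)) 1 = single (f a * f b) 1
  rw [← hf, ← mul_one (1 : K), ← single_mul_single, map_mul, hf, hf, single_mul_single]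

end Groth.Agent.MultT
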