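import Groth.Agent.MultT.BaseChange
import Mathlib

/-! Groups of multiplicative type of finite type are finitely presented. -/

set_option autoImplicit false

open TensorProduct

universe u

namespace Groth.Agent.MultT

theorem finitePresentation_monoidAlgebra (R : Type u) [CommRing R] (M : Type u) [CommGroup M] [Monoid.FG M] :
    Algebra.FinitePresentation R (MonoidAlgebra R M) := by
  haveI : Algebra.FiniteType ℤ (MonoidAlgebra ℤ M) := MonoidAlgebra.finiteType_iff_fg.2 inferInstance
  haveI : Algebra.FinitePresentation ℤ (MonoidAlgebra ℤ M) := Algebra.FinitePresentation.of_finiteType.1 inferInstance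
  haveI : Algebra.FinitePresentation R (R ⊗[ℤ] MonoidAlgebra ℤ M) := inferInstance
  exact Algebra.FinitePresentation.equiv (MonoidAlgebra.scalarTensorEquiv ℤ R (M := M))

variable {R : Type u} [CommRing R] {A : Type u} [CommRing A] [HopfAlgebra R A]

theorem finitePresentation_algebra (hA : SGA3b.IsMultType R A) [Algebra.FiniteType R A] :
    Algebra.FinitePresentation R A := by
  obtain ⟨s, hs, h⟩ := hA
  letI : ∀ f : s, Algebra A (Localization.Away (f : R) ⊗[R] A) := fun _ => Algebra.TensorProduct.rightAlgebra
  haveI : ∀ f : s, IsScalarTower R A (Localization.Away (f : R) ⊗[R] A) := fun f =>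
    .of_algebraMap_eq fun r => by
      show _ = (1 : Localization.Away (f : R)) ⊗ₜ[R] algebraMap R A r
      rw [Algebra.algebraMap_eq_smul_one (A := A), ← TensorProduct.smul_tmul, Algebra.TensorProduct.algebraMap_apply,
        Algebra.smul_def, mul_one]
  haveI : ∀ f : s, IsLocalization.Away (algebraMap R A f) (Localization.Away (f : R) ⊗[R] A) := fun f =>
    inferInstance
  haveI : ∀ f : s, Algebra.FinitePresentation R (Localization.Away (f : R) ⊗[R] A) := by
    intro f
    obtain ⟨S, _, _, hff, M, _, ⟨e⟩⟩ := h f f.2
    haveI : Algebra.FiniteType (Localization.Away (f : R)) (Localization.Away (f : R) ⊗[R] A) := inferInstance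
    have hsurj : Function.Surjective (BialgEquiv.toAlgEquiv e).toAlgHom := (BialgEquiv.toAlgEquiv e).surjective
    haveI : Algebra.FiniteType S (MonoidAlgebra S M) :=
      Algebra.FiniteType.of_surjective (BialgEquiv.toAlgEquiv e).toAlgHom hsurj
    rcases subsingleton_or_nontrivial S with hS | hS
    · haveI : Subsingleton (Localization.Away (f : R)) :=
        (FaithfulSMul.algebraMap_injective (Localization.Away (f : R)) S).subsingleton
      haveI : Subsingleton (Localization.Away (f : R) ⊗[R] A) := Module.subsingleton (Localization.Away (f : R)) _
      haveI : Algebra.FinitePresentation (Localization.Away (f : R)) (Localization.Away (f : R) ⊗[R] A) :=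
        Algebra.FinitePresentation.of_surjective (f := Algebra.ofId _ _) (fun x => ⟨0, Subsingleton.elim _ _⟩)
          ⟨{1}, by rw [Finset.coe_singleton, Ideal.span_singleton_one]; exact (eq_top_iff.2 fun x _ => by
            rw [RingHom.mem_ker]; exact Subsingleton.elim _ _).symm⟩
      haveI : Algebra.FinitePresentation R (Localization.Away (f : R)) :=
        IsLocalization.Away.finitePresentation (f : R)
      exact Algebra.FinitePresentation.trans R (Localization.Away (f : R)) _
    haveI : Monoid.FG M := MonoidAlgebra.finiteType_iff_fg.1 ‹Algebra.FiniteType S (MonoidAlgebra S M)›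
    haveI := finitePresentation_monoidAlgebra S M
    haveI : Algebra.FinitePresentation S (S ⊗[Localization.Away (f : R)] (Localization.Away (f : R) ⊗[R] A)) :=
      Algebra.FinitePresentation.equiv (BialgEquiv.toAlgEquiv e).symm
    haveI : Algebra.FinitePresentation (Localization.Away (f : R)) (Localization.Away (f : R) ⊗[R] A) :=
      .of_finitePresentation_tensorProduct_of_faithfullyFlat S
    haveI : Algebra.FinitePresentation R (Localization.Away (f : R)) :=
      IsLocalization.Away.finitePresentation (f : R)
    exact Algebra.FinitePresentation.trans R (Localization.Away (f : R)) _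
  refine Algebra.FinitePresentation.of_span_eq_top_target_of_isLocalizationAway (fun f : s => algebraMap R A f) ?_
    (fun f : s => Localization.Away (f : R) ⊗[R] A)
  rw [show (fun f : s => algebraMap R A f) = algebraMap R A ∘ Subtype.val from rfl, Set.range_comp, Subtype.range_coe,
    ← Ideal.map_span, hs, Ideal.map_top]

end Groth.Agent.MultT
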