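import Groth.Agent.MultT.TorsionDiag
import Groth.Agent.Hensel.Local
import Groth.Agent.Hensel.FiniteEtale
import Mathlib

/-! Groups of multiplicative type over henselian local rings. -/

set_option autoImplicit false

open TensorProduct

universe u

namespace Groth.Agent.MultT

/-- Isomorphisms of finite étale algebras lift from the residue field of a henselian local ring. -/
theorem nonempty_algEquiv_of_residue {T : Type u} [CommRing T] [HenselianLocalRing T] {B₁ B₂ : Type u}
    [CommRing B₁] [CommRing B₂] [Algebra T B₁] [Algebra T B₂] [Algebra.Etale T B₁] [Algebra.Etale T B₂]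
    [Module.Finite T B₁] [Module.Finite T B₂]
    (ψ : IsLocalRing.ResidueField T ⊗[T] B₁ ≃ₐ[IsLocalRing.ResidueField T]
      IsLocalRing.ResidueField T ⊗[T] B₂) : Nonempty (B₁ ≃ₐ[T] B₂) := by
  let κ := IsLocalRing.ResidueField T
  haveI : HenselianRing T (IsLocalRing.maximalIdeal T) := inferInstance
  have hX : Function.Surjective (algebraMap T κ) := IsLocalRing.residue_surjective
  have hker : RingHom.ker (algebraMap T κ) ≤ IsLocalRing.maximalIdeal T :=
    le_of_eq IsLocalRing.ker_residue
  obtain ⟨f, hf⟩ := (Hensel.bijective_baseChange _ κ hX hker B₁ B₂).2 ψ.toAlgHom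
  obtain ⟨g, hg⟩ := (Hensel.bijective_baseChange _ κ hX hker B₂ B₁).2 ψ.symm.toAlgHom
  refine ⟨AlgEquiv.ofAlgHom f g ?_ ?_⟩
  · apply (Hensel.bijective_baseChange _ κ hX hker B₂ B₂).1
    dsimp only at hf hg ⊢
    rw [show Algebra.TensorProduct.map (AlgHom.id κ κ) (f.comp g) =
      (Algebra.TensorProduct.map (AlgHom.id κ κ) f).comp (Algebra.TensorProduct.map (AlgHom.id κ κ) g) from
        Algebra.TensorProduct.ext (Subsingleton.elim _ _) (AlgHom.ext fun x => by simp), hf, hg,
      Algebra.TensorProduct.map_id, AlgEquiv.comp_symm]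
  · apply (Hensel.bijective_baseChange _ κ hX hker B₁ B₁).1
    dsimp only at hf hg ⊢
    rw [show Algebra.TensorProduct.map (AlgHom.id κ κ) (g.comp f) =
      (Algebra.TensorProduct.map (AlgHom.id κ κ) g).comp (Algebra.TensorProduct.map (AlgHom.id κ κ) f) from
        Algebra.TensorProduct.ext (Subsingleton.elim _ _) (AlgHom.ext fun x => by simp), hf, hg,
      Algebra.TensorProduct.map_id, AlgEquiv.symm_comp]

/-- A finite étale algebra over a henselian local ring is split as soon as its special fibre is. -/
theorem isFiniteSplit_of_residue {T : Type u} [CommRing T] [HenselianLocalRing T] (D : Type u) [CommRing D]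
    [Algebra T D] [Algebra.Etale T D] [Module.Finite T D]
    [h : Algebra.IsFiniteSplit (IsLocalRing.ResidueField T) (IsLocalRing.ResidueField T ⊗[T] D)] :
    Algebra.IsFiniteSplit T D := by
  let κ := IsLocalRing.ResidueField T
  obtain ⟨n, ⟨e⟩⟩ := h.nonempty_algEquiv_fun
  haveI : Algebra.Etale T (Fin n → T) := inferInstance
  obtain ⟨f⟩ := nonempty_algEquiv_of_residue (B₁ := D) (B₂ := Fin n → T)
    (e.trans (((Algebra.TensorProduct.piRight T κ κ (fun _ : Fin n => T)).trans
      (AlgEquiv.piCongrRight fun _ => Algebra.TensorProduct.rid T κ κ)).symm))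
  exact .of_algEquiv f.symm

/-- Over a henselian local ring with split special fibre, a group of multiplicative type of finite
type is diagonalisable. -/
theorem isDiag_of_residue {T : Type u} [CommRing T] [HenselianLocalRing T] {A : Type u} [CommRing A]
    [HopfAlgebra T A] (hA : SGA3b.IsMultType T A) [Algebra.FiniteType T A]
    (h : SGA3b.IsDiag (IsLocalRing.ResidueField T) (IsLocalRing.ResidueField T ⊗[T] A)) :
    SGA3b.IsDiag T A := by
  refine isDiag_of_local_of_finite hA fun B _ _ q hq hfin hB => ?_
  let κ := IsLocalRing.ResidueField T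
  haveI := isCocomm hB
  haveI := projective hB
  haveI := etale_dual hB
  let qκ : κ ⊗[T] A →ₐc[κ] κ ⊗[T] B := Bialgebra.TensorProduct.map (BialgHom.id κ κ) q
  have hqκ : Function.Surjective qκ := by
    intro z
    induction z using TensorProduct.induction_on with
    | zero => exact ⟨0, map_zero _⟩
    | tmul t b => obtain ⟨a, rfl⟩ := hq b; exact ⟨t ⊗ₜ a, rfl⟩
    | add u v hu hv =>
      obtain ⟨x, rfl⟩ := hu
      obtain ⟨y, rfl⟩ := hv
      exact ⟨x + y, map_add _ _ _⟩
  haveI := isFiniteSplit_dual (T := κ) (isDiag_of_surjective h qκ hqκ)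
  haveI := isFiniteSplit_of_residue (T := T) (CartDual.D T B) (h := ‹_›)
  exact isDiag_of_split_self isLocalRing_idem_trivial

/-- A finite separable extension of the residue field of a henselian local ring lifts to a finite étale
local henselian algebra. -/
theorem exists_henselian_lift (R : Type u) [CommRing R] [HenselianLocalRing R] (k' : Type u) [Field k']
    [Algebra (IsLocalRing.ResidueField R) k'] [Module.Finite (IsLocalRing.ResidueField R) k']
    [Algebra.IsSeparable (IsLocalRing.ResidueField R) k'] :
    ∃ (T : Type u) (_ : CommRing T) (_ : HenselianLocalRing T) (_ : Algebra R T), Algebra.Etale R T ∧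
      Module.Finite R T ∧ Module.FaithfullyFlat R T ∧
      Nonempty (IsLocalRing.ResidueField R ⊗[R] T ≃ₐ[IsLocalRing.ResidueField R] k') := by
  let κ := IsLocalRing.ResidueField R
  haveI : Algebra.FormallyEtale κ k' := Algebra.FormallyEtale.of_isSeparable κ k'
  haveI : Module.FinitePresentation κ k' := Module.finitePresentation_of_finite κ k'
  haveI : Algebra.Etale κ k' := { formallyEtale := inferInstance, finitePresentation := inferInstance }
  obtain ⟨T, _, _, hfin, het, ⟨e⟩⟩ := Hensel.exists_finite_etale_lift R k'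
  let π : T →ₐ[R] κ ⊗[R] T := Algebra.TensorProduct.includeRight
  let ρ : T →+* k' := (e.toAlgHom.toRingHom).comp π.toRingHom
  have hρ : Function.Surjective ρ := e.surjective.comp
    (TensorProduct.mk_surjective R T κ IsLocalRing.residue_surjective)
  haveI hM : (RingHom.ker ρ).IsMaximal := RingHom.ker_isMaximal_of_surjective ρ hρ
  have hm : (IsLocalRing.maximalIdeal R).map (algebraMap R T) = RingHom.ker ρ := by
    refine le_antisymm (Ideal.map_le_iff_le_comap.2 fun r hr => ?_) fun t ht => ?_
    · rw [Ideal.mem_comap, RingHom.mem_ker]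
      show e ((1 : κ) ⊗ₜ[R] algebraMap R T r) = 0
      rw [Algebra.algebraMap_eq_smul_one, ← TensorProduct.smul_tmul, Algebra.smul_def, mul_one]
      rw [show algebraMap R κ r = 0 from (IsLocalRing.residue_eq_zero_iff r).2 hr, TensorProduct.zero_tmul,
        map_zero]
    · rw [RingHom.mem_ker] at ht
      have h0 : (1 : κ) ⊗ₜ[R] t = 0 := e.injective (by rw [map_zero]; exact ht)
      have h1 := (congrArg (TensorProduct.quotTensorEquivQuotSMul T (IsLocalRing.maximalIdeal R)) h0).trans
        (map_zero (TensorProduct.quotTensorEquivQuotSMul T (IsLocalRing.maximalIdeal R)))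
      change TensorProduct.quotTensorEquivQuotSMul T (IsLocalRing.maximalIdeal R)
        ((Ideal.Quotient.mk (IsLocalRing.maximalIdeal R) 1) ⊗ₜ[R] t) = 0 at h1
      rwa [TensorProduct.quotTensorEquivQuotSMul_mk_tmul, one_smul, Submodule.Quotient.mk_eq_zero,
        Ideal.smul_top_eq_map] at h1
  haveI hloc : IsLocalRing T := by
    refine IsLocalRing.of_unique_max_ideal ⟨_, hM, fun N hN => (hM.eq_of_le hN.ne_top ?_).symm⟩
    rw [← hm, Ideal.map_le_iff_le_comap]
    haveI : (N.comap (algebraMap R T)).IsMaximal := Ideal.isMaximal_comap_of_isIntegral_of_isMaximal N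
    exact (IsLocalRing.eq_maximalIdeal this).ge
  haveI : Module.Flat R T := Algebra.Smooth.flat R T
  haveI : IsLocalHom (algebraMap R T) := by
    refine ((IsLocalRing.local_hom_TFAE _).out 0 4).2 ?_
    haveI := Ideal.isMaximal_comap_of_isIntegral_of_isMaximal (R := R) (IsLocalRing.maximalIdeal T)
    exact IsLocalRing.eq_maximalIdeal this
  exact ⟨T, inferInstance, Hensel.henselianLocalRing_finite R T, inferInstance, het, hfin,
    Module.FaithfullyFlat.of_flat_of_isLocalHom, ⟨e⟩⟩

/-- A group of multiplicative type of finite type over a henselian local ring is isotrivial. -/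
theorem isIsotrivial_of_henselian {R : Type u} [CommRing R] [HenselianLocalRing R] {A : Type u} [CommRing A]
    [HopfAlgebra R A] (hA : SGA3b.IsMultType R A) [Algebra.FiniteType R A] : SGA3b.IsIsotrivial R A := by
  let κ := IsLocalRing.ResidueField R
  obtain ⟨k', _, _, hfin', hsep, M, _, -, hd⟩ :=
    exists_finite_separable_split (k := κ) (X := κ ⊗[R] A) (isMultType_baseChange hA κ)
  obtain ⟨T, _, _, _, het, hfin, hff, ⟨e⟩⟩ := exists_henselian_lift R k'
  let κT := IsLocalRing.ResidueField T
  letI : Algebra R k' := Algebra.compHom k' (algebraMap R κ)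
  haveI : IsScalarTower R κ k' := .of_algebraMap_eq fun _ => rfl
  have hd' : SGA3b.IsDiag k' (k' ⊗[R] A) :=
    isDiag_of_equiv (bcTrans R κ k' A).symm ⟨M, inferInstance, hd⟩
  -- the residue field of `T` is an extension of `k'`
  let π : T →+* κ ⊗[R] T := (Algebra.TensorProduct.includeRight : T →ₐ[R] κ ⊗[R] T).toRingHom
  let ρ : T →+* k' := e.toAlgHom.toRingHom.comp π
  have hρ : Function.Surjective ρ := e.surjective.comp
    (TensorProduct.mk_surjective R T κ IsLocalRing.residue_surjective)
  have hker : RingHom.ker ρ = IsLocalRing.maximalIdeal T :=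
    IsLocalRing.eq_maximalIdeal (RingHom.ker_isMaximal_of_surjective ρ hρ)
  let i : k' ≃+* κT :=
    ((RingHom.quotientKerEquivOfSurjective hρ).symm.trans (Ideal.quotEquivOfEq hker))
  letI : Algebra k' κT := i.toRingHom.toAlgebra
  haveI : IsScalarTower R k' κT := .of_algebraMap_eq fun r => by
    show _ = i (algebraMap R k' r)
    have h1 : algebraMap R k' r = ρ (algebraMap R T r) := by
      show algebraMap κ k' (algebraMap R κ r) = e ((1 : κ) ⊗ₜ[R] algebraMap R T r)
      rw [Algebra.algebraMap_eq_smul_one (A := T), ← TensorProduct.smul_tmul, Algebra.smul_def, mul_one,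
        ← e.commutes]
      rfl
    rw [h1]
    have h2 : ∀ t, i (ρ t) = Ideal.Quotient.mk _ t := fun t => by
      show (Ideal.quotEquivOfEq hker) ((RingHom.quotientKerEquivOfSurjective hρ).symm (ρ t)) = _
      rw [show (RingHom.quotientKerEquivOfSurjective hρ).symm (ρ t) = Ideal.Quotient.mk _ t from
        (RingHom.quotientKerEquivOfSurjective hρ).symm_apply_eq.2 rfl]
      rfl
    rw [h2]
    rfl
  refine ⟨T, inferInstance, inferInstance, het, hfin, hff, ?_⟩
  exact isDiag_of_residue (isMultType_baseChange hA T)
    (isDiag_of_equiv (bcTrans R T κT A) (isDiag_baseChange hd' κT))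

end Groth.Agent.MultT
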