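import Groth.Agent.MultT.EtStages
import Groth.Agent.MultT.AlgFP
import Groth.Agent.MultT.HenselSplit
import Mathlib

/-! Groups of multiplicative type of finite type are quasi-isotrivial. -/

set_option autoImplicit false

open TensorProduct

universe u

namespace Groth.Agent.MultT

variable {R : Type u} [CommRing R]

/-- Change of stage. -/
noncomputable abbrev chStage {E E' : Type u} [CommRing E] [CommRing E'] [Algebra R E] [Algebra R E']
    (f : E →ₐ[R] E') (B : Type u) [CommRing B] [Algebra R B] : E ⊗[R] B →ₐ[R] E' ⊗[R] B :=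
  Algebra.TensorProduct.map f (AlgHom.id R B)

/-- Base extension of a map. -/
noncomputable abbrev extHom {E B C : Type u} [CommRing E] [Algebra R E] [CommRing B] [Algebra R B] [CommRing C]
    [Algebra R C] (θ : B →ₐ[R] E ⊗[R] C) : E ⊗[R] B →ₐ[E] E ⊗[R] C :=
  Algebra.TensorProduct.lift (Algebra.ofId E _) θ fun _ _ => Commute.all _ _

theorem extHom_includeRight {E B C : Type u} [CommRing E] [Algebra R E] [CommRing B] [Algebra R B] [CommRing C]
    [Algebra R C] (θ : B →ₐ[R] E ⊗[R] C) (b : B) : extHom θ ((1 : E) ⊗ₜ b) = θ b := by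
  rw [Algebra.TensorProduct.lift_tmul, map_one, one_mul]

theorem chStage_extHom {E E' B C : Type u} [CommRing E] [CommRing E'] [Algebra R E] [Algebra R E'] [CommRing B]
    [Algebra R B] [CommRing C] [Algebra R C] (f : E →ₐ[R] E') (θ : B →ₐ[R] E ⊗[R] C) (z : E ⊗[R] B) :
    chStage f C (extHom θ z) = extHom ((chStage f C).comp θ) (chStage f B z) := by
  induction z using TensorProduct.induction_on with
  | zero => simp
  | add u v hu hv => simp only [map_add, hu, hv]
  | tmul e b => simp [Algebra.ofId_apply]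

theorem chStage_chStage {E E' E'' : Type u} [CommRing E] [CommRing E'] [CommRing E''] [Algebra R E] [Algebra R E']
    [Algebra R E''] (f : E →ₐ[R] E') (g : E' →ₐ[R] E'') (B : Type u) [CommRing B] [Algebra R B] (z : E ⊗[R] B) :
    chStage g B (chStage f B z) = chStage (g.comp f) B z := by
  induction z using TensorProduct.induction_on with
  | zero => simp
  | add u v hu hv => simp only [map_add, hu, hv]
  | tmul e b => simp

theorem chStage_comp_comp {E E' E'' : Type u} [CommRing E] [CommRing E'] [CommRing E''] [Algebra R E] [Algebra R E']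
    [Algebra R E''] (f : E →ₐ[R] E') (g : E' →ₐ[R] E'') {B C : Type u} [CommRing B] [Algebra R B] [CommRing C]
    [Algebra R C] (φ : C →ₐ[R] E ⊗[R] B) :
    (chStage g B).comp ((chStage f B).comp φ) = (chStage (g.comp f) B).comp φ :=
  AlgHom.ext fun z => by simp only [AlgHom.comp_apply, chStage_chStage]

namespace IsEtColim

variable {T : Type u} [CommRing T] [Algebra R T]

/-- Finitely many elements of a base change vanish at a further stage. -/
theorem exists_family_vanish (h : IsEtColim R T) (E : Type u) [CommRing E] [Algebra R E] [Algebra.Etale R E]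
    (χ : E →ₐ[R] T) {V : Type u} [AddCommGroup V] [Module R V] {ι : Type u} [Finite ι] (z : ι → E ⊗[R] V)
    (hz : ∀ i, χ.toLinearMap.rTensor V (z i) = 0) :
    ∃ (E' : Type u) (_ : CommRing E') (_ : Algebra R E') (χ' : E' →ₐ[R] T) (f : E →ₐ[R] E'),
      Algebra.Etale R E' ∧ χ'.comp f = χ ∧ ∀ i, f.toLinearMap.rTensor V (z i) = 0 := by
  classical
  haveI : Fintype ι := Fintype.ofFinite ι
  have hnat : ∀ {A B : Type u} [CommRing A] [CommRing B] [Algebra R A] [Algebra R B] (g : A →ₐ[R] B) {P Q : Type u}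
      [AddCommMonoid P] [AddCommMonoid Q] [Module R P] [Module R Q] (l : P →ₗ[R] Q) (y : A ⊗[R] P),
      g.toLinearMap.rTensor Q (l.lTensor A y) = l.lTensor B (g.toLinearMap.rTensor P y) := by
    intro A B _ _ _ _ g P Q _ _ _ _ l y
    rw [← LinearMap.comp_apply, ← LinearMap.comp_apply, LinearMap.rTensor_comp_lTensor,
      LinearMap.lTensor_comp_rTensor]
  let w : E ⊗[R] (ι →₀ V) := ∑ i, (Finsupp.lsingle i : V →ₗ[R] ι →₀ V).lTensor E (z i)
  have hw : χ.toLinearMap.rTensor (ι →₀ V) w = 0 := by
    rw [map_sum]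
    exact Finset.sum_eq_zero fun i _ => by rw [hnat, hz, map_zero]
  obtain ⟨E', a, b, χ', f, het, hc, hv⟩ := h.exists_rTensor_vanish E χ w hw
  refine ⟨E', a, b, χ', f, het, hc, fun i => ?_⟩
  have hi : z i = (Finsupp.lapply i : (ι →₀ V) →ₗ[R] V).lTensor E w := by
    rw [map_sum, Finset.sum_eq_single i]
    · rw [← LinearMap.lTensor_comp_apply]
      rw [show (Finsupp.lapply i).comp (Finsupp.lsingle i : V →ₗ[R] ι →₀ V) = LinearMap.id from
        LinearMap.ext fun v => by simp, LinearMap.lTensor_id_apply]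
    · intro j _ hj
      rw [← LinearMap.lTensor_comp_apply]
      rw [show (Finsupp.lapply i).comp (Finsupp.lsingle j : V →ₗ[R] ι →₀ V) = 0 from
        LinearMap.ext fun v => by simp [hj], LinearMap.lTensor_zero, LinearMap.zero_apply]
    · simp
  rw [hi, hnat, hv, map_zero]

/-- Maps out of a finitely presented algebra descend. -/
theorem exists_descend_hom (h : IsEtColim R T) (E : Type u) [CommRing E] [Algebra R E] [Algebra.Etale R E]
    (χ : E →ₐ[R] T) {B C : Type u} [CommRing B] [Algebra R B] [Algebra.FinitePresentation R B] [CommRing C]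
    [Algebra R C] (θ : B →ₐ[R] T ⊗[R] C) :
    ∃ (E' : Type u) (_ : CommRing E') (_ : Algebra R E') (χ' : E' →ₐ[R] T) (f : E →ₐ[R] E')
      (θ' : B →ₐ[R] E' ⊗[R] C), Algebra.Etale R E' ∧ χ'.comp f = χ ∧ (chStage χ' C).comp θ' = θ := by
  classical
  obtain ⟨m, q, hq, hker⟩ := (inferInstance : Algebra.FinitePresentation R B).out
  obtain ⟨g, hg⟩ := hker
  choose S hS using fun i : Fin m => TensorProduct.exists_finset (θ (q (MvPolynomial.X i)))
  obtain ⟨E₁, _, _, χ₁, f₁, het₁, hc₁, hl⟩ := h.exists_lift E χ (fun p : (Σ i : Fin m, S i) => p.2.1.1)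
  choose t ht using hl
  haveI := het₁
  let v : Fin m → E₁ ⊗[R] C := fun i => ∑ x : S i, t ⟨i, x⟩ ⊗ₜ x.1.2
  let φ : MvPolynomial (Fin m) R →ₐ[R] E₁ ⊗[R] C := MvPolynomial.aeval v
  have hφ : (chStage χ₁ C).comp φ = θ.comp q := MvPolynomial.algHom_ext fun i => by
    simp only [AlgHom.comp_apply, φ, MvPolynomial.aeval_X, v, map_sum, Algebra.TensorProduct.map_tmul, ht,
      AlgHom.id_apply]
    rw [hS i, ← Finset.sum_coe_sort (S i)]
  have hz : ∀ y : g, χ₁.toLinearMap.rTensor C (φ y.1) = 0 := fun y => by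
    rw [← map_eq_rTensor, ← AlgHom.comp_apply, hφ, AlgHom.comp_apply,
      show q y.1 = 0 from RingHom.mem_ker.1 (hg ▸ Ideal.subset_span y.2), map_zero]
  obtain ⟨E₂, _, _, χ₂, f₂, het₂, hc₂, hv⟩ := h.exists_family_vanish E₁ χ₁ (fun y : g => φ y.1) hz
  let θ' : B →ₐ[R] E₂ ⊗[R] C :=
    (Ideal.Quotient.liftₐ _ ((chStage f₂ C).comp φ) (fun y hy => by
      have hle : RingHom.ker q.toRingHom ≤ RingHom.ker ((chStage f₂ C).comp φ).toRingHom := by
        rw [← hg, Ideal.span_le]
        intro y' hy'
        show chStage f₂ C (φ y') = 0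
        rw [map_eq_rTensor]
        exact hv ⟨y', hy'⟩
      exact hle hy)).comp (Ideal.quotientKerAlgEquivOfSurjective hq).symm.toAlgHom
  have hθ' : ∀ y, θ' (q y) = chStage f₂ C (φ y) := fun y => by
    simp only [θ', AlgHom.comp_apply, AlgEquiv.coe_toAlgHom]
    rw [show (Ideal.quotientKerAlgEquivOfSurjective hq).symm (q y) = Ideal.Quotient.mk _ y from
      (Ideal.quotientKerAlgEquivOfSurjective hq).symm_apply_eq.2 rfl]
    rfl
  refine ⟨E₂, inferInstance, inferInstance, χ₂, f₂.comp f₁, θ', het₂,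
    by rw [← AlgHom.comp_assoc, hc₂, hc₁], AlgHom.ext fun z => ?_⟩
  obtain ⟨y, rfl⟩ := hq z
  rw [AlgHom.comp_apply, hθ', chStage_chStage, hc₂, ← AlgHom.comp_apply, hφ]
  rfl

/-- Equalities of maps out of a finitely generated algebra descend. -/
theorem exists_descend_eq (h : IsEtColim R T) (E : Type u) [CommRing E] [Algebra R E] [Algebra.Etale R E]
    (χ : E →ₐ[R] T) {B C : Type u} [CommRing B] [Algebra R B] [Algebra.FiniteType R B] [CommRing C]
    [Algebra R C] (G G' : B →ₐ[R] E ⊗[R] C) (hG : (chStage χ C).comp G = (chStage χ C).comp G') :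
    ∃ (E' : Type u) (_ : CommRing E') (_ : Algebra R E') (χ' : E' →ₐ[R] T) (f : E →ₐ[R] E'),
      Algebra.Etale R E' ∧ χ'.comp f = χ ∧ (chStage f C).comp G = (chStage f C).comp G' := by
  obtain ⟨g, hg⟩ := (‹Algebra.FiniteType R B›).out
  obtain ⟨E', a, b, χ', f, het, hc, hv⟩ := h.exists_family_vanish E χ (fun y : g => G y.1 - G' y.1) fun y => by
    rw [← map_eq_rTensor, map_sub, sub_eq_zero]
    exact AlgHom.congr_fun hG y.1
  refine ⟨E', a, b, χ', f, het, hc, AlgHom.ext_of_adjoin_eq_top hg fun y hy => ?_⟩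
  have := hv ⟨y, hy⟩
  rwa [← map_eq_rTensor, map_sub, sub_eq_zero] at this

end IsEtColim

variable {A : Type u} [CommRing A] [HopfAlgebra R A]

theorem counit_chStage {E E' : Type u} [CommRing E] [CommRing E'] [Algebra R E] [Algebra R E'] (f : E →ₐ[R] E')
    (z : E ⊗[R] A) : f (Coalgebra.counit (R := E) z) = Coalgebra.counit (R := E') (chStage f A z) := by
  induction z using TensorProduct.induction_on with
  | zero => simp
  | add u v hu hv => simp only [map_add, hu, hv]
  | tmul t a => simp [Algebra.smul_def]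

/-- The defect of an element from being group-like. -/
noncomputable def glDefect (E : Type u) [CommRing E] [Algebra R E] (x : E ⊗[R] A) : E ⊗[R] (A ⊗[R] A) :=
  (Coalgebra.comul (R := R)).baseChange E x -
    (TensorProduct.AlgebraTensorModule.distribBaseChange R E A A).symm (x ⊗ₜ[E] x)

theorem glDefect_chStage {E E' : Type u} [CommRing E] [CommRing E'] [Algebra R E] [Algebra R E'] (f : E →ₐ[R] E')
    (x : E ⊗[R] A) : f.toLinearMap.rTensor (A ⊗[R] A) (glDefect E x) = glDefect E' (chStage f A x) := by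
  have h1 : ∀ y : E ⊗[R] A, f.toLinearMap.rTensor (A ⊗[R] A) ((Coalgebra.comul (R := R)).baseChange E y) =
      (Coalgebra.comul (R := R)).baseChange E' (chStage f A y) := by
    intro y
    induction y using TensorProduct.induction_on with
    | zero => simp
    | add u v hu hv => simp only [map_add, hu, hv]
    | tmul t a => simp
  have h2 : ∀ y z : E ⊗[R] A, f.toLinearMap.rTensor (A ⊗[R] A)
      ((TensorProduct.AlgebraTensorModule.distribBaseChange R E A A).symm (y ⊗ₜ[E] z)) =
      (TensorProduct.AlgebraTensorModule.distribBaseChange R E' A A).symm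
        (chStage f A y ⊗ₜ[E'] chStage f A z) := by
    intro y z
    induction y using TensorProduct.induction_on with
    | zero => simp
    | add u v hu hv => simp only [TensorProduct.add_tmul, map_add, hu, hv]
    | tmul t a =>
      induction z using TensorProduct.induction_on with
      | zero => simp
      | add u v hu hv => simp only [TensorProduct.tmul_add, map_add, hu, hv]
      | tmul t' b => simp [distrib_symm_tmul]
  rw [glDefect, map_sub, h1, h2, glDefect]

theorem isGroupLikeElem_iff_defect {E : Type u} [CommRing E] [Algebra R E] (x : E ⊗[R] A) :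
    IsGroupLikeElem E x ↔ Coalgebra.counit (R := E) x = 1 ∧ glDefect E x = 0 := by
  rw [glDefect, sub_eq_zero, LinearEquiv.eq_symm_apply, ← comul_eq_distrib]
  exact ⟨fun h => ⟨h.counit_eq_one, h.comul_eq_tmul_self⟩, fun h => ⟨h.1, h.2⟩⟩

/-- Over a strictly henselian ring a group of multiplicative type of finite type is diagonalisable. -/
theorem isDiag_of_strict {T : Type u} [CommRing T] [HenselianLocalRing T] [IsSepClosed (IsLocalRing.ResidueField T)]
    {X : Type u} [CommRing X] [HopfAlgebra T X] (hX : SGA3b.IsMultType T X) [Algebra.FiniteType T X] :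
    SGA3b.IsDiag T X :=
  isDiag_of_residue hX (isDiag_of_isSepClosed (isMultType_baseChange hX _))

/-- Diagonalisation descends to an étale algebra. -/
theorem exists_stage_diag {T : Type u} [CommRing T] [Algebra R T] (hcol : IsEtColim R T)
    [Algebra.FinitePresentation R A] {M : Type u} [CommGroup M] [Monoid.FG M]
    (e : T ⊗[R] A ≃ₐc[T] MonoidAlgebra T M) :
    ∃ (E : Type u) (_ : CommRing E) (_ : Algebra R E) (_ : E →ₐ[R] T),
      Algebra.Etale R E ∧ SGA3b.IsDiag E (E ⊗[R] A) := by
  classical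
  let B := MonoidAlgebra R M
  haveI : Algebra.FinitePresentation R B := finitePresentation_monoidAlgebra R M
  let sT : T ⊗[R] B ≃ₐ[T] MonoidAlgebra T M := MonoidAlgebra.scalarTensorEquiv R T
  let eT : T ⊗[R] B ≃ₐ[T] T ⊗[R] A := sT.trans (BialgEquiv.toAlgEquiv e).symm
  let θ₁ : B →ₐ[R] T ⊗[R] A := (eT.toAlgHom.restrictScalars R).comp Algebra.TensorProduct.includeRight
  let θ₂ : A →ₐ[R] T ⊗[R] B := (eT.symm.toAlgHom.restrictScalars R).comp Algebra.TensorProduct.includeRight
  have h1 : extHom θ₁ = eT.toAlgHom :=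
    Algebra.TensorProduct.ext (Subsingleton.elim _ _) (AlgHom.ext fun b => by simp [θ₁])
  have h2 : extHom θ₂ = eT.symm.toAlgHom :=
    Algebra.TensorProduct.ext (Subsingleton.elim _ _) (AlgHom.ext fun b => by simp [θ₂])
  haveI : Algebra.Etale R R := inferInstance
  obtain ⟨E₁, _, _, χ₁, -, φ₁, het₁, -, hφ₁⟩ := hcol.exists_descend_hom R (Algebra.ofId R T) θ₁
  haveI := het₁
  obtain ⟨E₂, _, _, χ₂, f₂, φ₂, het₂, hc₂, hφ₂⟩ := hcol.exists_descend_hom E₁ χ₁ θ₂
  haveI := het₂
  let ψ₁ : B →ₐ[R] E₂ ⊗[R] A := (chStage f₂ A).comp φ₁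
  have hψ₁ : (chStage χ₂ A).comp ψ₁ = θ₁ := AlgHom.ext fun b => by
    simp only [ψ₁, AlgHom.comp_apply, chStage_chStage, hc₂]
    exact AlgHom.congr_fun hφ₁ b
  -- first composite
  obtain ⟨E₃, _, _, χ₃, f₃, het₃, hc₃, hG₃⟩ := hcol.exists_descend_eq E₂ χ₂
    (((extHom ψ₁).restrictScalars R).comp φ₂) Algebra.TensorProduct.includeRight (AlgHom.ext fun a => by
      simp only [AlgHom.comp_apply, AlgHom.restrictScalars_apply]
      rw [chStage_extHom, hψ₁, h1, ← AlgHom.comp_apply (chStage χ₂ B), hφ₂]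
      simp [θ₂])
  haveI := het₃
  obtain ⟨E₄, _, _, χ₄, f₄, het₄, hc₄, hG₄⟩ := hcol.exists_descend_eq E₃ χ₃
    (((extHom ((chStage f₃ B).comp φ₂)).restrictScalars R).comp ((chStage f₃ A).comp ψ₁))
    Algebra.TensorProduct.includeRight (AlgHom.ext fun b => by
      simp only [AlgHom.comp_apply, AlgHom.restrictScalars_apply]
      rw [chStage_extHom, chStage_chStage, hc₃, ← AlgHom.comp_assoc,
        show (chStage χ₃ B).comp (chStage f₃ B) = chStage χ₂ B from
          AlgHom.ext fun z => by rw [AlgHom.comp_apply, chStage_chStage, hc₃],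
        hφ₂, h2, ← AlgHom.comp_apply (chStage χ₂ A), hψ₁]
      simp [θ₁])
  haveI := het₄
  -- group-like elements
  obtain ⟨S, hS⟩ := Monoid.FG.fg_top (M := M)
  let g₄ : M → E₄ ⊗[R] A := fun m => chStage (f₄.comp f₃) A (ψ₁ (MonoidAlgebra.single m 1))
  have hc₄₂ : χ₄.comp (f₄.comp f₃) = χ₂ := by rw [← AlgHom.comp_assoc, hc₄, hc₃]
  have hg₄T : ∀ m, chStage χ₄ A (g₄ m) = e.symm (MonoidAlgebra.single m (1 : T)) := fun m => by
    simp only [g₄, chStage_chStage, hc₄₂]
    rw [← AlgHom.comp_apply (chStage χ₂ A), hψ₁]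
    show (BialgEquiv.toAlgEquiv e).symm (sT ((1 : T) ⊗ₜ MonoidAlgebra.single m 1)) = _
    rw [show sT ((1 : T) ⊗ₜ[R] MonoidAlgebra.single m (1 : R)) = MonoidAlgebra.single m (1 : T) from
      sT.symm.injective (by rw [AlgEquiv.symm_apply_apply, MonoidAlgebra.scalarTensorEquiv_symm_single])]
    rfl
  have hgl : ∀ m, IsGroupLikeElem T (chStage χ₄ A (g₄ m)) := fun m => by
    rw [hg₄T]; exact (MonoidAlgebra.isGroupLikeElem_single_one m).map e.symm
  obtain ⟨E₅, _, _, χ₅, f₅, het₅, hc₅, hv₅⟩ := hcol.exists_family_vanish E₄ χ₄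
    (fun m : S => glDefect E₄ (g₄ m.1)) fun m => by
      rw [glDefect_chStage]; exact ((isGroupLikeElem_iff_defect _).1 (hgl m.1)).2
  haveI := het₅
  obtain ⟨E₆, _, _, χ₆, f₆, het₆, hc₆, hv₆⟩ := hcol.exists_vanish E₅ χ₅
    (fun m : S => Coalgebra.counit (R := E₅) (chStage f₅ A (g₄ m.1)) - 1) fun m => by
      rw [map_sub, map_one, counit_chStage, chStage_chStage, hc₅, (hgl m.1).counit_eq_one, sub_self]
  let F : E₂ →ₐ[R] E₆ := f₆.comp (f₅.comp (f₄.comp f₃))
  let Φ : E₆ ⊗[R] B →ₐ[E₆] E₆ ⊗[R] A := extHom ((chStage F A).comp ψ₁)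
  let Ψ : E₆ ⊗[R] A →ₐ[E₆] E₆ ⊗[R] B := extHom ((chStage F B).comp φ₂)
  have hΦΨ : Φ.comp Ψ = AlgHom.id E₆ _ :=
    Algebra.TensorProduct.ext (Subsingleton.elim _ _) (AlgHom.ext fun a => by
      have := congrArg (chStage (f₆.comp (f₅.comp f₄)) A) (AlgHom.congr_fun hG₃ a)
      simp only [AlgHom.comp_apply, AlgHom.restrictScalars_apply, chStage_chStage, chStage_extHom,
        ← AlgHom.comp_assoc] at this
      simp only [AlgHom.comp_apply, AlgHom.restrictScalars_apply, Algebra.TensorProduct.includeRight_apply, Φ, Ψ,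
        extHom_includeRight, AlgHom.id_apply]
      simpa [F, chStage_chStage, chStage_comp_comp, AlgHom.comp_assoc] using this)
  have hΨΦ : Ψ.comp Φ = AlgHom.id E₆ _ :=
    Algebra.TensorProduct.ext (Subsingleton.elim _ _) (AlgHom.ext fun b => by
      have := congrArg (chStage (f₆.comp f₅) B) (AlgHom.congr_fun hG₄ b)
      simp only [AlgHom.comp_apply, AlgHom.restrictScalars_apply, chStage_chStage, chStage_extHom] at this
      simp only [AlgHom.comp_apply, AlgHom.restrictScalars_apply, Algebra.TensorProduct.includeRight_apply, Φ, Ψ,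
        extHom_includeRight, AlgHom.id_apply]
      have hco : (chStage F B).comp φ₂ =
          (chStage ((f₆.comp f₅).comp f₄) B).comp ((chStage f₃ B).comp φ₂) := AlgHom.ext fun a => by
        simp [F, chStage_chStage, AlgHom.comp_assoc]
      rw [hco]
      simpa [F, chStage_chStage, chStage_comp_comp, AlgHom.comp_assoc] using this)
  have hgl₆ : ∀ m : M, IsGroupLikeElem E₆ (Φ ((1 : E₆) ⊗ₜ MonoidAlgebra.single m 1)) := by
    intro m
    have hm : m ∈ Submonoid.closure (S : Set M) := hS ▸ Submonoid.mem_top m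
    induction hm using Submonoid.closure_induction with
    | mem m hm =>
      rw [extHom_includeRight, AlgHom.comp_apply,
        show chStage F A (ψ₁ (MonoidAlgebra.single m 1)) = chStage f₆ A (chStage f₅ A (g₄ m)) by
          simp only [g₄, F, chStage_chStage]]
      refine (isGroupLikeElem_iff_defect _).2 ⟨?_, ?_⟩
      · rw [← counit_chStage]
        have := hv₆ ⟨m, hm⟩
        rwa [map_sub, map_one, sub_eq_zero] at this
      · rw [← glDefect_chStage, ← glDefect_chStage, hv₅ ⟨m, hm⟩, map_zero]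
    | one =>
      rw [show ((1 : E₆) ⊗ₜ[R] MonoidAlgebra.single (1 : M) (1 : R)) = 1 from rfl, map_one]
      exact IsGroupLikeElem.one
    | mul x y _ _ hx hy =>
      rw [show ((1 : E₆) ⊗ₜ[R] MonoidAlgebra.single (x * y) (1 : R)) =
        ((1 : E₆) ⊗ₜ[R] MonoidAlgebra.single x (1 : R)) * ((1 : E₆) ⊗ₜ[R] MonoidAlgebra.single y (1 : R)) by
          rw [Algebra.TensorProduct.tmul_mul_tmul, MonoidAlgebra.single_mul_single, one_mul, one_mul], map_mul]
      exact hx.mul hy
  let μ : M →* GroupLike E₆ (E₆ ⊗[R] A) :=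
    { toFun := fun m => ⟨_, hgl₆ m⟩
      map_one' := GroupLike.val_injective (by
        show Φ _ = 1
        rw [show ((1 : E₆) ⊗ₜ[R] MonoidAlgebra.single (1 : M) (1 : R)) = 1 from rfl, map_one])
      map_mul' := fun x y => GroupLike.val_injective (by
        show Φ _ = Φ _ * Φ _
        rw [← map_mul, Algebra.TensorProduct.tmul_mul_tmul, MonoidAlgebra.single_mul_single, one_mul, one_mul]) }
  let L : MonoidAlgebra E₆ M →ₐc[E₆] E₆ ⊗[R] A :=
    (MonoidAlgebra.liftGroupLikeBialgHom : MonoidAlgebra E₆ (GroupLike E₆ (E₆ ⊗[R] A)) →ₐc[E₆] E₆ ⊗[R] A).comp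
      (MonoidAlgebra.mapDomainBialgHom E₆ μ)
  have hL : ∀ z, L z = Φ ((MonoidAlgebra.scalarTensorEquiv (M := M) R E₆).symm z) := by
    intro z
    induction z using MonoidAlgebra.induction_linear with
    | zero => simp
    | add u v hu hv => simp only [map_add, hu, hv]
    | single m s =>
      rw [show MonoidAlgebra.single m s = s • MonoidAlgebra.single m (1 : E₆) by
        rw [MonoidAlgebra.smul_single, smul_eq_mul, mul_one], map_smul, map_smul, map_smul,
        MonoidAlgebra.scalarTensorEquiv_symm_single]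
      congr 1
      simp [L, μ]
  have hbij : Function.Bijective L := by
    rw [show (L : MonoidAlgebra E₆ M → E₆ ⊗[R] A) = Φ ∘ (MonoidAlgebra.scalarTensorEquiv (M := M) R E₆).symm from funext hL]
    exact (Function.bijective_iff_has_inverse.2 ⟨Ψ, AlgHom.congr_fun hΨΦ, AlgHom.congr_fun hΦΨ⟩).comp
      (AlgEquiv.bijective _)
  exact ⟨E₆, inferInstance, inferInstance, χ₆, het₆, M, inferInstance, ⟨(BialgEquiv.ofBijective L hbij).symm⟩⟩

/-- Groups of multiplicative type of finite type are quasi-isotrivial. -/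
theorem isQuasiIsotrivial (hA : SGA3b.IsMultType R A) [Algebra.FiniteType R A] : SGA3b.IsQuasiIsotrivial R A := by
  haveI := finitePresentation_algebra hA
  have key : ∀ p : PrimeSpectrum R, ∃ f : R, f ∉ p.asIdeal ∧
      SGA3b.IsQuasiIsotrivialConst (Localization.Away f) (Localization.Away f ⊗[R] A) := by
    intro p
    obtain ⟨T, _, _, _, hsc, hp, hcol⟩ := exists_strict_colim R p.asIdeal
    obtain ⟨M, _, ⟨e⟩⟩ := isDiag_of_strict (X := T ⊗[R] A) (isMultType_baseChange hA T)
    haveI : Algebra.FiniteType T (MonoidAlgebra T M) :=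
      Algebra.FiniteType.of_surjective (BialgEquiv.toAlgEquiv e).toAlgHom (BialgEquiv.toAlgEquiv e).surjective
    haveI : Monoid.FG M := MonoidAlgebra.finiteType_iff_fg.1 ‹Algebra.FiniteType T (MonoidAlgebra T M)›
    obtain ⟨E, _, _, χ, het, hd⟩ := exists_stage_diag hcol e
    haveI := het
    have hopen : IsOpen (Set.range (PrimeSpectrum.comap (algebraMap R E))) := by
      rw [← Set.image_univ]
      exact PrimeSpectrum.isOpenMap_comap_of_hasGoingDown_of_finitePresentation _ isOpen_univ
    have hmem : p ∈ Set.range (PrimeSpectrum.comap (algebraMap R E)) := by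
      refine ⟨PrimeSpectrum.comap χ.toRingHom (IsLocalRing.closedPoint T), PrimeSpectrum.ext ?_⟩
      show ((IsLocalRing.maximalIdeal T).comap χ.toRingHom).comap (algebraMap R E) = p.asIdeal
      rw [Ideal.comap_comap]
      conv_rhs => rw [← hp]
      congr 1
      exact RingHom.ext χ.commutes
    obtain ⟨_, ⟨f, rfl⟩, hpf, hsub⟩ :=
      PrimeSpectrum.isTopologicalBasis_basic_opens.exists_subset_of_mem_open hmem hopen
    refine ⟨f, hpf, Localization.Away f ⊗[R] E, inferInstance, inferInstance, inferInstance, ?_, ?_⟩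
    · haveI : Module.Flat R E := Algebra.Smooth.flat R E
      refine Module.FaithfullyFlat.of_comap_surjective fun q => ?_
      obtain ⟨x, hx⟩ := hsub (show PrimeSpectrum.comap (algebraMap R (Localization.Away f)) q ∈
          (PrimeSpectrum.basicOpen f : Set (PrimeSpectrum R)) by
        rw [← PrimeSpectrum.localization_away_comap_range (Localization.Away f) f]; exact ⟨q, rfl⟩)
      letI : Algebra E (Localization.Away f ⊗[R] E) := Algebra.TensorProduct.rightAlgebra
      haveI : IsLocalization.Away (algebraMap R E f) (Localization.Away f ⊗[R] E) := inferInstance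
      have hxf : algebraMap R E f ∉ x.asIdeal := by
        intro h
        have h1 : f ∈ (PrimeSpectrum.comap (algebraMap R E) x).asIdeal := h
        rw [hx] at h1
        exact q.2.ne_top (Ideal.eq_top_of_isUnit_mem _ h1 (IsLocalization.Away.algebraMap_isUnit f))
      obtain ⟨y, hy⟩ : x ∈ Set.range (PrimeSpectrum.comap (algebraMap E (Localization.Away f ⊗[R] E))) := by
        rw [PrimeSpectrum.localization_away_comap_range (Localization.Away f ⊗[R] E) (algebraMap R E f)]
        exact hxf
      refine ⟨y, ?_⟩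
      apply (PrimeSpectrum.localization_comap_injective (Localization.Away f) (Submonoid.powers f))
      rw [← hx, ← hy, ← PrimeSpectrum.comap_comp_apply, ← PrimeSpectrum.comap_comp_apply]
      rw [show (algebraMap (Localization.Away f) (Localization.Away f ⊗[R] E)).comp (algebraMap R (Localization.Away f)) =
          (algebraMap E (Localization.Away f ⊗[R] E)).comp (algebraMap R E) by
        rw [← IsScalarTower.algebraMap_eq]
        exact (Algebra.TensorProduct.includeRight : E →ₐ[R] Localization.Away f ⊗[R] E).comp_algebraMap.symm]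
    · letI : Algebra E (Localization.Away f ⊗[R] E) := Algebra.TensorProduct.rightAlgebra
      exact isDiag_of_equiv (bcTrans R (Localization.Away f) (Localization.Away f ⊗[R] E) A)
        (isDiag_baseChange hd (Localization.Away f ⊗[R] E))
  choose f hf hf' using key
  refine ⟨Set.range f, ?_, by rintro _ ⟨p, rfl⟩; exact hf' p⟩
  by_contra hne
  obtain ⟨m, hm, hle⟩ := Ideal.exists_le_maximal _ hne
  exact hf ⟨m, hm.isPrime⟩ (hle (Ideal.subset_span ⟨_, rfl⟩))

end Groth.Agent.MultT
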