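import Groth.Agent.MultT.BaseChange
import Mathlib

/-! Transfer of quasi-isotriviality between base changes. -/

set_option autoImplicit false
set_option synthInstance.maxHeartbeats 400000

open TensorProduct

universe u

namespace Groth.Agent.MultT

variable {R : Type u} [CommRing R] {A : Type u} [CommRing A] [HopfAlgebra R A]

theorem isMultType_of_quasi (h : SGA3b.IsQuasiIsotrivial R A) : SGA3b.IsMultType R A := by
  obtain ⟨s, hs, h⟩ := h
  refine ⟨s, hs, fun f hf => ?_⟩
  obtain ⟨S, iS, iA, -, hff, hd⟩ := h f hf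
  exact ⟨S, iS, iA, hff, hd⟩

set_option backward.isDefEq.respectTransparency false in
/-- Quasi-isotriviality of a base change passes to further base changes. -/
theorem isQuasiIsotrivial_transfer (R₀ R₁ R₂ : Type u) [CommRing R₀] [CommRing R₁] [CommRing R₂]
    [Algebra R R₀] [Algebra R R₁] [Algebra R R₂] [Algebra R₀ R₂] [Algebra R₁ R₂]
    [IsScalarTower R R₀ R₂] [IsScalarTower R R₁ R₂] (h : SGA3b.IsQuasiIsotrivial R₀ (R₀ ⊗[R] A)) :
    SGA3b.IsQuasiIsotrivial R₂ (R₂ ⊗[R₁] (R₁ ⊗[R] A)) := by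
  obtain ⟨s, hs, h⟩ := h
  refine ⟨algebraMap R₀ R₂ '' s, by rw [← Ideal.map_span, hs, Ideal.map_top], ?_⟩
  rintro g ⟨f, hf, rfl⟩
  obtain ⟨S, _, _, het, hff, M, _, ⟨e⟩⟩ := h f hf
  haveI := het
  let L := Localization.Away f
  let L' := Localization.Away (algebraMap R₀ R₂ f)
  letI : Algebra R₀ S := Algebra.compHom S (algebraMap R₀ L)
  haveI : IsScalarTower R₀ L S := .of_algebraMap_eq fun _ => rfl
  letI : Algebra L L' := (IsLocalization.Away.map L L' (algebraMap R₀ R₂) f).toAlgebra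
  haveI : IsScalarTower R₀ L L' := .of_algebraMap_eq fun r => by
    show _ = IsLocalization.Away.map L L' (algebraMap R₀ R₂) f (algebraMap R₀ L r)
    rw [IsLocalization.Away.map, IsLocalization.map_eq, ← IsScalarTower.algebraMap_apply]
  let S' := L' ⊗[L] S
  letI : Algebra S S' := Algebra.TensorProduct.rightAlgebra
  haveI : IsScalarTower R₀ S S' := .of_algebraMap_eq fun r => by
    show _ = (1 : L') ⊗ₜ[L] algebraMap R₀ S r
    rw [IsScalarTower.algebraMap_apply R₀ L S, Algebra.algebraMap_eq_smul_one (algebraMap R₀ L r),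
      TensorProduct.tmul_smul, TensorProduct.smul_tmul', Algebra.smul_def, mul_one,
      ← IsScalarTower.algebraMap_apply]
    rfl
  have hTS : IsScalarTower R₀ S S' := inferInstance
  obtain ⟨φ⟩ := @Chart.exists_bialgEquiv _ _ _ _ _ (chartOfEquiv e) S' _
    (Algebra.TensorProduct.rightAlgebra : Algebra S S') _ hTS
  exact ⟨S', inferInstance, inferInstance, inferInstance, inferInstance, M, inferInstance,
    ⟨((bcTrans R₂ L' S' (R₂ ⊗[R₁] (R₁ ⊗[R] A))).trans ((bcTrans R₁ R₂ S' (R₁ ⊗[R] A)).trans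
      (bcTrans R R₁ S' A))).trans ((bcTrans R R₀ S' A).symm.trans φ)⟩⟩

end Groth.Agent.MultT
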