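import Groth.Agent.MultT.LocalFibre
import Groth.Agent.MultT.Quasi
import Groth.Agent.MultT.QuasiBC
import Groth.Agent.MultT.PiChart
import Groth.Agent.HopfSmDim.Versch
import Mathlib

/-!
Groups of multiplicative type from their fibres: globalisation of the local criterion.
-/

set_option autoImplicit false
set_option linter.unusedSectionVars false
set_option linter.style.haveILetI false
set_option synthInstance.maxHeartbeats 400000
set_option maxHeartbeats 2000000

universe u

open TensorProduct Coalgebra

noncomputable section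

namespace Groth.Agent.MultT

variable {R : Type u} [CommRing R] {A : Type u} [CommRing A] [HopfAlgebra R A]

/-- A finitely presented group of multiplicative type at every prime is quasi-isotrivial. -/
theorem isQuasiIsotrivial_of_local [Algebra.FinitePresentation R A]
    (h : ∀ (p : Ideal R) [p.IsPrime],
      SGA3b.IsMultType (Localization.AtPrime p) (Localization.AtPrime p ⊗[R] A)) :
    SGA3b.IsQuasiIsotrivial R A := by
  have key : ∀ p : PrimeSpectrum R, ∃ f : R, f ∉ p.asIdeal ∧
      SGA3b.IsQuasiIsotrivialConst (Localization.Away f) (Localization.Away f ⊗[R] A) := by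
    intro p
    obtain ⟨T, _, _, _, hsc, hp, hcol⟩ := exists_strict_colim R p.asIdeal
    let L := Localization.AtPrime p.asIdeal
    have hu : ∀ y : p.asIdeal.primeCompl, IsUnit (algebraMap R T y) := fun y => by
      by_contra hne
      exact y.2 ((SetLike.ext_iff.1 hp (y : R)).1 ((IsLocalRing.mem_maximalIdeal _).2 hne))
    letI : Algebra L T := (IsLocalization.lift (M := p.asIdeal.primeCompl) hu).toAlgebra
    haveI : IsScalarTower R L T := .of_algebraMap_eq fun r => (IsLocalization.lift_eq hu r).symm
    haveI : Algebra.FiniteType L (L ⊗[R] A) := inferInstance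
    haveI : Algebra.FiniteType T (T ⊗[L] (L ⊗[R] A)) := inferInstance
    obtain ⟨M, _, ⟨e⟩⟩ := isDiag_of_equiv (bcTrans R L T A).symm
      (isDiag_of_strict (X := T ⊗[L] (L ⊗[R] A)) (isMultType_baseChange (h p.asIdeal) T))
    haveI : Algebra.FiniteType T (MonoidAlgebra T M) :=
      Algebra.FiniteType.of_surjective (BialgEquiv.toAlgEquiv e).toAlgHom (BialgEquiv.toAlgEquiv e).surjective
    haveI : Monoid.FG M := MonoidAlgebra.finiteType_iff_fg.1 ‹Algebra.FiniteType T (MonoidAlgebra T M)›
    obtain ⟨E, _, _, χ, het, hd⟩ := exists_stage_diag hcol e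
    haveI := het
    have hopen : IsOpen (Set.range (PrimeSpectrum.comap (algebraMap R E))) := by
      rw [← Set.image_univ]
      exact PrimeSpectrum.isOpenMap_comap_of_hasGoingDown_of_finitePresentation _ isOpen_univ
    have hmem : p ∈ Set.range (PrimeSpectrum.comap (algebraMap R E)) := by
      refine ⟨PrimeSpectrum.comap χ.toRingHom (IsLocalRing.closedPoint T), PrimeSpectrum.ext ?_⟩
      show ((IsLocalRing.maximalIdeal T).comap χ.toRingHom).comap (algebraMap R E) = p.asIdeal
      rw [Ideal.comap_comap]
      conv_rhs => rw [← hp]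
      congr 1
      exact RingHom.ext χ.commutes
    obtain ⟨_, ⟨f, rfl⟩, hpf, hsub⟩ :=
      PrimeSpectrum.isTopologicalBasis_basic_opens.exists_subset_of_mem_open hmem hopen
    refine ⟨f, hpf, Localization.Away f ⊗[R] E, inferInstance, inferInstance, inferInstance, ?_, ?_⟩
    · haveI : Module.Flat R E := Algebra.Smooth.flat R E
      refine Module.FaithfullyFlat.of_comap_surjective fun q => ?_
      obtain ⟨x, hx⟩ := hsub (show PrimeSpectrum.comap (algebraMap R (Localization.Away f)) q ∈
          (PrimeSpectrum.basicOpen f : Set (PrimeSpectrum R)) by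
        rw [← PrimeSpectrum.localization_away_comap_range (Localization.Away f) f]; exact ⟨q, rfl⟩)
      letI : Algebra E (Localization.Away f ⊗[R] E) := Algebra.TensorProduct.rightAlgebra
      haveI : IsLocalization.Away (algebraMap R E f) (Localization.Away f ⊗[R] E) := inferInstance
      have hxf : algebraMap R E f ∉ x.asIdeal := by
        intro h
        have h1 : f ∈ (PrimeSpectrum.comap (algebraMap R E) x).asIdeal := h
        rw [hx] at h1
        exact q.2.ne_top (Ideal.eq_top_of_isUnit_mem _ h1 (IsLocalization.Away.algebraMap_isUnit f))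
      obtain ⟨y, hy⟩ : x ∈ Set.range (PrimeSpectrum.comap (algebraMap E (Localization.Away f ⊗[R] E))) := by
        rw [PrimeSpectrum.localization_away_comap_range (Localization.Away f ⊗[R] E) (algebraMap R E f)]
        exact hxf
      refine ⟨y, ?_⟩
      apply (PrimeSpectrum.localization_comap_injective (Localization.Away f) (Submonoid.powers f))
      rw [← hx, ← hy, ← PrimeSpectrum.comap_comp_apply, ← PrimeSpectrum.comap_comp_apply]
      rw [show (algebraMap (Localization.Away f) (Localization.Away f ⊗[R] E)).comp (algebraMap R (Localization.Away f)) =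
          (algebraMap E (Localization.Away f ⊗[R] E)).comp (algebraMap R E) by
        rw [← IsScalarTower.algebraMap_eq]
        exact (Algebra.TensorProduct.includeRight : E →ₐ[R] Localization.Away f ⊗[R] E).comp_algebraMap.symm]
    · letI : Algebra E (Localization.Away f ⊗[R] E) := Algebra.TensorProduct.rightAlgebra
      exact isDiag_of_equiv (bcTrans R (Localization.Away f) (Localization.Away f ⊗[R] E) A)
        (isDiag_baseChange hd (Localization.Away f ⊗[R] E))
  choose f hf hf' using key
  refine ⟨Set.range f, ?_, by rintro _ ⟨p, rfl⟩; exact hf' p⟩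
  by_contra hne
  obtain ⟨m, hm, hle⟩ := Ideal.exists_le_maximal _ hne
  exact hf ⟨m, hm.isPrime⟩ (hle (Ideal.subset_span ⟨_, rfl⟩))


/-- Multiplicative type transfers along isomorphisms. -/
theorem isMultType_of_equiv {B : Type u} [CommRing B] [HopfAlgebra R B] (e : A ≃ₐc[R] B)
    (h : SGA3b.IsMultType R B) : SGA3b.IsMultType R A := by
  obtain ⟨s, hs, h⟩ := h
  refine ⟨s, hs, fun f hf => ?_⟩
  obtain ⟨S, _, _, hff, hd⟩ := h f hf
  obtain ⟨g⟩ := exists_bcCongr e (Localization.Away f)
  obtain ⟨g'⟩ := exists_bcCongr g S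
  exact ⟨S, inferInstance, inferInstance, hff, isDiag_of_equiv g' hd⟩

set_option backward.isDefEq.respectTransparency false in
/-- **Groups of multiplicative type from their fibres.** -/
theorem isMultType_of_fibres (hfp : Algebra.FinitePresentation R A) [Module.Flat R A]
    (hs : ∀ (p : Ideal R) [p.IsPrime], SGA3b.IsMultType p.ResidueField (p.ResidueField ⊗[R] A))
    (hh : (∀ (p : Ideal R) [p.IsPrime], ConnectedSpace (PrimeSpectrum (p.ResidueField ⊗[R] A))) ∨
      (IsCocomm R A ∧ ∀ n : ℕ, 0 < n → Module.Finite R (A ⧸ SGA3b.torsionIdeal R A n))) :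
    SGA3b.IsMultType R A := by
  haveI := hfp
  refine isMultType_of_quasi (isQuasiIsotrivial_of_local fun p _ => ?_)
  let L := Localization.AtPrime p
  refine isMultType_of_const (isMultTypeConst_of_local (R := L) (C := L ⊗[R] A) inferInstance ?_ ?_ ?_)
  · intro q _ _
    haveI : Module.Flat (L ⊗[R] A) (Localization.AtPrime q) := IsLocalization.flat _ q.primeCompl
    exact Module.Flat.trans L (L ⊗[R] A) _
  · exact isMultType_of_equiv (bcTrans R L (IsLocalRing.ResidueField L) A) (hs p)
  · rcases hh with hconn | ⟨hco, hfin⟩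
    · refine Or.inl fun P _ => ?_
      let K := P.ResidueField
      let c := Algebra.TensorProduct.cancelBaseChange R L K K A
      haveI : Nontrivial (K ⊗[L] (L ⊗[R] A)) :=
        (Bialgebra.counitAlgHom K (K ⊗[L] (L ⊗[R] A))).toRingHom.domain_nontrivial
      refine Groth.Agent.GRingCpl.connectedSpace_of_idem fun e he => ?_
      rcases idem_trivial_fibre hconn K (c e) (he.map c) with h | h
      · exact Or.inl (c.injective (h.trans (map_zero c).symm))
      · exact Or.inr (c.injective (h.trans (map_one c).symm))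
    · haveI := hco
      refine Or.inr ⟨inferInstance, fun n hn => ?_⟩
      haveI := hfin n hn
      let J := SGA3b.torsionIdeal R A n
      let J' := SGA3b.torsionIdeal L (L ⊗[R] A) n
      let i : A →ₐ[R] L ⊗[R] A := Algebra.TensorProduct.includeRight
      have hle : J ≤ J'.comap i.toRingHom := by
        refine Ideal.map_le_iff_le_comap.2 fun c hc => ?_
        show (1 : L) ⊗ₜ[R] SGA3b.powConv R A n c ∈ J'
        rw [← Groth.Agent.VerschComp.powConv_one_tmul]
        refine Ideal.mem_map_of_mem _ ?_
        show counit (R := L) ((1 : L) ⊗ₜ[R] c) = 0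
        rw [TensorProduct.counit_tmul, show counit (R := R) c = 0 from hc, zero_smul]
      let φ : L ⊗[R] (A ⧸ J) →ₐ[L] (L ⊗[R] A) ⧸ J' := Algebra.TensorProduct.lift (Algebra.ofId L _)
        (Ideal.Quotient.liftₐ J ((Ideal.Quotient.mkₐ R J').comp i) fun a ha =>
          Ideal.Quotient.eq_zero_iff_mem.2 (hle ha)) fun _ _ => Commute.all _ _
      have hφ : Function.Surjective φ := by
        intro y
        obtain ⟨y, rfl⟩ := Ideal.Quotient.mk_surjective y
        refine ⟨Algebra.TensorProduct.map (AlgHom.id L L) (Ideal.Quotient.mkₐ R J) y, ?_⟩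
        have : φ.comp (Algebra.TensorProduct.map (AlgHom.id L L) (Ideal.Quotient.mkₐ R J)) = Ideal.Quotient.mkₐ L J' :=
          Algebra.TensorProduct.ext (Subsingleton.elim _ _) (AlgHom.ext fun a => by simp [φ, i])
        exact AlgHom.congr_fun this y
      exact Module.Finite.of_surjective φ.toLinearMap hφ

/-- The standard free group in the universe of the base. -/
abbrev ZPow (n : ℕ) : Type u := ULift.{u} (Multiplicative (Fin n → ℤ))

/-- A torus over a field is split by a nontrivial algebra. -/
theorem exists_torus_split {k : Type u} [Field k] {X : Type u} [CommRing X] [HopfAlgebra k X]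
    (h : SGA3b.IsTorus k X) :
    ∃ (S : Type u) (_ : CommRing S) (_ : Algebra k S) (n : ℕ),
      Nontrivial S ∧ Nonempty ((S ⊗[k] X) ≃ₐc[S] MonoidAlgebra S (ZPow.{u} n)) := by
  obtain ⟨s, hs, h⟩ := h
  obtain ⟨f, hf, hf0⟩ : ∃ f ∈ s, f ≠ 0 := by
    by_contra hne
    push Not at hne
    have : Ideal.span s = ⊥ := Ideal.span_eq_bot.2 hne
    exact bot_ne_top (this ▸ hs)
  let L := Localization.Away f
  haveI : Nontrivial L := (IsLocalization.atUnit k L f hf0.isUnit).injective.nontrivial
  obtain ⟨S, _, _, hff, n, ⟨e⟩⟩ := h f hf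
  haveI := hff
  letI : Algebra k S := Algebra.compHom S (algebraMap k L)
  haveI : IsScalarTower k L S := .of_algebraMap_eq fun _ => rfl
  exact ⟨S, inferInstance, inferInstance, n, (FaithfulSMul.algebraMap_injective L S).nontrivial,
    ⟨(bcTrans k L S X).symm.trans (e.trans
      (MonoidAlgebra.domCongrBialgEquiv S S (MulEquiv.ulift (α := Multiplicative (Fin n → ℤ))).symm))⟩⟩

/-- A split algebra has a point in some extension of any field. -/
theorem exists_field_pt {k : Type u} [Field k] (S : Type u) [CommRing S] [Algebra k S] [Nontrivial S]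
    (k' : Type u) [Field k'] [Algebra k k'] :
    ∃ (K : Type u) (_ : Field K) (_ : Algebra k K), Nonempty (S →ₐ[k] K) ∧ Nonempty (k' →ₐ[k] K) := by
  haveI : Nontrivial (k' ⊗[k] S) := Module.FaithfullyFlat.lTensor_nontrivial k k' S
  obtain ⟨w, hw⟩ := Ideal.exists_maximal (k' ⊗[k] S)
  letI : Field ((k' ⊗[k] S) ⧸ w) := Ideal.Quotient.field w
  exact ⟨_, inferInstance, inferInstance, ⟨(Ideal.Quotient.mkₐ k w).comp Algebra.TensorProduct.includeRight⟩,
    ⟨(Ideal.Quotient.mkₐ k w).comp Algebra.TensorProduct.includeLeft⟩⟩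

/-- Tori over fields are connected. -/
theorem connectedSpace_of_isTorus {k : Type u} [Field k] {X : Type u} [CommRing X] [HopfAlgebra k X]
    (h : SGA3b.IsTorus k X) : ConnectedSpace (PrimeSpectrum X) := by
  obtain ⟨S, _, _, n, hS, ⟨e⟩⟩ := exists_torus_split h
  haveI := hS
  obtain ⟨K, _, _, ⟨f⟩, -⟩ := exists_field_pt (k := k) S k
  obtain ⟨EK, -⟩ := exists_baseEquiv e f
  haveI : UniqueProds (ZPow.{u} n) := UniqueProds.of_injective_mulHom
    (MulEquiv.ulift (α := Multiplicative (Fin n → ℤ))).toMulHom (MulEquiv.ulift).injective inferInstance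
  haveI : NoZeroDivisors (MonoidAlgebra K (ZPow.{u} n)) := inferInstance
  haveI : Nontrivial X := (Bialgebra.counitAlgHom k X).toRingHom.domain_nontrivial
  have hinj : Function.Injective (fun x : X => EK ((1 : K) ⊗ₜ x)) := by
    intro a b hab
    exact Algebra.TensorProduct.includeRight_injective (algebraMap k K).injective (EK.injective hab)
  refine Groth.Agent.GRingCpl.connectedSpace_of_idem fun x hx => ?_
  have hy : IsIdempotentElem (EK ((1 : K) ⊗ₜ x)) :=
    (hx.map (Algebra.TensorProduct.includeRight : X →ₐ[k] K ⊗[k] X)).map EK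
  rcases IsIdempotentElem.iff_eq_zero_or_one.1 hy with h0 | h0
  · exact Or.inl (hinj (by simp [h0]))
  · exact Or.inr (hinj (by simp [h0, ← Algebra.TensorProduct.one_def]))

/-- Tori are of multiplicative type. -/
theorem isMultType_of_isTorus (h : SGA3b.IsTorus R A) : SGA3b.IsMultType R A := by
  obtain ⟨s, hs, h⟩ := h
  refine ⟨s, hs, fun f hf => ?_⟩
  obtain ⟨S, _, _, hff, n, ⟨e⟩⟩ := h f hf
  exact ⟨S, inferInstance, inferInstance, hff, ZPow.{u} n, inferInstance,
    ⟨e.trans (MonoidAlgebra.domCongrBialgEquiv S S (MulEquiv.ulift (α := Multiplicative (Fin n → ℤ))).symm)⟩⟩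

set_option backward.isDefEq.respectTransparency false in
/-- **Tori from their fibres.** -/
theorem isTorus_of_fibres (hfp : Algebra.FinitePresentation R A) [Module.Flat R A]
    (hs : ∀ (p : Ideal R) [p.IsPrime], SGA3b.IsTorus p.ResidueField (p.ResidueField ⊗[R] A)) :
    SGA3b.IsTorus R A := by
  classical
  obtain ⟨s, hspan, hA⟩ := isMultType_of_fibres hfp (fun p _ => isMultType_of_isTorus (hs p))
    (Or.inl fun p _ => connectedSpace_of_isTorus (hs p))
  refine ⟨s, hspan, fun f hf => ?_⟩
  obtain ⟨S, _, _, hff, M, _, ⟨e⟩⟩ := hA f hf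
  haveI := hff
  let L := Localization.Away f
  rcases subsingleton_or_nontrivial S with hS | hS
  · haveI : Subsingleton (MonoidAlgebra S M) := Module.subsingleton S _
    haveI : Subsingleton (MonoidAlgebra S (Multiplicative (Fin 0 → ℤ))) := Module.subsingleton S _
    exact ⟨S, inferInstance, inferInstance, hff, 0, ⟨e.trans (BialgEquiv.ofBijective
      (MonoidAlgebra.mapDomainBialgHom S (1 : M →* Multiplicative (Fin 0 → ℤ)))
      ⟨fun a b _ => Subsingleton.elim _ _, fun b => ⟨0, Subsingleton.elim _ _⟩⟩)⟩⟩
  obtain ⟨w, hw⟩ := Ideal.exists_maximal S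
  letI : Field (S ⧸ w) := Ideal.Quotient.field w
  let k := S ⧸ w
  letI : Algebra R S := Algebra.compHom S (algebraMap R L)
  haveI : IsScalarTower R L S := .of_algebraMap_eq fun _ => rfl
  let p := RingHom.ker (algebraMap R k)
  haveI : p.IsPrime := RingHom.ker_isPrime _
  let ι : p.ResidueField →ₐ[R] k := Ideal.ResidueField.liftₐ p (Algebra.ofId R k) le_rfl
    (fun x hx => isUnit_iff_ne_zero.2 hx)
  letI : Algebra p.ResidueField k := ι.toRingHom.toAlgebra
  haveI : IsScalarTower R p.ResidueField k := .of_algebraMap_eq fun r => (ι.commutes r).symm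
  obtain ⟨S₁, _, _, n, hS₁, ⟨e₁⟩⟩ := exists_torus_split (hs p)
  haveI := hS₁
  obtain ⟨K, _, _, ⟨f₁⟩, ⟨g₁⟩⟩ := exists_field_pt (k := p.ResidueField) S₁ k
  letI : Algebra R K := ((algebraMap p.ResidueField K).comp (algebraMap R p.ResidueField)).toAlgebra
  haveI : IsScalarTower R p.ResidueField K := .of_algebraMap_eq fun _ => rfl
  let gS : S →ₐ[R] K := (g₁.restrictScalars R).comp (Ideal.Quotient.mkₐ R w)
  obtain ⟨E₁, -⟩ := exists_baseEquiv e₁ f₁
  obtain ⟨E₂, -⟩ := exists_baseEquiv ((bcTrans R L S A).symm.trans e) gS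
  obtain ⟨μ⟩ := nonempty_mulEquiv (E₂.symm.trans ((bcTrans R p.ResidueField K A).symm.trans E₁))
  exact ⟨S, inferInstance, inferInstance, hff, n,
    ⟨e.trans (MonoidAlgebra.domCongrBialgEquiv S S (μ.trans MulEquiv.ulift))⟩⟩

end Groth.Agent.MultT
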