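import Groth.Agent.MultT.Chart
import Groth.Agent.Hensel.Idempotent
import Mathlib

/-! Group-like elements of group algebras, that is, families of orthogonal idempotents of sum one:
their functoriality and their lifting along henselian pairs. -/

set_option autoImplicit false

open TensorProduct MonoidAlgebra

universe u

noncomputable section

namespace Groth.Agent.MultT

variable {R : Type u} [CommRing R] {T T' : Type u} [CommRing T] [CommRing T'] [Algebra R T] [Algebra R T']
  {M N : Type u} [CommGroup M] [CommGroup N]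

/-- The sum of the coefficients. -/
def aug (T : Type u) [CommRing T] (M : Type u) [CommGroup M] : MonoidAlgebra T M →ₐ[T] T :=
  lift T T M 1

@[simp] theorem aug_single (m : M) (t : T) : aug T M (single m t) = t := by simp [aug]

/-- The semilinear map of group algebras given by the images of the group elements. -/
abbrev act (χ : M →* MonoidAlgebra T N) : MonoidAlgebra T M →ₐ[T] MonoidAlgebra T N :=
  lift T (MonoidAlgebra T N) M χ

/-- The diagonal. -/
abbrev diagHom (M : Type u) [CommGroup M] : M →* M × M := (MonoidHom.id M).prod (MonoidHom.id M)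

/-- Change of group. -/
abbrev dmap (T : Type u) [CommRing T] {M N : Type u} [CommGroup M] [CommGroup N] (φ : M →* N) :
    MonoidAlgebra T M →ₐ[T] MonoidAlgebra T N :=
  mapDomainAlgHom T T φ

theorem dmap_single (φ : M →* N) (m : M) (t : T) : dmap T φ (single m t) = single (φ m) t := by simp

theorem dmap_dmap {L : Type u} [CommGroup L] (φ : M →* N) (ψ : N →* L) (z : MonoidAlgebra T M) :
    dmap T ψ (dmap T φ z) = dmap T (ψ.comp φ) z := by
  induction z using MonoidAlgebra.induction_linear with
  | zero => simp
  | add x y hx hy => simp only [map_add, hx, hy]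
  | single m t => simp

theorem dmap_id (z : MonoidAlgebra T M) : dmap T (MonoidHom.id M) z = z := by
  induction z using MonoidAlgebra.induction_linear with
  | zero => simp
  | add x y hx hy => simp only [map_add, hx, hy]
  | single m t => simp

theorem dmap_one (z : MonoidAlgebra T M) : dmap T (1 : M →* N) z = algebraMap T _ (aug T M z) := by
  induction z using MonoidAlgebra.induction_linear with
  | zero => simp
  | add x y hx hy => simp only [map_add, hx, hy]
  | single m t => simp [MonoidAlgebra.coe_algebraMap]

theorem mapAlgHom_dmap (f : T →ₐ[R] T') (φ : M →* N) (z : MonoidAlgebra T M) :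
    mapAlgHom N f (dmap T φ z) = dmap T' φ (mapAlgHom M f z) := by
  induction z using MonoidAlgebra.induction_linear with
  | zero => simp
  | add x y hx hy => simp only [map_add, hx, hy]
  | single m t => simp

theorem mapAlgHom_act (f : T →ₐ[R] T') (χ : M →* MonoidAlgebra T N) (z : MonoidAlgebra T M) :
    mapAlgHom N f (act χ z) =
      act ((mapAlgHom N f).toRingHom.toMonoidHom.comp χ) (mapAlgHom M f z) := by
  induction z using MonoidAlgebra.induction_linear with
  | zero => simp
  | add x y hx hy => simp only [map_add, hx, hy]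
  | single m t =>
    rw [lift_single, mapAlgHom_single, lift_single, Algebra.smul_def, map_mul, Algebra.smul_def]
    simp [MonoidAlgebra.coe_algebraMap]
    rfl

theorem aug_mapAlgHom (f : T →ₐ[R] T') (z : MonoidAlgebra T M) :
    aug T' M (mapAlgHom M f z) = f (aug T M z) := by
  induction z using MonoidAlgebra.induction_linear with
  | zero => simp
  | add x y hx hy => simp only [map_add, hx, hy]
  | single m t => simp

theorem dmap_act {L K : Type u} [CommGroup L] [CommGroup K] (χ : M →* MonoidAlgebra T N)
    (ψ : L →* MonoidAlgebra T K) (φ : M →* L) (φ' : N →* K) (h : ∀ m, dmap T φ' (χ m) = ψ (φ m))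
    (z : MonoidAlgebra T M) : dmap T φ' (act χ z) = act ψ (dmap T φ z) := by
  induction z using MonoidAlgebra.induction_linear with
  | zero => simp
  | add x y hx hy => simp only [map_add, hx, hy]
  | single m t => rw [lift_single, map_smul, h, dmap_single, lift_single]

theorem tensorEquiv_tmul (z : MonoidAlgebra T M) (w : MonoidAlgebra T N) :
    tensorEquiv T (z ⊗ₜ w) = dmap T (MonoidHom.inl M N) z * dmap T (MonoidHom.inr M N) w := by
  induction z using MonoidAlgebra.induction_linear with
  | zero => simp
  | add x y hx hy => simp only [TensorProduct.add_tmul, map_add, add_mul, hx, hy]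
  | single m t =>
    induction w using MonoidAlgebra.induction_linear with
    | zero => simp
    | add x y hx hy => simp only [TensorProduct.tmul_add, map_add, mul_add, hx, hy]
    | single n s => simp

theorem tensorEquiv_comul (z : MonoidAlgebra T M) :
    tensorEquiv T (Coalgebra.comul (R := T) z) = dmap T (diagHom M) z := by
  induction z using MonoidAlgebra.induction_linear with
  | zero => simp
  | add x y hx hy => simp only [map_add, hx, hy]
  | single m t => simp

theorem counit_eq_aug (z : MonoidAlgebra T M) : Coalgebra.counit (R := T) z = aug T M z := by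
  induction z using MonoidAlgebra.induction_linear with
  | zero => simp
  | add x y hx hy => simp only [map_add, hx, hy]
  | single m t => simp

/-- Group-like elements. -/
def IsGL (z : MonoidAlgebra T M) : Prop :=
  dmap T (diagHom M) z = dmap T (MonoidHom.inl M M) z * dmap T (MonoidHom.inr M M) z ∧ aug T M z = 1

theorem isGL_of_isGroupLikeElem {z : MonoidAlgebra T M} (h : IsGroupLikeElem T z) : IsGL z :=
  ⟨by rw [← tensorEquiv_comul, h.comul_eq_tmul_self, tensorEquiv_tmul],
    by rw [← counit_eq_aug, h.counit_eq_one]⟩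

theorem isGL_single (m : M) : IsGL (single m (1 : T)) := ⟨by simp, by simp⟩

theorem IsGL.mul {z w : MonoidAlgebra T M} (hz : IsGL z) (hw : IsGL w) : IsGL (z * w) :=
  ⟨by rw [map_mul, hz.1, hw.1, map_mul, map_mul, mul_mul_mul_comm],
    by rw [map_mul, hz.2, hw.2, mul_one]⟩

theorem IsGL.map {z : MonoidAlgebra T M} (hz : IsGL z) (f : T →ₐ[R] T') : IsGL (mapAlgHom M f z) :=
  ⟨by rw [← mapAlgHom_dmap, hz.1, map_mul, mapAlgHom_dmap, mapAlgHom_dmap],
    by rw [aug_mapAlgHom, hz.2, map_one]⟩

/-- The images of pairs of group elements under a pair of families. -/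
abbrev prodFam {M' N' : Type u} [CommGroup M'] [CommGroup N'] (χ : M →* MonoidAlgebra T M')
    (ψ : N →* MonoidAlgebra T N') : M × N →* MonoidAlgebra T (M' × N') :=
  ((dmap T (MonoidHom.inl M' N')).toRingHom.toMonoidHom.comp χ).coprod
    ((dmap T (MonoidHom.inr M' N')).toRingHom.toMonoidHom.comp ψ)

theorem prodFam_inl {M' N' : Type u} [CommGroup M'] [CommGroup N'] (χ : M →* MonoidAlgebra T M')
    (ψ : N →* MonoidAlgebra T N') (m : M) :
    dmap T (MonoidHom.inl M' N') (χ m) = prodFam χ ψ (MonoidHom.inl M N m) := by
  simp [prodFam, ← MonoidAlgebra.one_def]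

theorem prodFam_inr {M' N' : Type u} [CommGroup M'] [CommGroup N'] (χ : M →* MonoidAlgebra T M')
    (ψ : N →* MonoidAlgebra T N') (n : N) :
    dmap T (MonoidHom.inr M' N') (ψ n) = prodFam χ ψ (MonoidHom.inr M N n) := by
  simp [prodFam, ← MonoidAlgebra.one_def]

theorem IsGL.diag {χ : M →* MonoidAlgebra T N} (hχ : ∀ m, IsGL (χ m)) (m : M) :
    dmap T (diagHom N) (χ m) = prodFam χ χ (diagHom M m) := by
  rw [(hχ m).1]
  simp [prodFam]

theorem IsGL.act {χ : M →* MonoidAlgebra T N} (hχ : ∀ m, IsGL (χ m)) {z : MonoidAlgebra T M} (hz : IsGL z) :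
    IsGL (act χ z) := by
  refine ⟨?_, ?_⟩
  · rw [dmap_act χ (prodFam χ χ) (diagHom M) (diagHom N) (IsGL.diag hχ), hz.1, map_mul,
      ← dmap_act χ (prodFam χ χ) _ _ (prodFam_inl χ χ), ← dmap_act χ (prodFam χ χ) _ _ (prodFam_inr χ χ)]
  · have h : ∀ x : MonoidAlgebra T M, aug T N (MultT.act χ x) = aug T M x := by
      intro x
      induction x using MonoidAlgebra.induction_linear with
      | zero => simp
      | add x y hx hy => simp only [map_add, hx, hy]
      | single m t => simp [(hχ m).2]
    rw [h, hz.2]

theorem coeff_tensorEquiv (z : MonoidAlgebra T M) (w : MonoidAlgebra T N) (m : M) (n : N) :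
    (dmap T (MonoidHom.inl M N) z * dmap T (MonoidHom.inr M N) w).coeff (m, n) = z.coeff m * w.coeff n := by
  rw [← tensorEquiv_tmul]
  simp

theorem coeff_diag [DecidableEq M] (z : MonoidAlgebra T M) (m n : M) :
    (dmap T (diagHom M) z).coeff (m, n) = if m = n then z.coeff m else 0 := by
  induction z using MonoidAlgebra.induction_linear with
  | zero => simp
  | add x y hx hy =>
    simp only [map_add, MonoidAlgebra.coeff_add, Finsupp.add_apply, hx, hy]
    split_ifs <;> simp
  | single k t =>
    rw [dmap_single, MonoidAlgebra.coeff_single, MonoidAlgebra.coeff_single, Finsupp.single_apply, Finsupp.single_apply]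
    by_cases hmn : m = n
    · subst hmn; simp [diagHom]
    · rw [if_neg hmn, if_neg]
      simp only [diagHom, MonoidHom.prod_apply, MonoidHom.id_apply, Prod.mk.injEq]
      exact fun h => hmn (h.1.symm.trans h.2)

theorem isGL_iff [DecidableEq M] (z : MonoidAlgebra T M) :
    IsGL z ↔ (∀ m n, z.coeff m * z.coeff n = if m = n then z.coeff m else 0) ∧ aug T M z = 1 := by
  refine and_congr_left' ⟨fun h m n => ?_, fun h => ?_⟩
  · rw [← coeff_tensorEquiv, ← h, coeff_diag]
  · ext p
    obtain ⟨m, n⟩ := p
    rw [coeff_diag, coeff_tensorEquiv, h]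

theorem IsGL.idem {z : MonoidAlgebra T M} (hz : IsGL z) (m : M) : IsIdempotentElem (z.coeff m) := by
  classical
  simpa [IsIdempotentElem] using ((isGL_iff z).1 hz).1 m m

/-- Group-like elements are determined modulo an ideal in the radical. -/
theorem IsGL.ext_mod {J : Ideal T} (hJ : J ≤ Ideal.jacobson ⊥) {z w : MonoidAlgebra T M} (hz : IsGL z)
    (hw : IsGL w)
    (h : mapAlgHom M (Ideal.Quotient.mkₐ R J) z = mapAlgHom M (Ideal.Quotient.mkₐ R J) w) : z = w := by
  ext m
  refine Hensel.eq_of_idempotent hJ (hz.idem m) (hw.idem m) (Ideal.Quotient.eq.1 ?_)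
  simpa using congrArg (fun x => x.coeff m) h

/-- Group-like elements lift along a henselian pair. -/
theorem exists_isGL_lift {I : Ideal R} [HenselianRing R I] [Algebra.IsIntegral R T]
    (z₀ : MonoidAlgebra (T ⧸ I.map (algebraMap R T)) M) (h₀ : IsGL z₀) :
    ∃ z : MonoidAlgebra T M, IsGL z ∧
      mapAlgHom M (Ideal.Quotient.mkₐ R (I.map (algebraMap R T))) z = z₀ := by
  classical
  obtain ⟨ho, h1⟩ := (isGL_iff z₀).1 h₀
  let J := I.map (algebraMap R T)
  have hJ : J ≤ Ideal.jacobson ⊥ := Hensel.map_le_jacobson (HenselianRing.jac : I ≤ _)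
  have hl : ∀ m, ∃ e : T, IsIdempotentElem e ∧ Ideal.Quotient.mk J e = z₀.coeff m ∧
      (z₀.coeff m = 0 → e = 0) := by
    intro m
    by_cases hm : z₀.coeff m = 0
    · exact ⟨0, IsIdempotentElem.zero, by rw [map_zero, hm], fun _ => rfl⟩
    · obtain ⟨e, he, hee⟩ := (Hensel.bijOn_idempotents (I := I) T).surjOn (h₀.idem m)
      exact ⟨e, he, hee, fun h => absurd h hm⟩
  choose e he hee he0 using hl
  let z : MonoidAlgebra T M := MonoidAlgebra.ofCoeff (Finsupp.ofSupportFinite e
    (z₀.coeff.support.finite_toSet.subset fun m hm => Finsupp.mem_support_iff.2 fun h => hm (he0 m h)))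
  have hz : ∀ m, z.coeff m = e m := fun m => rfl
  have hmap : mapAlgHom M (Ideal.Quotient.mkₐ R J) z = z₀ := by
    ext m
    rw [coeff_mapAlgHom, hz]
    exact hee m
  have horth : ∀ m n, e m * e n = if m = n then e m else 0 := by
    intro m n
    by_cases hmn : m = n
    · subst hmn; rw [if_pos rfl]; exact he m
    · rw [if_neg hmn]
      refine Hensel.eq_of_idempotent hJ ((he m).mul (he n)) IsIdempotentElem.zero (Ideal.Quotient.eq.1 ?_)
      rw [map_mul, hee, hee, ho, if_neg hmn, map_zero]
  refine ⟨z, (isGL_iff z).2 ⟨fun m n => by rw [hz, hz]; exact horth m n, ?_⟩, hmap⟩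
  have haug : aug T M z = ∑ m ∈ z.coeff.support, e m := by
    conv_lhs => rw [← MonoidAlgebra.sum_coeff_single z]
    simp [Finsupp.sum, hz]
  refine Hensel.eq_of_idempotent hJ ?_ IsIdempotentElem.one (Ideal.Quotient.eq.1 ?_)
  · rw [haug, IsIdempotentElem, Finset.sum_mul_sum]
    simp only [horth, Finset.sum_ite_eq]
    exact Finset.sum_congr rfl fun m hm => if_pos hm
  · rw [map_one, ← h1, ← hmap, aug_mapAlgHom]
    rfl

end Groth.Agent.MultT
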