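import Groth.Agent.MultT.Power
import Mathlib.RingTheory.Bialgebra.Quotient
import Mathlib.RingTheory.HopfAlgebra.Quotient
import Mathlib.RingTheory.Bialgebra.TensorProduct

/-!
# Quotients of diagonalisable charts; torsion kernels
-/

universe u

open TensorProduct WithConv

noncomputable section

namespace Groth.Agent.MultT

/-- An algebra map through which a bialgebra map factors over a surjective one is a bialgebra map. -/
def bialgEquivOfComp {S : Type u} [CommRing S] {Y Z Y' : Type u} [CommRing Y] [Bialgebra S Y]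
    [CommRing Z] [Bialgebra S Z] [CommRing Y'] [Bialgebra S Y']
    (f : Y →ₐc[S] Z) (hf : Function.Surjective f) (q : Y →ₐc[S] Y') (hq : Function.Surjective q)
    (g : Z →ₐ[S] Y') (g' : Y' →ₐ[S] Z)
    (hg : ∀ y, g (f y) = q y) (hg' : ∀ y, g' (q y) = f y) : Y' ≃ₐc[S] Z :=
  BialgEquiv.ofBijective
    (BialgHom.ofAlgHom g'
      (AlgHom.ext fun x => by
        obtain ⟨y, rfl⟩ := hq x
        show Coalgebra.counit (g' (q y)) = Coalgebra.counit (q y)
        rw [hg', CoalgHomClass.counit_comp_apply, CoalgHomClass.counit_comp_apply])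
      (AlgHom.ext fun x => by
        obtain ⟨y, rfl⟩ := hq x
        show Algebra.TensorProduct.map g' g' (Coalgebra.comul (R := S) (q y)) =
          Coalgebra.comul (R := S) (g' (q y))
        rw [hg', ← CoalgHomClass.map_comp_comul_apply q, ← CoalgHomClass.map_comp_comul_apply f]
        induction Coalgebra.comul (R := S) y using TensorProduct.induction_on with
        | zero => simp
        | tmul a b => simp [hg']
        | add a b ha hb => simp only [map_add, ha, hb]))
    ⟨fun a b hab => by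
      obtain ⟨y, rfl⟩ := hq a
      obtain ⟨y', rfl⟩ := hq b
      have h := congrArg g (show g' (q y) = g' (q y') from hab)
      rwa [hg', hg', hg, hg] at h,
    fun z => by
      obtain ⟨y, rfl⟩ := hf z
      exact ⟨q y, hg' y⟩⟩

variable {R : Type u} [CommRing R] {A : Type u} [CommRing A] [HopfAlgebra R A]
  {L : Type u} [CommRing L] [Algebra R L] {S : Type u} [CommRing S] [Algebra L S]
  [Algebra R S] [IsScalarTower R L S]

variable (R L S) in
/-- The base change of the quotient map. -/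
def quotChart (J : Ideal A) [J.IsHopfIdeal R] :
    (S ⊗[L] (L ⊗[R] A)) →ₐc[S] (S ⊗[L] (L ⊗[R] (A ⧸ J))) :=
  Bialgebra.TensorProduct.map (R := L) (S := S) (A := S) (C := S) (B := L ⊗[R] A) (D := L ⊗[R] (A ⧸ J))
    (BialgHom.id S S)
    (Bialgebra.TensorProduct.map (R := R) (S := L) (A := L) (C := L) (B := A) (D := A ⧸ J)
      (BialgHom.id L L) (Bialgebra.Quotient.mkBialgHom J))

theorem quotChart_tmul (J : Ideal A) [J.IsHopfIdeal R] (s : S) (l : L) (a : A) :
    quotChart R L S J (s ⊗ₜ (l ⊗ₜ a)) = s ⊗ₜ (l ⊗ₜ Ideal.Quotient.mk J a) := by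
  rw [quotChart, Bialgebra.TensorProduct.map_tmul, Bialgebra.TensorProduct.map_tmul]
  rfl

theorem quotChart_surjective (J : Ideal A) [J.IsHopfIdeal R] :
    Function.Surjective (quotChart R L S J) := fun z => by
  induction z using TensorProduct.induction_on with
  | zero => exact ⟨0, map_zero _⟩
  | add a b ha hb =>
    obtain ⟨x, rfl⟩ := ha
    obtain ⟨y, rfl⟩ := hb
    exact ⟨x + y, map_add _ x y⟩
  | tmul s w =>
    induction w using TensorProduct.induction_on with
    | zero => exact ⟨0, by rw [map_zero, TensorProduct.tmul_zero]⟩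
    | add a b ha hb =>
      obtain ⟨x, hx⟩ := ha
      obtain ⟨y, hy⟩ := hb
      exact ⟨x + y, by rw [map_add, hx, hy, TensorProduct.tmul_add]⟩
    | tmul l b =>
      obtain ⟨a, rfl⟩ := Ideal.Quotient.mk_surjective b
      exact ⟨s ⊗ₜ (l ⊗ₜ a), quotChart_tmul J s l a⟩

/-- Algebra maps out of an iterated base change agree if they agree on the original algebra. -/
theorem algHom_ext_chart {T : Type u} [Semiring T] [Algebra S T] {f g : (S ⊗[L] (L ⊗[R] A)) →ₐ[S] T}
    (h : ∀ a, f (1 ⊗ₜ (1 ⊗ₜ a)) = g (1 ⊗ₜ (1 ⊗ₜ a))) : f = g := by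
  refine AlgHom.ext fun z => ?_
  induction z using TensorProduct.induction_on with
  | zero => simp
  | add a b ha hb => simp only [map_add, ha, hb]
  | tmul s w =>
    rw [show s ⊗ₜ[L] w = s • ((1 : S) ⊗ₜ[L] w) by rw [TensorProduct.smul_tmul', smul_eq_mul, mul_one],
      map_smul, map_smul]
    congr 1
    induction w using TensorProduct.induction_on with
    | zero => simp
    | add a b ha hb => simp only [TensorProduct.tmul_add, map_add, ha, hb]
    | tmul l a =>
      rw [show l ⊗ₜ[R] a = l • ((1 : L) ⊗ₜ[R] a) by rw [TensorProduct.smul_tmul', smul_eq_mul, mul_one],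
        ← TensorProduct.smul_tmul, Algebra.smul_def, mul_one,
        show algebraMap L S l ⊗ₜ[L] ((1 : L) ⊗ₜ[R] a) = algebraMap L S l • ((1 : S) ⊗ₜ[L] ((1 : L) ⊗ₜ[R] a)) by
          rw [TensorProduct.smul_tmul', smul_eq_mul, mul_one],
        map_smul, map_smul, h]

/-- A base-changed endomorphism trivial modulo `J` sends group-like elements to one. -/
theorem quotChart_eq_one (J : Ideal A) [J.IsHopfIdeal R]
    (P : S ⊗[L] (L ⊗[R] A) →ₐ[S] S ⊗[L] (L ⊗[R] A)) (Q : A →ₐ[R] A)
    (hP : ∀ a, P (1 ⊗ₜ (1 ⊗ₜ a)) = 1 ⊗ₜ (1 ⊗ₜ Q a))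
    (hQ : ∀ a, Ideal.Quotient.mk J (Q a) = Coalgebra.counit (R := R) a • (1 : A ⧸ J))
    {y : S ⊗[L] (L ⊗[R] A)} (hy : IsGroupLikeElem S y) :
    quotChart R L S J (P y) = 1 := by
  have h := algHom_ext_chart
    (f := (quotChart R L S J : (S ⊗[L] (L ⊗[R] A)) →ₐ[S] S ⊗[L] (L ⊗[R] (A ⧸ J))).comp P)
    (g := (Algebra.ofId S (S ⊗[L] (L ⊗[R] (A ⧸ J)))).comp (Bialgebra.counitAlgHom S (S ⊗[L] (L ⊗[R] A))))
    fun a => by
      show quotChart R L S J (P _) = Algebra.ofId S (S ⊗[L] (L ⊗[R] (A ⧸ J)))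
        (Coalgebra.counit (R := S) ((1 : S) ⊗ₜ[L] ((1 : L) ⊗ₜ[R] a)))
      rw [hP, quotChart_tmul, hQ, TensorProduct.counit_tmul, TensorProduct.counit_tmul]
      simp only [CommSemiring.counit_apply, Algebra.smul_def, mul_one]
      simp [Algebra.ofId_apply, Algebra.TensorProduct.algebraMap_apply, Algebra.algebraMap_self]
      rw [Algebra.algebraMap_eq_smul_one (Coalgebra.counit (R := R) a), ← TensorProduct.smul_tmul,
        ← Algebra.algebraMap_eq_smul_one, show algebraMap R L (Coalgebra.counit (R := R) a) ⊗ₜ[R] (1 : A ⧸ J) =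
          algebraMap R L (Coalgebra.counit (R := R) a) • (1 : L ⊗[R] (A ⧸ J)) by
            rw [Algebra.TensorProduct.one_def, TensorProduct.smul_tmul', smul_eq_mul, mul_one],
        ← TensorProduct.smul_tmul, ← Algebra.algebraMap_eq_smul_one]
  refine (AlgHom.congr_fun h y).trans ?_
  show Algebra.ofId S (S ⊗[L] (L ⊗[R] (A ⧸ J))) (Coalgebra.counit (R := S) y) = 1
  rw [hy.counit_eq_one, Algebra.ofId_apply]
  exact RingHom.map_one _

/-- A quotient of a diagonalised algebra by the ideal of a subgroup of characters is diagonalisable. -/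
theorem isDiag_quotient {M : Type u} [CommGroup M] (e : (S ⊗[L] (L ⊗[R] A)) ≃ₐc[S] MonoidAlgebra S M)
    (J : Ideal A) [J.IsHopfIdeal R] (N : Subgroup M)
    (ha : ∀ m ∈ N, quotChart R L S J (e.symm (MonoidAlgebra.single m 1)) = 1)
    (hb : ∀ a ∈ J, MonoidAlgebra.mapDomainBialgHom S (QuotientGroup.mk' N)
      (e (1 ⊗ₜ (1 ⊗ₜ a))) = 0) :
    SGA3b.IsDiag S (S ⊗[L] (L ⊗[R] (A ⧸ J))) := by
  let f : (S ⊗[L] (L ⊗[R] A)) →ₐc[S] MonoidAlgebra S (M ⧸ N) :=
    (MonoidAlgebra.mapDomainBialgHom S (QuotientGroup.mk' N)).comp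
      (e : (S ⊗[L] (L ⊗[R] A)) →ₐc[S] MonoidAlgebra S M)
  have hfe : ∀ y, f y = MonoidAlgebra.mapDomainBialgHom S (QuotientGroup.mk' N) (e y) := fun _ => rfl
  have hf : Function.Surjective f := by
    intro z
    induction z using MonoidAlgebra.induction_linear with
    | zero => exact ⟨0, map_zero f⟩
    | add a b ha hb =>
      obtain ⟨x, rfl⟩ := ha
      obtain ⟨y, rfl⟩ := hb
      exact ⟨x + y, map_add f x y⟩
    | single l r =>
      obtain ⟨m, rfl⟩ := QuotientGroup.mk'_surjective N l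
      exact ⟨e.symm (MonoidAlgebra.single m r), by rw [hfe, e.apply_symm_apply]; simp⟩
  let q := quotChart R L S J
  -- the inverse, on characters
  let χ₀ : M →* (S ⊗[L] (L ⊗[R] (A ⧸ J))) :=
    { toFun := fun m => q (e.symm (MonoidAlgebra.single m 1))
      map_one' := by rw [← MonoidAlgebra.one_def, map_one, map_one]
      map_mul' := fun m m' => by
        rw [← map_mul, ← map_mul, MonoidAlgebra.single_mul_single, one_mul] }
  let χ : M ⧸ N →* (S ⊗[L] (L ⊗[R] (A ⧸ J)))ˣ :=
    QuotientGroup.lift N χ₀.toHomUnits fun m hm => Units.ext (ha m hm)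
  let g : MonoidAlgebra S (M ⧸ N) →ₐ[S] (S ⊗[L] (L ⊗[R] (A ⧸ J))) :=
    MonoidAlgebra.lift S _ (M ⧸ N) ((Units.coeHom _).comp χ)
  have hg : ∀ y, g (f y) = q y := by
    intro y
    obtain ⟨z, rfl⟩ : ∃ z, e.symm z = y := ⟨e y, e.symm_apply_apply y⟩
    rw [hfe, e.apply_symm_apply]
    induction z using MonoidAlgebra.induction_linear with
    | zero => simp
    | add a b ha hb => simp only [map_add, ha, hb]
    | single m r =>
      rw [show MonoidAlgebra.single m r = r • MonoidAlgebra.single m (1 : S) by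
        rw [MonoidAlgebra.smul_single, smul_eq_mul, mul_one], map_smul, map_smul, map_smul, map_smul]
      congr 1
      simp [g, χ, χ₀]
  let F₀ : A →ₐ[R] MonoidAlgebra S (M ⧸ N) :=
    ((f : (S ⊗[L] (L ⊗[R] A)) →ₐ[S] MonoidAlgebra S (M ⧸ N)).restrictScalars R).comp
      (((Algebra.TensorProduct.includeRight : L ⊗[R] A →ₐ[L] S ⊗[L] (L ⊗[R] A)).restrictScalars R).comp
        Algebra.TensorProduct.includeRight)
  let F₁ : A ⧸ J →ₐ[R] MonoidAlgebra S (M ⧸ N) := Ideal.Quotient.liftₐ J F₀ (fun a haJ => hb a haJ)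
  let F₂ : L ⊗[R] (A ⧸ J) →ₐ[L] MonoidAlgebra S (M ⧸ N) :=
    Algebra.TensorProduct.lift (Algebra.ofId _ _) F₁ fun _ _ => Commute.all _ _
  let g' : S ⊗[L] (L ⊗[R] (A ⧸ J)) →ₐ[S] MonoidAlgebra S (M ⧸ N) :=
    Algebra.TensorProduct.lift (Algebra.ofId _ _) F₂ fun _ _ => Commute.all _ _
  have hg' : ∀ y, g' (q y) = f y := by
    intro y
    refine AlgHom.congr_fun (algHom_ext_chart (f := g'.comp (q : (S ⊗[L] (L ⊗[R] A)) →ₐ[S] S ⊗[L] (L ⊗[R] (A ⧸ J))))
      (g := (f : (S ⊗[L] (L ⊗[R] A)) →ₐ[S] MonoidAlgebra S (M ⧸ N))) fun a => ?_) y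
    show g' (quotChart R L S J (1 ⊗ₜ (1 ⊗ₜ a))) = f _
    rw [quotChart_tmul]
    simp [g', F₂, F₁, F₀]
    rw [← MonoidAlgebra.one_def, one_mul, one_mul]
  exact ⟨M ⧸ N, inferInstance,
    ⟨bialgEquivOfComp f hf q (quotChart_surjective J) g g' hg hg'⟩⟩

/-- The torsion kernel of a group of multiplicative type is of multiplicative type. -/
theorem isMultType_torsion (hA : SGA3b.IsMultType R A) (n : ℕ) (J : Ideal A) [J.IsHopfIdeal R]
    (hJ : J = SGA3b.torsionIdeal R A n) : SGA3b.IsMultType R (A ⧸ J) := by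
  classical
  obtain ⟨s, hs, h⟩ := hA
  refine ⟨s, hs, fun f hf => ?_⟩
  obtain ⟨S, _, _, hff, M, _, ⟨e⟩⟩ := h f hf
  let L := Localization.Away f
  letI : Algebra R S := Algebra.compHom S (algebraMap R L)
  haveI : IsScalarTower R L S := .of_algebraMap_eq fun _ => rfl
  let c : Chart R A := chartOfEquiv e
  refine ⟨S, inferInstance, inferInstance, hff,
    isDiag_quotient e J (powMonoidHom n : M →* M).range ?_ ?_⟩
  · let P₁ : L ⊗[R] A →ₐ[L] L ⊗[R] A :=
      Algebra.TensorProduct.map (AlgHom.id L L) (SGA3b.powConv R A n)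
    let P : S ⊗[L] (L ⊗[R] A) →ₐ[S] S ⊗[L] (L ⊗[R] A) :=
      Algebra.TensorProduct.map (AlgHom.id S S) P₁
    have hP : ∀ a, P (1 ⊗ₜ (1 ⊗ₜ a)) = 1 ⊗ₜ (1 ⊗ₜ SGA3b.powConv R A n a) := fun a => by simp [P, P₁]
    have h1 : ∀ y, e (P y) = MonoidAlgebra.mapDomainAlgHom S S (powMonoidHom n) (e y) := by
      intro y
      refine AlgHom.congr_fun (algHom_ext_chart
        (f := (e : (S ⊗[L] (L ⊗[R] A)) →ₐ[S] MonoidAlgebra S M).comp P)
        (g := (MonoidAlgebra.mapDomainAlgHom S S (powMonoidHom n)).comp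
          (e : (S ⊗[L] (L ⊗[R] A)) →ₐ[S] MonoidAlgebra S M)) fun a => ?_) y
      show e (P _) = _
      rw [hP]
      exact AlgHom.congr_fun (c.j_powConv n) a
    have hQ : ∀ a, Ideal.Quotient.mk J (SGA3b.powConv R A n a) =
        Coalgebra.counit (R := R) a • (1 : A ⧸ J) := by
      intro a
      have hmem : SGA3b.powConv R A n (a - algebraMap R A (Coalgebra.counit (R := R) a)) ∈ J :=
        hJ ▸ Ideal.mem_map_of_mem _ (by simp [RingHom.mem_ker])
      rw [← Ideal.Quotient.eq_zero_iff_mem, map_sub, map_sub, sub_eq_zero, AlgHom.commutes] at hmem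
      rw [hmem, Algebra.smul_def, mul_one]
      rfl
    rintro _ ⟨l, rfl⟩
    have h3 : e.symm (MonoidAlgebra.single (powMonoidHom n l) (1 : S)) =
        P (e.symm (MonoidAlgebra.single l 1)) := by
      apply (EquivLike.injective e)
      rw [e.apply_symm_apply, h1, e.apply_symm_apply]
      simp
    rw [h3]
    exact quotChart_eq_one J P _ hP hQ ((MonoidAlgebra.isGroupLikeElem_single_one l).map e.symm)
  · subst hJ
    intro a ha
    let F : A →ₐ[R] MonoidAlgebra S (M ⧸ (powMonoidHom n : M →* M).range) :=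
      ((MonoidAlgebra.mapDomainAlgHom S S (QuotientGroup.mk' _)).restrictScalars R).comp c.j
    suffices hker : SGA3b.torsionIdeal R A n ≤ RingHom.ker F from hker ha
    rw [SGA3b.torsionIdeal, Ideal.map_le_iff_le_comap]
    intro x hx
    rw [RingHom.mem_ker, Bialgebra.counitAlgHom_apply] at hx
    show F (SGA3b.powConv R A n x) = 0
    have hj := AlgHom.congr_fun (c.j_powConv n) x
    show MonoidAlgebra.mapDomainAlgHom S S (QuotientGroup.mk' _) (c.j (SGA3b.powConv R A n x)) = 0
    rw [AlgHom.comp_apply, AlgHom.comp_apply] at hj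
    rw [hj]
    have key : ∀ z : MonoidAlgebra S M,
        MonoidAlgebra.mapDomainAlgHom S S (QuotientGroup.mk' (powMonoidHom n : M →* M).range)
          (MonoidAlgebra.mapDomainAlgHom S S (powMonoidHom n : M →* M) z) =
        MonoidAlgebra.mapDomainAlgHom S S (QuotientGroup.mk' (powMonoidHom n : M →* M).range)
          (MonoidAlgebra.mapDomainAlgHom S S (1 : M →* M) z) := by
      intro z
      induction z using MonoidAlgebra.induction_linear with
      | zero => simp
      | add a b ha hb => rw [map_add, map_add, map_add, map_add, ha, hb]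
      | single l r =>
        simp
        congr 1
        rw [← QuotientGroup.mk_pow, QuotientGroup.eq_one_iff]
        exact ⟨l, rfl⟩
    have h1 : c.mapD 1 (c.j x) = 0 := by
      have := congr($(c.mapD_one_comp).ofConv x)
      simpa only [ofConv_toConv, AlgHom.comp_apply, AlgHom.convOne_apply, hx, map_zero] using! this
    exact (key (c.j x)).trans ((congrArg _ h1).trans (map_zero _))

/-- The torsion kernel is killed by `n`. -/
theorem torsionIdeal_quotient (n : ℕ) (J : Ideal A) [J.IsHopfIdeal R]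
    (hJ : J = SGA3b.torsionIdeal R A n) : SGA3b.torsionIdeal R (A ⧸ J) n = ⊥ := by
  rw [torsionIdeal_eq_bot_iff]
  intro b
  obtain ⟨a, rfl⟩ := Ideal.Quotient.mk_surjective b
  let q := Bialgebra.Quotient.mkBialgHom (R := R) J
  have h1 : (q : A →ₐ[R] A ⧸ J).comp (SGA3b.powConv R A n) =
      (SGA3b.powConv R (A ⧸ J) n).comp (q : A →ₐ[R] A ⧸ J) := by
    apply (WithConv.toConv_injective)
    unfold SGA3b.powConv
    clear hJ
    induction n with
    | zero =>
      refine WithConv.ext (AlgHom.ext fun x => ?_)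
      simp [AlgHom.convOne_apply, CoalgHomClass.counit_comp_apply]
      exact AlgHomClass.commutes q _
    | succ n ih =>
      rw [pow_succ, pow_succ, AlgHom.comp_convMul_distrib, toConv_ofConv, ih, AlgHom.convMul_comp_bialgHom_distrib]
      rfl
  have hmem : SGA3b.powConv R A n (a - algebraMap R A (Coalgebra.counit (R := R) a)) ∈ J :=
    hJ ▸ Ideal.mem_map_of_mem _ (by simp [RingHom.mem_ker])
  rw [← Ideal.Quotient.eq_zero_iff_mem, map_sub, map_sub, sub_eq_zero, AlgHom.commutes] at hmem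
  show SGA3b.powConv R (A ⧸ J) n (q a) = _
  have := AlgHom.congr_fun h1 a
  rw [AlgHom.comp_apply, AlgHom.comp_apply] at this
  refine this.symm.trans (hmem.trans ?_)
  show algebraMap R (A ⧸ J) (Coalgebra.counit (R := R) a) = algebraMap R _ (Coalgebra.counit (R := R) (q a))
  rw [CoalgHomClass.counit_comp_apply]

end Groth.Agent.MultT
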