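import Groth.Agent.MultT.Quasi
import Mathlib

/-! Group-like elements of a group of multiplicative type lift uniquely along a nil ideal. -/

set_option autoImplicit false

open TensorProduct

universe u

namespace Groth.Agent.MultT

variable {R : Type u} [CommRing R] (I : Ideal R)

/-- Vanishing after reduction modulo `I`. -/
def Red {V : Type u} [AddCommGroup V] [Module R V] (x : V) : Prop :=
  (1 : R ⧸ I) ⊗ₜ[R] x = (0 : (R ⧸ I) ⊗[R] V)

variable {I}

namespace Red

variable {V W : Type u} [AddCommGroup V] [Module R V] [AddCommGroup W] [Module R W]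

protected theorem map {x : V} (h : Red I x) (f : V →ₗ[R] W) : Red I (f x) := by
  have := congrArg (f.lTensor (R ⧸ I)) h
  simpa [Red] using this

protected theorem zero : Red I (0 : V) := TensorProduct.tmul_zero _ _

protected theorem add {x y : V} (hx : Red I x) (hy : Red I y) : Red I (x + y) := by
  rw [Red, TensorProduct.tmul_add, hx, hy, add_zero]

protected theorem sub {x y : V} (hx : Red I x) (hy : Red I y) : Red I (x - y) := by
  rw [Red, TensorProduct.tmul_sub, hx, hy, sub_zero]

protected theorem sum {κ : Type*} (s : Finset κ) {x : κ → V} (h : ∀ i ∈ s, Red I (x i)) :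
    Red I (∑ i ∈ s, x i) :=
  Finset.sum_induction _ _ (fun _ _ => Red.add) Red.zero h

theorem iff_mem {T : Type u} [CommRing T] [Algebra R T] {t : T} :
    Red I t ↔ t ∈ I.map (algebraMap R T) := by
  rw [Red, ← (TensorProduct.quotTensorEquivQuotSMul T I).map_eq_zero_iff,
    TensorProduct.quotTensorEquivQuotSMul_mk_one_tmul, Submodule.Quotient.mk_eq_zero, Ideal.smul_top_eq_map,
    Submodule.restrictScalars_mem]

theorem isNilpotent (hI : ∀ x ∈ I, IsNilpotent x) {T : Type u} [CommRing T] [Algebra R T] {t : T}
    (h : Red I t) : IsNilpotent t :=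
  mem_nilradical.1 ((Ideal.map_le_iff_le_comap.2 fun x hx => mem_nilradical.2 ((hI x hx).map _) :
    I.map (algebraMap R T) ≤ nilradical T) (iff_mem.1 h))

end Red

variable (I) in
/-- Bijectivity after reduction modulo `I`. -/
def RedBij {V W : Type u} [AddCommGroup V] [Module R V] [AddCommGroup W] [Module R W] (u : V →ₗ[R] W) : Prop :=
  Function.Bijective (u.lTensor (R ⧸ I))

namespace RedBij

variable {V W : Type u} [AddCommGroup V] [Module R V] [AddCommGroup W] [Module R W] {u : V →ₗ[R] W}

theorem red_of_map (h : RedBij I u) {x : V} (hx : Red I (u x)) : Red I x :=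
  h.1 (by simpa [Red] using hx)

theorem exists_red (h : RedBij I u) (w : W) : ∃ v, Red I (u v - w) := by
  obtain ⟨y, hy⟩ := h.2 ((1 : R ⧸ I) ⊗ₜ[R] w)
  obtain ⟨v, rfl⟩ := TensorProduct.mk_surjective R V (R ⧸ I) Ideal.Quotient.mk_surjective y
  exact ⟨v, by simpa [Red, TensorProduct.tmul_sub, sub_eq_zero] using hy⟩

protected theorem comp {X : Type u} [AddCommGroup X] [Module R X] {v : W →ₗ[R] X} (hv : RedBij I v)
    (hu : RedBij I u) : RedBij I (v.comp u) := by
  rw [RedBij, LinearMap.lTensor_comp, LinearMap.coe_comp]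
  exact Function.Bijective.comp hv hu

protected theorem lTensor (h : RedBij I u) (X : Type u) [AddCommGroup X] [Module R X] :
    RedBij I (u.lTensor X) := by
  have he : (u.lTensor X).lTensor (R ⧸ I) =
      (TensorProduct.leftComm R (R ⧸ I) X W).symm.toLinearMap ∘ₗ (u.lTensor (R ⧸ I)).lTensor X ∘ₗ
        (TensorProduct.leftComm R (R ⧸ I) X V).toLinearMap :=
    TensorProduct.ext' fun q y => by
      induction y using TensorProduct.induction_on with
      | zero => simp
      | add a b ha hb => simp only [TensorProduct.tmul_add, map_add, ha, hb]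
      | tmul a b => simp
  rw [RedBij, he]
  exact ((TensorProduct.leftComm R (R ⧸ I) X W).symm.bijective.comp
    (((LinearEquiv.ofBijective _ h).lTensor X).bijective)).comp (TensorProduct.leftComm R (R ⧸ I) X V).bijective

protected theorem conj {V' W' : Type u} [AddCommGroup V'] [Module R V'] [AddCommGroup W'] [Module R W']
    (h : RedBij I u) (a : V' ≃ₗ[R] V) (b : W ≃ₗ[R] W') : RedBij I (b.toLinearMap ∘ₗ u ∘ₗ a.toLinearMap) :=
  RedBij.comp (b.lTensor _).bijective (RedBij.comp h (a.lTensor _).bijective)

protected theorem map_self (h : RedBij I u) : RedBij I (TensorProduct.map u u) := by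
  have h1 : RedBij I (u.rTensor V) := by
    rw [show u.rTensor V = (TensorProduct.comm R V W).toLinearMap ∘ₗ u.lTensor V ∘ₗ
      (TensorProduct.comm R V V).toLinearMap from TensorProduct.ext' fun a b => by simp]
    exact (h.lTensor V).conj _ _
  rw [← LinearMap.lTensor_comp_rTensor]
  exact (h.lTensor W).comp h1

end RedBij

section coeff

variable {T : Type u} [CommRing T] {M : Type u} [CommGroup M] [DecidableEq M]

theorem coeff_comul (w : MonoidAlgebra T M) (l n : M) :
    ((MonoidAlgebra.basis M T).tensorProduct (MonoidAlgebra.basis M T)).repr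
      (Coalgebra.comul (R := T) w) (l, n) = if l = n then w.coeff l else 0 := by
  induction w using MonoidAlgebra.induction_linear with
  | zero => simp
  | add x y hx hy => simp only [map_add, Finsupp.add_apply, hx, hy, MonoidAlgebra.coeff_add]; split_ifs <;> simp
  | single k a =>
    rw [show MonoidAlgebra.single k a = a • MonoidAlgebra.single k (1 : T) by
      rw [MonoidAlgebra.smul_single, smul_eq_mul, mul_one], map_smul,
      (MonoidAlgebra.isGroupLikeElem_single_one k).comul_eq_tmul_self, map_smul, Finsupp.smul_apply]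
    simp [MonoidAlgebra.basis, Finsupp.single_apply]
    split_ifs <;> aesop

theorem coeff_tmul (w w' : MonoidAlgebra T M) (l n : M) :
    ((MonoidAlgebra.basis M T).tensorProduct (MonoidAlgebra.basis M T)).repr (w ⊗ₜ[T] w') (l, n) =
      w.coeff l * w'.coeff n := by
  rw [Module.Basis.tensorProduct_repr_tmul_apply, smul_eq_mul, mul_comm]
  rfl

/-- The coefficients of a group-like element are idempotent. -/
theorem isIdempotentElem_coeff {w : MonoidAlgebra T M} (hw : IsGroupLikeElem T w) (l : M) :
    IsIdempotentElem (w.coeff l) := by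
  have h := coeff_comul w l l
  rw [hw.comul_eq_tmul_self, coeff_tmul, if_pos rfl] at h
  exact h

/-- A complete orthogonal family of idempotents gives a group-like element. -/
theorem isGroupLikeElem_sum {s : Finset M} {e : s → T} (he : CompleteOrthogonalIdempotents e) :
    IsGroupLikeElem T (∑ l : s, MonoidAlgebra.single (l : M) (e l)) := by
  refine ⟨?_, ?_⟩
  · rw [map_sum]
    simpa using he.complete
  · rw [map_sum, TensorProduct.sum_tmul]
    refine Finset.sum_congr rfl fun l _ => ?_
    rw [TensorProduct.tmul_sum, Finset.sum_eq_single l]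
    · rw [show MonoidAlgebra.single (l : M) (e l) = e l • MonoidAlgebra.single (l : M) (1 : T) by
        rw [MonoidAlgebra.smul_single, smul_eq_mul, mul_one], map_smul,
        (MonoidAlgebra.isGroupLikeElem_single_one _).comul_eq_tmul_self, TensorProduct.smul_tmul',
        TensorProduct.tmul_smul, TensorProduct.smul_tmul', smul_smul, (he.idem l).eq]
    · intro k _ hk
      rw [show MonoidAlgebra.single (l : M) (e l) = e l • MonoidAlgebra.single (l : M) (1 : T) by
          rw [MonoidAlgebra.smul_single, smul_eq_mul, mul_one],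
        show MonoidAlgebra.single (k : M) (e k) = e k • MonoidAlgebra.single (k : M) (1 : T) by
          rw [MonoidAlgebra.smul_single, smul_eq_mul, mul_one],
        TensorProduct.tmul_smul, TensorProduct.smul_tmul', smul_smul, he.ortho hk, zero_smul,
        TensorProduct.zero_tmul]
    · exact fun h => absurd (Finset.mem_univ l) h

end coeff

variable {A : Type u} [CommRing A] [HopfAlgebra R A]

theorem isGroupLikeElem_chStage {E E' : Type u} [CommRing E] [CommRing E'] [Algebra R E] [Algebra R E']
    (f : E →ₐ[R] E') {x : E ⊗[R] A} (hx : IsGroupLikeElem E x) : IsGroupLikeElem E' (chStage f A x) := by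
  rw [isGroupLikeElem_iff_defect] at hx ⊢
  rw [← counit_chStage, hx.1, map_one, ← glDefect_chStage, hx.2, map_zero]
  exact ⟨rfl, rfl⟩

theorem comul_sub_tmul {E : Type u} [CommRing E] [Algebra R E] (z : E ⊗[R] A) :
    Coalgebra.comul (R := E) z - z ⊗ₜ[E] z =
      TensorProduct.AlgebraTensorModule.distribBaseChange R E A A (glDefect E z) := by
  rw [glDefect, map_sub, LinearEquiv.apply_symm_apply, ← comul_eq_distrib]

theorem red_glDefect_congr {E : Type u} [CommRing E] [Algebra R E] {x y : E ⊗[R] A} (h : Red I (x - y)) :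
    Red I (glDefect E x - glDefect E y) := by
  let D := ((TensorProduct.AlgebraTensorModule.distribBaseChange R E A A).symm.toLinearMap).restrictScalars R
  have e : glDefect E x - glDefect E y =
      ((Coalgebra.comul (R := R)).baseChange E).restrictScalars R (x - y) -
        D (((TensorProduct.mk E (E ⊗[R] A) (E ⊗[R] A)).flip x).restrictScalars R (x - y) +
          ((TensorProduct.mk E (E ⊗[R] A) (E ⊗[R] A)) y).restrictScalars R (x - y)) := by
    simp only [D, glDefect, LinearMap.restrictScalars_apply, LinearMap.flip_apply, TensorProduct.mk_apply,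
      map_sub, map_add, TensorProduct.sub_tmul, TensorProduct.tmul_sub, LinearEquiv.coe_coe]
    abel
  rw [e]
  exact (h.map _).sub (((h.map _).add (h.map _)).map _)

variable (hI : ∀ x ∈ I, IsNilpotent x)
include hI

/-- Uniqueness of lifts of group-like elements: the split case. -/
theorem eq_of_red_diag {T : Type u} [CommRing T] [Algebra R T] {M : Type u} [CommGroup M]
    (e : T ⊗[R] A ≃ₐc[T] MonoidAlgebra T M) {x y : T ⊗[R] A} (hx : IsGroupLikeElem T x)
    (hy : IsGroupLikeElem T y) (h : Red I (x - y)) : x = y := by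
  classical
  apply EquivLike.injective e
  refine MonoidAlgebra.coeff_injective (Finsupp.ext fun l => ?_)
  refine eq_of_isNilpotent_sub_of_isIdempotentElem (isIdempotentElem_coeff (hx.map e) l)
    (isIdempotentElem_coeff (hy.map e) l) ?_
  have := Red.isNilpotent hI (h.map (((cfM T l).comp (BialgEquiv.toAlgEquiv e).toLinearMap).restrictScalars R))
  simpa [cfM] using this

/-- Existence of lifts of group-like elements: the split case. -/
theorem exists_groupLike_red_diag {T : Type u} [CommRing T] [Algebra R T] {M : Type u} [CommGroup M]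
    (e : T ⊗[R] A ≃ₐc[T] MonoidAlgebra T M) {z : T ⊗[R] A}
    (hc : Red I (Coalgebra.counit (R := T) z - 1)) (hd : Red I (glDefect T z)) :
    ∃ x, IsGroupLikeElem T x ∧ Red I (x - z) := by
  classical
  let w := e z
  let eL : T ⊗[R] A →ₗ[T] MonoidAlgebra T M := (BialgEquiv.toAlgEquiv e).toLinearMap
  let bT := (MonoidAlgebra.basis M T).tensorProduct (MonoidAlgebra.basis M T)
  let s := w.coeff.support
  let f := Ideal.Quotient.mk (I.map (algebraMap R T))
  have hlm : ∀ l n, f (w.coeff l * w.coeff n) = f (if l = n then w.coeff l else 0) := by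
    intro l n
    rw [← sub_eq_zero, ← map_sub, Ideal.Quotient.eq_zero_iff_mem, ← Ideal.neg_mem_iff, neg_sub, ← Red.iff_mem]
    have h := hd.map ((Finsupp.lapply (l, n) ∘ₗ bT.repr.toLinearMap ∘ₗ TensorProduct.map eL eL ∘ₗ
      (TensorProduct.AlgebraTensorModule.distribBaseChange R T A A).toLinearMap).restrictScalars R)
    rw [← coeff_comul w l n, ← coeff_tmul w w l n, ← Finsupp.sub_apply, ← map_sub,
      show Coalgebra.comul (R := T) w - w ⊗ₜ[T] w =
        TensorProduct.map eL eL (Coalgebra.comul (R := T) z - z ⊗ₜ[T] z) by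
        rw [map_sub, TensorProduct.map_tmul]
        congr 1
        exact (CoalgHomClass.map_comp_comul_apply e z).symm, comul_sub_tmul]
    exact h
  have hsum : f (∑ l ∈ s, w.coeff l) = 1 := by
    rw [← map_one f, ← sub_eq_zero, ← map_sub, Ideal.Quotient.eq_zero_iff_mem, ← Red.iff_mem]
    rwa [show ∑ l ∈ s, w.coeff l = Coalgebra.counit (R := T) z by
      rw [← CoalgHomClass.counit_comp_apply e z]
      conv_rhs => rw [show e z = w from rfl, ← MonoidAlgebra.sum_coeff_single w, Finsupp.sum, map_sum]
      simp [s]]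
  have hco : CompleteOrthogonalIdempotents (fun l : s => f (w.coeff l)) :=
    { idem := fun l => by
        show f _ * f _ = f _
        rw [← map_mul, hlm, if_pos rfl]
      ortho := fun i j hij => by
        show f _ * f _ = 0
        rw [← map_mul, hlm, if_neg (fun h => hij (Subtype.ext h)), map_zero]
      complete := by rw [← map_sum, Finset.sum_coe_sort s (fun l => w.coeff l), hsum] }
  obtain ⟨e', he', hfe⟩ := CompleteOrthogonalIdempotents.lift_of_isNilpotent_ker f
    (fun x hx => Red.isNilpotent hI (Red.iff_mem.2 (by rwa [RingHom.mem_ker, Ideal.Quotient.eq_zero_iff_mem] at hx)))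
    hco fun l => ⟨_, rfl⟩
  refine ⟨e.symm (∑ l : s, MonoidAlgebra.single (l : M) (e' l)), (isGroupLikeElem_sum he').map e.symm, ?_⟩
  have hz : z = e.symm (∑ l : s, MonoidAlgebra.single (l : M) (w.coeff l)) := by
    rw [Finset.sum_coe_sort s (fun l => MonoidAlgebra.single l (w.coeff l))]
    conv_lhs => rw [← BialgEquiv.symm_apply_apply e z]
    congr 1
    exact (MonoidAlgebra.sum_coeff_single w).symm
  rw [hz, ← map_sub, ← Finset.sum_sub_distrib, map_sum]
  refine Red.sum _ fun l _ => ?_
  rw [← MonoidAlgebra.single_sub]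
  exact (Red.iff_mem.2 (Ideal.Quotient.eq.1 (congrFun hfe l))).map
    (((BialgEquiv.toAlgEquiv e).symm.toLinearMap ∘ₗ MonoidAlgebra.lsingle (l : M)).restrictScalars R)

omit hI

/-- A covering family of charts detects zero. -/
theorem eq_zero_of_cover {ι : Type u} (c : ι → Chart R A) (hc : ∀ i, Module.Flat R (c i).S)
    (hcov : ∀ p : Ideal R, p.IsPrime → ∃ i, ∃ q : Ideal (c i).S, q.IsPrime ∧ q.comap (algebraMap R (c i).S) = p)
    {V : Type u} [AddCommGroup V] [Module R V] (z : V) (h : ∀ i, (1 : (c i).S) ⊗ₜ[R] z = 0) : z = 0 := by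
  by_contra hne
  let φ : R →ₗ[R] V := LinearMap.toSpanSingleton R V z
  obtain ⟨m, hm, hle⟩ := Ideal.exists_le_maximal (LinearMap.ker φ)
    (fun ht => hne (by
      have : (1 : R) ∈ LinearMap.ker φ := ht ▸ Submodule.mem_top
      simpa [φ] using this))
  obtain ⟨i, q, hq, hqp⟩ := hcov m hm.isPrime
  haveI := hc i
  have hex := Module.Flat.lTensor_exact (c i).S (LinearMap.exact_subtype_ker_map φ)
  obtain ⟨w, hw⟩ := (hex ((1 : (c i).S) ⊗ₜ[R] (1 : R))).mp (by simpa [φ] using h i)
  have hmem : ∀ u : (c i).S ⊗[R] LinearMap.ker φ,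
      TensorProduct.rid R (c i).S ((LinearMap.ker φ).subtype.lTensor (c i).S u) ∈ q := by
    intro u
    induction u using TensorProduct.induction_on with
    | zero => simp
    | tmul s r =>
      simp only [LinearMap.lTensor_tmul, TensorProduct.rid_tmul, Submodule.subtype_apply, Algebra.smul_def]
      exact Ideal.mul_mem_right _ _ (Ideal.mem_comap.1 (hqp ▸ hle r.2))
    | add x y hx hy => simp only [map_add]; exact add_mem hx hy
  exact hq.ne_top ((Ideal.eq_top_iff_one q).2 (by simpa [hw] using hmem w))

omit [HopfAlgebra R A] in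
theorem eq_zero_of_proj {ι : Type u} [Finite ι] {S : ι → Type u} [∀ i, CommRing (S i)] [∀ i, Algebra R (S i)]
    {V : Type u} [AddCommGroup V] [Module R V] (z : (∀ i, S i) ⊗[R] V)
    (h : ∀ i, (Pi.evalAlgHom R S i).toLinearMap.rTensor V z = 0) : z = 0 := by
  classical
  haveI := Fintype.ofFinite ι
  have hid : (LinearMap.id : (∀ i, S i) →ₗ[R] ∀ i, S i) =
      ∑ i, (LinearMap.single R S i) ∘ₗ (Pi.evalAlgHom R S i).toLinearMap :=
    LinearMap.ext fun a => by
      simp only [LinearMap.sum_apply, LinearMap.comp_apply]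
      exact (Finset.univ_sum_single a).symm
  rw [← LinearMap.rTensor_id_apply V _ z, hid, ← LinearMap.coe_rTensorHom, map_sum, LinearMap.sum_apply]
  exact Finset.sum_eq_zero fun i _ => by
    rw [LinearMap.coe_rTensorHom, LinearMap.rTensor_comp, LinearMap.comp_apply, h i, map_zero]

include hI

/-- Uniqueness of lifts of group-like elements. -/
theorem eq_of_red (hA : SGA3b.IsMultType R A) {E : Type u} [CommRing E] [Algebra R E] {x y : E ⊗[R] A}
    (hx : IsGroupLikeElem E x) (hy : IsGroupLikeElem E y) (h : Red I (x - y)) : x = y := by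
  obtain ⟨ι, _, c, hc, hcov⟩ := exists_finite_charts hA
  refine sub_eq_zero.1 (eq_zero_of_cover c hc hcov _ fun i => ?_)
  letI : Algebra (c i).S (E ⊗[R] (c i).S) := Algebra.TensorProduct.rightAlgebra
  obtain ⟨e⟩ := (c i).exists_bialgEquiv (E ⊗[R] (c i).S)
  let f : E →ₐ[R] E ⊗[R] (c i).S := Algebra.TensorProduct.includeLeft
  have h1 : chStage f A x = chStage f A y := eq_of_red_diag hI e (isGroupLikeElem_chStage f hx)
    (isGroupLikeElem_chStage f hy) (by rw [← map_sub]; exact h.map (chStage f A).toLinearMap)
  let Φ : (E ⊗[R] (c i).S) ⊗[R] A ≃ₗ[R] (c i).S ⊗[R] (E ⊗[R] A) :=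
    (TensorProduct.comm R E (c i).S).rTensor A ≪≫ₗ TensorProduct.assoc R _ _ _
  have h2 : ∀ z, Φ (chStage f A z) = (1 : (c i).S) ⊗ₜ[R] z := fun z => by
    induction z using TensorProduct.induction_on with
    | zero => simp
    | add u v hu hv => simp only [map_add, hu, hv, TensorProduct.tmul_add]
    | tmul a b => simp [Φ, f]
  rw [← h2, map_sub, h1, sub_self, map_zero]

/-- Uniqueness of lifts of group-like elements, over the base. -/
theorem eq_of_red_self (hA : SGA3b.IsMultType R A) {x y : A}
    (hx : IsGroupLikeElem R x) (hy : IsGroupLikeElem R y) (h : Red I (x - y)) : x = y := by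
  let l := (Bialgebra.TensorProduct.lid R A).symm
  exact EquivLike.injective l (eq_of_red hI hA (hx.map l) (hy.map l)
    (by rw [← map_sub]; exact h.map (BialgEquiv.toAlgEquiv l).toLinearMap))

/-- Existence of lifts of group-like elements. -/
theorem exists_groupLike_lift (hA : SGA3b.IsMultType R A) {z : A}
    (hz : IsGroupLikeElem (R ⧸ I) ((1 : R ⧸ I) ⊗ₜ[R] z)) :
    ∃ g, IsGroupLikeElem R g ∧ (1 : R ⧸ I) ⊗ₜ[R] g = (1 : R ⧸ I) ⊗ₜ[R] z := by
  classical
  haveI := flat hA
  have hc1 : Red I (Coalgebra.counit (R := R) z - 1) := by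
    rw [Red.iff_mem, Algebra.algebraMap_self, Ideal.map_id, ← Ideal.Quotient.eq_zero_iff_mem, map_sub, map_one,
      sub_eq_zero]
    have := hz.counit_eq_one
    simpa [Algebra.smul_def] using this
  have hdef : ∀ (T : Type u) [CommRing T] [Algebra R T] (a : A),
      glDefect T ((1 : T) ⊗ₜ[R] a) = (1 : T) ⊗ₜ[R] (Coalgebra.comul (R := R) a - a ⊗ₜ[R] a) := by
    intro T _ _ a
    rw [glDefect, LinearMap.baseChange_tmul, distrib_symm_tmul, one_mul, TensorProduct.tmul_sub]
  have hd1 : Red I (Coalgebra.comul (R := R) z - z ⊗ₜ[R] z) := by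
    rw [Red, ← hdef]; exact ((isGroupLikeElem_iff_defect _).1 hz).2
  have hcT : ∀ (T : Type u) [CommRing T] [Algebra R T],
      Red I (Coalgebra.counit (R := T) ((1 : T) ⊗ₜ[R] z) - 1) := by
    intro T _ _
    rw [show Coalgebra.counit (R := T) ((1 : T) ⊗ₜ[R] z) - 1 =
      Algebra.linearMap R T (Coalgebra.counit (R := R) z - 1) by simp [Algebra.smul_def]]
    exact hc1.map _
  have hdT : ∀ (T : Type u) [CommRing T] [Algebra R T], Red I (glDefect T ((1 : T) ⊗ₜ[R] z)) := by
    intro T _ _
    rw [hdef]
    exact hd1.map (TensorProduct.mk R T _ 1)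
  obtain ⟨ι, _, c, hflat, hcov⟩ := exists_finite_charts hA
  haveI := Fintype.ofFinite ι
  have hloc : ∀ i, ∃ x, IsGroupLikeElem (c i).S x ∧ Red I (x - (1 : (c i).S) ⊗ₜ[R] z) := fun i => by
    obtain ⟨e⟩ := (c i).exists_bialgEquiv (c i).S
    exact exists_groupLike_red_diag hI e (hcT _) (hdT _)
  choose x hxg hxr using hloc
  let S := ∀ i, (c i).S
  let π := fun i => Pi.evalAlgHom R (fun i => (c i).S) i
  let σ := fun i => LinearMap.single R (fun i => (c i).S) i
  let X : S ⊗[R] A := ∑ i, (σ i).rTensor A (x i)
  have hX : ∀ i, (π i).toLinearMap.rTensor A X = x i := fun i => by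
    rw [map_sum, Finset.sum_eq_single i]
    · rw [← LinearMap.rTensor_comp_apply, show (π i).toLinearMap ∘ₗ σ i = LinearMap.id from
        LinearMap.ext fun a => by simp [π, σ], LinearMap.rTensor_id_apply]
    · intro j _ hj
      rw [← LinearMap.rTensor_comp_apply, show (π i).toLinearMap ∘ₗ σ j = 0 from
        LinearMap.ext fun a => by simp [π, σ, hj.symm], LinearMap.rTensor_zero, LinearMap.zero_apply]
    · simp
  have hXg : IsGroupLikeElem S X := by
    refine (isGroupLikeElem_iff_defect _).2 ⟨funext fun i => ?_, eq_zero_of_proj _ fun i => ?_⟩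
    · show π i (Coalgebra.counit (R := S) X) = 1
      rw [counit_chStage, map_eq_rTensor, hX, (hxg i).counit_eq_one]
    · show (π i).toLinearMap.rTensor (A ⊗[R] A) _ = 0
      rw [glDefect_chStage, map_eq_rTensor, hX]
      exact ((isGroupLikeElem_iff_defect _).1 (hxg i)).2
  have hXr : Red I (X - (1 : S) ⊗ₜ[R] z) := by
    rw [show (1 : S) ⊗ₜ[R] z = ∑ i, (σ i).rTensor A ((1 : (c i).S) ⊗ₜ[R] z) by
      simp only [LinearMap.rTensor_tmul]
      rw [← TensorProduct.sum_tmul]
      congr 1
      exact (Finset.univ_sum_single _).symm, ← Finset.sum_sub_distrib]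
    exact Red.sum _ fun i _ => by rw [← map_sub]; exact (hxr i).map _
  haveI : ∀ i, Module.Flat R (c i).S := hflat
  haveI : Module.Flat R S :=
    Module.Flat.of_linearEquiv (DFinsupp.linearEquivFunOnFintype (R := R) (M := fun i => (c i).S)).symm
  haveI : Module.FaithfullyFlat R S := Module.FaithfullyFlat.of_comap_surjective fun p => by
    obtain ⟨i, q, hq, hqp⟩ := hcov p.asIdeal p.isPrime
    refine ⟨PrimeSpectrum.comap (π i).toRingHom ⟨q, hq⟩, PrimeSpectrum.ext ?_⟩
    show (q.comap (π i).toRingHom).comap (algebraMap R S) = p.asIdeal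
    rw [Ideal.comap_comap, ← hqp]
    congr 1
  let p₁ : S →ₐ[R] S ⊗[R] S := Algebra.TensorProduct.includeLeft
  let p₂ : S →ₐ[R] S ⊗[R] S := Algebra.TensorProduct.includeRight
  have h12 : chStage p₁ A X = chStage p₂ A X := by
    refine eq_of_red hI hA (isGroupLikeElem_chStage p₁ hXg) (isGroupLikeElem_chStage p₂ hXg) ?_
    rw [show chStage p₁ A X - chStage p₂ A X =
      chStage p₁ A (X - (1 : S) ⊗ₜ[R] z) - chStage p₂ A (X - (1 : S) ⊗ₜ[R] z) by
        rw [map_sub, map_sub]; simp]
    exact (hXr.map (chStage p₁ A).toLinearMap).sub (hXr.map (chStage p₂ A).toLinearMap)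
  have hex := Module.Flat.rTensor_exact A (Algebra.IsEffective.of_faithfullyFlat R S)
  obtain ⟨w, hw⟩ := (hex X).mp (by
    rw [Algebra.TensorProduct.includeLeftSubRight, LinearMap.rTensor_sub, LinearMap.sub_apply, sub_eq_zero,
      map_eq_rTensor, map_eq_rTensor] at *
    exact h12)
  have hgX : (1 : S) ⊗ₜ[R] (TensorProduct.lid R A w) = X := by
    rw [← hw]
    clear hw
    induction w using TensorProduct.induction_on with
    | zero => simp
    | add u v hu hv => simp only [map_add, TensorProduct.tmul_add, hu, hv]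
    | tmul r a => simp [TensorProduct.tmul_smul, TensorProduct.smul_tmul', Algebra.algebraMap_eq_smul_one]
  let g := TensorProduct.lid R A w
  have hgi : ∀ i, (1 : (c i).S) ⊗ₜ[R] g = x i := fun i => by
    rw [← hX i, ← hgX]; simp [g]
  refine ⟨g, ⟨?_, ?_⟩, ?_⟩
  · refine sub_eq_zero.1 (eq_zero_of_cover c hflat hcov _ fun i => ?_)
    have := (hxg i).counit_eq_one
    rw [← hgi, TensorProduct.counit_tmul, CommSemiring.counit_apply] at this
    apply (TensorProduct.rid R (c i).S).injective
    rw [map_zero, TensorProduct.rid_tmul, sub_smul, one_smul, this, sub_self]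
  · refine sub_eq_zero.1 (eq_zero_of_cover c hflat hcov _ fun i => ?_)
    rw [← hdef]
    exact ((isGroupLikeElem_iff_defect _).1 (by rw [hgi]; exact hxg i)).2
  · refine sub_eq_zero.1 (eq_zero_of_cover c hflat hcov _ fun i => ?_)
    rw [← TensorProduct.tmul_sub]
    have := hxr i
    rw [← hgi, ← TensorProduct.tmul_sub] at this
    apply (TensorProduct.leftComm R (c i).S (R ⧸ I) A).injective
    rw [map_zero, TensorProduct.leftComm_tmul]
    exact this

/-- A map from a diagonalisable group algebra that is bijective modulo a nil ideal is bijective. -/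
theorem bijective_of_redBij (hA : SGA3b.IsMultType R A) {N : Type u} [CommGroup N]
    (u : MonoidAlgebra R N →ₐc[R] A)
    (hu : RedBij I (u : MonoidAlgebra R N →ₐ[R] A).toLinearMap) : Function.Bijective u := by
  let B := MonoidAlgebra R N
  let uL := (u : B →ₐ[R] A).toLinearMap
  obtain ⟨ι, _, c, hflat, hcov⟩ := exists_finite_charts hA
  have key : ∀ i, Function.Bijective (uL.lTensor (c i).S) := by
    intro i
    let T := (c i).S
    obtain ⟨e⟩ := (c i).exists_bialgEquiv T
    obtain ⟨M', _, ⟨eB⟩⟩ := isDiag_baseChange (T := R) (A := B)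
      (isDiag_iff_lid.2 ⟨N, inferInstance, ⟨BialgEquiv.refl R B⟩⟩) T
    let U : T ⊗[R] B →ₐc[T] T ⊗[R] A := Bialgebra.TensorProduct.map (BialgHom.id T T) u
    have hU : ∀ z, U z = uL.lTensor T z := fun z => by
      induction z using TensorProduct.induction_on with
      | zero => simp
      | add a b ha hb => simp only [map_add, ha, hb]
      | tmul a b => rfl
    have hUd : ∀ z, glDefect T (U z) = (TensorProduct.map uL uL).lTensor T (glDefect T z) := by
      intro z
      apply (TensorProduct.AlgebraTensorModule.distribBaseChange R T A A).injective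
      rw [← comul_sub_tmul]
      have e1 : ∀ v : T ⊗[R] (B ⊗[R] B),
          TensorProduct.map (U : T ⊗[R] B →ₐ[T] T ⊗[R] A).toLinearMap (U : T ⊗[R] B →ₐ[T] T ⊗[R] A).toLinearMap
            (TensorProduct.AlgebraTensorModule.distribBaseChange R T B B v) =
          TensorProduct.AlgebraTensorModule.distribBaseChange R T A A ((TensorProduct.map uL uL).lTensor T v) := by
        intro v
        induction v using TensorProduct.induction_on with
        | zero => simp
        | add a b ha hb => simp only [map_add, ha, hb]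
        | tmul t q =>
          induction q using TensorProduct.induction_on with
          | zero => simp
          | add a b ha hb => simp only [TensorProduct.tmul_add, map_add, ha, hb]
          | tmul a b =>
            apply (TensorProduct.AlgebraTensorModule.distribBaseChange R T A A).symm.injective
            simp [uL, U, TensorProduct.AlgebraTensorModule.distribBaseChange]
      rw [← e1, ← comul_sub_tmul, map_sub, TensorProduct.map_tmul]
      congr 1
      exact (CoalgHomClass.map_comp_comul_apply U z).symm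
    have hUr : ∀ z, Red I (U z) → Red I z := fun z hz => (hu.lTensor T).red_of_map (by rwa [← hU])
    have hUinj : ∀ z z', IsGroupLikeElem T z → IsGroupLikeElem T z' → U z = U z' → z = z' :=
      fun z z' hz hz' h => eq_of_red_diag hI eB hz hz' (hUr _ (by rw [map_sub, h, sub_self]; exact Red.zero))
    have hsurj : ∀ n, ∃ z, IsGroupLikeElem T z ∧ U z = e.symm (MonoidAlgebra.single n 1) := by
      intro n
      have hy : IsGroupLikeElem T (e.symm (MonoidAlgebra.single n (1 : T))) :=
        (MonoidAlgebra.isGroupLikeElem_single_one n).map e.symm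
      generalize e.symm (MonoidAlgebra.single n (1 : T)) = y at hy
      obtain ⟨z, hz⟩ := (hu.lTensor T).exists_red y
      rw [← hU] at hz
      have hc : Red I (Coalgebra.counit (R := T) z - 1) := by
        rw [← CoalgHomClass.counit_comp_apply U z, ← hy.counit_eq_one, ← map_sub]
        exact hz.map ((Coalgebra.counit (R := T) : T ⊗[R] A →ₗ[T] T).restrictScalars R)
      have hd : Red I (glDefect T z) := by
        refine ((hu.map_self).lTensor T).red_of_map ?_
        rw [← hUd]
        have := red_glDefect_congr hz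
        rwa [((isGroupLikeElem_iff_defect y).1 hy).2, sub_zero] at this
      obtain ⟨x, hx, hxz⟩ := exists_groupLike_red_diag hI eB hc hd
      refine ⟨x, hx, eq_of_red_diag hI e (hx.map U) hy ?_⟩
      rw [show U x - y = U (x - z) + (U z - y) by rw [map_sub]; abel]
      exact (hxz.map ((U : T ⊗[R] B →ₐ[T] T ⊗[R] A).toLinearMap.restrictScalars R)).add hz
    choose z hzg hzu using hsurj
    let μ : (c i).M →* GroupLike T (T ⊗[R] B) :=
      { toFun := fun n => ⟨z n, hzg n⟩
        map_one' := GroupLike.val_injective (hUinj _ _ (hzg 1) IsGroupLikeElem.one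
          (by
            show U (z 1) = U 1
            rw [hzu, map_one, ← MonoidAlgebra.one_def, map_one]))
        map_mul' := fun a b => GroupLike.val_injective (hUinj _ _ (hzg _) ((hzg a).mul (hzg b))
          (by
            show U (z (a * b)) = U (z a * z b)
            rw [map_mul, hzu, hzu, hzu, ← map_mul, MonoidAlgebra.single_mul_single, one_mul])) }
    let K : MonoidAlgebra T (c i).M →ₐc[T] T ⊗[R] B :=
      (MonoidAlgebra.liftGroupLikeBialgHom : MonoidAlgebra T (GroupLike T (T ⊗[R] B)) →ₐc[T] T ⊗[R] B).comp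
        (MonoidAlgebra.mapDomainBialgHom T μ)
    have hUK : ∀ w, U (K w) = e.symm w := fun w => by
      induction w using MonoidAlgebra.induction_linear with
      | zero => simp
      | add a b ha hb => simp only [map_add, ha, hb]
      | single n a =>
        rw [show MonoidAlgebra.single n a = a • MonoidAlgebra.single n (1 : T) by
          rw [MonoidAlgebra.smul_single, smul_eq_mul, mul_one], map_smul, map_smul, map_smul, ← hzu]
        congr 2
        simp [K, μ]
    have hKU : ∀ v, K (e (U v)) = v := by
      intro v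
      obtain ⟨y, rfl⟩ := EquivLike.surjective eB.symm v
      induction y using MonoidAlgebra.induction_linear with
      | zero => simp
      | add a b ha hb => simp only [map_add, ha, hb]
      | single m a =>
        rw [show MonoidAlgebra.single m a = a • MonoidAlgebra.single m (1 : T) by
          rw [MonoidAlgebra.smul_single, smul_eq_mul, mul_one]]
        simp only [map_smul]
        congr 1
        have hw : IsGroupLikeElem T (eB.symm (MonoidAlgebra.single m (1 : T))) :=
          (MonoidAlgebra.isGroupLikeElem_single_one m).map eB.symm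
        exact hUinj _ _ (((hw.map U).map e).map K) hw (by rw [hUK, BialgEquiv.symm_apply_apply])
    rw [show ⇑(uL.lTensor T) = U from funext fun z => (hU z).symm]
    exact ⟨fun a b h => by rw [← hKU a, ← hKU b, h],
      fun y => ⟨K (e y), by rw [hUK, BialgEquiv.symm_apply_apply]⟩⟩
  constructor
  · intro a b h
    refine sub_eq_zero.1 (eq_zero_of_cover c hflat hcov _ fun i => (key i).1 ?_)
    rw [map_zero, LinearMap.lTensor_tmul, map_sub, show uL a = uL b from h, sub_self, TensorProduct.tmul_zero]
  · intro y
    obtain ⟨x, hx⟩ := (Submodule.Quotient.mk_eq_zero (LinearMap.range uL)).1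
      (eq_zero_of_cover c hflat hcov ((LinearMap.range uL).mkQ y) fun i => by
        obtain ⟨v, hv⟩ := (key i).2 ((1 : (c i).S) ⊗ₜ[R] y)
        rw [← LinearMap.lTensor_tmul, ← hv, ← LinearMap.lTensor_comp_apply,
          show (LinearMap.range uL).mkQ ∘ₗ uL = 0 from LinearMap.ext fun a =>
            (Submodule.Quotient.mk_eq_zero _).2 ⟨a, rfl⟩, LinearMap.lTensor_zero, LinearMap.zero_apply])
    exact ⟨x, hx⟩

/-- Diagonalisability lifts along a nil ideal. -/
theorem isDiag_of_nil (hA : SGA3b.IsMultType R A) (h0 : SGA3b.IsDiag (R ⧸ I) ((R ⧸ I) ⊗[R] A)) :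
    SGA3b.IsDiag R A := by
  obtain ⟨M, _, ⟨e₀⟩⟩ := h0
  have hex : ∀ m, ∃ g, IsGroupLikeElem R g ∧
      (1 : R ⧸ I) ⊗ₜ[R] g = e₀.symm (MonoidAlgebra.single m (1 : R ⧸ I)) := by
    intro m
    obtain ⟨z, hz⟩ := TensorProduct.mk_surjective R A (R ⧸ I) Ideal.Quotient.mk_surjective
      (e₀.symm (MonoidAlgebra.single m (1 : R ⧸ I)))
    rw [TensorProduct.mk_apply] at hz
    obtain ⟨g, hg, hgz⟩ := exists_groupLike_lift hI hA (z := z)
      (by rw [hz]; exact (MonoidAlgebra.isGroupLikeElem_single_one m).map e₀.symm)
    exact ⟨g, hg, hgz.trans hz⟩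
  choose g hg hge using hex
  have huniq : ∀ {x y : A}, IsGroupLikeElem R x → IsGroupLikeElem R y →
      (1 : R ⧸ I) ⊗ₜ[R] x = (1 : R ⧸ I) ⊗ₜ[R] y → x = y := fun hx hy h =>
    eq_of_red_self hI hA hx hy (by rw [Red, TensorProduct.tmul_sub, h, sub_self])
  let μ : M →* GroupLike R A :=
    { toFun := fun m => ⟨g m, hg m⟩
      map_one' := GroupLike.val_injective (huniq (hg 1) IsGroupLikeElem.one
        (by rw [hge, ← MonoidAlgebra.one_def, map_one]; rfl))
      map_mul' := fun a b => GroupLike.val_injective (huniq (hg _) ((hg a).mul (hg b))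
        (by
          show (1 : R ⧸ I) ⊗ₜ[R] g (a * b) = (1 : R ⧸ I) ⊗ₜ[R] (g a * g b)
          rw [← one_mul (1 : R ⧸ I), ← Algebra.TensorProduct.tmul_mul_tmul, one_mul, hge, hge, hge, ← map_mul,
            MonoidAlgebra.single_mul_single, one_mul])) }
  let L : MonoidAlgebra R M →ₐc[R] A :=
    (MonoidAlgebra.liftGroupLikeBialgHom : MonoidAlgebra R (GroupLike R A) →ₐc[R] A).comp
      (MonoidAlgebra.mapDomainBialgHom R μ)
  refine ⟨M, inferInstance, ⟨(BialgEquiv.ofBijective L (bijective_of_redBij hI hA L ?_)).symm⟩⟩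
  let sT := MonoidAlgebra.scalarTensorEquiv (M := M) R (R ⧸ I)
  have h : ∀ w, (L : MonoidAlgebra R M →ₐ[R] A).toLinearMap.lTensor (R ⧸ I) (sT.symm w) = e₀.symm w := by
    intro w
    induction w using MonoidAlgebra.induction_linear with
    | zero => simp
    | add a b ha hb => simp only [map_add, ha, hb]
    | single m a =>
      rw [MonoidAlgebra.scalarTensorEquiv_symm_single, LinearMap.lTensor_tmul]
      rw [show MonoidAlgebra.single m a = a • MonoidAlgebra.single m (1 : R ⧸ I) by
        rw [MonoidAlgebra.smul_single, smul_eq_mul, mul_one], map_smul, ← hge,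
        TensorProduct.smul_tmul', smul_eq_mul, mul_one]
      congr 1
      simp [L, μ]
  rw [RedBij, show ⇑((L : MonoidAlgebra R M →ₐ[R] A).toLinearMap.lTensor (R ⧸ I)) = e₀.symm ∘ sT from
    funext fun w => by rw [Function.comp_apply, ← h, AlgEquiv.symm_apply_apply]]
  exact (EquivLike.bijective e₀.symm).comp sT.bijective

end Groth.Agent.MultT
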