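import Groth.Agent.MultT.Rigid
import Mathlib.RingTheory.HopfAlgebra.TensorProduct
import Mathlib.RingTheory.Bialgebra.TensorProduct
import Mathlib.RingTheory.HopfAlgebra.GroupLike
import Mathlib.RingTheory.Coalgebra.GroupLike
import Mathlib.RingTheory.HopfAlgebra.Quotient

/-!
# Diagonalisability from group-like elements, and subgroups over a field
-/

universe u

open TensorProduct

noncomputable section


namespace Groth.Agent.MultT

/-- A Hopf algebra over a field spanned by group-like elements is diagonalisable. -/
theorem isDiag_of_span {K : Type u} [CommRing K] [IsDomain K] {W : Type u} [CommRing W] [HopfAlgebra K W]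
    [Module.IsTorsionFree K W]
    (h : Submodule.span K {g : W | IsGroupLikeElem K g} = ⊤) : SGA3b.IsDiag K W := by
  let L : MonoidAlgebra K (GroupLike K W) →ₐc[K] W := MonoidAlgebra.liftGroupLikeBialgHom
  have hL : ∀ g : GroupLike K W, L (MonoidAlgebra.single g 1) = g.val := fun g => by
    simp [L]
  have hinj : Function.Injective L := by
    have hli := linearIndep_groupLikeVal (R := K) (A := W)
    rw [injective_iff_map_eq_zero]
    intro x hx
    have h0 : Finsupp.linearCombination K (GroupLike.val (R := K) (A := W)) x.coeff = 0 := by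
      rw [← hx]
      conv_rhs => rw [← MonoidAlgebra.sum_coeff_single x]
      rw [map_finsuppSum, Finsupp.linearCombination_apply]
      refine Finsupp.sum_congr fun g _ => ?_
      rw [show MonoidAlgebra.single g (x.coeff g) = x.coeff g • MonoidAlgebra.single g (1 : K) by
        rw [MonoidAlgebra.smul_single, smul_eq_mul, mul_one], map_smul, hL]
    exact MonoidAlgebra.coeff_eq_zero.mp (linearIndependent_iff.mp hli _ h0)
  have hsurj : Function.Surjective L := by
    intro w
    have hw : w ∈ Submodule.span K {g : W | IsGroupLikeElem K g} := h ▸ Submodule.mem_top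
    induction hw using Submodule.span_induction with
    | mem g hg => exact ⟨MonoidAlgebra.single ⟨g, hg⟩ 1, hL ⟨g, hg⟩⟩
    | zero => exact ⟨0, map_zero L⟩
    | add a b _ _ ha hb =>
      obtain ⟨x, rfl⟩ := ha
      obtain ⟨y, rfl⟩ := hb
      exact ⟨x + y, map_add L x y⟩
    | smul r a _ ha =>
      obtain ⟨x, rfl⟩ := ha
      exact ⟨r • x, map_smul L r x⟩
  exact ⟨GroupLike K W, inferInstance, ⟨(BialgEquiv.ofBijective L ⟨hinj, hsurj⟩).symm⟩⟩

section ChangeScalars

variable {L : Type u} [CommRing L] {S : Type u} [CommRing S] [Algebra L S]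
  {T : Type u} [CommRing T] [Algebra L T] [Algebra S T] [IsScalarTower L S T]
  {Y : Type u} [CommRing Y] [HopfAlgebra L Y]

/-- Change of scalars of a base change. -/
def chScal : S ⊗[L] Y →ₗ[S] T ⊗[L] Y :=
  AlgebraTensorModule.map (Algebra.linearMap S T) LinearMap.id

theorem chScal_tmul (s : S) (y : Y) : chScal (T := T) (s ⊗ₜ[L] y) = algebraMap S T s ⊗ₜ[L] y := rfl

theorem span_chScal {s : Set (S ⊗[L] Y)} (hs : Submodule.span S s = ⊤) :
    Submodule.span T (chScal (T := T) '' s) = ⊤ := by
  rw [eq_top_iff]
  intro x hx'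
  clear hx'
  induction x using TensorProduct.induction_on with
  | zero => simp
  | add a b ha hb => exact add_mem ha hb
  | tmul t y =>
    have hy : chScal (T := T) ((1 : S) ⊗ₜ[L] y) ∈ Submodule.span T (chScal (T := T) '' s) := by
      have h1 : ((1 : S) ⊗ₜ[L] y) ∈ Submodule.span S s := hs ▸ Submodule.mem_top
      have h2 := Submodule.mem_map_of_mem (f := chScal (T := T)) h1
      rw [Submodule.map_span] at h2
      exact Submodule.span_le_restrictScalars S T _ h2
    have := Submodule.smul_mem _ t hy
    rwa [chScal_tmul, map_one, TensorProduct.smul_tmul', smul_eq_mul, mul_one] at this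

theorem isGroupLikeElem_chScal {g : S ⊗[L] Y} (hg : IsGroupLikeElem S g) :
    IsGroupLikeElem T (chScal (T := T) g) := by
  have hcounit : ∀ x : S ⊗[L] Y, Coalgebra.counit (R := T) (chScal (T := T) x) =
      algebraMap S T (Coalgebra.counit (R := S) x) := by
    intro x
    induction x using TensorProduct.induction_on with
    | zero => simp
    | add a b ha hb => simp only [map_add, ha, hb]
    | tmul s y =>
      simp [chScal_tmul, TensorProduct.counit_tmul, Algebra.smul_def,
        ← IsScalarTower.algebraMap_apply]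
  let D : (S ⊗[L] Y) ⊗[S] (S ⊗[L] Y) →ₗ[S] (T ⊗[L] Y) ⊗[T] (T ⊗[L] Y) :=
    TensorProduct.lift (((TensorProduct.mk T (T ⊗[L] Y) (T ⊗[L] Y)).restrictScalars₁₂ S S).compl₁₂
      (chScal (T := T)) (chScal (T := T)))
  have hcomul : ∀ x : S ⊗[L] Y, Coalgebra.comul (R := T) (chScal (T := T) x) =
      D (Coalgebra.comul (R := S) x) := by
    intro x
    induction x using TensorProduct.induction_on with
    | zero => simp
    | add a b ha hb => simp only [map_add, ha, hb]
    | tmul s y =>
      rw [chScal_tmul, TensorProduct.comul_tmul, TensorProduct.comul_tmul, CommSemiring.comul_apply,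
        CommSemiring.comul_apply]
      induction Coalgebra.comul (R := L) y using TensorProduct.induction_on with
      | zero => simp
      | tmul a b => simp [D, chScal_tmul]
      | add a b ha hb => simp only [map_add, TensorProduct.tmul_add, ha, hb]
  constructor
  · rw [hcounit, hg.counit_eq_one, map_one]
  · rw [hcomul, hg.comul_eq_tmul_self]
    rfl

end ChangeScalars

/-- Quotients of diagonalisable groups over an extension become diagonalisable over a residue field. -/
theorem isDiag_baseChange_of_surjective {L : Type u} [CommRing L] {S : Type u} [CommRing S]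
    [Algebra L S] {T : Type u} [Field T] [Algebra L T] [Algebra S T] [IsScalarTower L S T]
    {Y Y' : Type u} [CommRing Y] [HopfAlgebra L Y] [CommRing Y'] [HopfAlgebra L Y']
    {M : Type u} [CommGroup M] (e : (S ⊗[L] Y) ≃ₐc[S] MonoidAlgebra S M)
    (g : Y →ₐc[L] Y') (hg : Function.Surjective g) : SGA3b.IsDiag T (T ⊗[L] Y') := by
  apply isDiag_of_span
  let G : Set (S ⊗[L] Y) := Set.range fun m : M => e.symm (MonoidAlgebra.single m 1)
  have hG : ∀ x ∈ G, IsGroupLikeElem S x := by
    rintro _ ⟨m, rfl⟩
    exact (MonoidAlgebra.isGroupLikeElem_single_one m).map e.symm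
  have hGspan : Submodule.span S G = ⊤ := by
    rw [eq_top_iff]
    intro x hx'
    clear hx'
    obtain ⟨y, rfl⟩ : ∃ y, e.symm y = x := ⟨e x, e.symm_apply_apply x⟩
    induction y using MonoidAlgebra.induction_linear with
    | zero => simp
    | add a b ha hb => rw [map_add]; exact add_mem ha hb
    | single m r =>
      rw [show MonoidAlgebra.single m r = r • MonoidAlgebra.single m (1 : S) by
        rw [MonoidAlgebra.smul_single, smul_eq_mul, mul_one], map_smul]
      exact Submodule.smul_mem _ _ (Submodule.subset_span ⟨m, rfl⟩)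
  let q := Bialgebra.TensorProduct.map (R := L) (S := T) (A := T) (C := T) (B := Y) (D := Y') (BialgHom.id T T) g
  have hq : Function.Surjective q := fun z => by
    induction z using TensorProduct.induction_on with
    | zero => exact ⟨0, map_zero q⟩
    | tmul a b =>
      obtain ⟨y, rfl⟩ := hg b
      exact ⟨a ⊗ₜ y, Bialgebra.TensorProduct.map_tmul _ _ a y⟩
    | add a b ha hb =>
      obtain ⟨x, rfl⟩ := ha
      obtain ⟨y, rfl⟩ := hb
      exact ⟨x + y, map_add q x y⟩
  rw [eq_top_iff]
  intro x hx'
  clear hx'
  obtain ⟨y, rfl⟩ := hq x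
  have hy : y ∈ Submodule.span T (chScal (T := T) '' G) := (span_chScal (T := T) hGspan).symm ▸ Submodule.mem_top
  clear hq
  induction hy using Submodule.span_induction with
  | mem z hz =>
    obtain ⟨w, hw, rfl⟩ := hz
    have hw' : IsGroupLikeElem S w := hG w hw
    have hh : IsGroupLikeElem T (chScal (T := T) w) :=
      isGroupLikeElem_chScal (L := L) (S := S) (T := T) (Y := Y) (g := w) hw'
    exact Submodule.subset_span (hh.map q)
  | zero => rw [map_zero]; exact zero_mem _
  | add a b _ _ ha hb => rw [map_add]; exact add_mem ha hb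
  | smul r a _ ha => rw [map_smul]; exact Submodule.smul_mem _ r ha

/-- Closed subgroups of groups of multiplicative type over a field are of multiplicative type. -/
theorem quotient_isMultType {k : Type u} [Field k] {A : Type u} [CommRing A] [HopfAlgebra k A]
    (h : SGA3b.IsMultType k A) (J : Ideal A) [J.IsHopfIdeal k] :
    SGA3b.IsMultType k (A ⧸ J) := by
  obtain ⟨s, hs, h⟩ := h
  obtain ⟨f, hf, hf0⟩ : ∃ f ∈ s, f ≠ 0 := by
    by_contra hc
    push Not at hc
    have : Ideal.span s ≤ ⊥ := Ideal.span_le.mpr fun x hx => by simp [hc x hx]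
    rw [hs] at this
    exact top_ne_bot (le_bot_iff.mp this)
  obtain ⟨S, _, _, hff, M, _, ⟨e⟩⟩ := h f hf
  refine ⟨{f}, by rw [Ideal.span_singleton_eq_top]; exact hf0.isUnit, ?_⟩
  intro f' hf'
  rw [Set.mem_singleton_iff] at hf'
  subst f'
  let L := Localization.Away f
  have : Nontrivial L :=
    (IsLocalization.atUnits k (.powers f) (S := L) (by
      rintro _ ⟨n, rfl⟩; exact (hf0.isUnit.pow n))).toRingEquiv.injective.nontrivial
  have : Nontrivial S := (FaithfulSMul.algebraMap_injective L S).nontrivial
  obtain ⟨P, hP⟩ := Ideal.exists_maximal S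
  let T := S ⧸ P
  letI : Field T := Ideal.Quotient.field P
  let eL : k ≃ₐ[k] L := IsLocalization.atUnits k (.powers f) (by
    rintro _ ⟨n, rfl⟩; exact (hf0.isUnit.pow n))
  have hfT : Module.FaithfullyFlat L T := by
    letI : Field L := ((MulEquiv.isField (Field.toIsField k) eL.symm.toMulEquiv)).toField
    infer_instance
  let g := Bialgebra.TensorProduct.map (R := k) (S := L) (A := L) (C := L) (B := A) (D := A ⧸ J)
    (BialgHom.id L L) (Bialgebra.Quotient.mkBialgHom J)
  have hg : Function.Surjective g := fun z => by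
    induction z using TensorProduct.induction_on with
    | zero => exact ⟨0, map_zero g⟩
    | tmul a b =>
      obtain ⟨y, rfl⟩ := Ideal.Quotient.mk_surjective b
      exact ⟨a ⊗ₜ y, Bialgebra.TensorProduct.map_tmul _ _ a y⟩
    | add a b ha hb =>
      obtain ⟨x, rfl⟩ := ha
      obtain ⟨y, rfl⟩ := hb
      exact ⟨x + y, map_add g x y⟩
  have hd : SGA3b.IsDiag T (T ⊗[L] (L ⊗[k] (A ⧸ J))) :=
    isDiag_baseChange_of_surjective (S := S) (Y := L ⊗[k] A) (Y' := L ⊗[k] (A ⧸ J)) (T := T) e g hg
  exact ⟨T, inferInstance, inferInstance, hfT, hd⟩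

end Groth.Agent.MultT
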