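import Groth.Agent.MultT.DualSplit
import Mathlib

/-! Splitting finite groups of multiplicative type over a connected base. -/

set_option autoImplicit false

open TensorProduct

universe u

namespace Groth.Agent.MultT

/-- A ring with connected spectrum has only trivial idempotents. -/
theorem idem_trivial_of_connected (R : Type u) [CommRing R] [PreconnectedSpace (PrimeSpectrum R)]
    (e : R) (he : IsIdempotentElem e) : e = 0 ∨ e = 1 := by
  have hclopen : IsClopen (PrimeSpectrum.basicOpen e : Set (PrimeSpectrum R)) :=
    ⟨by rw [PrimeSpectrum.basicOpen_eq_zeroLocus_of_isIdempotentElem e he]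
        exact PrimeSpectrum.isClosed_zeroLocus _,
      (PrimeSpectrum.basicOpen e).2⟩
  rcases isClopen_iff.1 hclopen with h | h
  · left
    obtain ⟨n, hn⟩ := PrimeSpectrum.basicOpen_eq_bot_iff e |>.1 (TopologicalSpace.Opens.ext h)
    rcases n with _ | n
    · rw [pow_zero] at hn
      rw [← mul_one e, hn, mul_zero]
    · rwa [he.pow_succ_eq] at hn
  · right
    refine (IsIdempotentElem.iff_eq_one_of_isUnit ?_).1 he
    by_contra hu
    obtain ⟨m, hm, hem⟩ := exists_max_ideal_of_mem_nonunits hu
    exact (h.symm ▸ Set.mem_univ _ : (⟨m, hm.isPrime⟩ : PrimeSpectrum R) ∈ (PrimeSpectrum.basicOpen e : Set (PrimeSpectrum R))) hem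

variable {R : Type u} [CommRing R]

theorem rankAtStalk_const [PreconnectedSpace (PrimeSpectrum R)] (M : Type u) [AddCommGroup M] [Module R M]
    [Module.Finite R M] [Module.Projective R M] : ∃ n : ℕ, Module.rankAtStalk (R := R) M = n := by
  haveI := Module.finitePresentation_of_projective R M
  rcases isEmpty_or_nonempty (PrimeSpectrum R) with h | h
  · exact ⟨0, funext fun p => h.elim p⟩
  · obtain ⟨p₀⟩ := h
    exact ⟨Module.rankAtStalk (R := R) M p₀, funext fun p =>
      (Module.isLocallyConstant_rankAtStalk).apply_eq_of_preconnectedSpace p p₀⟩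

/-- A finite étale algebra over a connected base is split by a connected finite étale faithfully
flat algebra. -/
theorem exists_connected_split [Nontrivial R] [PreconnectedSpace (PrimeSpectrum R)] (D : Type u)
    [CommRing D] [Algebra R D] [Algebra.Etale R D] [Module.Finite R D] [Module.Projective R D] :
    ∃ (T : Type u) (_ : CommRing T) (_ : Algebra R T), Algebra.Etale R T ∧ Module.Finite R T ∧
      Module.FaithfullyFlat R T ∧ Nontrivial T ∧ (∀ e : T, IsIdempotentElem e → e = 0 ∨ e = 1) ∧
      Algebra.IsFiniteSplit T (T ⊗[R] D) := by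
  classical
  let P : ℕ → Prop := fun r => ∃ (T : Type u) (_ : CommRing T) (_ : Algebra R T), Algebra.Etale R T ∧
    Module.Finite R T ∧ Nontrivial T ∧ Algebra.IsFiniteSplit T (T ⊗[R] D) ∧
    Module.rankAtStalk (R := R) T = (r : PrimeSpectrum R → ℕ)
  have hne : ∃ r, P r := by
    obtain ⟨n, hn⟩ := rankAtStalk_const (R := R) D
    obtain ⟨T, _, _, hff, hfin, het, hsp⟩ := Algebra.IsFiniteSplit.exists_tensorProduct_of_etale hn
    haveI : Module.FinitePresentation R T := Module.FinitePresentation.of_finite_of_finitePresentation _ _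
    haveI : Module.Projective R T := Module.Flat.projective_of_finitePresentation
    obtain ⟨r, hr⟩ := rankAtStalk_const (R := R) T
    have hnt : Nontrivial T := (Algebra.TensorProduct.rid R R T).toEquiv.symm.nontrivial
    exact ⟨r, T, inferInstance, inferInstance, het, hfin, hnt, hsp, hr⟩
  obtain ⟨T, _, _, het, hfin, hnt, hsp, hr⟩ := Nat.find_spec hne
  have hpos : ∀ (T' : Type u) [CommRing T'] [Algebra R T'] [Nontrivial T'] [Algebra.Etale R T']
      [Module.Finite R T'] (k : ℕ), Module.rankAtStalk (R := R) T' = (k : PrimeSpectrum R → ℕ) → 0 < k := by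
    intro T' _ _ _ _ _ k hk
    haveI : Module.FinitePresentation R T' := Module.FinitePresentation.of_finite_of_finitePresentation _ _
    refine Nat.pos_of_ne_zero fun h0 => not_subsingleton T' ?_
    rw [← Module.rankAtStalk_eq_zero_iff_subsingleton (R := R), hk, h0]
    rfl
  refine ⟨T, inferInstance, inferInstance, het, hfin, ?_, hnt, fun e he => ?_, hsp⟩
  · apply Module.FaithfullyFlat.of_comap_surjective
    rw [← PrimeSpectrum.rankAtStalk_pos_iff_comap_surjective]
    intro p
    rw [hr]
    exact hpos T _ hr
  · by_contra hc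
    push Not at hc
    haveI := Module.FinitePresentation.of_finite_of_finitePresentation R T
    have hsub : ∀ (f : T) (hf : IsIdempotentElem f), f ≠ 1 → ∃ k : ℕ, 0 < k ∧
        Algebra.Etale R (T ⧸ Ideal.span {f}) ∧
        Algebra.IsFiniteSplit (T ⧸ Ideal.span {f}) ((T ⧸ Ideal.span {f}) ⊗[R] D) ∧
        Module.rankAtStalk (R := R) (T ⧸ Ideal.span {f}) = (k : PrimeSpectrum R → ℕ) ∧
        Nontrivial (T ⧸ Ideal.span {f}) := by
      intro f hf hf1
      haveI hloc : IsLocalization.Away (1 - f) (T ⧸ Ideal.span {f}) := by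
        have := IsLocalization.Away.quotient_of_isIdempotentElem hf.one_sub
        rwa [sub_sub_cancel] at this
      haveI : Algebra.Etale T (T ⧸ Ideal.span {f}) := Algebra.Etale.of_isLocalizationAway (1 - f)
      haveI hetq : Algebra.Etale R (T ⧸ Ideal.span {f}) := Algebra.Etale.comp R T (T ⧸ Ideal.span {f})
      haveI hntq : Nontrivial (T ⧸ Ideal.span {f}) := Ideal.Quotient.nontrivial_iff.2 fun htop =>
        hf1 ((IsIdempotentElem.iff_eq_one_of_isUnit (Ideal.span_singleton_eq_top.1 htop)).1 hf)
      haveI : Module.FinitePresentation R (T ⧸ Ideal.span {f}) :=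
        Module.FinitePresentation.of_finite_of_finitePresentation _ _
      haveI : Module.Projective R (T ⧸ Ideal.span {f}) := Module.Flat.projective_of_finitePresentation
      obtain ⟨k, hk⟩ := rankAtStalk_const (R := R) (T ⧸ Ideal.span {f})
      refine ⟨k, hpos _ k hk, hetq, ?_, hk, hntq⟩
      exact .of_algEquiv (Algebra.TensorProduct.cancelBaseChange R T (T ⧸ Ideal.span {f}) (T ⧸ Ideal.span {f}) D)
    obtain ⟨k₁, hk₁, het₁, hsp₁, hr₁, hnt₁⟩ := hsub e he hc.2
    obtain ⟨k₂, hk₂, het₂, -, hr₂, -⟩ := hsub (1 - e) he.one_sub (fun h => hc.1 (by simpa using h))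
    haveI : Module.FinitePresentation R (T ⧸ Ideal.span {1 - e}) :=
      Module.FinitePresentation.of_finite_of_finitePresentation _ _
    have hlt : k₁ < Nat.find hne := by
      obtain ⟨p⟩ := (inferInstance : Nonempty (PrimeSpectrum R))
      have := congrFun (Module.rankAtStalk_eq_of_equiv (R := R)
        (AlgEquiv.prodQuotientOfIsIdempotentElem R he he.one_sub (by simp)
          (by rw [mul_sub, mul_one, he.eq, sub_self])).toLinearEquiv) p
      rw [Module.rankAtStalk_prod, hr, Pi.add_apply, hr₁, hr₂] at this
      simp only [Pi.natCast_apply, Nat.cast_id] at this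
      omega
    exact Nat.find_min hne hlt ⟨_, inferInstance, inferInstance, het₁, inferInstance, hnt₁, hsp₁, hr₁⟩

variable {A : Type u} [CommRing A] [HopfAlgebra R A]

theorem isIsotrivial_of_subsingleton [Subsingleton R] : SGA3b.IsIsotrivial R A := by
  refine ⟨R, inferInstance, inferInstance, inferInstance, inferInstance, inferInstance,
    PUnit.{u + 1}, inferInstance, ?_⟩
  haveI : Subsingleton (R ⊗[R] A) := Module.subsingleton R _
  haveI : Subsingleton (MonoidAlgebra R PUnit.{u + 1}) := Module.subsingleton R _
  exact ⟨BialgEquiv.ofAlgEquiv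
    { toFun := fun _ => 0, invFun := fun _ => 0, left_inv := fun _ => Subsingleton.elim _ _,
      right_inv := fun _ => Subsingleton.elim _ _, map_mul' := fun _ _ => Subsingleton.elim _ _,
      map_add' := fun _ _ => Subsingleton.elim _ _, commutes' := fun _ => Subsingleton.elim _ _ }
    (AlgHom.ext fun _ => Subsingleton.elim _ _)
    (AlgHom.ext fun _ => (Module.subsingleton R _).elim _ _)⟩

/-- Over a connected base, a finite group with étale dual is isotrivial. -/
theorem isIsotrivial_of_etale_dual [PreconnectedSpace (PrimeSpectrum R)] [Coalgebra.IsCocomm R A]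
    [Module.Finite R A] [Module.Projective R A] [Algebra.Etale R (CartDual.D R A)] :
    SGA3b.IsIsotrivial R A := by
  rcases subsingleton_or_nontrivial R with h | h
  · exact isIsotrivial_of_subsingleton
  obtain ⟨T, _, _, het, hfin, hff, hnt, hconn, hsp⟩ := exists_connected_split (R := R) (CartDual.D R A)
  exact ⟨T, inferInstance, inferInstance, het, hfin, hff, isDiag_of_split hconn⟩

/-- Constant type is stable under base change. -/
theorem isMultTypeConst_baseChange (h : SGA3b.IsMultTypeConst R A) (T : Type u) [CommRing T]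
    [Algebra R T] : SGA3b.IsMultTypeConst T (T ⊗[R] A) := by
  obtain ⟨S, _, _, hff, hd⟩ := h
  letI : Algebra S (T ⊗[R] S) := Algebra.TensorProduct.rightAlgebra
  exact ⟨T ⊗[R] S, inferInstance, inferInstance, inferInstance,
    isDiag_of_equiv (bcTrans R T (T ⊗[R] S) A) (isDiag_baseChange hd (T ⊗[R] S))⟩

/-- Constant type implies multiplicative type. -/
theorem isMultType_of_const (h : SGA3b.IsMultTypeConst R A) : SGA3b.IsMultType R A :=
  ⟨{1}, Ideal.span_singleton_one, fun f _ => isMultTypeConst_baseChange h _⟩

theorem isMultType_of_isotrivial (h : SGA3b.IsIsotrivial R A) : SGA3b.IsMultType R A := by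
  obtain ⟨S, _, _, _, _, hff, hd⟩ := h
  exact isMultType_of_const ⟨S, inferInstance, inferInstance, hff, hd⟩

end Groth.Agent.MultT
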