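import Groth.Agent.MultT.CharDescent
import Groth.Agent.MultT.SplitConn
import Groth.Agent.MultT.Diag
import Mathlib

/-! Over a local base, a group of multiplicative type of finite type is diagonalisable as soon as
its finite quotients are; descent of group-like elements to finite separable extensions. -/

set_option autoImplicit false

open TensorProduct

universe u

namespace Groth.Agent.MultT

variable {R : Type u} [CommRing R] {A : Type u} [CommRing A] [HopfAlgebra R A]

/-- Bialgebra equivalent Hopf algebras are diagonalisable together. -/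
theorem isDiag_iff_lid : SGA3b.IsDiag R (R ⊗[R] A) ↔ SGA3b.IsDiag R A :=
  ⟨isDiag_of_equiv (Bialgebra.TensorProduct.lid R A).symm, isDiag_of_equiv (Bialgebra.TensorProduct.lid R A)⟩

theorem span_mod_of_isDiag (J : Ideal A) [J.IsHopfIdeal R] (h : SGA3b.IsDiag R (A ⧸ J)) (b : A) :
    ∃ y ∈ Submodule.span R {a : A | IsGroupLikeMod (R := R) J a}, b - y ∈ J := by
  obtain ⟨M, _, ⟨e⟩⟩ := h
  let q := Bialgebra.Quotient.mkBialgHom (R := R) J
  have hgen : ∀ z : MonoidAlgebra R M, ∃ y ∈ Submodule.span R {a : A | IsGroupLikeMod (R := R) J a},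
      e (q y) = z := by
    intro z
    induction z using MonoidAlgebra.induction_linear with
    | zero => exact ⟨0, zero_mem _, by simp⟩
    | add u v hu hv =>
      obtain ⟨a, ha, rfl⟩ := hu
      obtain ⟨b, hb, rfl⟩ := hv
      exact ⟨a + b, add_mem ha hb, by simp⟩
    | single l s =>
      obtain ⟨a, ha⟩ := Ideal.Quotient.mk_surjective (I := J) (e.symm (MonoidAlgebra.single l (1 : R)))
      have hg : IsGroupLikeElem R (q a) := by
        rw [show q a = e.symm (MonoidAlgebra.single l (1 : R)) from ha]
        exact (MonoidAlgebra.isGroupLikeElem_single_one l).map e.symm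
      have hmem : IsGroupLikeMod (R := R) J a := by
        refine ⟨?_, ?_⟩
        · rw [← CoalgHomClass.counit_comp_apply q]; exact hg.counit_eq_one
        · exact (CoalgHomClass.map_comp_comul_apply q a).trans hg.comul_eq_tmul_self
      refine ⟨s • a, Submodule.smul_mem _ _ (Submodule.subset_span hmem), ?_⟩
      rw [map_smul, map_smul, show q a = e.symm (MonoidAlgebra.single l (1 : R)) from ha, e.apply_symm_apply,
        MonoidAlgebra.smul_single, smul_eq_mul, mul_one]
  obtain ⟨y, hy, hyb⟩ := hgen (e (q b))
  refine ⟨y, hy, Ideal.Quotient.eq_zero_iff_mem.1 ?_⟩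
  rw [map_sub, sub_eq_zero]
  exact (EquivLike.injective e hyb).symm

theorem isLocalRing_idem_trivial [IsLocalRing R] (e : R) (he : IsIdempotentElem e) : e = 0 ∨ e = 1 := by
  by_cases hu : IsUnit e
  · exact Or.inr ((IsIdempotentElem.iff_eq_one_of_isUnit hu).1 he)
  · left
    have h1 := IsLocalRing.isUnit_one_sub_self_of_mem_nonunits _ hu
    have h2 : e * (1 - e) = 0 := by rw [mul_sub, mul_one, he.eq, sub_self]
    exact (IsUnit.mul_left_eq_zero h1).1 h2

/-- Over a local base it is enough to diagonalise the finite quotients. -/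
theorem isDiag_of_local_of_finite [IsLocalRing R] (hA : SGA3b.IsMultType R A) [Algebra.FiniteType R A]
    (h : ∀ (B : Type u) [CommRing B] [HopfAlgebra R B] (q : A →ₐc[R] B),
      Function.Surjective q → Module.Finite R B → SGA3b.IsMultType R B → SGA3b.IsDiag R B) :
    SGA3b.IsDiag R A := by
  refine isDiag_of_span_connected hA isLocalRing_idem_trivial
    (span_groupLike_of_torsion hA fun n hn b => ?_)
  haveI := isCocomm hA
  haveI := isHopfIdeal_torsion (R := R) (A := A) n
  have hJ := isMultType_torsion hA n (SGA3b.torsionIdeal R A n) rfl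
  haveI : Algebra.FiniteType R (A ⧸ SGA3b.torsionIdeal R A n) :=
    Algebra.FiniteType.of_surjective (Ideal.Quotient.mkₐ R _) Ideal.Quotient.mk_surjective
  have hfin := finite_of_torsion hJ hn (torsionIdeal_quotient n _ rfl)
  exact span_mod_of_isDiag _ (h _ (Bialgebra.Quotient.mkBialgHom _) Ideal.Quotient.mk_surjective hfin hJ) b

/-- A finite group of multiplicative type whose dual is split is diagonalisable. -/
theorem isDiag_of_split_self [Nontrivial R] (hconn : ∀ e : R, IsIdempotentElem e → e = 0 ∨ e = 1)
    [Coalgebra.IsCocomm R A] [Module.Finite R A] [Module.Projective R A]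
    [Algebra.IsFiniteSplit R (CartDual.D R A)] : SGA3b.IsDiag R A :=
  isDiag_iff_lid.1 (isDiag_of_split hconn)

/-- The dual of a diagonalisable finite group is split. -/
theorem isFiniteSplit_dual {T : Type u} [CommRing T] [Algebra R T] [Nontrivial T] [Coalgebra.IsCocomm R A]
    [Module.Finite R A] [Module.Projective R A] (h : SGA3b.IsDiag T (T ⊗[R] A)) :
    Algebra.IsFiniteSplit T (T ⊗[R] CartDual.D R A) := by
  obtain ⟨M, _, ⟨e⟩⟩ := h
  obtain ⟨n, f, hf⟩ := Module.Finite.exists_fin' R A
  let c := chartOfBaseChange e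
  haveI : Nontrivial c.S := ‹Nontrivial T›
  haveI := Module.Finite.of_surjective f hf
  haveI := c.finite_group
  haveI : Fintype c.M := Fintype.ofFinite _
  obtain ⟨E⟩ := c.exists_dualEquiv
  exact (.of_algEquiv E.symm : Algebra.IsFiniteSplit c.S (c.S ⊗[R] CartDual.D R A))

/-- A quotient of a diagonalisable group over a field is diagonalisable. -/
theorem isDiag_of_surjective {K : Type u} [Field K] {X Y : Type u} [CommRing X] [HopfAlgebra K X]
    [CommRing Y] [HopfAlgebra K Y] (h : SGA3b.IsDiag K X) (f : X →ₐc[K] Y) (hf : Function.Surjective f) :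
    SGA3b.IsDiag K Y := by
  obtain ⟨M, _, ⟨e⟩⟩ := h
  refine isDiag_of_span (eq_top_iff.2 fun y _ => ?_)
  obtain ⟨x, rfl⟩ := hf y
  obtain ⟨z, rfl⟩ : ∃ z, e.symm z = x := ⟨e x, e.symm_apply_apply x⟩
  rename_i hy'
  clear hy'
  induction z using MonoidAlgebra.induction_linear with
  | zero => simp
  | add u v hu hv => rw [map_add, map_add]; exact add_mem hu hv
  | single l s =>
    rw [show MonoidAlgebra.single l s = s • MonoidAlgebra.single l (1 : K) by
      rw [MonoidAlgebra.smul_single, smul_eq_mul, mul_one], map_smul, map_smul]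
    exact Submodule.smul_mem _ _ (Submodule.subset_span
      (((MonoidAlgebra.isGroupLikeElem_single_one l).map e.symm).map f))

/-- Over a separably closed field a group of multiplicative type of finite type is diagonalisable. -/
theorem isDiag_of_isSepClosed {K : Type u} [Field K] [IsSepClosed K] {X : Type u} [CommRing X]
    [HopfAlgebra K X] (hX : SGA3b.IsMultType K X) [Algebra.FiniteType K X] : SGA3b.IsDiag K X := by
  refine isDiag_of_local_of_finite hX fun B _ _ q _ hfin hB => ?_
  haveI := isCocomm hB
  haveI := etale_dual hB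
  haveI : Algebra.IsFiniteSplit K (CartDual.D K B) := inferInstance
  exact isDiag_of_split_self isLocalRing_idem_trivial

theorem injective_map_tensor {k : Type u} [Field k] {L L' : Type u} [CommRing L] [CommRing L'] [Algebra k L]
    [Algebra k L'] (i : L →ₐ[k] L') (hi : Function.Injective i) (M : Type u) [AddCommGroup M] [Module k M] :
    Function.Injective (i.toLinearMap.rTensor M) :=
  Module.Flat.rTensor_preserves_injective_linearMap _ hi

theorem map_eq_rTensor {k : Type u} [CommRing k] {L K X : Type u} [CommRing L] [CommRing K] [CommRing X]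
    [Algebra k L] [Algebra k K] [Algebra k X] (i : L →ₐ[k] K) (z : L ⊗[k] X) :
    Algebra.TensorProduct.map i (AlgHom.id k X) z = i.toLinearMap.rTensor X z := by
  induction z using TensorProduct.induction_on with
  | zero => simp
  | tmul t a => rfl
  | add u v hu hv => rw [map_add, map_add, hu, hv]

theorem distrib_symm_tmul (T : Type u) [CommRing T] [Algebra R T] (t t' : T) (a b : A) :
    (TensorProduct.AlgebraTensorModule.distribBaseChange R T A A).symm ((t ⊗ₜ[R] a) ⊗ₜ[T] (t' ⊗ₜ[R] b)) =
      (t * t') ⊗ₜ[R] (a ⊗ₜ[R] b) := by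
  rw [LinearEquiv.symm_apply_eq,
    show (t * t') ⊗ₜ[R] (a ⊗ₜ[R] b) = (t * t') • ((1 : T) ⊗ₜ[R] (a ⊗ₜ[R] b)) by
      rw [TensorProduct.smul_tmul', smul_eq_mul, mul_one], map_smul,
    TensorProduct.AlgebraTensorModule.distribBaseChange_tmul,
    show t ⊗ₜ[R] a = t • ((1 : T) ⊗ₜ[R] a) by rw [TensorProduct.smul_tmul', smul_eq_mul, mul_one],
    show t' ⊗ₜ[R] b = t' • ((1 : T) ⊗ₜ[R] b) by rw [TensorProduct.smul_tmul', smul_eq_mul, mul_one],
    TensorProduct.tmul_smul, ← TensorProduct.smul_tmul', smul_smul, mul_comm]

/-- Group-like elements descend along injective maps of algebras over a field. -/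
theorem isGroupLikeElem_of_map {k : Type u} [Field k] {L K X : Type u} [CommRing L] [CommRing K] [CommRing X]
    [HopfAlgebra k X] [Algebra k L] [Algebra k K] (i : L →ₐ[k] K) (hi : Function.Injective i) {z : L ⊗[k] X}
    (hg : IsGroupLikeElem K (Algebra.TensorProduct.map i (AlgHom.id k X) z)) : IsGroupLikeElem L z := by
  have hc : ∀ y : L ⊗[k] X, i (Coalgebra.counit (R := L) y) =
      Coalgebra.counit (R := K) (Algebra.TensorProduct.map i (AlgHom.id k X) y) := by
    intro y
    induction y using TensorProduct.induction_on with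
    | zero => simp
    | add u v hu hv => simp only [map_add, hu, hv]
    | tmul t a => simp [Algebra.smul_def]
  refine ⟨hi ?_, ?_⟩
  · rw [hc, hg.counit_eq_one, map_one]
  · rw [comul_eq_distrib, ← LinearEquiv.eq_symm_apply]
    apply injective_map_tensor i hi (X ⊗[k] X)
    have h1 : ∀ y : L ⊗[k] X, i.toLinearMap.rTensor (X ⊗[k] X) ((Coalgebra.comul (R := k)).baseChange L y) =
        (Coalgebra.comul (R := k)).baseChange K (Algebra.TensorProduct.map i (AlgHom.id k X) y) := by
      intro y
      induction y using TensorProduct.induction_on with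
      | zero => simp
      | add u v hu hv => simp only [map_add, hu, hv]
      | tmul t a => simp
    have h2 : ∀ x y : L ⊗[k] X, i.toLinearMap.rTensor (X ⊗[k] X)
        ((TensorProduct.AlgebraTensorModule.distribBaseChange k L X X).symm (x ⊗ₜ[L] y)) =
        (TensorProduct.AlgebraTensorModule.distribBaseChange k K X X).symm
          (Algebra.TensorProduct.map i (AlgHom.id k X) x ⊗ₜ[K] Algebra.TensorProduct.map i (AlgHom.id k X) y) := by
      intro x y
      induction x using TensorProduct.induction_on with
      | zero => simp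
      | add u v hu hv => simp only [TensorProduct.add_tmul, map_add, hu, hv]
      | tmul t a =>
        induction y using TensorProduct.induction_on with
        | zero => simp
        | add u v hu hv => simp only [TensorProduct.tmul_add, map_add, hu, hv]
        | tmul t' b => simp [distrib_symm_tmul]
    rw [h1, h2, LinearEquiv.eq_symm_apply, ← comul_eq_distrib]
    exact hg.comul_eq_tmul_self

/-- Spanning by group-like elements descends to a subfield containing generators. -/
theorem span_groupLike_of_map {k : Type u} [Field k] {L K X : Type u} [Field L] [CommRing K] [CommRing X]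
    [HopfAlgebra k X] [Algebra k L] [Algebra k K] (i : L →ₐ[k] K) (hi : Function.Injective i)
    {M : Type u} [CommGroup M] (e : K ⊗[k] X ≃ₐc[K] MonoidAlgebra K M) {S : Finset M}
    (hS : Submonoid.closure (S : Set M) = ⊤) (w : S → L ⊗[k] X)
    (hw : ∀ t : S, Algebra.TensorProduct.map i (AlgHom.id k X) (w t) =
      e.symm (MonoidAlgebra.single (t : M) (1 : K))) :
    Submodule.span L {g : L ⊗[k] X | IsGroupLikeElem L g} = ⊤ := by
  classical
  let π := Algebra.TensorProduct.map i (AlgHom.id k X)
  let U : Subalgebra L (L ⊗[k] X) := Algebra.adjoin L (Set.range w)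
  have hUle : (U.toSubmodule : Submodule L (L ⊗[k] X)) ≤
      Submodule.span L {g : L ⊗[k] X | IsGroupLikeElem L g} := by
    rw [Algebra.adjoin_eq_span]
    refine Submodule.span_mono fun x hx => ?_
    induction hx using Submonoid.closure_induction with
    | mem x hx =>
      obtain ⟨t, rfl⟩ := hx
      exact isGroupLikeElem_of_map i hi (by
        rw [hw]; exact (MonoidAlgebra.isGroupLikeElem_single_one (t : M)).map e.symm)
    | one => exact IsGroupLikeElem.one
    | mul x y _ _ hx hy => exact hx.mul hy
  refine eq_top_iff.2 (le_trans ?_ hUle)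
  intro x _
  by_contra hx
  obtain ⟨φ, hφx, hφN⟩ := Submodule.exists_dual_map_eq_bot_of_notMem hx inferInstance
  let Φ : K ⊗[k] X →ₗ[K] K :=
    ((i.toLinearMap ∘ₗ (φ.restrictScalars k)) ∘ₗ (TensorProduct.mk k L X 1)).liftBaseChange K
  have hΦ : ∀ z, Φ (π z) = i (φ z) := by
    intro z
    induction z using TensorProduct.induction_on with
    | zero => simp
    | add u v hu hv => simp only [map_add, hu, hv]
    | tmul t a =>
      rw [show t ⊗ₜ[k] a = t • ((1 : L) ⊗ₜ[k] a) by rw [TensorProduct.smul_tmul', smul_eq_mul, mul_one],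
        map_smul φ, smul_eq_mul, map_mul, TensorProduct.smul_tmul', smul_eq_mul, mul_one]
      simp [Φ, π]
  have hall : ∀ m : M, Φ (e.symm (MonoidAlgebra.single m (1 : K))) = 0 := by
    intro m
    have hm : m ∈ Submonoid.closure (S : Set M) := hS ▸ Submonoid.mem_top m
    suffices ∃ u ∈ U, π u = e.symm (MonoidAlgebra.single m (1 : K)) by
      obtain ⟨u, hu, hue⟩ := this
      rw [← hue, hΦ]
      have : φ u = 0 := (Submodule.mem_bot L).1 (hφN ▸ Submodule.mem_map_of_mem hu)
      rw [this, map_zero]
    induction hm using Submonoid.closure_induction with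
    | mem y hy => exact ⟨w ⟨y, hy⟩, Algebra.subset_adjoin ⟨_, rfl⟩, hw ⟨y, hy⟩⟩
    | one => exact ⟨1, one_mem _, by rw [map_one, ← MonoidAlgebra.one_def, map_one]⟩
    | mul y z _ _ hy hz =>
      obtain ⟨u, hu, hue⟩ := hy
      obtain ⟨v, hv, hve⟩ := hz
      refine ⟨u * v, mul_mem hu hv, ?_⟩
      rw [map_mul, hue, hve, ← map_mul, MonoidAlgebra.single_mul_single, mul_one]
  have hzero : ∀ z, Φ (e.symm z) = 0 := by
    intro z
    induction z using MonoidAlgebra.induction_linear with
    | zero => simp
    | add u v hu hv => rw [map_add, map_add, hu, hv, add_zero]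
    | single m r =>
      rw [show MonoidAlgebra.single m r = r • MonoidAlgebra.single m (1 : K) by
        rw [MonoidAlgebra.smul_single, smul_eq_mul, mul_one], map_smul, map_smul, hall, smul_zero]
  refine hφx (hi ?_)
  rw [map_zero, ← hΦ, ← e.symm_apply_apply (π x)]
  exact hzero _

/-- Over a field, a group of multiplicative type of finite type is split by a finite separable
extension. -/
theorem exists_finite_separable_split {k : Type u} [Field k] {X : Type u} [CommRing X] [HopfAlgebra k X]
    (hX : SGA3b.IsMultType k X) [Algebra.FiniteType k X] :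
    ∃ (k' : Type u) (_ : Field k') (_ : Algebra k k'), Module.Finite k k' ∧ Algebra.IsSeparable k k' ∧
      SGA3b.IsDiagFT k' (k' ⊗[k] X) := by
  classical
  let K := SeparableClosure k
  obtain ⟨M, _, ⟨e⟩⟩ := isDiag_of_isSepClosed (K := K) (X := K ⊗[k] X) (isMultType_baseChange hX K)
  haveI : Algebra.FiniteType K (MonoidAlgebra K M) :=
    Algebra.FiniteType.of_surjective (e : K ⊗[k] X →ₐ[K] MonoidAlgebra K M) (EquivLike.surjective e)
  haveI : Monoid.FG M := MonoidAlgebra.finiteType_iff_fg.1 ‹Algebra.FiniteType K (MonoidAlgebra K M)›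
  obtain ⟨S, hS⟩ := Monoid.FG.fg_top (M := M)
  have hfin : ∀ z : K ⊗[k] X, ∃ L : IntermediateField k K, FiniteDimensional k L ∧
      z ∈ LinearMap.range (L.val.toLinearMap.rTensor X) := by
    intro z
    induction z using TensorProduct.induction_on with
    | zero => exact ⟨⊥, inferInstance, zero_mem _⟩
    | tmul x a =>
      refine ⟨IntermediateField.adjoin k {x}, IntermediateField.adjoin.finiteDimensional
        (Algebra.IsIntegral.isIntegral x), ?_⟩
      exact ⟨(⟨x, IntermediateField.mem_adjoin_simple_self k x⟩ : IntermediateField.adjoin k {x}) ⊗ₜ a, by simp⟩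
    | add u v hu hv =>
      obtain ⟨L, hL, ⟨u', rfl⟩⟩ := hu
      obtain ⟨L', hL', ⟨v', rfl⟩⟩ := hv
      haveI := hL
      haveI := hL'
      refine ⟨L ⊔ L', inferInstance, ?_⟩
      refine ⟨(IntermediateField.inclusion (le_sup_left : L ≤ L ⊔ L')).toLinearMap.rTensor X u' +
        (IntermediateField.inclusion (le_sup_right : L' ≤ L ⊔ L')).toLinearMap.rTensor X v', ?_⟩
      rw [map_add, ← LinearMap.rTensor_comp_apply, ← LinearMap.rTensor_comp_apply]
      rfl
  choose F hFfd hFmem using fun s : S => hfin (e.symm (MonoidAlgebra.single (s : M) (1 : K)))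
  let L : IntermediateField k K := ⨆ s, F s
  haveI : FiniteDimensional k L := @IntermediateField.finiteDimensional_iSup_of_finite k K _ _ _ S F _ hFfd
  have hmem : ∀ s : S, ∃ w : L ⊗[k] X,
      L.val.toLinearMap.rTensor X w = e.symm (MonoidAlgebra.single (s : M) (1 : K)) := by
    intro s
    obtain ⟨w, hw⟩ := hFmem s
    refine ⟨(IntermediateField.inclusion (le_iSup F s)).toLinearMap.rTensor X w, ?_⟩
    rw [← hw, ← LinearMap.rTensor_comp_apply]
    rfl
  choose w hw using hmem
  haveI : Algebra.IsSeparable k L := inferInstance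
  have hπw : ∀ t : S, Algebra.TensorProduct.map L.val (AlgHom.id k X) (w t) =
      e.symm (MonoidAlgebra.single (t : M) (1 : K)) := by
    intro t
    rw [map_eq_rTensor]
    exact hw t
  have hUspan := span_groupLike_of_map L.val L.val.injective e hS w hπw
  obtain ⟨M', _, ⟨e'⟩⟩ := isDiag_of_span hUspan
  haveI : Algebra.FiniteType L (MonoidAlgebra L M') :=
    Algebra.FiniteType.of_surjective (BialgEquiv.toAlgEquiv e').toAlgHom (BialgEquiv.toAlgEquiv e').surjective
  exact ⟨L, inferInstance, inferInstance, inferInstance, inferInstance, M', inferInstance,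
    Group.fg_iff_monoid_fg.2 (MonoidAlgebra.finiteType_iff_fg.1 ‹Algebra.FiniteType L (MonoidAlgebra L M')›), ⟨e'⟩⟩

end Groth.Agent.MultT
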