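import Groth.Agent.MultT.Minkowski
import Groth.Agent.MultT.Quasi
import Groth.Agent.MultT.GLElt
import Groth.Agent.MultT.ChartEquiv
import Groth.Agent.MultT.Kernel
import Groth.Agent.MultT.NilLift
import Groth.Agent.MultT.TorsionDiag
import Mathlib

/-!
# Galois criterion: diagonalisable as soon as a suitable torsion kernel is
-/

set_option autoImplicit false
set_option linter.style.haveILetI false

universe u

open TensorProduct

noncomputable section

namespace Groth.Agent.MultT

variable {R : Type u} [CommRing R] {A : Type u} [CommRing A] [HopfAlgebra R A]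
  {T T' : Type u} [CommRing T] [Algebra R T] [CommRing T'] [Algebra R T']

omit [HopfAlgebra R A] in
theorem chStage_smul [Algebra R A] (f : T →ₐ[R] T') (t : T) (z : T ⊗[R] A) :
    chStage f A (t • z) = f t • chStage f A z := by
  rw [Algebra.smul_def, map_mul, Algebra.smul_def]
  simp [Algebra.TensorProduct.algebraMap_apply]

theorem chStage_injective [Module.Flat R A] (f : T →ₐ[R] T') (hf : Function.Injective f) :
    Function.Injective (chStage f A) := fun x y h => by
  have h' := congrArg id h
  simp only [id, chStage, map_eq_rTensor] at h'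
  exact Module.Flat.rTensor_preserves_injective_linearMap _ hf h'

theorem isGroupLikeElem_of_chStage [Module.Flat R A] (f : T →ₐ[R] T') (hf : Function.Injective f)
    {x : T ⊗[R] A} (hx : IsGroupLikeElem T' (chStage f A x)) : IsGroupLikeElem T x := by
  obtain ⟨h1, h2⟩ := (isGroupLikeElem_iff_defect _).1 hx
  refine (isGroupLikeElem_iff_defect _).2
    ⟨hf (by rw [map_one, counit_chStage, h1]),
      Module.Flat.rTensor_preserves_injective_linearMap (M := A ⊗[R] A) f.toLinearMap hf ?_⟩
  rw [map_zero, glDefect_chStage, h2]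

set_option backward.isDefEq.respectTransparency false in
/-- A diagonalisation after any further base change, with its formula. -/
theorem exists_bialgEquiv_stage {M : Type u} [CommGroup M] (e : T ⊗[R] A ≃ₐc[T] MonoidAlgebra T M)
    (f : T →ₐ[R] T') :
    ∃ e' : T' ⊗[R] A ≃ₐc[T'] MonoidAlgebra T' M,
      (∀ z, e' (chStage f A z) = MonoidAlgebra.mapAlgHom M f (e z)) ∧
      ∀ m, e'.symm (MonoidAlgebra.single m 1) = chStage f A (e.symm (MonoidAlgebra.single m 1)) := by
  letI : Algebra (chartOfBaseChange e).S T' := f.toRingHom.toAlgebra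
  haveI : IsScalarTower R (chartOfBaseChange e).S T' := .of_algebraMap_eq fun r => (f.commutes r).symm
  obtain ⟨e', he'⟩ := (chartOfBaseChange e).exists_bialgEquiv_tmul T'
  have hj : ∀ a, (chartOfBaseChange e).j a = e ((1 : T) ⊗ₜ a) := by
    intro a
    show e (Bialgebra.TensorProduct.map _ _ ((1 : T) ⊗ₜ[R] ((1 : R) ⊗ₜ[R] a))) = _
    rw [Bialgebra.TensorProduct.map_tmul]
    simp
  have hz : ∀ z, e' (chStage f A z) = MonoidAlgebra.mapAlgHom M f (e z) := by
    intro z
    induction z using TensorProduct.induction_on with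
    | zero => simp
    | add u v hu hv => simp only [map_add, hu, hv]
    | tmul t a =>
      have h0 : ∀ x : MonoidAlgebra T M, MonoidAlgebra.mapAlgHom M f (t • x) =
          f t • MonoidAlgebra.mapAlgHom M f x := by
        intro x
        rw [Algebra.smul_def, map_mul, Algebra.smul_def]
        simp [MonoidAlgebra.coe_algebraMap]
      rw [show t ⊗ₜ[R] a = t • ((1 : T) ⊗ₜ[R] a) by rw [TensorProduct.smul_tmul', smul_eq_mul, mul_one],
        chStage_smul, map_smul e, h0, ← hj]
      refine (map_smul e' _ _).trans (congrArg (f t • ·) ?_)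
      refine (congrArg e' (show chStage f A ((1 : T) ⊗ₜ a) = (1 : T') ⊗ₜ a by simp)).trans (he' a)
  refine ⟨e', hz, fun m => (EquivLike.injective e') ?_⟩
  exact (e'.apply_symm_apply _).trans
    (((MonoidAlgebra.mapAlgHom_single _ _ _).trans (by rw [map_one])).symm.trans
      ((congrArg _ (e.apply_symm_apply _).symm).trans (hz _).symm))

/-- Group-like elements of a diagonalised base change are idempotent combinations of characters. -/
theorem exists_idem_expansion {M : Type u} [CommGroup M] (e : T ⊗[R] A ≃ₐc[T] MonoidAlgebra T M)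
    {u : T ⊗[R] A} (hu : IsGroupLikeElem T u) :
    ∃ (s : Finset M) (c : M → T), (∀ m, IsIdempotentElem (c m)) ∧
      u = ∑ m ∈ s, c m • e.symm (MonoidAlgebra.single m 1) := by
  refine ⟨(e u).coeff.support, fun m => (e u).coeff m, fun m => (isGL_of_isGroupLikeElem (hu.map e)).idem m, ?_⟩
  conv_lhs => rw [← e.symm_apply_apply u, ← MonoidAlgebra.sum_coeff_single (e u)]
  rw [Finsupp.sum, map_sum]
  refine Finset.sum_congr rfl fun m _ => ?_
  rw [← map_smul e.symm, MonoidAlgebra.smul_single, smul_eq_mul, mul_one]

section Galois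

variable {F : Type u} [Field F] [Algebra R F] {N : Type u} [Field N] [Algebra R N] [Algebra F N]
  [IsScalarTower R F N] [FiniteDimensional F N] [IsGalois F N]

variable (A) in
/-- The action of the Galois group. -/
abbrev galAct (σ : Gal(N/F)) : N ⊗[R] A →ₐ[R] N ⊗[R] A :=
  chStage (σ.toAlgHom.restrictScalars R) A

theorem galAct_chScal (σ : Gal(N/F)) (y : F ⊗[R] A) :
    galAct A σ (chScal (T := N) y) = chScal (T := N) y := by
  induction y using TensorProduct.induction_on with
  | zero => simp
  | add u v hu hv => simp only [map_add, hu, hv]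
  | tmul c a => simp [galAct, chScal_tmul]

theorem galAct_comp (σ τ : Gal(N/F)) (z : N ⊗[R] A) :
    galAct A (σ * τ) z = galAct A σ (galAct A τ z) := by
  induction z using TensorProduct.induction_on with
  | zero => simp
  | add u v hu hv => simp only [map_add, hu, hv]
  | tmul c a => simp [galAct]

theorem galAct_one (z : N ⊗[R] A) : galAct A (1 : Gal(N/F)) z = z := by
  induction z using TensorProduct.induction_on with
  | zero => simp
  | add u v hu hv => simp only [map_add, hu, hv]
  | tmul c a => simp [galAct]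

theorem sum_galAct (z : N ⊗[R] A) : ∑ σ : Gal(N/F), galAct A σ z =
    chScal (T := N) (((Algebra.trace F N).restrictScalars R).rTensor A z) := by
  induction z using TensorProduct.induction_on with
  | zero => simp
  | add u v hu hv => simp only [map_add, Finset.sum_add_distrib, hu, hv]
  | tmul c a =>
    simp [galAct, chScal_tmul, trace_eq_sum_automorphisms, TensorProduct.sum_tmul]

/-- A group split by a Galois extension whose suitable torsion kernel is diagonalisable is diagonalisable. -/
theorem isDiag_of_galois [Module.Flat R A] {M : Type u} [CommGroup M] [Group.FG M]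
    (e : N ⊗[R] A ≃ₐc[N] MonoidAlgebra N M) {q : ℕ} (hq : 0 < q)
    (htor : ∀ m : M, IsOfFinOrder m → m ^ q = 1) (J : Ideal A) [J.IsHopfIdeal R]
    (hJ : J = SGA3b.torsionIdeal R A (3 * q)) (hd : SGA3b.IsDiag F (F ⊗[R] (A ⧸ J))) :
    SGA3b.IsDiag F (F ⊗[R] A) := by
  classical
  let g : M → N ⊗[R] A := fun m => e.symm (MonoidAlgebra.single m 1)
  have hg : ∀ m, IsGroupLikeElem N (g m) := fun m =>
    (MonoidAlgebra.isGroupLikeElem_single_one m).map e.symm
  have hginj : Function.Injective g :=
    (EquivLike.injective e.symm).comp (MonoidAlgebra.single_left_injective (one_ne_zero (α := N)))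
  have hgsurj : ∀ u, IsGroupLikeElem N u → ∃ m, g m = u := by
    intro u hu
    obtain ⟨m, hm⟩ := MonoidAlgebra.isGroupLikeElem_iff_mem_range_single_one.1 (hu.map e)
    exact ⟨m, by simp only [g, hm, e.symm_apply_apply]⟩
  have hgmul : ∀ m m', g (m * m') = g m * g m' := fun m m' => by
    simp only [g, ← map_mul, MonoidAlgebra.single_mul_single, one_mul]
  choose ψ hψ using fun (σ : Gal(N/F)) (m : M) => hgsurj (galAct A σ (g m)) (isGroupLikeElem_chStage _ (hg m))
  have hψmul : ∀ σ m m', ψ σ (m * m') = ψ σ m * ψ σ m' := fun σ m m' => hginj (by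
    rw [hψ, hgmul, map_mul, hgmul, hψ, hψ])
  -- congruence
  let π : N ⊗[R] A →ₐc[N] N ⊗[R] (A ⧸ J) :=
    Bialgebra.TensorProduct.map (BialgHom.id N N) (Bialgebra.Quotient.mkBialgHom (R := R) J)
  have hπ : ∀ (c : N) (a : A), π (c ⊗ₜ a) = c ⊗ₜ Ideal.Quotient.mk J a := fun c a => by
    simp [π, Bialgebra.TensorProduct.map_tmul]
  have hπτ : ∀ (σ : Gal(N/F)) z, π (galAct A σ z) = galAct (A ⧸ J) σ (π z) := by
    intro σ z
    induction z using TensorProduct.induction_on with
    | zero => simp
    | add u v hu hv => simp only [map_add, hu, hv]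
    | tmul c a => simp [galAct, hπ]
  have hfix : ∀ (σ : Gal(N/F)) (m : M), galAct (A ⧸ J) σ (π (g m)) = π (g m) := by
    intro σ m
    obtain ⟨M', _, ⟨e₀⟩⟩ := hd
    have hspan : Submodule.span F {y : F ⊗[R] (A ⧸ J) | IsGroupLikeElem F y} = ⊤ := by
      refine eq_top_iff.2 fun x _ => ?_
      rw [← e₀.symm_apply_apply x, ← MonoidAlgebra.sum_coeff_single (e₀ x), Finsupp.sum, map_sum]
      refine Submodule.sum_mem _ fun l _ => ?_
      rw [show MonoidAlgebra.single l ((e₀ x).coeff l) = (e₀ x).coeff l • MonoidAlgebra.single l (1 : F) by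
        rw [MonoidAlgebra.smul_single, smul_eq_mul, mul_one], map_smul]
      exact Submodule.smul_mem _ _
        (Submodule.subset_span ((MonoidAlgebra.isGroupLikeElem_single_one l).map e₀.symm))
    have h1 := span_chScal (T := N) hspan
    let H : Set (GroupLike N (N ⊗[R] (A ⧸ J))) :=
      {y | y.val ∈ chScal (T := N) '' {y : F ⊗[R] (A ⧸ J) | IsGroupLikeElem F y}}
    by_contra hne
    have hH : (⟨π (g m), (hg m).map π⟩ : GroupLike N (N ⊗[R] (A ⧸ J))) ∉ H := by
      rintro ⟨y, -, hy⟩
      apply hne
      change chScal (T := N) y = π (g m) at hy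
      rw [← hy, galAct_chScal]
    refine (linearIndep_groupLikeVal (R := N) (A := N ⊗[R] (A ⧸ J))).notMem_span_image hH ?_
    have : chScal (T := N) '' {y : F ⊗[R] (A ⧸ J) | IsGroupLikeElem F y} ⊆ GroupLike.val '' H := by
      rintro _ ⟨y, hy, rfl⟩
      exact ⟨⟨_, isGroupLikeElem_chScal hy⟩, ⟨y, hy, rfl⟩, rfl⟩
    exact Submodule.span_mono this (h1 ▸ Submodule.mem_top)
  have hmod : ∀ (σ : Gal(N/F)) (m : M), ∃ y, ψ σ m = m * y ^ (3 * q) := by
    intro σ m
    have h1 : π (g (ψ σ m)) = π (g m) := by rw [hψ, hπτ, hfix]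
    let Q := (powMonoidHom (3 * q) : M →* M).range
    let c : Chart R A := chartOfBaseChange e
    let p : MonoidAlgebra N M →ₐ[N] MonoidAlgebra N (M ⧸ Q) :=
      MonoidAlgebra.mapDomainAlgHom N N (QuotientGroup.mk' Q)
    let G₀ : A →ₐ[R] MonoidAlgebra N (M ⧸ Q) :=
      ((p.comp (e : N ⊗[R] A →ₐ[N] MonoidAlgebra N M)).restrictScalars R).comp
        Algebra.TensorProduct.includeRight
    have hcj : ∀ a, c.j a = e ((1 : N) ⊗ₜ a) := by
      intro a
      show e (Bialgebra.TensorProduct.map _ _ ((1 : N) ⊗ₜ[R] ((1 : R) ⊗ₜ[R] a))) = _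
      rw [Bialgebra.TensorProduct.map_tmul]
      simp
    have hker : J ≤ RingHom.ker G₀ := by
      rw [hJ, SGA3b.torsionIdeal, Ideal.map_le_iff_le_comap]
      intro x hx
      rw [RingHom.mem_ker, Bialgebra.counitAlgHom_apply] at hx
      show p (e ((1 : N) ⊗ₜ SGA3b.powConv R A (3 * q) x)) = 0
      have hj := AlgHom.congr_fun (c.j_powConv (3 * q)) x
      rw [AlgHom.comp_apply, AlgHom.comp_apply] at hj
      rw [← hcj, hj]
      have key : ∀ z : MonoidAlgebra N M,
          p (MonoidAlgebra.mapDomainAlgHom N N (powMonoidHom (3 * q) : M →* M) z) =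
            p (MonoidAlgebra.mapDomainAlgHom N N (1 : M →* M) z) := by
        intro z
        induction z using MonoidAlgebra.induction_linear with
        | zero => simp
        | add a b ha hb => rw [map_add, map_add, map_add, map_add, ha, hb]
        | single l r =>
          simp [p]
          congr 1
          rw [← QuotientGroup.mk_pow, QuotientGroup.eq_one_iff]
          exact ⟨l, rfl⟩
      have h1 : c.mapD 1 (c.j x) = 0 := by
        have := congr($(c.mapD_one_comp).ofConv x)
        simpa only [WithConv.ofConv_toConv, AlgHom.comp_apply, AlgHom.convOne_apply, hx, map_zero] using! this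
      exact (key (c.j x)).trans ((congrArg _ h1).trans (map_zero _))
    let G : N ⊗[R] (A ⧸ J) →ₐ[N] MonoidAlgebra N (M ⧸ Q) :=
      Algebra.TensorProduct.lift (Algebra.ofId _ _) (Ideal.Quotient.liftₐ J G₀ fun a ha => hker ha)
        fun _ _ => Commute.all _ _
    have hG : ∀ z, G (π z) = p (e z) := by
      intro z
      induction z using TensorProduct.induction_on with
      | zero => simp
      | add u v hu hv => simp only [map_add, hu, hv]
      | tmul c a =>
        rw [hπ, show c ⊗ₜ[R] a = c • ((1 : N) ⊗ₜ[R] a) by rw [TensorProduct.smul_tmul', smul_eq_mul, mul_one],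
          map_smul, map_smul]
        simp only [G, Algebra.TensorProduct.lift_tmul, Algebra.ofId_apply, Algebra.smul_def]
        rfl
    have h2 := congrArg G h1
    rw [hG, hG] at h2
    simp only [g, e.apply_symm_apply, p, MonoidAlgebra.mapDomainAlgHom_apply, MonoidAlgebra.mapDomain_single] at h2
    have h3 : QuotientGroup.mk' Q m = QuotientGroup.mk' Q (ψ σ m) :=
      (MonoidAlgebra.single_left_injective one_ne_zero h2).symm
    obtain ⟨y, hy⟩ : m⁻¹ * ψ σ m ∈ Q := QuotientGroup.eq.1 h3
    exact ⟨y, by rw [show y ^ (3 * q) = m⁻¹ * ψ σ m from hy, mul_inv_cancel_left]⟩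
  -- triviality
  haveI : Module.Finite ℤ (Additive M) := Module.Finite.iff_addGroup_fg.2 inferInstance
  have htriv : ∀ (σ : Gal(N/F)) (m : M), ψ σ m = m := by
    intro σ
    let φ : Module.End ℤ (Additive M) :=
      (MonoidHom.mk' (ψ σ) (hψmul σ)).toAdditive.toIntLinearMap
    have hpow : ∀ (j : ℕ) (m : M), g (Additive.toMul ((φ ^ j) (Additive.ofMul m))) = galAct A (σ ^ j) (g m) := by
      intro j m
      induction j with
      | zero => rw [pow_zero, pow_zero, galAct_one]; rfl
      | succ j ih =>
        rw [pow_succ' σ, galAct_comp, ← ih, ← hψ, pow_succ', Module.End.mul_apply]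
        rfl
    have hφ : φ = 1 := by
      refine minkowski hq (fun x k hk hx => ?_) φ (fun x => ?_) (orderOf_pos σ) ?_
      · refine congrArg Additive.ofMul ((zpow_natCast _ _).trans (htor (Additive.toMul x) ?_))
        exact isOfFinOrder_iff_zpow_eq_one.2 ⟨k, hk, congrArg Additive.toMul hx⟩
      · obtain ⟨y, hy⟩ := hmod σ (Additive.toMul x)
        refine ⟨Additive.ofMul y, ?_⟩
        rw [show φ x = Additive.ofMul (ψ σ (Additive.toMul x)) from rfl, hy, ofMul_mul, ofMul_pow,
          ofMul_toMul, add_sub_cancel_left, ← natCast_zsmul]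
        push_cast
        rfl
      · refine LinearMap.ext fun x => ?_
        have := hpow (orderOf σ) (Additive.toMul x)
        rw [pow_orderOf_eq_one, galAct_one] at this
        exact congrArg Additive.ofMul (hginj this)
    intro m
    exact congrArg Additive.toMul (LinearMap.congr_fun hφ (Additive.ofMul m))
  -- descent
  obtain ⟨θ, hθ⟩ := Algebra.trace_surjective F N 1
  have hθ' : ∑ σ : Gal(N/F), σ θ = 1 := by rw [← trace_eq_sum_automorphisms, hθ, map_one]
  let w : M → F ⊗[R] A := fun m => ((Algebra.trace F N).restrictScalars R).rTensor A (θ • g m)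
  have havg : ∀ z : N ⊗[R] A, (∀ σ : Gal(N/F), galAct A σ z = z) →
      chScal (T := N) (((Algebra.trace F N).restrictScalars R).rTensor A (θ • z)) = z := by
    intro z hz
    rw [← sum_galAct]
    simp only [galAct, chStage_smul]
    simp only [galAct] at hz
    simp only [hz, ← Finset.sum_smul, AlgHom.restrictScalars_apply]
    exact (congrArg (· • z) hθ').trans (one_smul _ _)
  have hgfix : ∀ (σ : Gal(N/F)) (m : M), galAct A σ (g m) = g m := fun σ m => by rw [← hψ, htriv]
  have hw : ∀ m, chScal (T := N) (w m) = g m := fun m => havg _ fun σ => hgfix σ m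
  have hch : ∀ y : F ⊗[R] A, chScal (T := N) y = chStage (IsScalarTower.toAlgHom R F N) A y := by
    intro y
    induction y using TensorProduct.induction_on with
    | zero => simp
    | add u v hu hv => simp only [map_add, hu, hv]
    | tmul c a => simp [chScal_tmul]
  have hinj : Function.Injective (chScal (T := N) : F ⊗[R] A → N ⊗[R] A) := fun x y h => by
    rw [hch, hch] at h
    exact chStage_injective _ (algebraMap F N).injective h
  refine isDiag_of_span (eq_top_iff.2 fun y _ => ?_)
  have hwgl : ∀ m, IsGroupLikeElem F (w m) := fun m =>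
    isGroupLikeElem_of_chStage (IsScalarTower.toAlgHom R F N) (algebraMap F N).injective
      (by rw [← hch, hw]; exact hg m)
  have hy : ∀ σ : Gal(N/F), galAct A σ (chScal (T := N) y) = chScal (T := N) y := fun σ => galAct_chScal σ y
  let s := (e (chScal (T := N) y)).coeff.support
  let c := fun m => (e (chScal (T := N) y)).coeff m
  have hyexp : chScal (T := N) y = ∑ m ∈ s, c m • g m := by
    conv_lhs => rw [← e.symm_apply_apply (chScal (T := N) y), ← MonoidAlgebra.sum_coeff_single (e _)]
    rw [Finsupp.sum, map_sum]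
    refine Finset.sum_congr rfl fun m _ => ?_
    rw [← map_smul e.symm, MonoidAlgebra.smul_single, smul_eq_mul, mul_one]
  have : y = ∑ m ∈ s, Algebra.trace F N (θ * c m) • w m := by
    apply hinj
    conv_lhs => rw [← havg _ hy]
    rw [← sum_galAct, map_sum]
    simp only [map_smul, hw, hyexp, Finset.smul_sum, map_sum, smul_smul]
    simp only [galAct, chStage_smul]
    rw [Finset.sum_comm]
    refine Finset.sum_congr rfl fun m _ => ?_
    simp only [galAct] at hgfix
    simp only [hgfix, ← Finset.sum_smul, AlgHom.restrictScalars_apply]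
    rw [← algebraMap_smul N (Algebra.trace F N (θ * c m)) (g m), trace_eq_sum_automorphisms]
    rfl
  rw [this]
  exact Submodule.sum_mem _ fun m _ => Submodule.smul_mem _ _ (Submodule.subset_span (hwgl m))

end Galois

end Groth.Agent.MultT
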