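import Groth.Prelude.Def_SGA3b
import Groth.Agent.FinHopf.Deligne
import Groth.Agent.HopfSmDim.Versch
import Mathlib

/-! Quasi-finite commutative affine groups of finite presentation are killed by an integer. -/

set_option autoImplicit false
set_option synthInstance.maxHeartbeats 400000

universe u
open TensorProduct WithConv Coalgebra

noncomputable section

namespace Groth.Agent.MultT.QFKilled

variable {R C : Type u} [CommRing R] [CommRing C]

theorem eq_zero_of_cover {K : Type*} [CommRing K] {ι : Type*} (g : ι → K) (hg : Ideal.span (Set.range g) = ⊤)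
    (x : K) (hx : ∀ i, ∃ n : ℕ, g i ^ n * x = 0) : x = 0 := by
  choose n hn using hx
  choose idx hidx using fun y : Set.range g => y.2
  have h2 := Ideal.span_range_pow_eq_top (Set.range g) hg fun y => n (idx y)
  have h3 : Ideal.span (Set.range fun y : Set.range g => y.1 ^ n (idx y)) ≤ LinearMap.ker (LinearMap.toSpanSingleton K K x) := by
    rw [Ideal.span_le]
    rintro _ ⟨y, rfl⟩
    have := hn (idx y)
    rw [hidx] at this
    exact this
  exact (_root_.one_mul x).symm.trans (h3 (h2 ▸ Submodule.mem_top (x := (1 : K))))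

section field

variable [Algebra R C] {κ : Type u} [Field κ] [Algebra R κ]

/-- A chart of Zariski's main theorem bounds the dimension of an artinian localisation of a fibre. -/
theorem finrank_le_card {L : Type u} [CommRing L] [Algebra κ L] [Algebra R L] [IsScalarTower R κ L]
    [Module.Finite κ L] (P : C →ₐ[R] L) (hgen : Submodule.span κ (Set.range P) = ⊤)
    (T : Subalgebra R C) (s : Finset C) (hs : Submodule.span R (s : Set C) = Subalgebra.toSubmodule T)
    (r : T) (hbij : Function.Bijective (Localization.awayMap T.val.toRingHom r)) (hu : IsUnit (P r)) :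
    Module.finrank κ L ≤ s.card := by
  classical
  let W : Submodule κ L := Submodule.span κ (P '' (T : Set C))
  have hW : W = Submodule.span κ ((s : Set C).image P) := by
    refine le_antisymm (Submodule.span_le.2 ?_) (Submodule.span_mono (Set.image_mono fun x hx => ?_))
    · rintro _ ⟨x, hx, rfl⟩
      have hx' : x ∈ Submodule.span R (s : Set C) := hs ▸ hx
      have := Submodule.mem_map_of_mem (f := P.toLinearMap) hx'
      rw [Submodule.map_span] at this
      exact Submodule.span_le_restrictScalars R κ _ this
    · have : x ∈ Submodule.span R (s : Set C) := Submodule.subset_span hx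
      rwa [hs] at this
  have hmul : ∀ a ∈ T, ∀ w ∈ W, P a * w ∈ W := by
    intro a ha w hw
    induction hw using Submodule.span_induction with
    | mem y hy =>
      obtain ⟨y, hy, rfl⟩ := hy
      exact Submodule.subset_span ⟨a * y, T.mul_mem ha hy, map_mul P a y⟩
    | zero => simp
    | add y z _ _ h1 h2 => rw [mul_add]; exact add_mem h1 h2
    | smul e y _ h1 => rw [mul_smul_comm]; exact W.smul_mem e h1
  let mu : W →ₗ[κ] W := (LinearMap.mulLeft κ (P r)).restrict fun w hw => hmul r r.2 w hw
  have hmu : Function.Surjective mu := LinearMap.injective_iff_surjective.1 fun a b hab =>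
    Subtype.ext (hu.mul_left_cancel (congrArg Subtype.val hab))
  have hdiv : ∀ (k : ℕ) (z : L), P r ^ k * z ∈ W → z ∈ W := by
    intro k
    induction k with
    | zero => intro z hz; simpa using hz
    | succ k ih =>
      intro z hz
      obtain ⟨w, hw⟩ := hmu ⟨_, hz⟩
      have h1 : P r * (w : L) = P r * (P r ^ k * z) := by
        rw [← mul_assoc, ← pow_succ']; exact congrArg Subtype.val hw
      exact ih z (hu.mul_left_cancel h1 ▸ w.2)
  have htop : W = ⊤ := by
    refine top_le_iff.1 (hgen ▸ Submodule.span_le.2 ?_)
    rintro _ ⟨x, rfl⟩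
    obtain ⟨z, hz⟩ := hbij.2 (algebraMap C _ x)
    obtain ⟨⟨y, ⟨_, k, rfl⟩⟩, rfl⟩ := IsLocalization.exists_mk'_eq (.powers r) z |> fun ⟨a, b, h⟩ => (⟨(a, b), h⟩ : ∃ q : T × Submonoid.powers r, IsLocalization.mk' _ q.1 q.2 = z)
    rw [Localization.awayMap, IsLocalization.Away.map, IsLocalization.map_mk',
      IsLocalization.mk'_eq_iff_eq_mul, ← map_mul, IsLocalization.eq_iff_exists (.powers (T.val.toRingHom r))] at hz
    obtain ⟨⟨_, m, rfl⟩, hm⟩ := hz
    have h1 : P (r.1 ^ (m + k) * x) ∈ W := by
      simp only [AlgHom.toRingHom_eq_coe, RingHom.coe_coe, Subalgebra.coe_val, SubmonoidClass.coe_pow] at hm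
      rw [show r.1 ^ (m + k) * x = r.1 ^ m * (y : C) by rw [hm]; ring]
      exact Submodule.subset_span ⟨_, T.mul_mem (T.pow_mem r.2 m) y.2, rfl⟩
    rw [map_mul, map_pow] at h1
    exact hdiv _ _ h1
  rw [← finrank_top κ L, ← htop, hW, ← Finset.coe_image]
  exact (finrank_span_finset_le_card _).trans Finset.card_image_le

/-- The bound for one fibre. -/
theorem finrank_fibre_le [Module.Finite κ (κ ⊗[R] C)] {ι : Type*} [Fintype ι] (T : ι → Subalgebra R C)
    (s : ι → Finset C) (hs : ∀ i, Submodule.span R (s i : Set C) = Subalgebra.toSubmodule (T i)) (r : ∀ i, T i)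
    (hbij : ∀ i, Function.Bijective (Localization.awayMap (T i).val.toRingHom (r i)))
    (hcov : Ideal.span (Set.range fun i => (r i).1) = ⊤) :
    Module.finrank κ (κ ⊗[R] C) ≤ ∑ i, (s i).card := by
  classical
  haveI : IsArtinianRing (κ ⊗[R] C) := .of_finite κ _
  let g : ι → κ ⊗[R] C := fun i => (1 : κ) ⊗ₜ[R] (r i).1
  have hsurj : ∀ i, Function.Surjective (algebraMap (κ ⊗[R] C) (Localization.Away (g i))) := fun i =>
    IsArtinianRing.localization_surjective (.powers (g i)) _
  haveI : ∀ i, Module.Finite κ (Localization.Away (g i)) := fun i =>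
    Module.Finite.of_surjective (IsScalarTower.toAlgHom κ (κ ⊗[R] C) (Localization.Away (g i))).toLinearMap (hsurj i)
  let Φ : κ ⊗[R] C →ₗ[κ] ∀ i, Localization.Away (g i) :=
    LinearMap.pi fun i => (IsScalarTower.toAlgHom κ (κ ⊗[R] C) (Localization.Away (g i))).toLinearMap
  have hinj : Function.Injective Φ := by
    rw [injective_iff_map_eq_zero]
    intro x hx
    have hx' : ∀ i, ∃ n : ℕ, g i ^ n * x = 0 := fun i => by
      obtain ⟨⟨m, n, rfl⟩, hm⟩ := (IsLocalization.map_eq_zero_iff (.powers (g i)) (Localization.Away (g i)) x).1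
        (congrFun hx i)
      exact ⟨n, hm⟩
    refine eq_zero_of_cover g ?_ x hx'
    have h1 := congrArg (Ideal.map (Algebra.TensorProduct.includeRight : C →ₐ[R] κ ⊗[R] C)) hcov
    rw [Ideal.map_top, Ideal.map_span] at h1
    refine top_le_iff.1 (h1.ge.trans (Ideal.span_mono ?_))
    rintro _ ⟨_, ⟨i, rfl⟩, rfl⟩
    exact ⟨i, rfl⟩
  refine (LinearMap.finrank_le_finrank_of_injective hinj).trans
    ((Module.finrank_pi_fintype κ).trans_le (Finset.sum_le_sum fun i _ => ?_))
  let P : C →ₐ[R] Localization.Away (g i) :=
    ((IsScalarTower.toAlgHom κ (κ ⊗[R] C) (Localization.Away (g i))).restrictScalars R).comp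
      Algebra.TensorProduct.includeRight
  refine finrank_le_card P ?_ (T i) (s i) (hs i) (r i) (hbij i) (IsLocalization.Away.algebraMap_isUnit (g i))
  refine top_le_iff.1 fun z _ => ?_
  obtain ⟨x, rfl⟩ := hsurj i z
  induction x using TensorProduct.induction_on with
  | zero => simp
  | add a b ha hb => rw [map_add]; exact add_mem (ha trivial) (hb trivial)
  | tmul a b =>
    rw [show a ⊗ₜ[R] b = a • ((1 : κ) ⊗ₜ[R] b) by rw [TensorProduct.smul_tmul', smul_eq_mul, mul_one]]
    rw [Algebra.smul_def, map_mul, ← IsScalarTower.algebraMap_apply, ← Algebra.smul_def]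
    exact Submodule.smul_mem _ a (Submodule.subset_span ⟨b, rfl⟩)

end field

/-- The fibre ranks of a quasi-finite algebra of finite type are bounded. -/
theorem exists_fibre_bound [Algebra R C] [Algebra.FiniteType R C] [Algebra.QuasiFinite R C] :
    ∃ N : ℕ, ∀ (p : Ideal R) [p.IsPrime], Module.finrank p.ResidueField (p.ResidueField ⊗[R] C) ≤ N := by
  classical
  have h : ∀ q : PrimeSpectrum C, ∃ S' : Subalgebra R C, S'.toSubmodule.FG ∧ ∃ r : S',
      r.1 ∉ q.asIdeal ∧ Function.Bijective (Localization.awayMap S'.val.toRingHom r) := fun q =>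
    Algebra.QuasiFiniteAt.exists_fg_and_exists_notMem_and_awayMap_bijective (R := R) q.asIdeal
  choose S' hfg r hr hbij using h
  have hcov : Ideal.span (Set.range fun q => (r q).1) = ⊤ := by
    by_contra hne
    obtain ⟨m, hm, hle⟩ := Ideal.exists_le_maximal _ hne
    exact hr ⟨m, hm.isPrime⟩ (hle (Ideal.subset_span ⟨_, rfl⟩))
  obtain ⟨t, hts, htspan⟩ := (Ideal.span_eq_top_iff_finite _).1 hcov
  choose qq hqq using fun c : t => hts c.2
  choose s hs using fun q => hfg q
  refine ⟨∑ c : t, (s (qq c)).card, fun p _ => ?_⟩
  haveI : Module.Finite p.ResidueField (p.ResidueField ⊗[R] C) :=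
    Algebra.QuasiFinite.finite_fiber (R := R) (S := C) p
  refine finrank_fibre_le (fun c => S' (qq c)) (fun c => s (qq c)) (fun c => hs (qq c)) (fun c => r (qq c))
    (fun c => hbij (qq c)) (top_le_iff.1 (htspan.ge.trans (Ideal.span_mono fun x hx => ⟨⟨x, hx⟩, hqq ⟨x, hx⟩⟩)))

/-- An element vanishing in the fibre at `p` is killed into `p C` by some `s ∉ p`. -/
theorem exists_smul_mem_of_fibre_eq_zero [Algebra R C] (p : Ideal R) [p.IsPrime] (z : C)
    (h : (1 : p.ResidueField) ⊗ₜ[R] z = 0) :
    ∃ s : R, s ∉ p ∧ s • z ∈ Ideal.map (algebraMap R C) p := by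
  letI : Algebra C (p.Fiber C) := Algebra.TensorProduct.rightAlgebra
  let e := Ideal.Fiber.algEquivAux₁ (S := C) p
  have h1 := congrArg e h
  rw [show (1 : p.ResidueField) ⊗ₜ[R] z = algebraMap C (p.Fiber C) z from rfl, e.commutes, map_zero,
    IsScalarTower.algebraMap_apply C (Localization (Algebra.algebraMapSubmonoid C p.primeCompl)),
    Ideal.Quotient.algebraMap_eq, Ideal.Quotient.eq_zero_iff_mem,
    IsLocalization.algebraMap_mem_map_algebraMap_iff (Algebra.algebraMapSubmonoid C p.primeCompl)] at h1
  obtain ⟨_, ⟨s, hs, rfl⟩, hm⟩ := h1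
  exact ⟨s, hs, by rwa [Algebra.smul_def]⟩

section Hopf

variable [HopfAlgebra R C]

/-- On a finitely generated augmentation ideal the `m`-th power map is multiplication by `m`
modulo the square. -/
theorem powConv_sub_mem_sq (m : ℕ) (c : C) (hc : counit (R := R) c = 0) :
    SGA3b.powConv R C m c - (m : C) * c ∈ RingHom.ker (Bialgebra.counitAlgHom R C) ^ 2 := by
  let I := RingHom.ker (Bialgebra.counitAlgHom R C)
  suffices H : ∀ (m : ℕ) (c : C), SGA3b.powConv R C m c - algebraMap R C (counit c) -
      (m : C) * (c - algebraMap R C (counit c)) ∈ I ^ 2 by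
    have := H m c
    rwa [hc, map_zero, sub_zero, sub_zero] at this
  have hI : ∀ (n : ℕ) (a : C), SGA3b.powConv R C n a - algebraMap R C (counit a) ∈ I := by
    intro n a
    rw [RingHom.mem_ker, map_sub, AlgHom.commutes, Algebra.algebraMap_self_apply]
    induction n generalizing a with
    | zero => simp [SGA3b.powConv, AlgHom.convOne_apply, Bialgebra.counitAlgHom_apply]
    | succ n ih =>
      have ih' : ∀ b, counit (R := R) (SGA3b.powConv R C n b) = counit b := fun b => sub_eq_zero.1 (ih b)
      simp only [SGA3b.powConv, pow_succ, AlgHom.convMul_apply, ofConv_toConv, Bialgebra.counitAlgHom_apply]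
      have key : ∀ z : C ⊗[R] C, counit (R := R) (Algebra.TensorProduct.lift (SGA3b.powConv R C n) (AlgHom.id R C)
          (fun _ _ => .all _ _) z) = counit (R := R) (TensorProduct.lid R C (TensorProduct.map (counit (R := R) (A := C)) LinearMap.id z)) := by
        intro z
        induction z using TensorProduct.induction_on with
        | zero => simp
        | tmul x y => simp [ih']
        | add x y hx hy => simp only [map_add, hx, hy]
      rw [sub_eq_zero]
      refine (key _).trans ?_
      rw [← LinearMap.rTensor_def, Coalgebra.rTensor_counit_comul]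
      simp
  intro m
  induction m with
  | zero => intro c; simp [SGA3b.powConv, AlgHom.convOne_apply]
  | succ m ih =>
    intro c
    let f := SGA3b.powConv R C m
    let δ : C →ₗ[R] C := LinearMap.id - Algebra.linearMap R C ∘ₗ counit
    have key : ∀ z : C ⊗[R] C,
        Algebra.TensorProduct.lift f (AlgHom.id R C) (fun _ _ => .all _ _) z +
          algebraMap R C (LinearMap.mul' R R (TensorProduct.map (counit (R := R)) (counit (R := R)) z)) -
          f (TensorProduct.rid R C ((counit (R := R) (A := C)).lTensor C z)) -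
          TensorProduct.lid R C ((counit (R := R) (A := C)).rTensor C z) ∈ I ^ 2 := by
      intro z
      induction z using TensorProduct.induction_on with
      | zero => simp
      | tmul x y =>
        have h1 := Ideal.mul_mem_mul (hI m x) (show δ y ∈ I by
          simp [I, δ, RingHom.mem_ker, Bialgebra.counitAlgHom_apply])
        rw [← pow_two] at h1
        convert h1 using 1
        simp [δ, f, Algebra.smul_def]
        ring
      | add x y hx hy =>
        convert add_mem hx hy using 1
        simp only [map_add]
        ring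
    have h0 := key (comul (R := R) c)
    simp only [Coalgebra.lTensor_counit_comul, Coalgebra.rTensor_counit_comul, TensorProduct.rid_tmul,
      TensorProduct.lid_tmul, one_smul] at h0
    have h1 : LinearMap.mul' R R (TensorProduct.map (counit (R := R)) (counit (R := R)) (comul (R := R) c)) = counit (R := R) c := by
      rw [show TensorProduct.map (counit (R := R) (A := C)) (counit (R := R) (A := C)) =
        (counit (R := R)).lTensor R ∘ₗ (counit (R := R)).rTensor C from TensorProduct.ext' fun a b => by simp]
      rw [LinearMap.comp_apply, Coalgebra.rTensor_counit_comul, LinearMap.lTensor_tmul, LinearMap.mul'_apply,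
        one_mul]
    rw [h1] at h0
    have h2 : SGA3b.powConv R C (m + 1) c = Algebra.TensorProduct.lift f (AlgHom.id R C) (fun _ _ => .all _ _) (comul (R := R) c) := by
      simp [f, SGA3b.powConv, pow_succ, AlgHom.convMul_apply]
    rw [← h2] at h0
    convert add_mem h0 (ih c) using 1
    push_cast
    simp only [f]
    ring

theorem powConv_comp_powConv (a b : ℕ) :
    (SGA3b.powConv R C a).comp (SGA3b.powConv R C b) = SGA3b.powConv R C (a * b) := by
  have h : ∀ b, toConv ((SGA3b.powConv R C a).comp ((toConv (AlgHom.id R C)) ^ b).ofConv) =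
      toConv (AlgHom.id R C) ^ (a * b) := by
    intro b
    induction b with
    | zero =>
      refine WithConv.ext (AlgHom.ext fun x => ?_)
      simp [AlgHom.convOne_apply]
    | succ b ih =>
      rw [pow_succ, AlgHom.comp_convMul_distrib, toConv_ofConv, ih, AlgHom.comp_id, SGA3b.powConv,
        toConv_ofConv, ← pow_add, Nat.mul_succ]
  exact congrArg WithConv.ofConv (h b)

/-- A commutative group of finite presentation with fibres killed by one integer is killed by an integer. -/
theorem exists_killed_of_fibres [Coalgebra.IsCocomm R C] [Algebra.FinitePresentation R C] (N : ℕ) (hN : 0 < N)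
    (hfib : ∀ (p : Ideal R) [p.IsPrime] (c : C), (1 : p.ResidueField) ⊗ₜ[R] SGA3b.powConv R C N c =
      (1 : p.ResidueField) ⊗ₜ[R] algebraMap R C (counit c)) :
    ∃ n : ℕ, 0 < n ∧ ∀ c : C, SGA3b.powConv R C n c = algebraMap R C (counit c) := by
  classical
  let f := SGA3b.powConv R C N
  let I := RingHom.ker (Bialgebra.counitAlgHom R C)
  have hIfg : I.FG := by
    haveI : Algebra.FinitePresentation R R := Algebra.FinitePresentation.self R
    exact Algebra.FinitePresentation.ker_fG_of_surjective (Bialgebra.counitAlgHom R C)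
      fun r => ⟨algebraMap R C r, by simp⟩
  have hε : ∀ c, counit (R := R) (f c) = counit c := by
    intro c
    have h := powConv_sub_mem_sq (R := R) N (c - algebraMap R C (counit c)) (by simp)
    have h' : counit (R := R) _ = 0 := Ideal.pow_le_self (two_ne_zero) h
    simpa [map_sub, AlgHom.commutes, f, sub_eq_zero, Bialgebra.counit_mul, Bialgebra.counit_natCast] using h'
  have hnil : ∀ c ∈ I, IsNilpotent (f c) := by
    intro c hc
    rw [nilpotent_iff_mem_prime]
    intro q hq
    let p := q.comap (algebraMap R C)
    haveI : p.IsPrime := Ideal.IsPrime.comap _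
    let ψ : p.ResidueField ⊗[R] C →ₐ[R] q.ResidueField := Algebra.TensorProduct.lift
      (AlgHom.mk (Ideal.ResidueField.map p q (algebraMap R C) rfl) (fun r => by
        rw [IsScalarTower.algebraMap_apply R C q.ResidueField]; simp))
      (IsScalarTower.toAlgHom R C q.ResidueField) (fun _ _ => .all _ _)
    have h := congrArg ψ (hfib p c)
    rw [show counit (R := R) c = 0 from hc, map_zero, TensorProduct.tmul_zero, map_zero] at h
    simp only [ψ, Algebra.TensorProduct.lift_tmul, map_one, one_mul] at h
    exact (Ideal.algebraMap_residueField_eq_zero).1 h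
  -- localising where `N` is invertible, the augmentation ideal vanishes
  have hrad : (N : C) ∈ ((⊥ : Ideal C).colon (I : Set C) ⊔ I).radical := by
    rw [Ideal.radical_eq_sInf, Ideal.mem_sInf]
    rintro q ⟨hle, hq⟩
    by_contra hN
    haveI : q.IsPrime := hq
    let p := q.comap (algebraMap R C)
    haveI : p.IsPrime := Ideal.IsPrime.comap _
    have hIq : I ≤ q := le_trans le_sup_right hle
    have hs : ∀ c : C, c ∈ I → ∃ u : C, u ∉ q ∧ u * c ∈ q * I := by
      intro c hc
      have h := hfib p c
      rw [show counit (R := R) c = 0 from hc, map_zero, TensorProduct.tmul_zero] at h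
      obtain ⟨s, hsp, hs⟩ := exists_smul_mem_of_fibre_eq_zero p (f c) h
      have hsC : algebraMap R C s ∉ q := hsp
      refine ⟨algebraMap R C s * (N : C), hq.mul_notMem hsC hN, ?_⟩
      have h1 : algebraMap R C s * f c ∈ q * I := by
        have h0 : counit (R := R) (s • f c) = 0 := by rw [map_smul, hε, show counit (R := R) c = 0 from hc, smul_zero]
        have : ∀ z ∈ Ideal.map (algebraMap R C) p, z - algebraMap R C (counit z) ∈ q * I := by
          intro z hz
          induction hz using Submodule.span_induction with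
          | mem z hz =>
            obtain ⟨a, -, rfl⟩ := hz
            simp
          | zero => simp
          | add x y _ _ hx hy =>
            convert add_mem hx hy using 1
            simp only [map_add]; ring
          | smul b x hxm hx =>
            have hxq : x ∈ q := Ideal.map_comap_le hxm
            have hb : b - algebraMap R C (counit b) ∈ I := by simp [I, RingHom.mem_ker, Bialgebra.counitAlgHom_apply]
            convert add_mem ((q * I).mul_mem_left (algebraMap R C (counit b)) hx) (Ideal.mul_mem_mul hxq hb) using 1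
            simp only [smul_eq_mul, Bialgebra.counit_mul, map_mul]; ring
        have h3 := this _ hs
        rw [h0, map_zero, sub_zero, Algebra.smul_def] at h3
        exact h3
      have h2 : f c - (N : C) * c ∈ q * I := by
        have := powConv_sub_mem_sq (R := R) N c hc
        rw [pow_two] at this
        exact Ideal.mul_mono_left hIq this
      convert sub_mem h1 ((q * I).mul_mem_left (algebraMap R C s) h2) using 1
      ring
    obtain ⟨t, ht⟩ := hIfg
    choose! u hu hu' using hs
    let U := ∏ c ∈ t, u c
    have hmem : ∀ c ∈ t, c ∈ I := fun c hc => ht ▸ Ideal.subset_span hc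
    have hU : U ∉ q := fun h => by
      obtain ⟨c, hc, hc'⟩ := hq.prod_mem_iff.1 h
      exact hu c (hmem c hc) hc'
    have hUI : ∀ c ∈ I, U * c ∈ q * I := by
      intro c hc
      rw [← ht] at hc
      induction hc using Submodule.span_induction with
      | mem z hz =>
        obtain ⟨v, hv⟩ := Finset.dvd_prod_of_mem u hz
        show U * z ∈ _
        rw [show U * z = v * (u z * z) by rw [show U = u z * v from hv]; ring]
        exact (q * I).mul_mem_left v (hu' z (hmem z hz))
      | zero => simp
      | add x y _ _ hx hy => rw [mul_add]; exact add_mem hx hy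
      | smul b x _ hx => rw [smul_eq_mul, mul_left_comm]; exact (q * I).mul_mem_left b hx
    haveI : Module.Finite C I := Module.Finite.iff_fg.2 ⟨t, ht⟩
    obtain ⟨P, hmon, -, hcoef, hP⟩ :=
      LinearMap.exists_monic_and_natDegree_eq_and_coeff_mem_pow_and_aeval_eq_zero C
        (algebraMap C (Module.End C I) U) q (by
          rintro _ ⟨x, rfl⟩
          rw [Module.algebraMap_end_apply, Submodule.mem_smul_top_iff]
          exact hUI x x.2)
    have hz : ∀ x : C, x ∈ I → P.eval U * x = 0 := fun x hx => by
      have := LinearMap.congr_fun hP ⟨x, hx⟩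
      rw [Polynomial.aeval_algebraMap_apply, Module.algebraMap_end_apply] at this
      simpa using congrArg Subtype.val this
    have hV : P.eval U ∈ q := hle (Ideal.mem_sup_left (Submodule.mem_colon.2 fun x hx => by
      rw [Ideal.mem_bot]; exact hz x hx))
    apply hU
    rw [Polynomial.eval_eq_sum_range, Finset.sum_range_succ, hmon.coeff_natDegree, one_mul] at hV
    refine hq.mem_of_pow_mem P.natDegree (((q.add_mem_iff_right ?_).1) hV)
    refine Ideal.sum_mem _ fun i hi => q.mul_mem_right _ ?_
    exact Ideal.pow_le_self (by have := Finset.mem_range.1 hi; omega) (hcoef i)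
  obtain ⟨k, hk⟩ := hrad
  have hD : ∀ c ∈ I, ((N ^ k : ℕ) : C) * c ∈ I ^ 2 := by
    intro c hc
    obtain ⟨a, ha, b, hb, hab⟩ := Submodule.mem_sup.1 hk
    rw [Nat.cast_pow, ← hab, add_mul, show a * c = 0 from (Submodule.mem_bot C).1 (Submodule.mem_colon.1 ha c hc), zero_add, pow_two]
    exact Ideal.mul_mem_mul hb hc
  let g := SGA3b.powConv R C (N ^ k)
  have hg : ∀ c ∈ I, g c ∈ I ^ 2 := by
    intro c hc
    have := powConv_sub_mem_sq (R := R) (N ^ k) c hc
    simpa [g] using add_mem this (hD c hc)
  have hgI : ∀ j, ∀ c ∈ I, SGA3b.powConv R C ((N ^ k) ^ j) c ∈ I ^ (2 ^ j) := by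
    intro j
    induction j with
    | zero => intro c hc; simpa [SGA3b.powConv] using hc
    | succ j ih =>
      intro c hc
      rw [pow_succ (N ^ k), ← powConv_comp_powConv, AlgHom.comp_apply]
      have h1 : Ideal.map (SGA3b.powConv R C ((N ^ k) ^ j)) (I ^ 2) ≤ I ^ (2 ^ (j + 1)) := by
        rw [Ideal.map_pow, pow_succ 2 j, pow_mul]
        exact Ideal.pow_right_mono (Ideal.map_le_iff_le_comap.2 ih) 2
      exact h1 (Ideal.mem_map_of_mem _ (hg c hc))
  let J := Ideal.map f I
  obtain ⟨e, he⟩ := (Ideal.FG.isNilpotent_iff_le_nilradical (hIfg.map f.toRingHom)).2 (Ideal.map_le_iff_le_comap.2 fun c hc => hnil c hc)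
  refine ⟨N * (N ^ k) ^ e, Nat.mul_pos hN (pow_pos (pow_pos hN k) e), fun c => ?_⟩
  have hc : c - algebraMap R C (counit c) ∈ I := by simp [I, RingHom.mem_ker, Bialgebra.counitAlgHom_apply]
  have h := Ideal.mem_map_of_mem f (hgI e _ hc)
  rw [Ideal.map_pow] at h
  have h0 : Ideal.map f I ^ 2 ^ e ≤ ⊥ := (Ideal.pow_le_pow_right (Nat.lt_two_pow_self).le).trans he.le
  have h' := (Ideal.mem_bot).1 (h0 h)
  rwa [← AlgHom.comp_apply f, powConv_comp_powConv, map_sub, AlgHom.commutes, sub_eq_zero] at h'

/-- A quasi-finite commutative group of finite presentation is killed by a positive integer. -/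
theorem exists_killed [Coalgebra.IsCocomm R C] [Algebra.FinitePresentation R C] [Algebra.QuasiFinite R C] :
    ∃ n : ℕ, 0 < n ∧ ∀ c : C, SGA3b.powConv R C n c = algebraMap R C (counit c) := by
  classical
  obtain ⟨M, hM⟩ := exists_fibre_bound (R := R) (C := C)
  refine exists_killed_of_fibres M.factorial M.factorial_pos fun p _ c => ?_
  let N := M.factorial
  haveI : Module.Finite (p.ResidueField) ((p.ResidueField) ⊗[R] C) := Algebra.QuasiFinite.finite_fiber (R := R) (S := C) p
  rcases Nat.eq_zero_or_pos (Module.finrank (p.ResidueField) ((p.ResidueField) ⊗[R] C)) with h0 | h0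
  · haveI : Subsingleton ((p.ResidueField) ⊗[R] C) := Module.finrank_zero_iff.1 h0
    exact Subsingleton.elim _ _
  obtain ⟨e, he⟩ := Nat.dvd_factorial h0 (hM p)
  have h1 : toConv (AlgHom.id (p.ResidueField) ((p.ResidueField) ⊗[R] C)) ^ N = 1 := by
    rw [show N = _ from he, pow_mul,
      FinHopf.point_pow_eq_one_of_free (R := (p.ResidueField)) (A := (p.ResidueField) ⊗[R] C) (AlgHom.id (p.ResidueField) ((p.ResidueField) ⊗[R] C)), one_pow]
  have h2 := VerschComp.powConv_one_tmul (R := R) (A := C) (p.ResidueField) N c
  rw [SGA3b.powConv, h1, AlgHom.convOne_apply] at h2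
  refine h2.symm.trans ?_
  rw [TensorProduct.counit_tmul, Algebra.TensorProduct.algebraMap_apply, Algebra.algebraMap_self_apply,
    CommSemiring.counit_apply, Algebra.algebraMap_eq_smul_one (R := R) (A := C), ← TensorProduct.smul_tmul]

end Hopf

end Groth.Agent.MultT.QFKilled
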