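import Groth.Agent.MultT.Chart
import Mathlib.LinearAlgebra.TensorProduct.Quotient
import Mathlib.RingTheory.HopfAlgebra.Convolution

/-!
# Rigidity of homomorphisms out of groups of multiplicative type
-/

universe u

open TensorProduct WithConv

noncomputable section

namespace Groth.Agent.MultT

/-- Commuting idempotents congruent modulo a nilpotent are equal. -/
theorem eq_of_commute_idempotent {W : Type*} [Ring W] {e f : W} (he : e * e = e) (hf : f * f = f)
    (hc : Commute e f) (hn : IsNilpotent (e - f)) : e = f := by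
  have h3 : (e - f) ^ 3 = e - f := by
    have hfe : f * e = e * f := hc.eq.symm
    have h1 : ∀ x, e * (e * x) = e * x := fun x => by rw [← mul_assoc, he]
    have h2 : ∀ x, f * (f * x) = f * x := fun x => by rw [← mul_assoc, hf]
    have h4 : ∀ x, f * (e * x) = e * (f * x) := fun x => by rw [← mul_assoc, hfe, mul_assoc]
    simp only [pow_succ, pow_zero, one_mul, sub_mul, mul_sub, mul_assoc, he, hf, hfe, h1, h2, h4]
    abel
  obtain ⟨n, hn⟩ := hn
  have key : ∀ k : ℕ, (e - f) ^ (2 * k + 1) = e - f := by
    intro k
    induction k with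
    | zero => simp
    | succ k ih =>
      rw [show 2 * (k + 1) + 1 = 2 + (2 * k + 1) by ring, pow_add, ih, ← pow_succ, h3]
  exact sub_eq_zero.mp ((key n).symm.trans (pow_eq_zero_of_le (by omega) hn))

variable {R : Type u} [CommRing R] {A : Type u} [CommRing A] [HopfAlgebra R A]
  {C : Type u} [CommRing C] [HopfAlgebra R C]

/-- The functionals `x` with values in an ideal. -/
def InIdeal {T : Type u} [CommRing T] [Algebra R T] (K : Ideal T) (x : WithConv (C →ₗ[R] T)) : Prop :=
  ∀ a, x a ∈ K

theorem InIdeal.mul {T : Type u} [CommRing T] [Algebra R T] {K L : Ideal T}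
    {x y : WithConv (C →ₗ[R] T)} (hx : InIdeal K x) (hy : InIdeal L y) : InIdeal (K * L) (x * y) := by
  intro a
  rw [LinearMap.convMul_apply]
  induction Coalgebra.comul (R := R) a using TensorProduct.induction_on with
  | zero => simp
  | tmul b c => simpa using Ideal.mul_mem_mul (hx b) (hy c)
  | add b c hb hc => simp only [map_add]; exact add_mem hb hc

theorem InIdeal.pow {T : Type u} [CommRing T] [Algebra R T] {K : Ideal T}
    {x : WithConv (C →ₗ[R] T)} (hx : InIdeal K x) : ∀ n : ℕ, InIdeal (K ^ n) (x ^ n)
  | 0 => fun a => by simp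
  | n + 1 => by
    rw [pow_succ, pow_succ]
    exact (InIdeal.pow hx n).mul hx

theorem InIdeal.eq_zero {T : Type u} [CommRing T] [Algebra R T]
    {x : WithConv (C →ₗ[R] T)} (hx : InIdeal ⊥ x) : x = 0 :=
  WithConv.ext (LinearMap.ext fun a => (Submodule.mem_bot T).mp (hx a))

theorem InIdeal.isNilpotent {T : Type u} [CommRing T] [Algebra R T] {K : Ideal T} (hK : IsNilpotent K)
    {x : WithConv (C →ₗ[R] T)} (hx : InIdeal K x) : IsNilpotent x := by
  obtain ⟨n, hn⟩ := hK
  exact ⟨n, InIdeal.eq_zero (by simpa [hn] using hx.pow n)⟩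

theorem antipode_comp (φ : C →ₐc[R] A) (x : C) :
    HopfAlgebra.antipode R (φ x) = φ (HopfAlgebra.antipode R x) := by
  have h : toConv ((HopfAlgebra.antipodeAlgHom R A).comp (φ : C →ₐ[R] A)) *
      toConv (φ : C →ₐ[R] A) = 1 := by
    refine WithConv.ext (AlgHom.ext fun y => ?_)
    rw [AlgHom.convMul_apply, AlgHom.convOne_apply]
    have h1 := HopfAlgebra.mul_antipode_rTensor_comul_apply (R := R) (φ y)
    rw [CoalgHomClass.counit_comp_apply,
      show Coalgebra.comul (R := R) (φ y) = _ from
        (LinearMap.congr_fun (φ : C →ₗc[R] A).map_comp_comul y).symm, LinearMap.comp_apply] at h1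
    rw [← h1]
    induction Coalgebra.comul (R := R) y using TensorProduct.induction_on with
    | zero => simp
    | tmul a b => simp
    | add a b ha hb => simp only [map_add, ha, hb]
  exact AlgHom.congr_fun (congrArg WithConv.ofConv (eq_inv_of_mul_eq_one_left h)) x

variable (c : Chart R A)

/-- The coefficient functionals of a homomorphism. -/
def Chart.pull (φ : C →ₐc[R] A) (m : c.M) : WithConv (C →ₗ[R] c.S) :=
  toConv ((c.cf m).ofConv ∘ₗ (φ : C →ₗc[R] A).toLinearMap)

theorem Chart.pull_apply (φ : C →ₐc[R] A) (m : c.M) (x : C) :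
    c.pull φ m x = cfM c.S m (c.j (φ x)) := rfl

theorem Chart.pull_mul_pull (φ : C →ₐc[R] A) (m n : c.M) :
    c.pull φ m * c.pull φ n = toConv ((c.cf m * c.cf n).ofConv ∘ₗ (φ : C →ₗc[R] A).toLinearMap) := by
  rw [LinearMap.convMul_comp_coalgHom_distrib]
  rfl

theorem Chart.pull_mul_self (φ : C →ₐc[R] A) (m : c.M) :
    c.pull φ m * c.pull φ m = c.pull φ m := by
  rw [c.pull_mul_pull, c.cf_mul_self]
  rfl

theorem Chart.pull_mul_ne (φ : C →ₐc[R] A) {m n : c.M} (h : m ≠ n) :
    c.pull φ m * c.pull φ n = 0 := by
  rw [c.pull_mul_pull, c.cf_mul_ne h]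
  rfl

theorem cfM_algebraMap {T : Type u} [CommRing T] [Algebra R T] {M : Type u} [CommGroup M]
    [DecidableEq M] (m : M) (r : R) :
    cfM T m (algebraMap R (MonoidAlgebra T M) r) = if m = 1 then algebraMap R T r else 0 := by
  rw [MonoidAlgebra.coe_algebraMap, Function.comp_apply, cfM_single]
  exact if_congr eq_comm rfl rfl

/-- Elements of `I A` have coefficients in `I S`. -/
theorem Chart.cf_mem_of_mem {I : Ideal R} {x : A} (hx : x ∈ Ideal.map (algebraMap R A) I) (m : c.M) :
    c.cf m x ∈ Ideal.map (algebraMap R c.S) I := by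
  rw [← Submodule.restrictScalars_mem R, ← Ideal.smul_top_eq_map] at hx
  refine Submodule.smul_induction_on hx (fun r hr a _ => ?_) (fun a b ha hb => ?_)
  · rw [map_smul, Algebra.smul_def]
    exact Ideal.mul_mem_right _ _ (Ideal.mem_map_of_mem _ hr)
  · rw [map_add]
    exact add_mem ha hb

theorem mem_map_of_tmul_eq {I : Ideal R} {x y : A}
    (h : (1 : R ⧸ I) ⊗ₜ[R] x = (1 : R ⧸ I) ⊗ₜ[R] y) : x - y ∈ Ideal.map (algebraMap R A) I := by
  have h' := congrArg (TensorProduct.quotTensorEquivQuotSMul A I) h
  rw [← map_one (Ideal.Quotient.mk I)] at h'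
  simp only [TensorProduct.quotTensorEquivQuotSMul_mk_tmul, one_smul] at h'
  rw [Submodule.Quotient.eq] at h'
  rw [← Submodule.restrictScalars_mem R, ← Ideal.smul_top_eq_map]
  exact h'

theorem pull_sub_inIdeal {I : Ideal R} (φ ψ : C →ₐc[R] A)
    (h : ∀ x, φ x - ψ x ∈ Ideal.map (algebraMap R A) I) (m : c.M) :
    InIdeal (Ideal.map (algebraMap R c.S) I) (c.pull φ m - c.pull ψ m) := fun x => by
  show c.cf m (φ x) - c.cf m (ψ x) ∈ _
  rw [← map_sub]
  exact c.cf_mem_of_mem (h x) m

/-- Homomorphisms into a commutative group congruent modulo a nilpotent ideal agree. -/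
theorem eq_of_mod_nilpotent [Coalgebra.IsCocomm R C] (hA : SGA3b.IsMultType R A) {I : Ideal R}
    (hI : IsNilpotent I) (φ ψ : C →ₐc[R] A)
    (h : ∀ x, φ x - ψ x ∈ Ideal.map (algebraMap R A) I) : φ = ψ := by
  refine DFunLike.ext _ _ fun x => eq_of_forall_chart hA fun c _ => cfM_ext fun m => ?_
  have hn : IsNilpotent (Ideal.map (algebraMap R c.S) I) := by
    obtain ⟨n, hn⟩ := hI
    exact ⟨n, by rw [← Ideal.map_pow, hn]; exact Ideal.map_bot⟩
  have := eq_of_commute_idempotent (c.pull_mul_self φ m) (c.pull_mul_self ψ m) (Commute.all _ _)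
    ((pull_sub_inIdeal c φ ψ h m).isNilpotent hn)
  exact congr($this x)

/-- Homomorphisms congruent to the trivial one modulo a nilpotent ideal are trivial. -/
theorem eq_counit_of_mod_nilpotent (hA : SGA3b.IsMultType R A) {I : Ideal R}
    (hI : IsNilpotent I) (φ : C →ₐc[R] A)
    (h : ∀ x, φ x - algebraMap R A (Coalgebra.counit (R := R) x) ∈ Ideal.map (algebraMap R A) I)
    (x : C) : φ x = algebraMap R A (Coalgebra.counit (R := R) x) := by
  refine eq_of_forall_chart hA fun c _ => cfM_ext fun m => ?_
  classical
  rw [c.j.commutes, cfM_algebraMap]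
  have hn : IsNilpotent (Ideal.map (algebraMap R c.S) I) := by
    obtain ⟨n, hn⟩ := hI
    exact ⟨n, by rw [← Ideal.map_pow, hn]; exact Ideal.map_bot⟩
  let f : WithConv (C →ₗ[R] c.S) := if m = 1 then 1 else 0
  have hff : f * f = f := by
    show (if m = 1 then (1 : WithConv (C →ₗ[R] c.S)) else 0) * (if m = 1 then 1 else 0) = _
    split_ifs with hm <;> simp [f, hm]
  have hfv : ∀ y, f y = if m = 1 then algebraMap R c.S (Coalgebra.counit (R := R) y) else 0 := fun y => by
    show (if m = 1 then (1 : WithConv (C →ₗ[R] c.S)) else 0) y = _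
    split_ifs <;> simp
  have hd : InIdeal (Ideal.map (algebraMap R c.S) I) (c.pull φ m - f) := fun y => by
    have := c.cf_mem_of_mem (h y) m
    rw [map_sub, c.cf_apply, c.cf_apply, c.j.commutes, cfM_algebraMap] at this
    show c.cf m (φ y) - f y ∈ _
    rw [hfv]
    exact this
  have hcomm : Commute (c.pull φ m) f := by
    show Commute _ (if m = 1 then (1 : WithConv (C →ₗ[R] c.S)) else 0)
    split_ifs
    · exact Commute.one_right _
    · exact Commute.zero_right _
  have := eq_of_commute_idempotent (c.pull_mul_self φ m) hff hcomm (hd.isNilpotent hn)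
  rw [← hfv]
  exact congr($this x)

theorem Chart.inv_eq_antipode [DecidableEq c.M] (a : A) (m : c.M) :
    c.cf m (HopfAlgebra.antipode R a) = c.cf m⁻¹ a := by
  let inv : MonoidAlgebra c.S c.M →ₐ[R] MonoidAlgebra c.S c.M :=
    (MonoidAlgebra.mapDomainAlgHom c.S c.S (invMonoidHom : c.M →* c.M)).restrictScalars R
  have h1 : toConv (c.j.comp (HopfAlgebra.antipodeAlgHom R A)) * toConv c.j = 1 := by
    have := congrArg (fun f : WithConv (A →ₐ[R] A) => toConv (c.j.comp f.ofConv))
      (AlgHom.antipode_id_cancel (R := R) (A := A))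
    simp only [AlgHom.comp_convMul_distrib, toConv_ofConv, AlgHom.comp_id] at this
    refine this.trans ?_
    exact WithConv.ext (AlgHom.ext fun x => c.j.commutes _)
  have h2 : toConv c.j * toConv (inv.comp c.j) = 1 := by
    refine WithConv.ext (AlgHom.ext fun x => ?_)
    rw [AlgHom.convMul_apply, AlgHom.convOne_apply]
    let r := Coalgebra.Repr.arbitrary R x
    let F : Finset c.M := (c.j x).coeff.support ∪
      (r.index.biUnion fun i => (c.j (r.left i)).coeff.support ∪ (c.j (r.right i)).coeff.support)
    have hexp : ∀ y : MonoidAlgebra c.S c.M, y.coeff.support ⊆ F →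
        y = ∑ l ∈ F, MonoidAlgebra.single l (cfM c.S l y) := by
      intro y hy
      conv_lhs => rw [← MonoidAlgebra.sum_coeff_single y]
      exact Finset.sum_subset hy (fun l _ hl => by
        simp [Finsupp.notMem_support_iff.mp hl])
    rw [← r.eq, map_sum]
    simp only [Algebra.TensorProduct.lift_tmul, ofConv_toConv, AlgHom.comp_apply]
    calc ∑ i ∈ r.index, c.j (r.left i) * inv (c.j (r.right i))
        = ∑ i ∈ r.index, ∑ l ∈ F, ∑ n ∈ F,
            MonoidAlgebra.single (l * n⁻¹) (c.cf l (r.left i) * c.cf n (r.right i)) := by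
          refine Finset.sum_congr rfl fun i hi => ?_
          conv_lhs => rw [hexp (c.j (r.left i)) ((Finset.subset_union_left.trans
              (Finset.subset_biUnion_of_mem (fun i => (c.j (r.left i)).coeff.support ∪
                (c.j (r.right i)).coeff.support) hi)).trans Finset.subset_union_right),
            hexp (c.j (r.right i)) ((Finset.subset_union_right.trans
              (Finset.subset_biUnion_of_mem (fun i => (c.j (r.left i)).coeff.support ∪
                (c.j (r.right i)).coeff.support) hi)).trans Finset.subset_union_right),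
            map_sum, Finset.sum_mul_sum]
          simp [inv, c.cf_apply]
      _ = ∑ l ∈ F, ∑ n ∈ F, MonoidAlgebra.single (l * n⁻¹) ((c.cf l * c.cf n) x) := by
          rw [Finset.sum_comm]
          refine Finset.sum_congr rfl fun l _ => ?_
          rw [Finset.sum_comm]
          refine Finset.sum_congr rfl fun n _ => ?_
          rw [r.convMul_apply]
          exact (map_sum (MonoidAlgebra.lsingle (R := c.S) (l * n⁻¹)) _ _).symm
      _ = ∑ l ∈ F, MonoidAlgebra.single (1 : c.M) (c.cf l x) := by
          refine Finset.sum_congr rfl fun l hl => ?_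
          rw [Finset.sum_eq_single_of_mem l hl, c.cf_mul_self, mul_inv_cancel]
          intro n _ hn
          rw [c.cf_mul_ne (Ne.symm hn)]
          simp
      _ = algebraMap R _ (Coalgebra.counit (R := R) x) := by
          have hsum : ∑ l ∈ F, MonoidAlgebra.single (1 : c.M) (c.cf l x) =
              MonoidAlgebra.single (1 : c.M) (∑ l ∈ F, c.cf l x) :=
            (map_sum (MonoidAlgebra.lsingle (R := c.S) (1 : c.M)) _ _).symm
          rw [hsum, MonoidAlgebra.coe_algebraMap, Function.comp_apply,
            ← c.total x, Finsupp.sum]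
          congr 1
          exact (Finset.sum_subset Finset.subset_union_left fun l _ hl =>
            Finsupp.notMem_support_iff.mp hl).symm
  have h := congr($(left_inv_eq_right_inv h1 h2).ofConv a)
  simp only [ofConv_toConv, AlgHom.comp_apply, HopfAlgebra.antipodeAlgHom_apply] at h
  rw [c.cf_apply, h, c.cf_apply]
  induction c.j a using MonoidAlgebra.induction_linear with
  | zero => simp
  | add y z hy hz => simp only [map_add, hy, hz]
  | single l s =>
    simp only [inv, AlgHom.restrictScalars_apply, MonoidAlgebra.mapDomainAlgHom_apply,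
      MonoidAlgebra.mapDomain_single, cfM_single, invMonoidHom_apply]
    simp [inv_eq_iff_eq_inv]

/-- A homomorphism from a group of multiplicative type injective on points is a closed immersion. -/
theorem surjective_of_mono (hA : SGA3b.IsMultType R A) (φ : C →ₐc[R] A)
    (hmono : ∀ (T : Type u) [CommRing T] [Algebra R T],
      Function.Injective (fun x : A →ₐ[R] T => x.comp (φ : C →ₐ[R] A))) :
    Function.Surjective φ := by
  suffices h : LinearMap.range (φ : C →ₐ[R] A).toLinearMap = ⊤ by
    exact fun a => LinearMap.range_eq_top.mp h a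
  refine eq_top_of_forall_chart hA _ fun c hflat => ?_
  classical
  let B := Submodule.span c.S (c.j '' (LinearMap.range (φ : C →ₐ[R] A).toLinearMap : Set A))
  have hmemB : ∀ x, c.j (φ x) ∈ B := fun x => Submodule.subset_span ⟨φ x, ⟨x, rfl⟩, rfl⟩
  -- each homogeneous part of an element of the image is in the span of the image
  have hpart : ∀ x m, MonoidAlgebra.single m (c.pull φ m x) ∈ B := by
    intro x m
    let L : C ⊗[R] C →ₗ[R] MonoidAlgebra c.S c.M :=
      TensorProduct.lift ((LinearMap.lsmul c.S (MonoidAlgebra c.S c.M)).restrictScalars₁₂ R R |>.compl₁₂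
        (c.pull φ m).ofConv (c.j.toLinearMap ∘ₗ (φ : C →ₐ[R] A).toLinearMap))
    have hLB : ∀ z, L z ∈ B := by
      intro z
      induction z using TensorProduct.induction_on with
      | zero => simp
      | tmul a b => exact B.smul_mem _ (hmemB b)
      | add a b ha hb => rw [map_add]; exact add_mem ha hb
    convert hLB (Coalgebra.comul (R := R) x) using 1
    refine cfM_ext fun n => ?_
    have : cfM c.S n (L (Coalgebra.comul (R := R) x)) = (c.pull φ m * c.pull φ n) x := by
      rw [LinearMap.convMul_apply]
      induction Coalgebra.comul (R := R) x using TensorProduct.induction_on with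
      | zero => simp
      | tmul a b =>
        simp only [L, TensorProduct.lift.tmul, LinearMap.compl₁₂_apply,
          LinearMap.restrictScalars₁₂_apply_apply, LinearMap.lsmul_apply, map_smul, smul_eq_mul,
          TensorProduct.map_tmul, LinearMap.mul'_apply]
        rfl
      | add a b ha hb => simp only [map_add, ha, hb]
    rw [this, cfM_single]
    by_cases hmn : m = n
    · subst hmn
      rw [if_pos rfl, c.pull_mul_self]
    · rw [if_neg hmn, c.pull_mul_ne φ hmn]
      rfl
  -- the coefficient ideals
  let J : c.M → Ideal c.S := fun m => (B.comap (MonoidAlgebra.lsingle m : c.S →ₗ[c.S] MonoidAlgebra c.S c.M))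
  have hJ : ∀ m, J m = ⊤ → MonoidAlgebra.single m (1 : c.S) ∈ B := fun m hm => by
    have : (1 : c.S) ∈ J m := hm ▸ Submodule.mem_top
    exact this
  suffices hall : ∀ m, J m = ⊤ by
    show B = ⊤
    rw [eq_top_iff]
    intro y hy
    clear hy
    induction y using MonoidAlgebra.induction_linear with
    | zero => simp
    | add a b ha hb => exact add_mem ha hb
    | single m s =>
      have := B.smul_mem s (hJ m (hall m))
      rwa [MonoidAlgebra.smul_single, smul_eq_mul, mul_one] at this
  by_contra hne
  push Not at hne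
  obtain ⟨m₀, hm₀⟩ := hne
  obtain ⟨P, hP, hle⟩ := Ideal.exists_le_maximal _ hm₀
  let k := c.S ⧸ P
  -- the subgroup of characters visible on the image
  let Ns : Set c.M := {m | ∃ x, c.pull φ m x ∉ P}
  let N : Subgroup c.M := Subgroup.closure Ns
  have hm₀N : m₀ ∉ N := by
    intro hmem
    suffices ∀ m ∈ N, ¬ J m ≤ P from this m₀ hmem hle
    intro m hm
    induction hm using Subgroup.closure_induction with
    | mem m hm =>
      obtain ⟨x, hx⟩ := hm
      exact fun hJP => hx (hJP (hpart x m))
    | one =>
      refine fun hJP => hP.ne_top ((Ideal.eq_top_iff_one P).mpr (hJP ?_))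
      show MonoidAlgebra.single (1 : c.M) (1 : c.S) ∈ B
      have := hmemB 1
      rwa [map_one, map_one] at this
    | mul a b _ _ ha hb =>
      intro hJP
      obtain ⟨s, hs, hs'⟩ := Set.not_subset.mp ha
      obtain ⟨t, ht, ht'⟩ := Set.not_subset.mp hb
      refine (hP.isPrime.mul_mem_iff_mem_or_mem.mp (hJP ?_)).elim hs' ht'
      show MonoidAlgebra.single (a * b) (s * t) ∈ B
      rw [← MonoidAlgebra.single_mul_single]
      have hBmul : ∀ y ∈ B, ∀ z ∈ B, y * z ∈ B := by
        intro y hy z hz
        induction hy using Submodule.span_induction with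
        | mem y hy =>
          induction hz using Submodule.span_induction with
          | mem z hz =>
            obtain ⟨_, ⟨u₁, rfl⟩, rfl⟩ := hy
            obtain ⟨_, ⟨u₂, rfl⟩, rfl⟩ := hz
            rw [← map_mul]
            exact Submodule.subset_span ⟨_, ⟨u₁ * u₂, map_mul (φ : C →ₐ[R] A) _ _⟩, rfl⟩
          | zero => simp
          | add z z' _ _ hz hz' => rw [mul_add]; exact add_mem hz hz'
          | smul r z _ hz => rw [mul_smul_comm]; exact B.smul_mem r hz
        | zero => simp
        | add y y' _ _ hy hy' => rw [add_mul]; exact add_mem hy hy'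
        | smul r y _ hy => rw [smul_mul_assoc]; exact B.smul_mem r hy
      exact hBmul _ hs _ ht
    | inv a _ ha =>
      -- the antipode exchanges `a` and `a⁻¹`
      intro hJP
      obtain ⟨s, hs, hs'⟩ := Set.not_subset.mp ha
      refine hs' ?_
      have hex : ∀ y ∈ B, cfM c.S a y ∈ P := by
        intro y hy
        induction hy using Submodule.span_induction with
        | mem y hy =>
          obtain ⟨_, ⟨x, rfl⟩, rfl⟩ := hy
          have h1 : cfM c.S a⁻¹ (c.j (HopfAlgebra.antipode R (φ x))) ∈ P := by
            have h2 : HopfAlgebra.antipode R (φ x) ∈ LinearMap.range (φ : C →ₐ[R] A).toLinearMap :=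
              ⟨HopfAlgebra.antipode R x, (antipode_comp φ x).symm⟩
            obtain ⟨x', hx'⟩ := h2
            rw [← hx']
            exact hJP (hpart x' a⁻¹)
          rwa [← c.cf_apply, c.inv_eq_antipode, inv_inv, c.cf_apply] at h1
        | zero => simp
        | add y y' _ _ hy hy' => rw [map_add]; exact add_mem hy hy'
        | smul r y _ hy => rw [map_smul, smul_eq_mul]; exact P.mul_mem_left r hy
      have := hex _ hs
      rwa [MonoidAlgebra.lsingle_apply, cfM_single, if_pos rfl] at this
  let π : c.M →* c.M ⧸ N := QuotientGroup.mk' N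
  let T := MonoidAlgebra k (c.M ⧸ N)
  let p₁ : MonoidAlgebra c.S c.M →ₐ[R] T :=
    ((MonoidAlgebra.lift c.S T c.M ((MonoidAlgebra.of k (c.M ⧸ N)).comp π)).restrictScalars R)
  let p₂ : MonoidAlgebra c.S c.M →ₐ[R] T :=
    ((MonoidAlgebra.lift c.S T c.M 1).restrictScalars R)
  have heq : p₁.comp c.j = p₂.comp c.j := by
    refine hmono T (AlgHom.ext fun x => ?_)
    show p₁ (c.j (φ x)) = p₂ (c.j (φ x))
    rw [← MonoidAlgebra.sum_coeff_single (c.j (φ x))]
    simp only [map_finsuppSum]
    refine Finsupp.sum_congr fun m _ => ?_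
    simp only [p₁, p₂, AlgHom.restrictScalars_apply, MonoidAlgebra.lift_single]
    by_cases hm : m ∈ Ns
    · have : π m = 1 := (QuotientGroup.eq_one_iff m).mpr (Subgroup.subset_closure hm)
      simp only [this, MonoidHom.comp_apply, map_one, MonoidHom.one_apply]
    · have hxP : (c.j (φ x)).coeff m ∈ P := by
        by_contra hx
        exact hm ⟨x, hx⟩
      have h0 : ∀ z : T, (c.j (φ x)).coeff m • z = 0 := fun z => by
        rw [← algebraMap_smul k, show algebraMap c.S k ((c.j (φ x)).coeff m) = 0 from
          Ideal.Quotient.eq_zero_iff_mem.mpr hxP, zero_smul]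
      rw [h0, h0]
  have hext : ∀ y, p₁ y = p₂ y := by
    intro y
    obtain ⟨w, rfl⟩ := c.bij.2 y
    induction w using TensorProduct.induction_on with
    | zero => simp
    | add a b ha hb => simp only [map_add, ha, hb]
    | tmul s a =>
      rw [LinearMap.liftBaseChange_tmul]
      have h1 := AlgHom.congr_fun heq a
      simp only [p₁, p₂, AlgHom.comp_apply, AlgHom.restrictScalars_apply, AlgHom.toLinearMap_apply,
        map_smul] at h1 ⊢
      rw [h1]
  have := hext (MonoidAlgebra.single m₀ 1)
  simp only [p₁, p₂, AlgHom.restrictScalars_apply, MonoidAlgebra.lift_single, one_smul,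
    MonoidHom.comp_apply, MonoidAlgebra.of_apply, MonoidHom.one_apply, MonoidAlgebra.one_def] at this
  have hk : (1 : k) ≠ 0 := by
    haveI := Ideal.Quotient.nontrivial_iff.mpr hP.ne_top
    exact one_ne_zero
  exact hm₀N ((QuotientGroup.eq_one_iff m₀).mp
    ((MonoidAlgebra.single_left_inj hk).mp this))

end Groth.Agent.MultT
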