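import Groth.Agent.MultT.Power
import Mathlib

/-! Schematic density of the torsion of a group of multiplicative type. -/

set_option autoImplicit false

open TensorProduct WithConv

universe u

namespace Groth.Agent.MultT

theorem isJacobsonRing_int : IsJacobsonRing ℤ := by
  rw [isJacobsonRing_iff_prime_eq]
  intro P hP
  rcases eq_or_ne P ⊥ with rfl | h
  · refine le_antisymm (fun x hx => ?_) Ideal.le_jacobson
    rw [Ideal.mem_jacobson_bot] at hx
    rcases Int.isUnit_iff.mp (hx (3 * x)) with h | h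
    · have : x * x = 0 := by linarith
      simpa using mul_self_eq_zero.mp this
    · exfalso; nlinarith [mul_self_nonneg x]
  · exact @Ideal.jacobson_eq_self_of_isMaximal _ _ P (hP.isMaximal h)

/-- A field of finite type over the integers is finite. -/
theorem finite_of_finiteType_int (F : Type u) [Field F] (hF : (Int.castRingHom F).FiniteType) :
    Finite F := by
  haveI : Algebra.FiniteType ℤ F := RingHom.finiteType_algebraMap.1 (by
    convert hF using 1; exact RingHom.ext_int _ _)
  haveI := isJacobsonRing_int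
  haveI : Module.Finite ℤ F := finite_of_finite_type_of_isJacobsonRing ℤ F
  refine Module.finite_of_fg_torsion F fun {x} => ?_
  rcases Nat.eq_zero_or_pos (ringChar F) with h0 | hp
  · exfalso
    haveI : CharP F 0 := h0 ▸ ringChar.charP F
    haveI : CharZero F := CharP.charP_to_charZero F
    have hinj : Function.Injective (algebraMap ℤ F) := by
      intro a b h
      simpa using h
    haveI : Algebra.IsIntegral ℤ F := inferInstance
    exact Int.not_isField ((Algebra.IsIntegral.isField_iff_isField hinj).2 (Field.toIsField F))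
  · refine ⟨⟨(ringChar F : ℤ), mem_nonZeroDivisors_of_ne_zero (by exact_mod_cast hp.ne')⟩, ?_⟩
    show ((ringChar F : ℤ)) • x = 0
    rw [zsmul_eq_mul, Int.cast_natCast, ringChar.Nat.cast_ringChar, zero_mul]

/-- Residue fields of rings of finite type over the integers are finite. -/
theorem finite_quot {T : Type u} [CommRing T] (hT : (Int.castRingHom T).FiniteType) (m : Ideal T)
    [m.IsMaximal] : Finite (T ⧸ m) := by
  letI : Field (T ⧸ m) := Ideal.Quotient.field m
  have h1 : ((Ideal.Quotient.mk m).comp (Int.castRingHom T)).FiniteType :=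
    hT.comp_surjective Ideal.Quotient.mk_surjective
  refine finite_of_finiteType_int (T ⧸ m) ?_
  have h2 : (Ideal.Quotient.mk m).comp (Int.castRingHom T) = Int.castRingHom (T ⧸ m) := RingHom.ext_int _ _
  exact h2 ▸ h1

/-- Reduction of the characters modulo `n`-th powers. -/
noncomputable def modPow (S : Type u) [CommRing S] (M : Type u) [CommGroup M] (n : ℕ) :
    MonoidAlgebra S M →ₐ[S] MonoidAlgebra S (M ⧸ (powMonoidHom n : M →* M).range) :=
  MonoidAlgebra.mapDomainAlgHom S S (QuotientGroup.mk' _)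

/-- The combinatorial core of schematic density, over a ring of finite type over the integers. -/
theorem dense_core {S : Type u} [CommRing S] [Algebra.FiniteType ℤ S] {M : Type u} [CommGroup M]
    [Group.FG M] (a y : MonoidAlgebra S M)
    (h : ∀ n : ℕ, 0 < n → ∃ k : ℕ, modPow S M n (a ^ k * y) = 0) : ∃ k : ℕ, a ^ k * y = 0 := by
  classical
  haveI : Monoid.FG M := Group.fg_iff_monoid_fg.1 inferInstance
  haveI : Algebra.FiniteType ℤ (MonoidAlgebra S M) := Algebra.FiniteType.trans (‹_› : Algebra.FiniteType ℤ S)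
    (inferInstance : Algebra.FiniteType S (MonoidAlgebra S M))
  haveI : IsNoetherianRing (MonoidAlgebra S M) := Algebra.FiniteType.isNoetherianRing ℤ (MonoidAlgebra S M)
  haveI := isJacobsonRing_int
  haveI : IsJacobsonRing (MonoidAlgebra S M) := isJacobsonRing_of_finiteType (A := ℤ)
  let Ann : Ideal (MonoidAlgebra S M) := Submodule.colon (⊥ : Submodule (MonoidAlgebra S M) (MonoidAlgebra S M)) ({y} : Set (MonoidAlgebra S M))
  have hAnn : ∀ r, r ∈ Ann ↔ r * y = 0 := fun r => by
    simp [Ann, Submodule.mem_colon_singleton]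
  by_contra hc
  have ha : a ∉ Ann.radical := fun ⟨k, hk⟩ => hc ⟨k, (hAnn _).1 hk⟩
  rw [Ideal.radical_eq_jacobson, Ideal.jacobson, Ideal.mem_sInf] at ha
  push Not at ha
  obtain ⟨m, ⟨hle, hm⟩, ham⟩ := ha
  haveI := hm
  haveI : Finite ((MonoidAlgebra S M) ⧸ m) := finite_quot (by
    rw [RingHom.ext_int (Int.castRingHom (MonoidAlgebra S M)) (algebraMap ℤ (MonoidAlgebra S M))]
    exact RingHom.finiteType_algebraMap.2 inferInstance) m
  have hy : ∀ j : ℕ, y ∈ m ^ j := by
    intro j
    haveI : Finite ((MonoidAlgebra S M) ⧸ m ^ j) := Ideal.finite_quotient_pow (IsNoetherian.noetherian m) j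
    haveI : Finite ((MonoidAlgebra S M) ⧸ m ^ j)ˣ := inferInstance
    let N := Nat.card ((MonoidAlgebra S M) ⧸ m ^ j)ˣ
    obtain ⟨k, hk⟩ := h N Nat.card_pos
    let χ : M →* ((MonoidAlgebra S M) ⧸ m ^ j)ˣ :=
      (((Ideal.Quotient.mk (m ^ j)).toMonoidHom).comp (MonoidAlgebra.of S M)).toHomUnits
    have hχ : (powMonoidHom N : M →* M).range ≤ χ.ker := by
      rintro _ ⟨l, rfl⟩
      rw [MonoidHom.mem_ker, powMonoidHom_apply, map_pow]
      exact pow_card_eq_one'
    let ψ : MonoidAlgebra S (M ⧸ (powMonoidHom N : M →* M).range) →ₐ[S] (MonoidAlgebra S M) ⧸ m ^ j :=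
      MonoidAlgebra.lift S ((MonoidAlgebra S M) ⧸ m ^ j) _ ((Units.coeHom _).comp (QuotientGroup.lift _ χ hχ))
    have hψ : ψ.comp (modPow S M N) = Ideal.Quotient.mkₐ S (m ^ j) := by
      refine MonoidAlgebra.algHom_ext (fun l => ?_) (by ext)
      simp [ψ, modPow, χ]
    have h0 : a ^ k * y ∈ m ^ j := by
      rw [← Ideal.Quotient.eq_zero_iff_mem]
      have := congrArg (fun F : (MonoidAlgebra S M) →ₐ[S] (MonoidAlgebra S M) ⧸ m ^ j => F (a ^ k * y)) hψ
      simp only [AlgHom.comp_apply, hk, map_zero, Ideal.Quotient.mkₐ_eq_mk] at this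
      exact this.symm
    rcases Nat.eq_zero_or_pos j with rfl | hj
    · simp
    have hcop : Ideal.span {a ^ k} ⊔ m ^ j = ⊤ := by
      rw [← Ideal.span_singleton_pow, Ideal.pow_sup_pow_eq_top]
      by_contra hne
      exact ham ((hm.eq_of_le hne le_sup_right).symm ▸ Ideal.mem_sup_left (Ideal.mem_span_singleton_self a))
    have h1 : (1 : (MonoidAlgebra S M)) ∈ Ideal.span {a ^ k} ⊔ m ^ j := hcop ▸ Submodule.mem_top
    obtain ⟨u, hu, v, hv, huv⟩ := Submodule.mem_sup.1 h1
    obtain ⟨w, rfl⟩ := Ideal.mem_span_singleton'.1 hu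
    rw [show y = w * (a ^ k * y) + v * y by rw [← mul_assoc, ← add_mul, huv, one_mul]]
    exact add_mem (Ideal.mul_mem_left _ _ h0) (Ideal.mul_mem_right _ _ hv)
  have hy' : y ∈ (⨅ i : ℕ, m ^ i • ⊤ : Submodule (MonoidAlgebra S M) (MonoidAlgebra S M)) := by
    simpa [Submodule.mem_iInf, Ideal.smul_eq_mul, Ideal.mul_top] using hy
  obtain ⟨r, hr⟩ := (m.mem_iInf_smul_pow_eq_bot_iff y).1 hy'
  have h1 : 1 - (r : (MonoidAlgebra S M)) ∈ m := hle ((hAnn _).2 (by
    rw [sub_mul, one_mul, ← smul_eq_mul, hr, sub_self]))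
  exact hm.ne_top ((Ideal.eq_top_iff_one m).2 (by simpa using add_mem h1 r.2))


/-- The combinatorial core over an arbitrary ring. -/
theorem dense_group {S : Type u} [CommRing S] {M : Type u} [CommGroup M] [Group.FG M]
    (a y : MonoidAlgebra S M)
    (h : ∀ n : ℕ, 0 < n → ∃ k : ℕ, modPow S M n (a ^ k * y) = 0) : ∃ k : ℕ, a ^ k * y = 0 := by
  classical
  let F : Finset S := a.coeff.support.image (fun l => a.coeff l) ∪ y.coeff.support.image (fun l => y.coeff l)
  let S₀ : Subalgebra ℤ S := Algebra.adjoin ℤ (F : Set S)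
  haveI : Algebra.FiniteType ℤ S₀ := (Subalgebra.fg_iff_finiteType S₀).1 (Subalgebra.fg_adjoin_finset _)
  let i : MonoidAlgebra S₀ M →+* MonoidAlgebra S M := MonoidAlgebra.mapRingHom M S₀.val.toRingHom
  have hi : Function.Injective i :=
    MonoidAlgebra.map_injective S₀.val.toRingHom.toAddMonoidHom Subtype.val_injective
  have hlift : ∀ z : MonoidAlgebra S M, (∀ l ∈ z.coeff.support, z.coeff l ∈ F) → ∃ z₀, i z₀ = z := by
    intro z hz
    refine ⟨∑ l ∈ z.coeff.support.attach, MonoidAlgebra.single (l : M)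
      ⟨z.coeff l, Algebra.subset_adjoin (hz l l.2)⟩, ?_⟩
    rw [map_sum]
    conv_rhs => rw [← MonoidAlgebra.sum_coeff_single z, Finsupp.sum, ← Finset.sum_attach]
    refine Finset.sum_congr rfl fun l _ => ?_
    simp [i]
  obtain ⟨a₀, ha₀⟩ := hlift a fun l hl => Finset.mem_union_left _ (Finset.mem_image_of_mem _ hl)
  obtain ⟨y₀, hy₀⟩ := hlift y fun l hl => Finset.mem_union_right _ (Finset.mem_image_of_mem _ hl)
  have hcomm : ∀ (n : ℕ) (z : MonoidAlgebra S₀ M), modPow S M n (i z) =
      MonoidAlgebra.mapRingHom _ S₀.val.toRingHom (modPow S₀ M n z) := by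
    intro n z
    induction z using MonoidAlgebra.induction_linear with
    | zero => simp
    | add z w hz hw => simp only [map_add, hz, hw]
    | single l s => simp [i, modPow]
  obtain ⟨k, hk⟩ := dense_core a₀ y₀ fun n hn => by
    obtain ⟨k, hk⟩ := h n hn
    refine ⟨k, MonoidAlgebra.map_injective S₀.val.toRingHom.toAddMonoidHom Subtype.val_injective ?_⟩
    rw [← ha₀, ← hy₀, ← map_pow, ← map_mul, hcomm] at hk
    exact hk.trans (map_zero (MonoidAlgebra.mapRingHom _ S₀.val.toRingHom)).symm
  exact ⟨k, by rw [← ha₀, ← hy₀, ← map_pow, ← map_mul, hk, map_zero]⟩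

variable {R : Type u} [CommRing R] {A : Type u} [CommRing A] [HopfAlgebra R A]

/-- The character group of a chart of a group of finite type is finitely generated. -/
theorem Chart.group_fg (c : Chart R A) [Nontrivial c.S] [Algebra.FiniteType R A] : Group.FG c.M := by
  let g : c.S ⊗[R] A →ₐ[c.S] MonoidAlgebra c.S c.M :=
    Algebra.TensorProduct.lift (Algebra.ofId _ _) c.j fun _ _ => Commute.all _ _
  have hg : ∀ z, g z = c.j.toLinearMap.liftBaseChange c.S z := by
    intro z
    induction z using TensorProduct.induction_on with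
    | zero => simp
    | add a b ha hb => rw [map_add, map_add, ha, hb]
    | tmul s a => simp [g, Algebra.smul_def, Algebra.ofId_apply]
  have hFT : Algebra.FiniteType c.S (MonoidAlgebra c.S c.M) :=
    Algebra.FiniteType.of_surjective g (fun y => by
      obtain ⟨z, hz⟩ := c.bij.2 y
      exact ⟨z, (hg z).trans hz⟩)
  exact Group.fg_iff_monoid_fg.mpr (MonoidAlgebra.finiteType_iff_fg.mp hFT)

/-- The torsion subschemes become trivial modulo powers in a chart. -/
theorem Chart.modPow_j_torsion (c : Chart R A) (n : ℕ) {z : A} (hz : z ∈ SGA3b.torsionIdeal R A n) :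
    modPow c.S c.M n (c.j z) = 0 := by
  classical
  have hsub : SGA3b.torsionIdeal R A n ≤
      RingHom.ker ((modPow c.S c.M n).toRingHom.comp c.j.toRingHom) := by
    refine Ideal.map_le_iff_le_comap.2 fun w hw => ?_
    rw [RingHom.mem_ker, Bialgebra.counitAlgHom_apply] at hw
    show modPow c.S c.M n (c.j (SGA3b.powConv R A n w)) = 0
    have h1 := congrArg (fun f : A →ₐ[R] MonoidAlgebra c.S c.M => f w) (c.j_powConv n)
    simp only [AlgHom.comp_apply] at h1
    rw [h1]
    have h2 : ∀ x : MonoidAlgebra c.S c.M, modPow c.S c.M n (c.mapD (powMonoidHom n) x) =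
        modPow c.S c.M n (c.mapD 1 x) := by
      intro x
      induction x using MonoidAlgebra.induction_linear with
      | zero => simp
      | add z w hz hw => simp only [map_add, hz, hw]
      | single l s =>
        rw [c.mapD_single, c.mapD_single]
        simp only [modPow, MonoidAlgebra.mapDomainAlgHom_apply, MonoidAlgebra.mapDomain_single]
        congr 1
        rw [MonoidHom.one_apply, map_one, powMonoidHom_apply]
        exact (QuotientGroup.eq_one_iff _).2 ⟨l, rfl⟩
    rw [h2]
    have h3 : c.mapD 1 (c.j w) = 0 := by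
      have := congrArg (fun f : WithConv (A →ₐ[R] MonoidAlgebra c.S c.M) => f.ofConv w) c.mapD_one_comp
      simp only [AlgHom.convOne_apply, ofConv_toConv, AlgHom.comp_apply] at this
      rw [this, hw, map_zero]
    rw [h3, map_zero]
  exact hsub hz

/-- In a chart, an element meeting all torsion ideals after inverting `a` dies after inverting `a`. -/
theorem Chart.exists_pow_mul_eq_zero (c : Chart R A) [Algebra.FiniteType R A] (a y : A)
    (h : ∀ n : ℕ, 0 < n → ∃ k : ℕ, a ^ k * y ∈ SGA3b.torsionIdeal R A n) :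
    ∃ k : ℕ, c.j (a ^ k * y) = 0 := by
  rcases subsingleton_or_nontrivial c.S with hS | hS
  · haveI := Module.subsingleton c.S (MonoidAlgebra c.S c.M)
    exact ⟨0, Subsingleton.elim _ _⟩
  haveI := c.group_fg
  obtain ⟨k, hk⟩ := dense_group (c.j a) (c.j y) fun n hn => by
    obtain ⟨k, hk⟩ := h n hn
    exact ⟨k, by rw [← map_pow, ← map_mul]; exact c.modPow_j_torsion n hk⟩
  exact ⟨k, by rw [map_mul, map_pow, hk]⟩

/-- An element annihilated in a flat chart over a prime is killed outside that prime. -/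
theorem Chart.exists_smul_eq_zero (c : Chart R A) [Module.Flat R c.S] {a : A} (ha : c.j a = 0)
    (q : Ideal c.S) [q.IsPrime] : ∃ r : R, r ∉ q.comap (algebraMap R c.S) ∧ r • a = 0 := by
  by_contra hc
  push Not at hc
  let φ : R →ₗ[R] A := LinearMap.toSpanSingleton R A a
  have hker : ∀ r, φ r = 0 → r ∈ q.comap (algebraMap R c.S) := fun r hr => by
    by_contra hn
    exact hc r hn hr
  have hex' := Module.Flat.lTensor_exact c.S (LinearMap.exact_subtype_ker_map φ)
  have h1 : (1 : c.S) ⊗ₜ[R] a = 0 := c.bij.1 (by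
    rw [map_zero, LinearMap.liftBaseChange_tmul, one_smul]
    exact ha)
  obtain ⟨z, hz⟩ := (hex' (1 ⊗ₜ 1)).mp (by simpa [φ] using h1)
  have hmem : ∀ w : c.S ⊗[R] LinearMap.ker φ,
      TensorProduct.rid R c.S ((LinearMap.ker φ).subtype.lTensor c.S w) ∈ q := by
    intro w
    induction w using TensorProduct.induction_on with
    | zero => simp
    | tmul s r =>
      simp only [LinearMap.lTensor_tmul, TensorProduct.rid_tmul, Submodule.subtype_apply, Algebra.smul_def]
      exact q.mul_mem_right _ (hker r r.2)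
    | add x y hx hy => simp only [map_add]; exact q.add_mem hx hy
  refine Ideal.IsPrime.ne_top' ((Ideal.eq_top_iff_one q).mpr ?_)
  have := hmem z
  rwa [hz, TensorProduct.rid_tmul, one_smul] at this

/-- Schematic density of the torsion of a group of multiplicative type. -/
theorem dense_torsion (hA : SGA3b.IsMultType R A) [Algebra.FiniteType R A] (a y : A)
    (h : ∀ n : ℕ, 0 < n → ∃ k : ℕ, a ^ k * y ∈ SGA3b.torsionIdeal R A n) :
    ∃ k : ℕ, a ^ k * y = 0 := by
  let N : Ideal R :=
    { carrier := {r : R | ∃ k : ℕ, r • (a ^ k * y) = 0}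
      zero_mem' := ⟨0, zero_smul _ _⟩
      add_mem' := by
        rintro r r' ⟨k, hk⟩ ⟨k', hk'⟩
        refine ⟨k + k', ?_⟩
        rw [add_smul, show a ^ (k + k') * y = a ^ k' * (a ^ k * y) by ring, ← mul_smul_comm, hk, mul_zero,
          zero_add, show a ^ k' * (a ^ k * y) = a ^ k * (a ^ k' * y) by ring, ← mul_smul_comm, hk', mul_zero]
      smul_mem' := by
        rintro s r ⟨k, hk⟩
        exact ⟨k, by rw [smul_eq_mul, mul_smul, hk, smul_zero]⟩ }
  suffices hN : N = ⊤ by
    obtain ⟨k, hk⟩ := (hN ▸ Submodule.mem_top : (1 : R) ∈ N)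
    exact ⟨k, by rwa [one_smul] at hk⟩
  by_contra hne
  obtain ⟨m, hm, hle⟩ := Ideal.exists_le_maximal N hne
  obtain ⟨c, hflat, q, hq, hqm⟩ := exists_charts hA m hm.isPrime
  obtain ⟨k, hk⟩ := c.exists_pow_mul_eq_zero a y h
  obtain ⟨r, hr, hr0⟩ := c.exists_smul_eq_zero hk q
  exact hr (hqm ▸ hle ⟨k, hr0⟩)

/-- Schematic density, in the form of intersections of extended ideals. -/
theorem iInf_torsion_eq_bot (hA : SGA3b.IsMultType R A) [Algebra.FiniteType R A] (a : A) :
    ⨅ n : {n : ℕ // 0 < n},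
      Ideal.map (algebraMap A (Localization.Away a)) (SGA3b.torsionIdeal R A n.1) = ⊥ := by
  refine eq_bot_iff.2 fun x hx => ?_
  obtain ⟨⟨y, ⟨_, j, rfl⟩⟩, hy⟩ := IsLocalization.surj (Submonoid.powers a) x
  have h : ∀ n : ℕ, 0 < n → ∃ k : ℕ, a ^ k * y ∈ SGA3b.torsionIdeal R A n := by
    intro n hn
    have hxn := (Submodule.mem_iInf _).1 hx ⟨n, hn⟩
    have hy' : algebraMap A (Localization.Away a) y ∈
        Ideal.map (algebraMap A (Localization.Away a)) (SGA3b.torsionIdeal R A n) :=
      hy ▸ Ideal.mul_mem_right _ _ hxn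
    obtain ⟨⟨⟨z, hz⟩, ⟨_, l, rfl⟩⟩, hzl⟩ := (IsLocalization.mem_map_algebraMap_iff (Submonoid.powers a) _).1 hy'
    obtain ⟨⟨_, k, rfl⟩, hk⟩ := (IsLocalization.eq_iff_exists (Submonoid.powers a) _).1
      (show algebraMap A (Localization.Away a) (y * a ^ l) = algebraMap A _ z by rw [map_mul]; exact hzl)
    refine ⟨k + l, ?_⟩
    rw [show a ^ (k + l) * y = a ^ k * (y * a ^ l) by ring]
    exact hk ▸ Ideal.mul_mem_left _ _ hz
  obtain ⟨k, hk⟩ := dense_torsion hA a y h
  rw [Ideal.mem_bot]
  have hu : IsUnit (algebraMap A (Localization.Away a) a) :=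
    IsLocalization.map_units (Localization.Away a) (⟨a, Submonoid.mem_powers a⟩ : Submonoid.powers a)
  have : x * (algebraMap A (Localization.Away a) (a ^ j) * algebraMap A (Localization.Away a) (a ^ k)) = 0 := by
    rw [← mul_assoc, show x * algebraMap A (Localization.Away a) (a ^ j) = algebraMap A _ y from hy,
      ← map_mul, mul_comm, hk, map_zero]
  exact (IsUnit.mul_left_eq_zero (by simpa using (hu.pow j).mul (hu.pow k))).1 this

end Groth.Agent.MultT
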