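import Groth.Agent.MultT.HochApply
import Groth.Agent.MultT.ChartEquiv
import Groth.Agent.MultT.NilLift
import Groth.Agent.MultT.BaseChange
import Groth.Agent.SchDescent.Amitsur
import Mathlib

/-! Homomorphisms between groups of multiplicative type lift along nilpotent ideals. -/

set_option autoImplicit false
set_option synthInstance.maxHeartbeats 400000

open TensorProduct WithConv Coalgebra

universe u

namespace Groth.Agent.MultT

variable {R : Type u} [CommRing R] {I : Ideal R}

/-- The reduction of a base ring. -/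
noncomputable abbrev redMap (I : Ideal R) (E : Type u) [CommRing E] [Algebra R E] :
    E →ₐ[R] E ⧸ I.map (algebraMap R E) := Ideal.Quotient.mkₐ R _

theorem mem_map_of_redMap {E : Type u} [CommRing E] [Algebra R E] {V : Type u} [CommRing V] [Algebra R V]
    {v : E ⊗[R] V} (h : chStage (redMap I E) V v = 0) : v ∈ I.map (algebraMap R (E ⊗[R] V)) := by
  let IE : Submodule R E := (I.map (algebraMap R E)).restrictScalars R
  have hex : Function.Exact IE.subtype (redMap I E).toLinearMap :=
    LinearMap.exact_iff.2 (by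
      ext x
      simp [IE, redMap, Ideal.Quotient.eq_zero_iff_mem])
  have hex' := rTensor_exact V hex (Ideal.Quotient.mkₐ_surjective R _)
  obtain ⟨w, rfl⟩ := (hex' v).1 (by
    rw [← h]
    exact congrArg (fun f : E ⊗[R] V →ₗ[R] _ => f v)
      (show LinearMap.rTensor V (redMap I E).toLinearMap = (chStage (redMap I E) V).toLinearMap from
        TensorProduct.ext' fun _ _ => rfl))
  clear h
  induction w using TensorProduct.induction_on with
  | zero => simp
  | add x y hx hy => rw [map_add]; exact Ideal.add_mem _ hx hy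
  | tmul i b =>
    rw [LinearMap.rTensor_tmul]
    exact map_mem_map ((TensorProduct.mk R E V).flip b) i.2

variable {B : Type u} [CommRing B] [HopfAlgebra R B] {C : Type u} [CommRing C] [HopfAlgebra R C]
  (φ₀ : ((R ⧸ I) ⊗[R] C) →ₐc[R ⧸ I] ((R ⧸ I) ⊗[R] B))

/-- The extension of a homomorphism over the reduction. -/
noncomputable def redExt (E : Type u) [CommRing E] [Algebra R E] (c : C) : (E ⧸ I.map (algebraMap R E)) ⊗[R] B :=
  chStage (IsScalarTower.toAlgHom R (R ⧸ I) (E ⧸ I.map (algebraMap R E))) B (φ₀ ((1 : R ⧸ I) ⊗ₜ[R] c))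

/-- Being a lift over an extension of the base. -/
def Lifts {E : Type u} [CommRing E] [Algebra R E] (θ : (E ⊗[R] C) →ₐc[E] (E ⊗[R] B)) : Prop :=
  ∀ c, chStage (redMap I E) B (θ ((1 : E) ⊗ₜ c)) = redExt φ₀ E c

theorem bcTrans_one_tmul {E E' : Type u} [CommRing E] [CommRing E'] [Algebra R E] [Algebra R E'] [Algebra E E']
    [IsScalarTower R E E'] {V : Type u} [CommRing V] [HopfAlgebra R V] (z : E ⊗[R] V) :
    bcTrans R E E' V ((1 : E') ⊗ₜ[E] z) = chStage (IsScalarTower.toAlgHom R E E') V z := by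
  induction z using TensorProduct.induction_on with
  | zero => simp
  | add x y hx hy => simp only [TensorProduct.tmul_add, map_add, hx, hy]
  | tmul t a =>
    rw [bcTrans_tmul, Algebra.TensorProduct.map_tmul, AlgHom.id_apply, Algebra.smul_def, mul_one]
    rfl

/-- Extension of scalars of a homomorphism. -/
theorem exists_ext_hom {E E' : Type u} [CommRing E] [CommRing E'] [Algebra R E] [Algebra R E'] [Algebra E E']
    [IsScalarTower R E E'] (θ : (E ⊗[R] C) →ₐc[E] (E ⊗[R] B)) :
    ∃ θ' : (E' ⊗[R] C) →ₐc[E'] (E' ⊗[R] B), ∀ z,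
      θ' (chStage (IsScalarTower.toAlgHom R E E') C z) = chStage (IsScalarTower.toAlgHom R E E') B (θ z) := by
  refine ⟨((bcTrans R E E' B : _ →ₐc[E'] _).comp (Bialgebra.TensorProduct.map (R := E) (S := E') (A := E')
    (C := E') (B := E ⊗[R] C) (D := E ⊗[R] B) (BialgHom.id E' E') θ)).comp
      ((bcTrans R E E' C).symm : _ →ₐc[E'] _), fun z => ?_⟩
  show bcTrans R E E' B (Bialgebra.TensorProduct.map (R := E) (S := E') (A := E')
    (C := E') (B := E ⊗[R] C) (D := E ⊗[R] B) (BialgHom.id E' E') θ ((bcTrans R E E' C).symm _)) = _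
  rw [← bcTrans_one_tmul, BialgEquiv.symm_apply_apply, Bialgebra.TensorProduct.map_tmul, ← bcTrans_one_tmul]
  rfl

theorem hom_ext_tmul {E : Type u} [CommRing E] [Algebra R E] {θ θ' : (E ⊗[R] C) →ₐc[E] (E ⊗[R] B)}
    (h : ∀ c, θ ((1 : E) ⊗ₜ c) = θ' ((1 : E) ⊗ₜ c)) (z : E ⊗[R] C) : θ z = θ' z := by
  induction z using TensorProduct.induction_on with
  | zero => simp
  | add x y hx hy => simp only [map_add, hx, hy]
  | tmul s c =>
    rw [show s ⊗ₜ[R] c = s • ((1 : E) ⊗ₜ[R] c) by rw [TensorProduct.smul_tmul', smul_eq_mul, mul_one],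
      map_smul, map_smul, h]

variable (hI : ∀ x ∈ I, IsNilpotent x)
include hI

/-- Lifts are unique where the source is diagonalised. -/
theorem lifts_unique (hB : SGA3b.IsMultType R B) {E : Type u} [CommRing E] [Algebra R E] {N : Type u}
    [CommGroup N] (e : (E ⊗[R] C) ≃ₐc[E] MonoidAlgebra E N) {θ θ' : (E ⊗[R] C) →ₐc[E] (E ⊗[R] B)}
    (h : Lifts φ₀ θ) (h' : Lifts φ₀ θ') (c : C) : θ ((1 : E) ⊗ₜ c) = θ' ((1 : E) ⊗ₜ c) := by
  have hmem : ∀ z, θ z - θ' z ∈ I.map (algebraMap R (E ⊗[R] B)) := by
    intro z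
    induction z using TensorProduct.induction_on with
    | zero => simp
    | add x y hx hy =>
      rw [map_add, map_add, add_sub_add_comm]
      exact Ideal.add_mem _ hx hy
    | tmul s c =>
      rw [show s ⊗ₜ[R] c = s • ((1 : E) ⊗ₜ[R] c) by rw [TensorProduct.smul_tmul', smul_eq_mul, mul_one],
        map_smul, map_smul, ← smul_sub, Algebra.smul_def]
      refine Ideal.mul_mem_left _ _ (mem_map_of_redMap ?_)
      rw [map_sub, h, h', sub_self]
  have hgl : ∀ n, θ (e.symm (MonoidAlgebra.single n 1)) = θ' (e.symm (MonoidAlgebra.single n 1)) := fun n => by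
    have hw := (MonoidAlgebra.isGroupLikeElem_single_one (R := E) (A := E) n).map e.symm
    refine eq_of_red hI hB (hw.map θ) (hw.map θ') ?_
    exact (mem_map_iff_tmul I).1 (hmem _)
  have key : ∀ z, θ (e.symm z) = θ' (e.symm z) := by
    intro z
    induction z using MonoidAlgebra.induction_linear with
    | zero => simp
    | add a b ha hb => simp only [map_add, ha, hb]
    | single n r =>
      rw [show MonoidAlgebra.single n r = r • MonoidAlgebra.single n (1 : E) by
        rw [MonoidAlgebra.smul_single, smul_eq_mul, mul_one], map_smul, map_smul, map_smul, hgl]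
  simpa using key (e ((1 : E) ⊗ₜ c))

/-- Lifts exist where the source is diagonalised. -/
theorem exists_lifts (hB : SGA3b.IsMultType R B) {E : Type u} [CommRing E] [Algebra R E] {N : Type u}
    [CommGroup N] (e : (E ⊗[R] C) ≃ₐc[E] MonoidAlgebra E N) :
    ∃ θ : (E ⊗[R] C) →ₐc[E] (E ⊗[R] B), Lifts φ₀ θ := by
  let IE := I.map (algebraMap R E)
  let E' := E ⧸ IE
  have hIE : ∀ x ∈ IE, IsNilpotent x := fun x hx => Red.isNilpotent hI ((Red.iff_mem).2 hx)
  obtain ⟨ψ, hψ⟩ : ∃ ψ : (E' ⊗[R] C) →ₐc[E'] (E' ⊗[R] B), ∀ c, ψ ((1 : E') ⊗ₜ c) = redExt φ₀ E c := by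
    refine ⟨((bcTrans R (R ⧸ I) E' B : _ →ₐc[E'] _).comp (Bialgebra.TensorProduct.map (R := R ⧸ I) (S := E')
      (A := E') (C := E') (B := (R ⧸ I) ⊗[R] C) (D := (R ⧸ I) ⊗[R] B) (BialgHom.id E' E') φ₀)).comp
        ((bcTrans R (R ⧸ I) E' C).symm : _ →ₐc[E'] _), fun c => ?_⟩
    show bcTrans R (R ⧸ I) E' B (Bialgebra.TensorProduct.map (R := R ⧸ I) (S := E')
      (A := E') (C := E') (B := (R ⧸ I) ⊗[R] C) (D := (R ⧸ I) ⊗[R] B) (BialgHom.id E' E') φ₀
        ((bcTrans R (R ⧸ I) E' C).symm _)) = _
    rw [show ((1 : E') ⊗ₜ[R] c) = bcTrans R (R ⧸ I) E' C ((1 : E') ⊗ₜ[R ⧸ I] ((1 : R ⧸ I) ⊗ₜ[R] c)) by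
      rw [bcTrans_tmul, one_smul], BialgEquiv.symm_apply_apply, Bialgebra.TensorProduct.map_tmul]
    exact bcTrans_one_tmul _
  have hred : ∀ z : E ⊗[R] B, chStage (redMap I E) B z = bcTrans R E E' B ((1 : E') ⊗ₜ[E] z) := fun z =>
    (bcTrans_one_tmul z).symm
  have hsurj : Function.Surjective (chStage (redMap I E) B) := by
    intro y
    induction y using TensorProduct.induction_on with
    | zero => exact ⟨0, map_zero _⟩
    | add a b ha hb =>
      obtain ⟨x, rfl⟩ := ha
      obtain ⟨y, rfl⟩ := hb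
      exact ⟨x + y, map_add _ x y⟩
    | tmul t b =>
      obtain ⟨t, rfl⟩ := Ideal.Quotient.mk_surjective t
      exact ⟨t ⊗ₜ b, rfl⟩
  have hw : ∀ n, IsGroupLikeElem E (e.symm (MonoidAlgebra.single n 1)) := fun n =>
    (MonoidAlgebra.isGroupLikeElem_single_one n).map e.symm
  have hex : ∀ n, ∃ g, IsGroupLikeElem E g ∧
      chStage (redMap I E) B g = ψ (chStage (redMap I E) C (e.symm (MonoidAlgebra.single n 1))) := by
    intro n
    obtain ⟨z, hz⟩ := hsurj (ψ (chStage (redMap I E) C (e.symm (MonoidAlgebra.single n 1))))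
    have hgl : IsGroupLikeElem E' ((1 : E') ⊗ₜ[E] z) := by
      have h1 : IsGroupLikeElem E' (chStage (redMap I E) B z) :=
        hz ▸ (isGroupLikeElem_chStage (redMap I E) (hw n)).map ψ
      rw [hred] at h1
      simpa using h1.map (bcTrans R E E' B).symm
    obtain ⟨g, hg, hgz⟩ := exists_groupLike_lift (I := IE) hIE (isMultType_baseChange hB E) hgl
    exact ⟨g, hg, by rw [hred, hgz, ← hred, hz]⟩
  choose g hg hgred using hex
  have heq : ∀ {x y : E ⊗[R] B}, IsGroupLikeElem E x → IsGroupLikeElem E y →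
      chStage (redMap I E) B x = chStage (redMap I E) B y → x = y := fun hx hy h =>
    eq_of_red hI hB hx hy ((mem_map_iff_tmul I).1 (mem_map_of_redMap (by rw [map_sub, h, sub_self])))
  let G : N →* E ⊗[R] B :=
    { toFun := g
      map_one' := heq (hg 1) IsGroupLikeElem.one (by
        rw [hgred, ← MonoidAlgebra.one_def, map_one, map_one, map_one, map_one])
      map_mul' := fun n m => heq (hg _) ((hg n).mul (hg m)) (by
        rw [hgred, map_mul (chStage (redMap I E) B), hgred, hgred, ← map_mul, ← map_mul, ← map_mul,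
          MonoidAlgebra.single_mul_single, one_mul]) }
  let F : MonoidAlgebra E N →ₐ[E] E ⊗[R] B := MonoidAlgebra.lift E _ N G
  have hF : ∀ n, F (MonoidAlgebra.single n 1) = g n := fun n => by simp [F, G]
  let Fb : MonoidAlgebra E N →ₐc[E] E ⊗[R] B := BialgHom.ofAlgHom F
    (MonoidAlgebra.algHom_ext (fun n => by
      show counit (R := E) (F (MonoidAlgebra.single n 1)) = counit (R := E) (MonoidAlgebra.single n (1 : E))
      rw [hF, (hg n).counit_eq_one, (MonoidAlgebra.isGroupLikeElem_single_one n).counit_eq_one])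
      (Subsingleton.elim _ _))
    (MonoidAlgebra.algHom_ext (fun n => by
      show Algebra.TensorProduct.map F F (comul (R := E) (MonoidAlgebra.single n (1 : E))) =
        comul (R := E) (F (MonoidAlgebra.single n 1))
      rw [(MonoidAlgebra.isGroupLikeElem_single_one n).comul_eq_tmul_self, Algebra.TensorProduct.map_tmul,
        hF, (hg n).comul_eq_tmul_self]) (Subsingleton.elim _ _))
  refine ⟨Fb.comp (e : (E ⊗[R] C) →ₐc[E] MonoidAlgebra E N), fun c => ?_⟩
  have key : ∀ z : MonoidAlgebra E N,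
      chStage (redMap I E) B (F z) = ψ (chStage (redMap I E) C (e.symm z)) := by
    intro z
    induction z using MonoidAlgebra.induction_linear with
    | zero => simp
    | add a b ha hb => simp only [map_add, ha, hb]
    | single n r =>
      rw [show MonoidAlgebra.single n r = r • MonoidAlgebra.single n (1 : E) by
        rw [MonoidAlgebra.smul_single, smul_eq_mul, mul_one],
        show F (r • MonoidAlgebra.single n (1 : E)) = r • g n by rw [map_smul, hF],
        show e.symm (r • MonoidAlgebra.single n (1 : E)) = r • e.symm (MonoidAlgebra.single n 1) from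
          map_smul e.symm r _]
      have hsm : ∀ (V : Type u) [CommRing V] [Algebra R V] (y : E ⊗[R] V),
          chStage (redMap I E) V (r • y) = (redMap I E r) • chStage (redMap I E) V y := fun V _ _ y => by
        rw [Algebra.smul_def, Algebra.smul_def, map_mul]
        congr 1
      rw [hsm, hsm, hgred, map_smul]
  show chStage (redMap I E) B (F (e ((1 : E) ⊗ₜ c))) = _
  rw [key, e.symm_apply_apply, Algebra.TensorProduct.map_tmul, map_one, AlgHom.id_apply, hψ]

/-- Homomorphisms between groups of multiplicative type lift along nilpotent ideals. -/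
theorem exists_hom_lift_nil (hB : SGA3b.IsMultType R B) (hC : SGA3b.IsMultType R C) :
    ∃ φ : C →ₐc[R] B, ∀ c, φ₀ ((1 : R ⧸ I) ⊗ₜ[R] c) = (1 : R ⧸ I) ⊗ₜ[R] (φ c) := by
  classical
  obtain ⟨ι, _, c, hflat, hcov⟩ := exists_finite_charts hC
  cases nonempty_fintype ι
  haveI := hflat
  choose e he using fun i => (c i).exists_bialgEquiv_tmul (c i).S
  choose θ hθ using fun i => exists_lifts φ₀ hI hB (e i)
  let T := ∀ i, (c i).S
  haveI : Module.Flat R T :=
    Module.Flat.of_linearEquiv (DirectSum.linearEquivFunOnFintype R ι fun i => (c i).S).symm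
  haveI : Module.FaithfullyFlat R T := by
    apply Module.FaithfullyFlat.of_comap_surjective
    intro p
    obtain ⟨i, q, hq, hqp⟩ := hcov p.asIdeal p.isPrime
    exact ⟨PrimeSpectrum.comap (Pi.evalRingHom (fun i => (c i).S) i) ⟨q, hq⟩, PrimeSpectrum.ext hqp⟩
  -- agreement on overlaps
  have hag : ∀ i j x,
      chStage (Algebra.TensorProduct.includeLeft : (c i).S →ₐ[R] (c i).S ⊗[R] (c j).S) B (θ i (1 ⊗ₜ x)) =
      chStage (Algebra.TensorProduct.includeRight : (c j).S →ₐ[R] (c i).S ⊗[R] (c j).S) B (θ j (1 ⊗ₜ x)) := by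
    intro i j x
    let U := (c i).S ⊗[R] (c j).S
    letI : Algebra (c j).S U := Algebra.TensorProduct.rightAlgebra
    have hlift : ∀ k (f : (c k).S →ₐ[R] U), ∃ θ' : (U ⊗[R] C) →ₐc[U] (U ⊗[R] B), Lifts φ₀ θ' ∧
        ∀ x, θ' (1 ⊗ₜ x) = chStage f B (θ k (1 ⊗ₜ x)) := by
      intro k f
      letI : Algebra (c k).S U := f.toRingHom.toAlgebra
      haveI : IsScalarTower R (c k).S U := .of_algebraMap_eq fun r => (f.commutes r).symm
      obtain ⟨θ', hθ'⟩ := exists_ext_hom (E' := U) (θ k)
      have hform : ∀ x, θ' ((1 : U) ⊗ₜ x) = chStage f B (θ k (1 ⊗ₜ x)) := fun x => by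
        have h1 := hθ' ((1 : (c k).S) ⊗ₜ x)
        rw [Algebra.TensorProduct.map_tmul, map_one, AlgHom.id_apply] at h1
        exact h1
      refine ⟨θ', fun x => ?_, hform⟩
      let f' : (c k).S ⧸ I.map (algebraMap R (c k).S) →ₐ[R] U ⧸ I.map (algebraMap R U) :=
        Ideal.Quotient.liftₐ _ ((redMap I U).comp f) fun a ha => by
          refine Ideal.Quotient.eq_zero_iff_mem.2 ?_
          exact map_mem_map f.toLinearMap ha
      rw [hform, chStage_chStage, show (redMap I U).comp f = f'.comp (redMap I (c k).S) from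
        AlgHom.ext fun a => rfl, ← chStage_chStage, hθ k x]
      unfold redExt
      rw [chStage_chStage, show f'.comp (IsScalarTower.toAlgHom R (R ⧸ I) _) =
        IsScalarTower.toAlgHom R (R ⧸ I) (U ⧸ I.map (algebraMap R U)) from
          Ideal.Quotient.algHom_ext R (Subsingleton.elim _ _)]
    obtain ⟨θ₁, hl₁, hf₁⟩ := hlift i Algebra.TensorProduct.includeLeft
    obtain ⟨θ₂, hl₂, hf₂⟩ := hlift j Algebra.TensorProduct.includeRight
    haveI : IsScalarTower R (c i).S U := .of_algebraMap_eq fun r => rfl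
    obtain ⟨eU⟩ := (c i).exists_bialgEquiv U
    rw [← hf₁, ← hf₂, lifts_unique φ₀ hI hB eU hl₁ hl₂]
  -- gluing
  let P : ∀ i, T →ₐ[R] (c i).S := fun i => Pi.evalAlgHom R (fun i => (c i).S) i
  let jn : ∀ i, (c i).S ⊗[R] B →ₗ[R] T ⊗[R] B := fun i =>
    (LinearMap.single R (fun i => (c i).S) i).rTensor B
  let Z : C → T ⊗[R] B := fun x => ∑ i, jn i (θ i (1 ⊗ₜ x))
  have hPZ : ∀ i x, (P i).toLinearMap.rTensor B (Z x) = θ i (1 ⊗ₜ x) := by
    intro i x
    simp only [Z, map_sum]
    rw [Finset.sum_eq_single i (fun j _ hji => ?_) (fun h => absurd (Finset.mem_univ i) h)]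
    · rw [← LinearMap.comp_apply, ← LinearMap.rTensor_comp,
        show (P i).toLinearMap ∘ₗ LinearMap.single R (fun i => (c i).S) i = LinearMap.id from
          LinearMap.ext fun a => show (Pi.single i a : ∀ k, (c k).S) i = a from Pi.single_eq_same (M := fun k => (c k).S) i a,
        LinearMap.rTensor_id, LinearMap.id_apply]
    · rw [← LinearMap.comp_apply, ← LinearMap.rTensor_comp,
        show (P i).toLinearMap ∘ₗ LinearMap.single R (fun i => (c i).S) j = 0 from
          LinearMap.ext fun a => show (Pi.single j a : ∀ k, (c k).S) i = 0 from Pi.single_eq_of_ne (M := fun k => (c k).S) (Ne.symm hji) a,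
        LinearMap.rTensor_zero, LinearMap.zero_apply]
  have hdesc : ∀ x, ∃ b, (1 : T) ⊗ₜ[R] b = Z x := by
    intro x
    have h1 : TensorProduct.mk R T (T ⊗[R] B) 1 (Z x) =
        LinearMap.lTensor T (TensorProduct.mk R T B 1) (Z x) := by
      rw [← sub_eq_zero]
      refine eq_zero_of_proj _ fun i => ?_
      apply (TensorProduct.comm R (c i).S (T ⊗[R] B)).injective
      rw [map_zero]
      apply (TensorProduct.assoc R T B (c i).S).injective
      rw [map_zero]
      refine eq_zero_of_proj _ fun j => ?_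
      let L : T ⊗[R] (T ⊗[R] B) →ₗ[R] ((c i).S ⊗[R] (c j).S) ⊗[R] B :=
        (TensorProduct.assoc R (c i).S (c j).S B).symm.toLinearMap ∘ₗ
          TensorProduct.map (P i).toLinearMap ((P j).toLinearMap.rTensor B)
      have hLzero : L (TensorProduct.mk R T (T ⊗[R] B) 1 (Z x) -
          LinearMap.lTensor T (TensorProduct.mk R T B 1) (Z x)) = 0 := by
        rw [map_sub, sub_eq_zero]
        have e1 : ∀ z, L ((1 : T) ⊗ₜ z) = chStage (Algebra.TensorProduct.includeRight :
            (c j).S →ₐ[R] (c i).S ⊗[R] (c j).S) B ((P j).toLinearMap.rTensor B z) := fun z => by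
          induction z using TensorProduct.induction_on with
          | zero => simp
          | add u v hu hv => simp only [TensorProduct.tmul_add, map_add, hu, hv]
          | tmul a b => simp [L]
        have e2 : ∀ z, L (LinearMap.lTensor T (TensorProduct.mk R T B 1) z) =
            chStage (Algebra.TensorProduct.includeLeft : (c i).S →ₐ[R] (c i).S ⊗[R] (c j).S) B
              ((P i).toLinearMap.rTensor B z) := fun z => by
          induction z using TensorProduct.induction_on with
          | zero => simp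
          | add u v hu hv => simp only [map_add, hu, hv]
          | tmul a b => simp [L]
        rw [TensorProduct.mk_apply, e1, e2, hPZ, hPZ, hag]
      let W : ((c i).S ⊗[R] (c j).S) ⊗[R] B ≃ₗ[R] (c j).S ⊗[R] (B ⊗[R] (c i).S) :=
        (TensorProduct.assoc R _ _ _) ≪≫ₗ (TensorProduct.comm R (c i).S ((c j).S ⊗[R] B)) ≪≫ₗ
          TensorProduct.assoc R _ _ _
      have e3 : ∀ t : T ⊗[R] (T ⊗[R] B), (P j).toLinearMap.rTensor (B ⊗[R] (c i).S)
          (TensorProduct.assoc R T B (c i).S (TensorProduct.comm R (c i).S (T ⊗[R] B)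
            ((P i).toLinearMap.rTensor (T ⊗[R] B) t))) = W (L t) := by
        intro t
        induction t using TensorProduct.induction_on with
        | zero => simp
        | add u v hu hv => simp only [map_add, hu, hv]
        | tmul a z =>
          induction z using TensorProduct.induction_on with
          | zero => simp
          | add u v hu hv => simp only [TensorProduct.tmul_add, map_add, hu, hv]
          | tmul b v => simp [W, L]
      exact (e3 _).trans (by rw [hLzero, map_zero])
    exact SchDescent.mem_range_of_amitsur R T B (Z x) h1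
  choose f hf using hdesc
  have hfi : ∀ i x, (1 : (c i).S) ⊗ₜ[R] f x = θ i (1 ⊗ₜ x) := fun i x => by
    rw [← hPZ, ← hf, LinearMap.rTensor_tmul]; simp
  have heqB : ∀ {a b : B}, (∀ i, (1 : (c i).S) ⊗ₜ[R] a = (1 : (c i).S) ⊗ₜ[R] b) → a = b := fun h =>
    sub_eq_zero.1 (eq_zero_of_cover c hflat hcov _ fun i => by rw [TensorProduct.tmul_sub, h, sub_self])
  let φ : C →ₐ[R] B := AlgHom.ofLinearMap
    { toFun := f
      map_add' := fun x y => heqB fun i => by
        rw [hfi, TensorProduct.tmul_add, TensorProduct.tmul_add, map_add, hfi, hfi]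
      map_smul' := fun r x => heqB fun i => by
        rw [hfi, RingHom.id_apply, TensorProduct.tmul_smul, TensorProduct.tmul_smul,
          LinearMapClass.map_smul_of_tower, hfi] }
    (heqB fun i => by
      show (1 : (c i).S) ⊗ₜ[R] f 1 = _
      rw [hfi, ← Algebra.TensorProduct.one_def, map_one, ← Algebra.TensorProduct.one_def])
    (fun x y => heqB fun i => by
      show (1 : (c i).S) ⊗ₜ[R] f (x * y) = (1 : (c i).S) ⊗ₜ[R] (f x * f y)
      rw [hfi, show (1 : (c i).S) ⊗ₜ[R] (f x * f y) =
        ((1 : (c i).S) ⊗ₜ[R] f x) * ((1 : (c i).S) ⊗ₜ[R] f y) by simp, hfi, hfi, ← map_mul]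
      simp)
  have hext : ∀ i z, Algebra.TensorProduct.map (AlgHom.id (c i).S (c i).S) φ z = θ i z := by
    intro i z
    induction z using TensorProduct.induction_on with
    | zero => simp
    | add u v hu hv => simp only [map_add, hu, hv]
    | tmul s x =>
      rw [Algebra.TensorProduct.map_tmul, AlgHom.id_apply,
        show s ⊗ₜ[R] x = s • ((1 : (c i).S) ⊗ₜ[R] x) by rw [TensorProduct.smul_tmul', smul_eq_mul, mul_one],
        map_smul, ← hfi, TensorProduct.smul_tmul', smul_eq_mul, mul_one]
      rfl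
  refine ⟨BialgHom.ofAlgHom φ (AlgHom.ext fun x => ?_) (AlgHom.ext fun x => ?_), fun x => ?_⟩
  · show counit (f x) = counit x
    refine sub_eq_zero.1 (eq_zero_of_cover c hflat hcov _ fun i => ?_)
    rw [TensorProduct.tmul_sub, sub_eq_zero]
    apply (TensorProduct.rid R (c i).S).injective
    have h1 := CoalgHomClass.counit_comp_apply (θ i) ((1 : (c i).S) ⊗ₜ[R] x)
    rw [← hfi, TensorProduct.counit_tmul, TensorProduct.counit_tmul, CommSemiring.counit_apply] at h1
    simpa using h1
  · show Algebra.TensorProduct.map φ φ (comul x) = comul (f x)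
    refine sub_eq_zero.1 (eq_zero_of_cover c hflat hcov _ fun i => ?_)
    rw [TensorProduct.tmul_sub, sub_eq_zero]
    apply (TensorProduct.AlgebraTensorModule.distribBaseChange R (c i).S B B).injective
    have h1 := CoalgHomClass.map_comp_comul_apply (θ i) ((1 : (c i).S) ⊗ₜ[R] x)
    rw [← hfi, comul_eq_distrib, comul_eq_distrib, LinearMap.baseChange_tmul, LinearMap.baseChange_tmul] at h1
    rw [← h1]
    induction comul (R := R) x using TensorProduct.induction_on with
    | zero => simp
    | add u v hu hv => simp only [TensorProduct.tmul_add, map_add, hu, hv]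
    | tmul u v =>
      rw [Algebra.TensorProduct.map_tmul, TensorProduct.AlgebraTensorModule.distribBaseChange_tmul,
        TensorProduct.AlgebraTensorModule.distribBaseChange_tmul]
      simp [← hext]
  · show φ₀ ((1 : R ⧸ I) ⊗ₜ[R] x) = (1 : R ⧸ I) ⊗ₜ[R] f x
    refine sub_eq_zero.1 (eq_zero_of_cover c hflat hcov _ fun i => ?_)
    rw [TensorProduct.tmul_sub, sub_eq_zero]
    let q := Algebra.TensorProduct.quotIdealMapEquivTensorQuot (c i).S I
    let W : (c i).S ⊗[R] ((R ⧸ I) ⊗[R] B) ≃ₗ[R] ((c i).S ⧸ I.map (algebraMap R (c i).S)) ⊗[R] B :=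
      (TensorProduct.assoc R (c i).S (R ⧸ I) B).symm ≪≫ₗ
        (q.toLinearEquiv.symm.restrictScalars R).rTensor B
    apply W.injective
    have e1 : ∀ (r : R ⧸ I) (b : B), W ((1 : (c i).S) ⊗ₜ[R] (r ⊗ₜ b)) =
        (IsScalarTower.toAlgHom R (R ⧸ I) _ r) ⊗ₜ[R] b := by
      intro r b
      obtain ⟨r, rfl⟩ := Ideal.Quotient.mk_surjective r
      have h2 : q (algebraMap R _ r) = (1 : (c i).S) ⊗ₜ[R] (Ideal.Quotient.mk I r) := by
        rw [show algebraMap R ((c i).S ⧸ I.map (algebraMap R (c i).S)) r =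
          Ideal.Quotient.mk _ (algebraMap R (c i).S r) from rfl,
          Algebra.TensorProduct.quotIdealMapEquivTensorQuot_mk, Algebra.algebraMap_eq_smul_one,
          TensorProduct.smul_tmul, Algebra.smul_def, mul_one]
        rfl
      simp only [W, LinearEquiv.trans_apply, TensorProduct.assoc_symm_tmul]
      show (q.symm ((1 : (c i).S) ⊗ₜ[R] Ideal.Quotient.mk I r)) ⊗ₜ[R] b = _
      rw [← h2, AlgEquiv.symm_apply_apply]
      rfl
    have e2 : ∀ y : (R ⧸ I) ⊗[R] B, W ((1 : (c i).S) ⊗ₜ[R] y) =
        chStage (IsScalarTower.toAlgHom R (R ⧸ I) _) B y := by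
      intro y
      induction y using TensorProduct.induction_on with
      | zero => simp
      | add u v hu hv => simp only [TensorProduct.tmul_add, map_add, hu, hv]
      | tmul r b => rw [e1]; simp
    rw [e2, e2]
    have h3 := hθ i x
    rw [← hfi] at h3
    refine h3.symm.trans ?_
    simp

end Groth.Agent.MultT
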