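import Groth.Agent.MultT.Rigid
import Groth.Agent.MultT.Dense
import Mathlib

/-! Groups of multiplicative type over a connected base, spanned by group-like elements. -/

set_option autoImplicit false

open TensorProduct WithConv

universe u

namespace Groth.Agent.MultT

variable {R : Type u} [CommRing R]

/-- Flat detection: an element dying after tensoring is killed outside the contracted prime. -/
theorem exists_smul_eq_zero_of_tmul {S : Type u} [CommRing S] [Algebra R S] [Module.Flat R S]
    {V : Type u} [AddCommGroup V] [Module R V] {x : V} (hx : (1 : S) ⊗ₜ[R] x = 0)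
    (q : Ideal S) [q.IsPrime] : ∃ r : R, r ∉ q.comap (algebraMap R S) ∧ r • x = 0 := by
  by_contra hc
  push Not at hc
  let φ : R →ₗ[R] V := LinearMap.toSpanSingleton R V x
  have hker : ∀ r, φ r = 0 → r ∈ q.comap (algebraMap R S) := fun r hr => by
    by_contra hn
    exact hc r hn hr
  have hex' := Module.Flat.lTensor_exact S (LinearMap.exact_subtype_ker_map φ)
  obtain ⟨z, hz⟩ := (hex' (1 ⊗ₜ 1)).mp (by simpa [φ] using hx)
  have hmem : ∀ w : S ⊗[R] LinearMap.ker φ,
      TensorProduct.rid R S ((LinearMap.ker φ).subtype.lTensor S w) ∈ q := by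
    intro w
    induction w using TensorProduct.induction_on with
    | zero => simp
    | tmul s r =>
      simp only [LinearMap.lTensor_tmul, TensorProduct.rid_tmul, Submodule.subtype_apply, Algebra.smul_def]
      exact q.mul_mem_right _ (hker r r.2)
    | add x y hx hy => simp only [map_add]; exact q.add_mem hx hy
  refine Ideal.IsPrime.ne_top' ((Ideal.eq_top_iff_one q).mpr ?_)
  have := hmem z
  rwa [hz, TensorProduct.rid_tmul, one_smul] at this

/-- Membership in an ideal descends along flat extensions. -/
theorem exists_smul_mem_of_mem_map {S : Type u} [CommRing S] [Algebra R S] [Module.Flat R S]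
    {I : Ideal R} {x : R} (hx : algebraMap R S x ∈ I.map (algebraMap R S))
    (q : Ideal S) [q.IsPrime] : ∃ r : R, r ∉ q.comap (algebraMap R S) ∧ r * x ∈ I := by
  have h0 : (1 : S) ⊗ₜ[R] (Ideal.Quotient.mk I x) = 0 := by
    have key : ∀ s ∈ I.map (algebraMap R S), s ⊗ₜ[R] (1 : R ⧸ I) = 0 := by
      intro s hs
      induction hs using Submodule.span_induction with
      | mem y hy =>
        obtain ⟨r, hr, rfl⟩ := hy
        rw [Algebra.algebraMap_eq_smul_one, TensorProduct.smul_tmul, Algebra.smul_def, mul_one,
          Ideal.Quotient.algebraMap_eq, Ideal.Quotient.eq_zero_iff_mem.2 hr, TensorProduct.tmul_zero]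
      | zero => exact TensorProduct.zero_tmul _ _
      | add a b _ _ ha hb => rw [TensorProduct.add_tmul, ha, hb, add_zero]
      | smul a b _ hb =>
        show (a * b) ⊗ₜ[R] (1 : R ⧸ I) = 0
        have := congrArg ((LinearMap.mulLeft R a).rTensor (R ⧸ I)) hb
        simpa using this
    have h1 := key _ hx
    rwa [Algebra.algebraMap_eq_smul_one, TensorProduct.smul_tmul, Algebra.smul_def, mul_one,
      Ideal.Quotient.algebraMap_eq] at h1
  obtain ⟨r, hr, hr0⟩ := exists_smul_eq_zero_of_tmul h0 q
  refine ⟨r, hr, Ideal.Quotient.eq_zero_iff_mem.1 ?_⟩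
  rw [map_mul]
  rwa [Algebra.smul_def, Ideal.Quotient.algebraMap_eq] at hr0

variable {A : Type u} [CommRing A] [HopfAlgebra R A]

/-- The coefficients of a group-like element are orthogonal idempotents. -/
theorem Chart.cf_groupLike (c : Chart R A) {w : A} (hw : IsGroupLikeElem R w) (m n : c.M) :
    haveI := Classical.decEq c.M
    c.cf m w * c.cf n w = if m = n then c.cf m w else 0 := by
  classical
  have h : ∀ f g : WithConv (A →ₗ[R] c.S), (f * g).ofConv w = f.ofConv w * g.ofConv w := fun f g => by
    rw [LinearMap.convMul_apply, hw.comul_eq_tmul_self, TensorProduct.map_tmul, LinearMap.mul'_apply]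
  split_ifs with hmn
  · subst hmn
    have := h (c.cf m) (c.cf m)
    rw [c.cf_mul_self] at this
    exact this.symm
  · have := h (c.cf m) (c.cf n)
    rw [c.cf_mul_ne hmn] at this
    exact this.symm

theorem Chart.cf_one_mul_sub (c : Chart R A) {w : A} (hw : IsGroupLikeElem R w) :
    c.cf 1 w • (c.j w - 1) = 0 := by
  classical
  refine MonoidAlgebra.coeff_injective (Finsupp.ext fun l => ?_)
  rw [MonoidAlgebra.coeff_smul, MonoidAlgebra.coeff_sub, MonoidAlgebra.coeff_zero, Finsupp.zero_apply,
    Finsupp.smul_apply, Finsupp.sub_apply, smul_eq_mul, mul_sub, MonoidAlgebra.one_def,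
    MonoidAlgebra.coeff_single, Finsupp.single_apply]
  show c.cf 1 w * c.cf l w - c.cf 1 w * (if 1 = l then 1 else 0) = 0
  rw [c.cf_groupLike hw 1 l]
  by_cases h : (1 : c.M) = l
  · rw [if_pos h, if_pos h, mul_one, sub_self]
  · rw [if_neg h, if_neg h, mul_zero, sub_self]

/-- The annihilator of `w - 1`. -/
noncomputable def annSub (w : A) : Ideal R := Submodule.colon (⊥ : Submodule R A) ({w - 1} : Set A)

theorem mem_annSub {w : A} {r : R} : r ∈ annSub (R := R) w ↔ r • (w - 1) = 0 := by
  rw [annSub, Submodule.mem_colon_singleton, Submodule.mem_bot]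

theorem Chart.map_annSub (c : Chart R A) [Module.Flat R c.S] {w : A} (hw : IsGroupLikeElem R w) :
    (annSub (R := R) w).map (algebraMap R c.S) = Ideal.span {c.cf 1 w} := by
  classical
  refine le_antisymm (Ideal.map_le_iff_le_comap.2 fun r hr => ?_) ?_
  · rw [mem_annSub] at hr
    have h := congrArg (fun a : A => c.cf 1 a) hr
    simp only [map_smul, map_sub, map_zero] at h
    have h1 : c.cf 1 (1 : A) = 1 := by
      rw [c.cf_apply, map_one, MonoidAlgebra.one_def, cfM_single, if_pos rfl]
    rw [h1, smul_sub, sub_eq_zero, Algebra.smul_def, Algebra.smul_def, mul_one] at h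
    rw [Ideal.mem_comap, Ideal.mem_span_singleton']
    exact ⟨algebraMap R c.S r, h⟩
  · rw [Ideal.span_le, Set.singleton_subset_iff]
    let φ : R →ₗ[R] A := LinearMap.toSpanSingleton R A (w - 1)
    have hex' := Module.Flat.lTensor_exact c.S (LinearMap.exact_subtype_ker_map φ)
    have h0 : φ.lTensor c.S (c.cf 1 w ⊗ₜ[R] 1) = 0 := c.bij.1 (by
      rw [map_zero, LinearMap.lTensor_tmul, LinearMap.liftBaseChange_tmul]
      show c.cf 1 w • c.j ((1 : R) • (w - 1)) = 0
      rw [one_smul, map_sub, map_one]
      exact c.cf_one_mul_sub hw)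
    obtain ⟨z, hz⟩ := (hex' _).mp h0
    have hmem : ∀ u : c.S ⊗[R] LinearMap.ker φ,
        TensorProduct.rid R c.S ((LinearMap.ker φ).subtype.lTensor c.S u) ∈
          (annSub (R := R) w).map (algebraMap R c.S) := by
      intro u
      induction u using TensorProduct.induction_on with
      | zero => simp
      | tmul s r =>
        simp only [LinearMap.lTensor_tmul, TensorProduct.rid_tmul, Submodule.subtype_apply, Algebra.smul_def]
        exact Ideal.mul_mem_right _ _ (Ideal.mem_map_of_mem _ (mem_annSub.2 r.2))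
      | add x y hx hy => simp only [map_add]; exact add_mem hx hy
    have := hmem z
    rwa [hz, TensorProduct.rid_tmul, one_smul] at this

/-- Over a connected base a group-like element other than `1` has no trivial isotypic part. -/
theorem cf_one_eq_zero (hA : SGA3b.IsMultType R A) (hconn : ∀ e : R, IsIdempotentElem e → e = 0 ∨ e = 1)
    {w : A} (hw : IsGroupLikeElem R w) (hne : w ≠ 1) (c : Chart R A) [Module.Flat R c.S] :
    c.cf 1 w = 0 := by
  classical
  obtain ⟨ι, hι, ch, hflat, hcov⟩ := exists_finite_charts hA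
  haveI := Fintype.ofFinite ι
  have hgen : ∀ i, ∃ F : Finset R, (F : Set R) ⊆ annSub (R := R) w ∧
      (ch i).cf 1 w ∈ (Ideal.span (F : Set R)).map (algebraMap R (ch i).S) := by
    intro i
    haveI := hflat i
    have hm : (ch i).cf 1 w ∈ (annSub (R := R) w).map (algebraMap R (ch i).S) := by
      rw [(ch i).map_annSub hw]; exact Ideal.mem_span_singleton_self _
    obtain ⟨T, hT, hT'⟩ := Submodule.mem_span_finite_of_mem_span hm
    choose f hf hf' using fun t : T => hT t.2
    refine ⟨Finset.univ.image f, by
      intro r hr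
      obtain ⟨t, -, rfl⟩ := Finset.mem_image.1 (Finset.mem_coe.1 hr)
      exact hf t, ?_⟩
    refine (Submodule.span_le.2 (fun t ht => ?_) :
      Submodule.span (ch i).S (T : Set (ch i).S) ≤ _) hT'
    have hft : algebraMap R (ch i).S (f ⟨t, ht⟩) = t := hf' ⟨t, ht⟩
    rw [← hft]
    exact Ideal.mem_map_of_mem _ (Ideal.subset_span (Finset.mem_image_of_mem _ (Finset.mem_univ _)))
  choose F hF hF' using hgen
  let G : Ideal R := Ideal.span ((Finset.univ.biUnion F : Finset R) : Set R)
  have hGle : G ≤ annSub (R := R) w := Ideal.span_le.2 fun r hr => by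
    obtain ⟨i, -, hi⟩ := Finset.mem_biUnion.1 (Finset.mem_coe.1 hr)
    exact hF i hi
  have hle : ∀ x ∈ annSub (R := R) w, x ∈ G * G := by
    intro x hx
    by_contra hxn
    obtain ⟨m, hm, hle⟩ := Ideal.exists_le_maximal (Submodule.colon (G * G : Ideal R) ({x} : Set R))
      (fun ht => hxn (by
        have h1 : (1 : R) ∈ Submodule.colon (G * G : Ideal R) ({x} : Set R) := ht ▸ Submodule.mem_top
        simpa [Submodule.mem_colon_singleton] using h1))
    obtain ⟨i, q, hq, hqm⟩ := hcov m hm.isPrime
    haveI := hflat i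
    have he : (ch i).cf 1 w ∈ G.map (algebraMap R (ch i).S) :=
      Ideal.map_mono (Ideal.span_mono (by
        intro r hr
        exact Finset.mem_coe.2 (Finset.mem_biUnion.2 ⟨i, Finset.mem_univ _, hr⟩))) (hF' i)
    have hee : (ch i).cf 1 w ∈ (G * G).map (algebraMap R (ch i).S) := by
      rw [Ideal.map_mul, ← (show (ch i).cf 1 w * (ch i).cf 1 w = (ch i).cf 1 w by
        rw [(ch i).cf_groupLike hw, if_pos rfl])]
      exact Ideal.mul_mem_mul he he
    have hx' : algebraMap R (ch i).S x ∈ (G * G).map (algebraMap R (ch i).S) := by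
      have h1 := Ideal.mem_map_of_mem (algebraMap R (ch i).S) hx
      rw [(ch i).map_annSub hw] at h1
      exact (Ideal.span_le.2 (Set.singleton_subset_iff.2 hee)) h1
    obtain ⟨r, hr, hrx⟩ := exists_smul_mem_of_mem_map hx' q
    exact hr (hqm ▸ hle (Submodule.mem_colon_singleton.2 hrx))
  have hGG : IsIdempotentElem G := le_antisymm Ideal.mul_le_right fun x hx => hle x (hGle hx)
  obtain ⟨e, he, hGe⟩ := (Ideal.isIdempotentElem_iff_of_fg G ⟨_, rfl⟩).1 hGG
  have h𝔞 : annSub (R := R) w = G :=
    le_antisymm (fun x hx => Ideal.mul_le_right (hle x hx)) hGle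
  rcases hconn e he with rfl | rfl
  · have h0 : annSub (R := R) w = ⊥ := by rw [h𝔞, hGe]; simp
    have := c.map_annSub hw
    rw [h0, Ideal.map_bot] at this
    exact (Ideal.mem_bot.1 (this ▸ Ideal.mem_span_singleton_self _))
  · exfalso
    have h1 : (1 : R) ∈ annSub (R := R) w := by rw [h𝔞, hGe]; exact Submodule.mem_span_singleton_self _
    rw [mem_annSub, one_smul, sub_eq_zero] at h1
    exact hne h1

/-- A group of multiplicative type over a connected base spanned by group-like elements is
diagonalisable. -/
theorem isDiag_of_span_connected (hA : SGA3b.IsMultType R A)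
    (hconn : ∀ e : R, IsIdempotentElem e → e = 0 ∨ e = 1)
    (h : Submodule.span R {g : A | IsGroupLikeElem R g} = ⊤) : SGA3b.IsDiag R A := by
  classical
  let L : MonoidAlgebra R (GroupLike R A) →ₐc[R] A := MonoidAlgebra.liftGroupLikeBialgHom
  have hL : ∀ g : GroupLike R A, L (MonoidAlgebra.single g 1) = g.val := fun g => by
    simp [L]
  have hLx : ∀ x : MonoidAlgebra R (GroupLike R A), L x = ∑ g ∈ x.coeff.support, x.coeff g • g.val := by
    intro x
    conv_lhs => rw [← MonoidAlgebra.sum_coeff_single x]
    rw [Finsupp.sum, map_sum]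
    refine Finset.sum_congr rfl fun g _ => ?_
    rw [show MonoidAlgebra.single g (x.coeff g) = x.coeff g • MonoidAlgebra.single g (1 : R) by
      rw [MonoidAlgebra.smul_single, smul_eq_mul, mul_one], map_smul, hL]
  have hsep : ∀ (c : Chart R A), Module.Flat R c.S → ∀ g g' : GroupLike R A, g ≠ g' →
      ∀ t : c.M, c.cf t g.val * c.cf t g'.val = 0 := by
    intro c hc g g' hne t
    have h0 : c.cf 1 (g.val * HopfAlgebra.antipode R g'.val) = 0 := by
      refine cf_one_eq_zero hA hconn (g.2.mul g'.2.antipode) (fun heq => hne ?_) c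
      refine GroupLike.val_injective ?_
      calc g.val = g.val * (HopfAlgebra.antipode R g'.val * g'.val) := by
            rw [g'.2.antipode_mul_cancel, mul_one]
        _ = g'.val := by rw [← mul_assoc, heq, one_mul]
    -- the coefficient of a product at `1`
    have hcoef : ∀ y z : MonoidAlgebra c.S c.M,
        cfM c.S 1 (y * z) = ∑ s ∈ y.coeff.support, cfM c.S s y * cfM c.S s⁻¹ z := by
      intro y z
      conv_lhs => rw [← MonoidAlgebra.sum_coeff_single y, Finsupp.sum, Finset.sum_mul, map_sum]
      refine Finset.sum_congr rfl fun s _ => ?_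
      show (MonoidAlgebra.single s (y.coeff s) * z).coeff 1 = y.coeff s * z.coeff s⁻¹
      rw [MonoidAlgebra.coeff_single_mul_apply]
      simp
    have h1 := hcoef (c.j g.val) (c.j (HopfAlgebra.antipode R g'.val))
    rw [← map_mul, ← c.cf_apply, h0] at h1
    have h2 := congrArg (fun u => c.cf t g.val * c.cf t g'.val * u) h1
    simp only [mul_zero, Finset.mul_sum] at h2
    by_cases ht : t ∈ (c.j g.val).coeff.support
    · rw [Finset.sum_eq_single t] at h2
      · rw [← c.cf_apply, ← c.cf_apply, c.inv_eq_antipode, inv_inv] at h2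
        rw [h2]
        calc c.cf t g.val * c.cf t g'.val
            = (c.cf t g.val * c.cf t g.val) * (c.cf t g'.val * c.cf t g'.val) := by
              rw [c.cf_groupLike g.2, c.cf_groupLike g'.2, if_pos rfl, if_pos rfl]
          _ = _ := by ring
      · intro s _ hst
        rw [show c.cf t g.val * c.cf t g'.val * (cfM c.S s (c.j g.val) *
            cfM c.S s⁻¹ (c.j (HopfAlgebra.antipode R g'.val))) =
          (c.cf t g.val * c.cf s g.val) * (c.cf t g'.val * cfM c.S s⁻¹ (c.j (HopfAlgebra.antipode R g'.val))) by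
            rw [← c.cf_apply s]; ring, c.cf_groupLike g.2, if_neg (Ne.symm hst), zero_mul]
      · exact fun hn => absurd ht hn
    · rw [show c.cf t g.val = 0 from Finsupp.notMem_support_iff.1 ht, zero_mul]
  have hinj : Function.Injective L := by
    rw [injective_iff_map_eq_zero]
    intro x hx
    refine MonoidAlgebra.coeff_injective (Finsupp.ext fun g₀ => ?_)
    rw [MonoidAlgebra.coeff_zero, Finsupp.zero_apply]
    by_contra hne
    have hg₀ : g₀ ∈ x.coeff.support := Finsupp.mem_support_iff.2 hne
    obtain ⟨m, hm, hle⟩ := Ideal.exists_le_maximal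
      (Submodule.colon (⊥ : Submodule R R) ({x.coeff g₀} : Set R))
      (fun ht => hne (by
        have h1 : (1 : R) ∈ Submodule.colon (⊥ : Submodule R R) ({x.coeff g₀} : Set R) :=
          ht ▸ Submodule.mem_top
        simpa [Submodule.mem_colon_singleton] using h1))
    obtain ⟨c, hflat, q, hq, hqm⟩ := exists_charts hA m hm.isPrime
    have hz : algebraMap R c.S (x.coeff g₀) = 0 := by
      have hterm : ∀ t : c.M, algebraMap R c.S (x.coeff g₀) * c.cf t g₀.val = 0 := by
        intro t
        have h1 := congrArg (fun a : A => c.cf t g₀.val * c.cf t a) hx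
        rw [hLx] at h1
        simp only [map_sum, map_smul, map_zero, mul_zero, Finset.mul_sum] at h1
        rw [Finset.sum_eq_single_of_mem g₀ hg₀] at h1
        · rw [mul_smul_comm, c.cf_groupLike g₀.2, if_pos rfl, Algebra.smul_def] at h1
          exact h1
        · intro g _ hne'
          rw [mul_smul_comm, hsep c hflat g₀ g (Ne.symm hne'), smul_zero]
      have htot := c.total g₀.val
      rw [g₀.2.counit_eq_one, map_one, Finsupp.sum] at htot
      rw [← mul_one (algebraMap R c.S (x.coeff g₀)), ← htot, Finset.mul_sum]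
      exact Finset.sum_eq_zero fun t _ => hterm t
    have h1 : (1 : c.S) ⊗ₜ[R] (x.coeff g₀) = 0 := by
      apply (TensorProduct.rid R c.S).injective
      rw [TensorProduct.rid_tmul, map_zero, Algebra.smul_def, mul_one, hz]
    obtain ⟨r, hr, hr0⟩ := exists_smul_eq_zero_of_tmul h1 q
    exact hr (hqm ▸ hle (Submodule.mem_colon_singleton.2 ((Submodule.mem_bot R).2 hr0)))
  have hsurj : Function.Surjective L := by
    intro w
    have hw : w ∈ Submodule.span R {g : A | IsGroupLikeElem R g} := h ▸ Submodule.mem_top
    induction hw using Submodule.span_induction with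
    | mem g hg => exact ⟨MonoidAlgebra.single ⟨g, hg⟩ 1, hL ⟨g, hg⟩⟩
    | zero => exact ⟨0, map_zero L⟩
    | add a b _ _ ha hb =>
      obtain ⟨x, rfl⟩ := ha
      obtain ⟨y, rfl⟩ := hb
      exact ⟨x + y, map_add L x y⟩
    | smul r a _ ha =>
      obtain ⟨x, rfl⟩ := ha
      exact ⟨r • x, map_smul L r x⟩
  exact ⟨GroupLike R A, inferInstance, ⟨(BialgEquiv.ofBijective L ⟨hinj, hsurj⟩).symm⟩⟩

end Groth.Agent.MultT
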