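import Groth.Agent.MultT.Rigid
import Mathlib.RingTheory.TensorProduct.IncludeLeftSubRight
import Mathlib.RingTheory.Ideal.IdempotentFG
import Mathlib.RingTheory.FiniteType
import Mathlib.RingTheory.Flat.FaithfullyFlat.Basic

/-!
# Rigidity over a local base
-/

universe u

open TensorProduct WithConv

noncomputable section

namespace Groth.Agent.MultT

variable {R : Type u} [CommRing R] {A : Type u} [CommRing A] [HopfAlgebra R A]
  {C : Type u} [CommRing C] [HopfAlgebra R C]

/-- Over a local ring a faithfully flat chart exists. -/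
theorem exists_chart_local [IsLocalRing R] (h : SGA3b.IsMultType R A) :
    ∃ c : Chart R A, Module.FaithfullyFlat R c.S := by
  obtain ⟨c, hflat, q, hq, hqm⟩ := exists_charts h _ (IsLocalRing.maximalIdeal.isMaximal R).isPrime
  refine ⟨c, ⟨fun {m} hm htop => ?_⟩⟩
  rw [IsLocalRing.eq_maximalIdeal hm] at htop
  have h1 : (1 : c.S) ∈ (IsLocalRing.maximalIdeal R) • (⊤ : Submodule R c.S) := by
    rw [htop]; trivial
  rw [Ideal.smul_top_eq_map, Submodule.restrictScalars_mem] at h1
  exact hq.ne_top ((Ideal.eq_top_iff_one q).mpr (Ideal.map_le_iff_le_comap.mpr hqm.ge h1))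

variable (c : Chart R A)

/-- The ideal of coefficients of finitely many elements. -/
def Chart.coeffIdeal (F : Finset A) : Ideal c.S :=
  Ideal.span (⋃ x ∈ F, Set.range fun m => c.cf m x)

theorem Chart.coeffIdeal_fg (F : Finset A) : (c.coeffIdeal F).FG := by
  classical
  refine ⟨F.biUnion fun x => (c.j x).coeff.support.image fun m => c.cf m x, le_antisymm ?_ ?_⟩
  · refine Submodule.span_mono fun k hk => ?_
    obtain ⟨x, hx, hk⟩ := Finset.mem_biUnion.mp hk
    obtain ⟨m, _, rfl⟩ := Finset.mem_image.mp hk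
    exact Set.mem_iUnion₂.mpr ⟨x, hx, m, rfl⟩
  · refine Submodule.span_le.mpr fun k hk => ?_
    obtain ⟨x, hx, m, rfl⟩ := Set.mem_iUnion₂.mp hk
    show c.cf m x ∈ _
    by_cases hm : m ∈ (c.j x).coeff.support
    · exact Submodule.subset_span (Finset.mem_biUnion.mpr ⟨x, hx, Finset.mem_image_of_mem _ hm⟩)
    · have h0 : c.cf m x = 0 := Finsupp.notMem_support_iff.mp hm
      rw [h0]
      exact zero_mem _

theorem Chart.cf_mem_coeffIdeal {F : Finset A} {x : A} (hx : x ∈ Ideal.span (F : Set A)) (m : c.M) :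
    c.cf m x ∈ c.coeffIdeal F := by
  classical
  let L : Ideal (MonoidAlgebra c.S c.M) := Ideal.map (algebraMap c.S _) (c.coeffIdeal F)
  have hcoef : ∀ y ∈ L, ∀ l, cfM c.S l y ∈ c.coeffIdeal F := by
    intro y hy
    rw [← Submodule.restrictScalars_mem c.S, ← Ideal.smul_top_eq_map] at hy
    refine Submodule.smul_induction_on hy (fun r hr z _ l => ?_) (fun a b ha hb l => ?_)
    · rw [map_smul, smul_eq_mul]
      exact Ideal.mul_mem_right _ _ hr
    · rw [map_add]
      exact add_mem (ha l) (hb l)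
  refine hcoef (c.j x) ?_ m
  have hle : Ideal.span (F : Set A) ≤ L.comap c.j := by
    refine Ideal.span_le.mpr fun y hy => ?_
    show c.j y ∈ L
    rw [← MonoidAlgebra.sum_coeff_single (c.j y)]
    refine Submodule.sum_mem _ fun l _ => ?_
    have hl : (c.j y).coeff l ∈ c.coeffIdeal F :=
      Ideal.subset_span (Set.mem_iUnion₂.mpr ⟨y, hy, l, rfl⟩)
    show MonoidAlgebra.single l ((c.j y).coeff l) ∈ L
    rw [show MonoidAlgebra.single l ((c.j y).coeff l) =
        algebraMap c.S (MonoidAlgebra c.S c.M) ((c.j y).coeff l) * MonoidAlgebra.single l 1 by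
      rw [← Algebra.smul_def, MonoidAlgebra.smul_single, smul_eq_mul, mul_one]]
    exact Ideal.mul_mem_right _ _ (Ideal.mem_map_of_mem _ hl)
  exact hle hx

/-- Coefficient ideals generated by idempotents descend. -/
theorem Chart.coeffIdeal_eq_bot [IsLocalRing R] [Module.FaithfullyFlat R c.S] {F : Finset A}
    (hidem : IsIdempotentElem (c.coeffIdeal F))
    (hm : ∀ x ∈ F, x ∈ Ideal.map (algebraMap R A) (IsLocalRing.maximalIdeal R)) :
    c.coeffIdeal F = ⊥ := by
  obtain ⟨ε, hε, hεK⟩ := (Ideal.isIdempotentElem_iff_of_fg _ (c.coeffIdeal_fg F)).mp hidem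
  change c.coeffIdeal F = Ideal.span {ε} at hεK
  let T := c.S ⊗[R] c.S
  let i₁ : c.S →ₐ[R] T := Algebra.TensorProduct.includeLeft
  let i₂ : c.S →ₐ[R] T := Algebra.TensorProduct.includeRight
  have habs : ∀ x ∈ F, ∀ m, ε * c.cf m x = c.cf m x := by
    intro x hx m
    have hmem : c.cf m x ∈ c.coeffIdeal F := c.cf_mem_coeffIdeal (Ideal.subset_span hx) m
    rw [hεK, Ideal.mem_span_singleton'] at hmem
    obtain ⟨r, hr⟩ := hmem
    rw [← hr, ← mul_assoc, mul_comm ε r, mul_assoc, hε]
  have htmul : ∀ x ∈ F, ε ⊗ₜ[R] x = (1 : c.S) ⊗ₜ[R] x := by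
    intro x hx
    apply c.bij.1
    rw [LinearMap.liftBaseChange_tmul, LinearMap.liftBaseChange_tmul, one_smul]
    refine cfM_ext fun m => ?_
    rw [map_smul, smul_eq_mul]
    exact habs x hx m
  have key : ∀ (i j : c.S →ₐ[R] T), ∀ x ∈ F, ∀ m, i ε * j (c.cf m x) = j (c.cf m x) := by
    intro i j x hx m
    let G : T ⊗[R] A →ₗ[T] T := (j.toLinearMap ∘ₗ (c.cf m).ofConv).liftBaseChange T
    have h1 := congrArg (fun z => G (i.toLinearMap.rTensor A z)) (htmul x hx)
    simpa [G, map_one] using h1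
  have hεmem : ∀ (j : c.S →ₐ[R] T), ∀ (i : c.S →ₐ[R] T), i ε * j ε = j ε := by
    intro j i
    have hle : c.coeffIdeal F ≤
        Ideal.comap j (LinearMap.ker (LinearMap.mulLeft T (1 - i ε))) := by
      refine Ideal.span_le.mpr fun k hk => ?_
      obtain ⟨x, hx, m, rfl⟩ := Set.mem_iUnion₂.mp hk
      show (1 - i ε) * j (c.cf m x) = 0
      rw [sub_mul, one_mul, key i j x hx m, sub_self]
    have h := hle (hεK ▸ Ideal.mem_span_singleton_self ε)
    change (1 - i ε) * j ε = 0 at h
    rw [sub_mul, one_mul, sub_eq_zero] at h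
    exact h.symm
  have h12 : i₁ ε = i₂ ε := by
    rw [← hεmem i₁ i₂, mul_comm, hεmem i₂ i₁]
  have hmem : ε ∈ Set.range (algebraMap R c.S) := by
    rw [← Algebra.IsEffective.eqLocus_includeLeft_includeRight (Algebra.IsEffective.of_faithfullyFlat R c.S)]
    exact h12
  obtain ⟨r, rfl⟩ := hmem
  have hinj := FaithfulSMul.algebraMap_injective R c.S
  have hr : r * r = r := hinj (by rw [map_mul]; exact hε)
  have hrm : r ∈ IsLocalRing.maximalIdeal R := by
    have hle : c.coeffIdeal F ≤ Ideal.map (algebraMap R c.S) (IsLocalRing.maximalIdeal R) := by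
      refine Ideal.span_le.mpr fun k hk => ?_
      obtain ⟨x, hx, m, rfl⟩ := Set.mem_iUnion₂.mp hk
      exact c.cf_mem_of_mem (hm x hx) m
    have := hle (hεK ▸ Ideal.mem_span_singleton_self _)
    rw [← Ideal.mem_comap, Ideal.comap_map_eq_self_of_faithfullyFlat] at this
    exact this
  have hr0 : r = 0 := by
    have hu : IsUnit (1 - r) := IsLocalRing.isUnit_one_sub_self_of_mem_nonunits r hrm
    exact hu.mul_left_eq_zero.mp (by rw [mul_sub, mul_one, hr, sub_self])
  rw [hεK, hr0, map_zero, Ideal.span_singleton_zero]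

/-- Two commuting families of idempotent functionals congruent modulo the maximal ideal agree. -/
theorem eq_of_local [IsLocalRing R] (hA : SGA3b.IsMultType R A) (φ : C →ₐc[R] A) (ψ : C →ₐ[R] A)
    (hg : ∀ (c : Chart R A) (m : c.M), ∃ g : WithConv (C →ₗ[R] c.S),
      g * g = g ∧ Commute (c.pull φ m) g ∧ ∀ y, g y = c.cf m (ψ y))
    (hF : ∃ F : Finset A, (∀ x ∈ F, ∃ y, x = φ y - ψ y) ∧ ∀ y, φ y - ψ y ∈ Ideal.span (F : Set A))
    (hs : ∀ y, φ y - ψ y ∈ Ideal.map (algebraMap R A) (IsLocalRing.maximalIdeal R)) :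
    ∀ y, φ y = ψ y := by
  intro y
  obtain ⟨c, hff⟩ := exists_chart_local hA
  obtain ⟨F, hF1, hF2⟩ := hF
  choose g hgg hgc hgv using hg c
  have hd : ∀ m, InIdeal (c.coeffIdeal F) (c.pull φ m - g m) := fun m z => by
    show c.cf m (φ z) - g m z ∈ _
    rw [hgv, ← map_sub]
    exact c.cf_mem_coeffIdeal (hF2 z) m
  have h3 : ∀ m, (c.pull φ m - g m) ^ 3 = c.pull φ m - g m := by
    intro m
    have hfe : g m * c.pull φ m = c.pull φ m * g m := (hgc m).eq.symm
    have h1 : ∀ x, c.pull φ m * (c.pull φ m * x) = c.pull φ m * x := fun x => by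
      rw [← mul_assoc, c.pull_mul_self]
    have h2 : ∀ x, g m * (g m * x) = g m * x := fun x => by rw [← mul_assoc, hgg]
    have h4 : ∀ x, g m * (c.pull φ m * x) = c.pull φ m * (g m * x) := fun x => by
      rw [← mul_assoc, hfe, mul_assoc]
    simp only [pow_succ, pow_zero, one_mul, sub_mul, mul_sub, mul_assoc, c.pull_mul_self, hgg,
      hfe, h1, h2, h4]
    abel
  have hidem : IsIdempotentElem (c.coeffIdeal F) := by
    refine le_antisymm Ideal.mul_le_left ?_
    refine Ideal.span_le.mpr fun k hk => ?_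
    obtain ⟨x, hx, m, rfl⟩ := Set.mem_iUnion₂.mp hk
    obtain ⟨z, rfl⟩ := hF1 x hx
    have h := (hd m).pow 3 z
    rw [h3] at h
    have hval : (c.pull φ m - g m) z = c.cf m (φ z - ψ z) := by
      show c.cf m (φ z) - g m z = _
      rw [hgv, map_sub]
    rw [hval] at h
    exact (Ideal.pow_le_pow_right (by norm_num : 2 ≤ 3)).trans (le_of_eq (pow_two _)) h
  have hbot := c.coeffIdeal_eq_bot hidem fun x hx => by
    obtain ⟨z, rfl⟩ := hF1 x hx
    exact hs z
  have hj : c.j (φ y - ψ y) = 0 := cfM_ext fun m => by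
    have := c.cf_mem_coeffIdeal (hF2 y) m
    rw [hbot, Ideal.mem_bot] at this
    rw [map_zero]
    exact this
  have h1 : (1 : c.S) ⊗ₜ[R] (φ y - ψ y) = 0 := c.bij.1 (by
    rw [map_zero, LinearMap.liftBaseChange_tmul, one_smul]
    exact hj)
  exact sub_eq_zero.mp ((Module.FaithfullyFlat.one_tmul_eq_zero_iff (R := R) (A := c.S) (M := A) _).mp h1)

theorem exists_finset_of_finiteType [Algebra.FiniteType R C] (φ ψ : C →ₐ[R] A) :
    ∃ F : Finset A, (∀ x ∈ F, ∃ y, x = φ y - ψ y) ∧ ∀ y, φ y - ψ y ∈ Ideal.span (F : Set A) := by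
  classical
  obtain ⟨t, ht⟩ := (‹Algebra.FiniteType R C›).out
  refine ⟨t.image fun y => φ y - ψ y, fun x hx => ?_, fun y => ?_⟩
  · obtain ⟨y, _, rfl⟩ := Finset.mem_image.mp hx
    exact ⟨y, rfl⟩
  · let I := Ideal.span ((t.image fun y => φ y - ψ y : Finset A) : Set A)
    have heq : (Ideal.Quotient.mkₐ R I).comp φ = (Ideal.Quotient.mkₐ R I).comp ψ :=
      AlgHom.ext_of_adjoin_eq_top ht fun z hz =>
        Ideal.Quotient.eq.mpr (Ideal.subset_span (Finset.mem_image_of_mem (fun y => φ y - ψ y) hz))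
    exact Ideal.Quotient.eq.mp (AlgHom.congr_fun heq y)

theorem exists_finset_of_noetherian [IsNoetherianRing A] (φ ψ : C →ₐ[R] A) :
    ∃ F : Finset A, (∀ x ∈ F, ∃ y, x = φ y - ψ y) ∧ ∀ y, φ y - ψ y ∈ Ideal.span (F : Set A) := by
  classical
  obtain ⟨F, hF, hspan⟩ := (Submodule.fg_span_iff_fg_span_finset_subset (R := A)
    (Set.range fun y => φ y - ψ y)).mp (IsNoetherian.noetherian _)
  refine ⟨F, fun x hx => ?_, fun y => ?_⟩
  · obtain ⟨y, rfl⟩ := hF hx
    exact ⟨y, rfl⟩
  · have : φ y - ψ y ∈ Submodule.span A (Set.range fun y => φ y - ψ y) := Submodule.subset_span ⟨y, rfl⟩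
    rw [hspan] at this
    exact this

/-- Homomorphisms into a commutative group congruent on the closed fibre agree. -/
theorem eq_of_mod_maximal [IsLocalRing R] [Coalgebra.IsCocomm R C] [Algebra.FiniteType R C]
    (hA : SGA3b.IsMultType R A) (φ ψ : C →ₐc[R] A)
    (hs : ∀ y, φ y - ψ y ∈ Ideal.map (algebraMap R A) (IsLocalRing.maximalIdeal R)) : φ = ψ :=
  DFunLike.ext _ _ (eq_of_local hA φ (ψ : C →ₐ[R] A)
    (fun c m => ⟨c.pull ψ m, c.pull_mul_self ψ m, Commute.all _ _, fun _ => rfl⟩)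
    (exists_finset_of_finiteType (φ : C →ₐ[R] A) (ψ : C →ₐ[R] A)) hs)

/-- Homomorphisms trivial on the closed fibre are trivial. -/
theorem eq_counit_of_mod_maximal [IsLocalRing R] (hA : SGA3b.IsMultType R A)
    (hft : Algebra.FiniteType R A) (hC : IsNoetherianRing R ∨ Algebra.FiniteType R C) (φ : C →ₐc[R] A)
    (hs : ∀ y, φ y - algebraMap R A (Coalgebra.counit (R := R) y) ∈
      Ideal.map (algebraMap R A) (IsLocalRing.maximalIdeal R)) :
    ∀ y, φ y = algebraMap R A (Coalgebra.counit (R := R) y) := by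
  let ψ : C →ₐ[R] A := (Algebra.ofId R A).comp (Bialgebra.counitAlgHom R C)
  refine eq_of_local hA φ ψ (fun c m => ?_) ?_ hs
  · classical
    have hv : ∀ z, c.cf m (ψ z) = if m = 1 then algebraMap R c.S (Coalgebra.counit (R := R) z) else 0 :=
      fun z => by
        show cfM c.S m (c.j (algebraMap R A _)) = _
        rw [c.j.commutes, cfM_algebraMap]
        rfl
    refine ⟨if m = 1 then 1 else 0, ?_, ?_, fun z => ?_⟩
    · split_ifs <;> simp
    · split_ifs
      · exact Commute.one_right _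
      · exact Commute.zero_right _
    · rw [hv]
      split_ifs <;> simp
  · rcases hC with h | h
    · have : IsNoetherianRing A := Algebra.FiniteType.isNoetherianRing R A
      exact exists_finset_of_noetherian (φ : C →ₐ[R] A) ψ
    · exact exists_finset_of_finiteType (φ : C →ₐ[R] A) ψ

end Groth.Agent.MultT
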