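import Groth.Agent.MultT.Basic2
import Groth.Agent.MultT.Connected
import Groth.Agent.MultT.Local
import Groth.Agent.SchDescent.Amitsur
import Mathlib

/-! Descent of characters: over a local base, a group of multiplicative type of finite type whose
torsion subgroups are all diagonalisable is diagonalisable. -/

set_option autoImplicit false

open TensorProduct WithConv Coalgebra

universe u

namespace Groth.Agent.MultT

variable {R : Type u} [CommRing R] {A : Type u} [CommRing A] [HopfAlgebra R A]

theorem Chart.map_bij (c : Chart R A) (T : Type u) [CommRing T] [Algebra c.S T] [Algebra R T]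
    [IsScalarTower R c.S T] :
    Function.Bijective (((MonoidAlgebra.mapAlgHom c.M (IsScalarTower.toAlgHom R c.S T)).comp
      c.j).toLinearMap.liftBaseChange T) := by
  classical
  let π : MonoidAlgebra c.S c.M →ₐ[R] MonoidAlgebra T c.M :=
    MonoidAlgebra.mapAlgHom c.M (IsScalarTower.toAlgHom R c.S T)
  let g := (π.comp c.j).toLinearMap.liftBaseChange T
  let b := (Algebra.TensorProduct.basis T (MonoidAlgebra.basis c.M c.S |>.map c.linEquiv.symm))
  let χ := TensorProduct.AlgebraTensorModule.cancelBaseChange R c.S T T A
  have hπs : ∀ (l : c.M) (s : c.S), π (MonoidAlgebra.single l s) = MonoidAlgebra.single l (algebraMap c.S T s) :=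
    fun l s => by simp [π]
  have key : ∀ z : c.S ⊗[R] A, g (χ ((1 : T) ⊗ₜ z)) = π (c.linEquiv z) := by
    intro z
    induction z using TensorProduct.induction_on with
    | zero => simp
    | add y w hy hw => simp only [TensorProduct.tmul_add, map_add, hy, hw]
    | tmul s a =>
      rw [Chart.linEquiv_tmul]
      simp [χ, g, Algebra.smul_def, π, MonoidAlgebra.coe_algebraMap]
  have hbasis : ∀ l, g (χ (b l)) = MonoidAlgebra.basis c.M T l := by
    intro l
    simp only [b, Algebra.TensorProduct.basis_apply, Module.Basis.map_apply]
    rw [key, LinearEquiv.apply_symm_apply]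
    simp [MonoidAlgebra.basis_apply, hπs]
  let E : T ⊗[R] A ≃ₗ[T] MonoidAlgebra T c.M := (b.map χ).equiv (MonoidAlgebra.basis c.M T) (Equiv.refl _)
  have hgE : g = E.toLinearMap := (b.map χ).ext fun l => by
    show g ((b.map χ) l) = E ((b.map χ) l)
    simp only [E]
    rw [Module.Basis.equiv_apply, Module.Basis.map_apply, hbasis]
    rfl
  show Function.Bijective g
  rw [hgE]
  exact E.bijective

/-- Extension of scalars of a chart. -/
noncomputable def Chart.map (c : Chart R A) (T : Type u) [CommRing T] [Algebra c.S T] [Algebra R T]
    [IsScalarTower R c.S T] : Chart R A where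
  S := T
  M := c.M
  j := (MonoidAlgebra.mapAlgHom c.M (IsScalarTower.toAlgHom R c.S T)).comp c.j
  orth m n := by
    classical
    have hcf : ∀ l : c.M, toConv ((cfM T l).restrictScalars R ∘ₗ
        ((MonoidAlgebra.mapAlgHom c.M (IsScalarTower.toAlgHom R c.S T)).comp c.j).toLinearMap) =
        toConv ((IsScalarTower.toAlgHom R c.S T).toLinearMap ∘ₗ (c.cf l).ofConv) := by
      intro l
      refine WithConv.ext (LinearMap.ext fun a => ?_)
      show (MonoidAlgebra.mapAlgHom c.M (IsScalarTower.toAlgHom R c.S T) (c.j a)).coeff l = _
      simp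
      rfl
    rw [hcf m, hcf n]
    have h := congrArg (fun f : WithConv (A →ₗ[R] c.S) =>
      toConv ((IsScalarTower.toAlgHom R c.S T).toLinearMap ∘ₗ f.ofConv)) (c.orth m n)
    simp only [LinearMap.algHom_comp_convMul_distrib, toConv_ofConv] at h
    refine h.trans ?_
    split_ifs
    · rfl
    · exact WithConv.ext (LinearMap.ext fun a => by simp)
  total a := by
    classical
    have key : ∀ z : MonoidAlgebra c.S c.M,
        (MonoidAlgebra.mapAlgHom c.M (IsScalarTower.toAlgHom R c.S T) z).coeff.sum (fun _ s => s) =
          algebraMap c.S T (z.coeff.sum fun _ s => s) := by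
      intro z
      induction z using MonoidAlgebra.induction_linear with
      | zero => simp
      | add u v hu hv =>
        rw [map_add, MonoidAlgebra.coeff_add, Finsupp.sum_add_index' (fun _ => rfl) (fun _ _ _ => rfl), hu, hv,
          MonoidAlgebra.coeff_add, Finsupp.sum_add_index' (fun _ => rfl) (fun _ _ _ => rfl), map_add]
      | single m s => simp
    show (MonoidAlgebra.mapAlgHom c.M (IsScalarTower.toAlgHom R c.S T) (c.j a)).coeff.sum (fun _ s => s) = _
    rw [key, c.total, ← IsScalarTower.algebraMap_apply]
  bij := c.map_bij T

theorem Chart.map_j (c : Chart R A) (T : Type u) [CommRing T] [Algebra c.S T] [Algebra R T]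
    [IsScalarTower R c.S T] (a : A) :
    (c.map T).j a = MonoidAlgebra.mapRingHom c.M (algebraMap c.S T) (c.j a) := by
  show MonoidAlgebra.mapAlgHom c.M (IsScalarTower.toAlgHom R c.S T) (c.j a) = _
  induction c.j a using MonoidAlgebra.induction_linear with
  | zero => simp
  | add x y hx hy => simp only [map_add, hx, hy]
  | single l s => simp

/-- Over a local base there is a faithfully flat chart with local coefficient ring. -/
theorem exists_chart_localRing [IsLocalRing R] (h : SGA3b.IsMultType R A) :
    ∃ c : Chart R A, Module.FaithfullyFlat R c.S ∧ IsLocalRing c.S := by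
  obtain ⟨c, hflat, q, hq, hqm⟩ := exists_charts h _ (IsLocalRing.maximalIdeal.isMaximal R).isPrime
  haveI := hq
  haveI : Module.Flat c.S (Localization.AtPrime q) := IsLocalization.flat _ q.primeCompl
  haveI : Module.Flat R (Localization.AtPrime q) := Module.Flat.trans R c.S _
  refine ⟨c.map (Localization.AtPrime q), @Module.FaithfullyFlat.mk R (Localization.AtPrime q) _ _ _ _ (fun {m} hm htop => ?_),
    (inferInstance : IsLocalRing (Localization.AtPrime q))⟩
  rw [IsLocalRing.eq_maximalIdeal hm] at htop
  have h1 : (1 : Localization.AtPrime q) ∈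
      (IsLocalRing.maximalIdeal R) • (⊤ : Submodule R (Localization.AtPrime q)) := by
    rw [show (IsLocalRing.maximalIdeal R) • (⊤ : Submodule R (Localization.AtPrime q)) = ⊤ from htop]
    exact Submodule.mem_top
  rw [Ideal.smul_top_eq_map, Submodule.restrictScalars_mem] at h1
  refine (IsLocalRing.maximalIdeal.isMaximal (Localization.AtPrime q)).ne_top
    ((Ideal.eq_top_iff_one _).mpr (Ideal.map_le_iff_le_comap.mpr ?_ h1))
  rw [IsScalarTower.algebraMap_eq R c.S (Localization.AtPrime q), ← Ideal.comap_comap]
  show IsLocalRing.maximalIdeal R ≤ (Ideal.under c.S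
    (IsLocalRing.maximalIdeal (Localization.AtPrime q))).comap (algebraMap R c.S)
  rw [IsLocalization.AtPrime.comap_maximalIdeal _ q, hqm]

/-- A group-like element of a group algebra over a local ring is a character. -/
theorem exists_single_of_groupLike {S : Type u} [CommRing S] [IsLocalRing S] {M : Type u} [CommGroup M]
    {x : MonoidAlgebra S M} (hx : IsGroupLikeElem S x) : ∃ l, x = MonoidAlgebra.single l 1 := by
  classical
  let b := MonoidAlgebra.basis M S
  have hexp : ∀ k, (b.tensorProduct b).repr (comul (R := S) (MonoidAlgebra.single k (x.coeff k))) =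
      Finsupp.single (k, k) (x.coeff k) := by
    intro k
    rw [show MonoidAlgebra.single k (x.coeff k) = x.coeff k • MonoidAlgebra.single k (1 : S) by
      rw [MonoidAlgebra.smul_single, smul_eq_mul, mul_one], map_smul,
      (MonoidAlgebra.isGroupLikeElem_single_one k).comul_eq_tmul_self, map_smul,
      show MonoidAlgebra.single k (1 : S) = b k by simp [b, MonoidAlgebra.basis_apply],
      ← Module.Basis.tensorProduct_apply, Module.Basis.repr_self, Finsupp.smul_single, smul_eq_mul, mul_one]
  have hmul : ∀ l n, x.coeff l * x.coeff n = if l = n then x.coeff l else 0 := by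
    intro l n
    have h := congrArg (fun t => (b.tensorProduct b).repr t (l, n)) hx.comul_eq_tmul_self
    simp only [Module.Basis.tensorProduct_repr_tmul_apply] at h
    conv_lhs at h => rw [← MonoidAlgebra.sum_coeff_single x, Finsupp.sum, map_sum, map_sum,
      Finset.sum_congr rfl fun k _ => hexp k]
    rw [Finsupp.finset_sum_apply] at h
    simp only [Finsupp.single_apply, Prod.mk.injEq, smul_eq_mul] at h
    have hb : ∀ k, b.repr x k = x.coeff k := fun k => rfl
    rw [hb, hb, mul_comm] at h
    rw [← h]
    by_cases hln : l = n
    · subst hln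
      rw [if_pos rfl]
      simp only [and_self, Finset.sum_ite_eq']
      by_cases hs : l ∈ x.coeff.support
      · rw [if_pos hs]
      · rw [if_neg hs, Finsupp.notMem_support_iff.1 hs]
    · rw [if_neg hln]
      exact Finset.sum_eq_zero fun k _ => if_neg fun hk => hln (hk.1.symm.trans hk.2)
  have hsum : ∑ k ∈ x.coeff.support, x.coeff k = 1 := by
    have h := hx.counit_eq_one
    rw [← MonoidAlgebra.sum_coeff_single x, Finsupp.sum, map_sum] at h
    simpa using h
  have hid : ∀ l, x.coeff l = 0 ∨ x.coeff l = 1 := fun l => by
    have hl := hmul l l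
    rw [if_pos rfl] at hl
    by_cases hu : IsUnit (x.coeff l)
    · exact Or.inr ((IsIdempotentElem.iff_eq_one_of_isUnit hu).1 hl)
    · have h1 : IsUnit (1 - x.coeff l) := IsLocalRing.isUnit_one_sub_self_of_mem_nonunits _ hu
      left
      have : x.coeff l * (1 - x.coeff l) = 0 := by rw [mul_sub, mul_one, hl, sub_self]
      exact (IsUnit.mul_left_eq_zero h1).1 this
  obtain ⟨l, hl⟩ : ∃ l, x.coeff l = 1 := by
    by_contra hc
    push Not at hc
    rw [Finset.sum_eq_zero fun k _ => (hid k).resolve_right (hc k)] at hsum
    exact zero_ne_one hsum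
  refine ⟨l, MonoidAlgebra.coeff_injective (Finsupp.ext fun n => ?_)⟩
  rw [MonoidAlgebra.coeff_single, Finsupp.single_apply]
  by_cases h : l = n
  · subst h; rw [if_pos rfl, hl]
  · rw [if_neg h]
    have := hmul l n
    rwa [if_neg h, hl, one_mul] at this

/-- An element is group-like modulo an ideal. -/
def IsGroupLikeMod (I : Ideal A) (a : A) : Prop :=
  counit (R := R) a = 1 ∧
    Algebra.TensorProduct.map (Ideal.Quotient.mkₐ R I) (Ideal.Quotient.mkₐ R I) (comul (R := R) a) =
      Ideal.Quotient.mkₐ R I a ⊗ₜ[R] Ideal.Quotient.mkₐ R I a

/-- Reduction modulo powers kills exactly the torsion ideal. -/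
theorem mem_torsion_of_modPow (c : Chart R A) (n : ℕ) (y : c.S ⊗[R] A)
    (hy : modPow c.S c.M n (c.linEquiv y) = 0) :
    y ∈ Ideal.map (Algebra.TensorProduct.includeRight : A →ₐ[R] c.S ⊗[R] A) (SGA3b.torsionIdeal R A n) := by
  classical
  let g : c.S ⊗[R] A →ₐ[c.S] MonoidAlgebra c.S c.M :=
    Algebra.TensorProduct.lift (Algebra.ofId _ _) c.j fun _ _ => Commute.all _ _
  have hg : ∀ z, g z = c.linEquiv z := by
    intro z
    induction z using TensorProduct.induction_on with
    | zero => simp
    | add a b ha hb => rw [map_add, map_add, ha, hb]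
    | tmul s a => simp [g, Chart.linEquiv_tmul, Algebra.smul_def, Algebra.ofId_apply]
  let J := Ideal.map (Algebra.TensorProduct.includeRight : A →ₐ[R] c.S ⊗[R] A) (SGA3b.torsionIdeal R A n)
  let P : c.S ⊗[R] A →ₐ[c.S] c.S ⊗[R] A :=
    Algebra.TensorProduct.map (AlgHom.id c.S c.S) (SGA3b.powConv R A n)
  have hP : ∀ z, g (P z) = MonoidAlgebra.mapDomainAlgHom c.S c.S (powMonoidHom n) (g z) := by
    intro z
    have : g.comp P = (MonoidAlgebra.mapDomainAlgHom c.S c.S (powMonoidHom n : c.M →* c.M)).comp g := by
      refine Algebra.TensorProduct.ext (Subsingleton.elim _ _) (AlgHom.ext fun a => ?_)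
      simp [g, P]
      rw [← MonoidAlgebra.one_def, one_mul, one_mul]
      exact AlgHom.congr_fun (c.j_powConv n) a
    exact AlgHom.congr_fun this z
  have hdiff : ∀ z : c.S ⊗[R] A, P z -
      Algebra.TensorProduct.map (AlgHom.id c.S c.S)
        ((Algebra.ofId R A).comp (Bialgebra.counitAlgHom R A)) z ∈ J := by
    intro z
    induction z using TensorProduct.induction_on with
    | zero => simp
    | add u v hu hv => rw [map_add, map_add, add_sub_add_comm]; exact add_mem hu hv
    | tmul s a =>
      simp only [P, Algebra.TensorProduct.map_tmul, AlgHom.id_apply, AlgHom.comp_apply,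
        Algebra.ofId_apply, Bialgebra.counitAlgHom_apply, ← TensorProduct.tmul_sub]
      rw [show s ⊗ₜ[R] (SGA3b.powConv R A n a - algebraMap R A (counit (R := R) a)) =
        (s ⊗ₜ[R] (1 : A)) * Algebra.TensorProduct.includeRight
          (SGA3b.powConv R A n a - algebraMap R A (counit (R := R) a)) by simp]
      refine Ideal.mul_mem_left _ _ (Ideal.mem_map_of_mem _ ?_)
      have : SGA3b.powConv R A n a - algebraMap R A (counit (R := R) a) =
          SGA3b.powConv R A n (a - algebraMap R A (counit (R := R) a)) := by rw [map_sub, AlgHom.commutes]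
      rw [this]
      exact Ideal.mem_map_of_mem _ (by simp [RingHom.mem_ker])
  have hgen : ∀ k : c.M, c.linEquiv.symm (MonoidAlgebra.single (k ^ n) (1 : c.S)) - 1 ∈ J := by
    intro k
    let w := c.linEquiv.symm (MonoidAlgebra.single k (1 : c.S))
    have h1 : P w = c.linEquiv.symm (MonoidAlgebra.single (k ^ n) (1 : c.S)) := by
      apply c.linEquiv.injective
      rw [← hg, hP, hg, LinearEquiv.apply_symm_apply, LinearEquiv.apply_symm_apply]
      simp
    have h2 : Algebra.TensorProduct.map (AlgHom.id c.S c.S)
        ((Algebra.ofId R A).comp (Bialgebra.counitAlgHom R A)) w = 1 := by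
      have h3 : ∀ z : c.S ⊗[R] A, Algebra.TensorProduct.map (AlgHom.id c.S c.S)
          ((Algebra.ofId R A).comp (Bialgebra.counitAlgHom R A)) z =
          algebraMap c.S (c.S ⊗[R] A) ((c.linEquiv z).coeff.sum fun _ s => s) := by
        intro z
        induction z using TensorProduct.induction_on with
        | zero => simp
        | add u v hu hv =>
          rw [map_add, map_add, hu, hv, MonoidAlgebra.coeff_add, ← map_add,
            ← Finsupp.sum_add_index' (fun _ => rfl) (fun _ _ _ => rfl)]
        | tmul s a =>
          rw [Chart.linEquiv_tmul, MonoidAlgebra.coeff_smul, Finsupp.sum_smul_index' (fun _ => rfl)]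
          simp only [smul_eq_mul]
          rw [← Finsupp.mul_sum, c.total]
          simp [Algebra.algebraMap_eq_smul_one, TensorProduct.smul_tmul', TensorProduct.tmul_smul,
            Algebra.TensorProduct.one_def, mul_comm]
      rw [h3, LinearEquiv.apply_symm_apply, MonoidAlgebra.coeff_single, Finsupp.sum_single_index rfl, map_one]
    have h4 := hdiff w
    rw [h1, h2] at h4
    exact h4
  obtain ⟨σ, hσ⟩ := Function.Surjective.hasRightInverse
    (QuotientGroup.mk'_surjective (powMonoidHom n : c.M →* c.M).range)
  have hsingle : ∀ (l : c.M) (s : c.S),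
      c.linEquiv.symm (MonoidAlgebra.single l s) -
        c.linEquiv.symm (MonoidAlgebra.single (σ (QuotientGroup.mk' _ l)) s) ∈ J := by
    intro l s
    set r := σ (QuotientGroup.mk' (powMonoidHom n : c.M →* c.M).range l)
    obtain ⟨k, hk⟩ := (QuotientGroup.eq (s := (powMonoidHom n : c.M →* c.M).range)).1
      (show (r : c.M ⧸ (powMonoidHom n : c.M →* c.M).range) = (l : c.M ⧸ _) from hσ _)
    have h1 : c.linEquiv.symm (MonoidAlgebra.single l s) - c.linEquiv.symm (MonoidAlgebra.single r s) =
        c.linEquiv.symm (MonoidAlgebra.single r s) *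
          (c.linEquiv.symm (MonoidAlgebra.single (k ^ n) (1 : c.S)) - 1) := by
      apply c.linEquiv.injective
      rw [← hg, ← hg, map_mul, map_sub, map_sub, map_one, hg, hg, hg, LinearEquiv.apply_symm_apply,
        LinearEquiv.apply_symm_apply, LinearEquiv.apply_symm_apply, mul_sub, mul_one,
        MonoidAlgebra.single_mul_single, mul_one]
      rw [show r * k ^ n = l by
        rw [show k ^ n = r⁻¹ * l from hk, ← mul_assoc, mul_inv_cancel, one_mul]]
    rw [h1]
    exact J.mul_mem_left _ (hgen k)
  have hmain : ∀ z : MonoidAlgebra c.S c.M, c.linEquiv.symm z -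
      c.linEquiv.symm (MonoidAlgebra.mapDomain σ (modPow c.S c.M n z)) ∈ J := by
    intro z
    induction z using MonoidAlgebra.induction_linear with
    | zero => simp
    | add u v hu hv =>
      rw [map_add, map_add, MonoidAlgebra.mapDomain_add, map_add, add_sub_add_comm]
      exact add_mem hu hv
    | single l s =>
      simp only [modPow, MonoidAlgebra.mapDomainAlgHom_apply, MonoidAlgebra.mapDomain_single]
      exact hsingle l s
  have := hmain (c.linEquiv y)
  rw [hy, MonoidAlgebra.mapDomain_zero, map_zero, sub_zero, LinearEquiv.symm_apply_apply] at this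
  exact this

set_option backward.isDefEq.respectTransparency false in
/-- Over a local base: if the torsion subgroups are diagonalisable, the group-like elements span. -/
theorem span_groupLike_of_torsion [IsLocalRing R] (hA : SGA3b.IsMultType R A) [Algebra.FiniteType R A]
    (h : ∀ n : ℕ, 0 < n → ∀ b : A, ∃ y ∈ Submodule.span R
      {a : A | IsGroupLikeMod (R := R) (SGA3b.torsionIdeal R A n) a}, b - y ∈ SGA3b.torsionIdeal R A n) :
    Submodule.span R {g : A | IsGroupLikeElem R g} = ⊤ := by
  classical
  obtain ⟨c, hff, hloc⟩ := exists_chart_localRing hA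
  haveI := hff
  haveI := hloc
  haveI := c.group_fg
  haveI : Nontrivial c.S := inferInstance
  -- characters of the torsion subgroups
  have hlift : ∀ (n : ℕ), 0 < n → ∀ l : c.M, ∃ a : A,
      modPow c.S c.M n (c.j a) = modPow c.S c.M n (MonoidAlgebra.single l 1) := by
    intro n hn l
    obtain ⟨e⟩ := c.exists_bialgEquiv c.S
    let H := (powMonoidHom n : c.M →* c.M).range
    have hjn : ∀ v ∈ SGA3b.torsionIdeal R A n, modPow c.S c.M n (c.j v) = 0 :=
      fun v hv => c.modPow_j_torsion n hv
    let jn : (A ⧸ SGA3b.torsionIdeal R A n) →ₐ[R] MonoidAlgebra c.S (c.M ⧸ H) :=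
      Ideal.Quotient.liftₐ _ (((modPow c.S c.M n).restrictScalars R).comp c.j) hjn
    have hjn' : ∀ a, jn (Ideal.Quotient.mkₐ R _ a) = modPow c.S c.M n (c.j a) := fun _ => rfl
    let b := MonoidAlgebra.basis (c.M ⧸ H) c.S
    have hsingle : ∀ a, IsGroupLikeMod (R := R) (SGA3b.torsionIdeal R A n) a →
        ∃ m, modPow c.S c.M n (c.j a) = MonoidAlgebra.single m 1 := by
      intro a ha
      refine exists_single_of_groupLike ⟨?_, ?_⟩
      · have hc : ∀ z : MonoidAlgebra c.S c.M,
            counit (R := c.S) (modPow c.S c.M n z) = z.coeff.sum fun _ s => s := by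
          intro z
          induction z using MonoidAlgebra.induction_linear with
          | zero => simp
          | add u v hu hv =>
            rw [map_add, map_add, hu, hv, MonoidAlgebra.coeff_add,
              Finsupp.sum_add_index' (fun _ => rfl) (fun _ _ _ => rfl)]
          | single m s => simp [modPow]
        rw [hc, c.total, ha.1, map_one]
      · apply (b.tensorProduct b).repr.injective
        refine Finsupp.ext fun ⟨m₁, m₂⟩ => ?_
        rw [Module.Basis.tensorProduct_repr_tmul_apply, smul_eq_mul]
        -- coefficient functionals on classes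
        have hfun : ∀ z : MonoidAlgebra c.S c.M,
            (b.tensorProduct b).repr (comul (R := c.S) (modPow c.S c.M n z)) (m₁, m₂) =
              if m₁ = m₂ then (modPow c.S c.M n z).coeff m₁ else 0 := by
          intro z
          induction z using MonoidAlgebra.induction_linear with
          | zero => simp
          | add u v hu hv =>
            simp only [map_add, Finsupp.add_apply, MonoidAlgebra.coeff_add, hu, hv]
            split_ifs <;> simp
          | single k s =>
            rw [show MonoidAlgebra.single k s = s • MonoidAlgebra.single k (1 : c.S) by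
              rw [MonoidAlgebra.smul_single, smul_eq_mul, mul_one], map_smul, map_smul, map_smul,
              Finsupp.smul_apply,
              show modPow c.S c.M n (MonoidAlgebra.single k (1 : c.S)) = MonoidAlgebra.single (QuotientGroup.mk k) 1 by
                simp [modPow],
              (MonoidAlgebra.isGroupLikeElem_single_one _).comul_eq_tmul_self,
              show MonoidAlgebra.single (QuotientGroup.mk k : c.M ⧸ H) (1 : c.S) = b (QuotientGroup.mk k) by
                simp [b, MonoidAlgebra.basis_apply],
              ← Module.Basis.tensorProduct_apply, Module.Basis.repr_self, MonoidAlgebra.coeff_smul,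
              Finsupp.smul_apply, show b (QuotientGroup.mk k) = MonoidAlgebra.single (QuotientGroup.mk k : c.M ⧸ H) (1 : c.S) by
                simp [b, MonoidAlgebra.basis_apply], MonoidAlgebra.coeff_single, Finsupp.single_apply,
              Finsupp.single_apply]
            simp only [Prod.mk.injEq, smul_eq_mul, mul_ite, mul_one, mul_zero]
            split_ifs <;> aesop
        rw [hfun]
        -- compare through the quotient
        let cl : c.M ⧸ H → ((A ⧸ SGA3b.torsionIdeal R A n) →ₗ[R] c.S) := fun m =>
          (cfM c.S m).restrictScalars R ∘ₗ jn.toLinearMap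
        have h1 : LinearMap.mul' R c.S (TensorProduct.map (cl m₁) (cl m₂)
            (Algebra.TensorProduct.map (Ideal.Quotient.mkₐ R _) (Ideal.Quotient.mkₐ R _) (comul (R := R) a))) =
            (modPow c.S c.M n (c.j a)).coeff m₁ * (modPow c.S c.M n (c.j a)).coeff m₂ := by
          rw [ha.2, TensorProduct.map_tmul, LinearMap.mul'_apply]
          rfl
        have h2 : ∀ t : A ⊗[R] A, LinearMap.mul' R c.S (TensorProduct.map (cl m₁) (cl m₂)
            (Algebra.TensorProduct.map (Ideal.Quotient.mkₐ R _) (Ideal.Quotient.mkₐ R _) t)) =
            (b.tensorProduct b).repr (TensorProduct.map (modPow c.S c.M n).toLinearMap (modPow c.S c.M n).toLinearMap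
              (((TensorProduct.AlgebraTensorModule.distribBaseChange R c.S A A).trans
                (TensorProduct.congr c.linEquiv c.linEquiv)) ((1 : c.S) ⊗ₜ t))) (m₁, m₂) := by
          intro t
          induction t using TensorProduct.induction_on with
          | zero => simp
          | add u v hu hv => simp only [TensorProduct.tmul_add, map_add, Finsupp.add_apply, hu, hv]
          | tmul u v =>
            simp [b, TensorProduct.AlgebraTensorModule.distribBaseChange_tmul, Chart.linEquiv_tmul,
              Module.Basis.tensorProduct_repr_tmul_apply, cl]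
            rw [mul_comm]
            rfl
        rw [h2] at h1
        have h3 : ((TensorProduct.AlgebraTensorModule.distribBaseChange R c.S A A).trans
            (TensorProduct.congr c.linEquiv c.linEquiv)) ((1 : c.S) ⊗ₜ comul (R := R) a) =
            comul (R := c.S) (c.j a) := by
          let bb := MonoidAlgebra.basis c.M c.S
          apply (bb.tensorProduct bb).repr.injective
          refine Finsupp.ext fun ⟨l₁, l₂⟩ => ?_
          have hl : ∀ x : A ⊗[R] A, (bb.tensorProduct bb).repr
              (((TensorProduct.AlgebraTensorModule.distribBaseChange R c.S A A).trans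
                (TensorProduct.congr c.linEquiv c.linEquiv)) ((1 : c.S) ⊗ₜ x)) (l₁, l₂) =
              LinearMap.mul' R c.S (TensorProduct.map (c.cf l₁).ofConv (c.cf l₂).ofConv x) := by
            intro x
            induction x using TensorProduct.induction_on with
            | zero => simp
            | add y z hy hz => simp only [TensorProduct.tmul_add, map_add, Finsupp.add_apply, hy, hz]
            | tmul y z =>
              simp [bb, TensorProduct.AlgebraTensorModule.distribBaseChange_tmul, Chart.linEquiv_tmul,
                Module.Basis.tensorProduct_repr_tmul_apply]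
              rw [mul_comm]
              rfl
          rw [hl, ← LinearMap.convMul_apply]
          conv_rhs => rw [← MonoidAlgebra.sum_coeff_single (c.j a), Finsupp.sum, map_sum, map_sum,
            Finsupp.finset_sum_apply]
          have hk : ∀ k, (bb.tensorProduct bb).repr (comul (R := c.S) (MonoidAlgebra.single k ((c.j a).coeff k)))
              (l₁, l₂) = if k = l₁ ∧ k = l₂ then (c.j a).coeff k else 0 := by
            intro k
            rw [show MonoidAlgebra.single k ((c.j a).coeff k) = (c.j a).coeff k • MonoidAlgebra.single k (1 : c.S) by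
              rw [MonoidAlgebra.smul_single, smul_eq_mul, mul_one], map_smul,
              (MonoidAlgebra.isGroupLikeElem_single_one k).comul_eq_tmul_self, map_smul,
              show MonoidAlgebra.single k (1 : c.S) = bb k by simp [bb, MonoidAlgebra.basis_apply],
              ← Module.Basis.tensorProduct_apply, Module.Basis.repr_self, Finsupp.smul_single, smul_eq_mul,
              mul_one, Finsupp.single_apply]
            simp only [Prod.mk.injEq]
          rw [Finset.sum_congr rfl fun k _ => hk k]
          by_cases hln : l₁ = l₂
          · subst hln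
            rw [c.cf_mul_self]
            simp only [and_self, Finset.sum_ite_eq']
            split_ifs with hs
            · rfl
            · exact Finsupp.notMem_support_iff.1 hs
          · rw [c.cf_mul_ne hln, Finset.sum_eq_zero fun k _ => if_neg fun hk' => hln (hk'.1.symm.trans hk'.2)]
            rfl
        rw [h3] at h1
        have h4 : TensorProduct.map (modPow c.S c.M n).toLinearMap (modPow c.S c.M n).toLinearMap
            (comul (R := c.S) (c.j a)) = comul (R := c.S) (modPow c.S c.M n (c.j a)) := by
          exact CoalgHomClass.map_comp_comul_apply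
            (MonoidAlgebra.mapDomainBialgHom c.S (QuotientGroup.mk' H)) (c.j a)
        rw [h4, hfun] at h1
        exact h1.trans (mul_comm _ _)
    by_contra hc
    push Not at hc
    -- the coefficient at the class of `l` vanishes everywhere
    have hz : ∀ x : A, (modPow c.S c.M n (c.j x)).coeff (QuotientGroup.mk l) = 0 := by
      intro x
      obtain ⟨y, hy, hxy⟩ := h n hn x
      have hxy' : modPow c.S c.M n (c.j x) = modPow c.S c.M n (c.j y) :=
        sub_eq_zero.1 (by rw [← map_sub, ← map_sub]; exact hjn _ hxy)
      rw [hxy']
      clear hxy hxy'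
      induction hy using Submodule.span_induction with
      | mem a ha =>
        obtain ⟨m, hm⟩ := hsingle a ha
        rw [hm, MonoidAlgebra.coeff_single, Finsupp.single_apply, if_neg]
        intro hml
        refine hc a ?_
        rw [hm, hml]
        simp [modPow]
      | zero => simp
      | add u v _ _ hu hv => simp [map_add, hu, hv]
      | smul r u _ hu =>
        rw [map_smul, ← algebraMap_smul c.S r (c.j u), map_smul, MonoidAlgebra.coeff_smul, Finsupp.smul_apply,
          hu, smul_zero]
    have hall : ∀ w : c.S ⊗[R] A, (modPow c.S c.M n (c.linEquiv w)).coeff (QuotientGroup.mk l) = 0 := by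
      intro w
      induction w using TensorProduct.induction_on with
      | zero => simp
      | tmul s x => rw [Chart.linEquiv_tmul, map_smul, MonoidAlgebra.coeff_smul, Finsupp.smul_apply, hz, smul_zero]
      | add u v hu hv => simp [map_add, hu, hv]
    have h1 := hall (c.linEquiv.symm (MonoidAlgebra.single l 1))
    rw [LinearEquiv.apply_symm_apply] at h1
    simp [modPow] at h1
  -- descent
  let T := c.S ⊗[R] c.S
  let i₂ : c.S ⊗[R] A →ₐ[R] T ⊗[R] A :=
    Algebra.TensorProduct.map (Algebra.TensorProduct.includeRight : c.S →ₐ[R] T) (AlgHom.id R A)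
  let i₁ : c.S ⊗[R] A →ₐ[R] T ⊗[R] A :=
    Algebra.TensorProduct.map (Algebra.TensorProduct.includeLeft : c.S →ₐ[R] T) (AlgHom.id R A)
  let cT := c.map T
  have hdesc : ∀ l : c.M, ∃ a : A, c.j a = MonoidAlgebra.single l 1 := by
    intro l
    let z := c.linEquiv.symm (MonoidAlgebra.single l (1 : c.S))
    have heq : i₁ z = i₂ z := by
      apply cT.linEquiv.injective
      rw [← sub_eq_zero]
      refine (map_sub cT.linEquiv (i₁ z) (i₂ z)).symm.trans ?_
      obtain ⟨k, hk⟩ := dense_group (S := T) (M := c.M) (1 : MonoidAlgebra T c.M)
        (cT.linEquiv (i₁ z - i₂ z)) (fun n hn => ⟨0, by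
          rw [pow_zero, one_mul]
          obtain ⟨a, ha⟩ := hlift n hn l
          have hmem : z - (1 : c.S) ⊗ₜ[R] a ∈
              Ideal.map (Algebra.TensorProduct.includeRight : A →ₐ[R] c.S ⊗[R] A) (SGA3b.torsionIdeal R A n) := by
            refine mem_torsion_of_modPow c n _ ?_
            rw [map_sub, LinearEquiv.apply_symm_apply, Chart.linEquiv_tmul, one_smul, map_sub, ha, sub_self]
          let gT : T ⊗[R] A →ₐ[T] MonoidAlgebra T c.M :=
            Algebra.TensorProduct.lift (Algebra.ofId _ _) cT.j fun _ _ => Commute.all _ _
          have hgT : ∀ w, gT w = cT.linEquiv w := by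
            intro w
            induction w using TensorProduct.induction_on with
            | zero => simp
            | add u v hu hv => rw [map_add, map_add, hu, hv]
            | tmul s x =>
              refine Eq.trans ?_ (cT.linEquiv_tmul s x).symm
              simp [gT, Algebra.smul_def, Algebra.ofId_apply]
              rfl
          let JT := Ideal.map (Algebra.TensorProduct.includeRight : A →ₐ[R] T ⊗[R] A) (SGA3b.torsionIdeal R A n)
          have hi : ∀ (i : c.S →ₐ[R] T), Ideal.map (Algebra.TensorProduct.includeRight : A →ₐ[R] c.S ⊗[R] A)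
              (SGA3b.torsionIdeal R A n) ≤ JT.comap (Algebra.TensorProduct.map i (AlgHom.id R A)) := by
            intro i
            refine Ideal.map_le_iff_le_comap.2 fun v hv => ?_
            rw [Ideal.mem_comap, Ideal.mem_comap, Algebra.TensorProduct.includeRight_apply,
              Algebra.TensorProduct.map_tmul, map_one, AlgHom.id_apply]
            exact Ideal.mem_map_of_mem _ hv
          have hJT : JT ≤ RingHom.ker ((modPow T c.M n).comp gT) := by
            refine Ideal.map_le_iff_le_comap.2 fun v hv => ?_
            rw [Ideal.mem_comap, RingHom.mem_ker, AlgHom.comp_apply, hgT,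
              Algebra.TensorProduct.includeRight_apply, Chart.linEquiv_tmul, one_smul]
            exact cT.modPow_j_torsion n hv
          have h1 : i₁ z - i₂ z = i₁ (z - (1 : c.S) ⊗ₜ[R] a) - i₂ (z - (1 : c.S) ⊗ₜ[R] a) := by
            rw [map_sub, map_sub]
            simp [i₁, i₂, Algebra.TensorProduct.one_def]
          have h2 : i₁ z - i₂ z ∈ JT := by
            rw [h1]
            exact sub_mem (hi _ hmem) (hi _ hmem)
          have h3 := hJT h2
          rw [RingHom.mem_ker, AlgHom.comp_apply, hgT] at h3
          exact h3⟩)
      rw [one_pow, one_mul] at hk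
      exact hk
    obtain ⟨a, ha⟩ := SchDescent.mem_range_of_amitsur R c.S A z (by
      apply (TensorProduct.assoc R c.S c.S A).symm.injective
      have e1 : ∀ w : c.S ⊗[R] A, (TensorProduct.assoc R c.S c.S A).symm
          (TensorProduct.mk R c.S (c.S ⊗[R] A) 1 w) = i₂ w := by
        intro w
        induction w using TensorProduct.induction_on with
        | zero => simp
        | tmul s x => simp [i₂]; rfl
        | add u v hu hv => rw [map_add, map_add, map_add, hu, hv]
      have e2 : ∀ w : c.S ⊗[R] A, (TensorProduct.assoc R c.S c.S A).symm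
          (LinearMap.lTensor c.S (TensorProduct.mk R c.S A 1) w) = i₁ w := by
        intro w
        induction w using TensorProduct.induction_on with
        | zero => simp
        | tmul s x => simp [i₁]; rfl
        | add u v hu hv => rw [map_add, map_add, map_add, hu, hv]
      rw [e1, e2, heq])
    refine ⟨a, ?_⟩
    rw [TensorProduct.mk_apply] at ha
    rw [← one_smul c.S (c.j a), ← Chart.linEquiv_tmul, ha, LinearEquiv.apply_symm_apply]
  choose g hg using hdesc
  have hgl : ∀ l, IsGroupLikeElem R (g l) := by
    intro l
    have hcfl : ∀ k, (c.cf k).ofConv (g l) = if l = k then 1 else 0 := fun k => by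
      show (c.j (g l)).coeff k = _
      rw [hg, MonoidAlgebra.coeff_single, Finsupp.single_apply]
    constructor
    · have h1 := c.total (g l)
      rw [hg, MonoidAlgebra.coeff_single, Finsupp.sum_single_index rfl, ← map_one (algebraMap R c.S)] at h1
      exact (FaithfulSMul.algebraMap_injective R c.S h1).symm
    · rw [← sub_eq_zero]
      have hi : Function.Injective (TensorProduct.mk R c.S (A ⊗[R] A) 1) :=
        Module.FaithfullyFlat.tensorProduct_mk_injective (A ⊗[R] A)
      apply hi
      rw [map_zero, TensorProduct.mk_apply]
      let Φ := (TensorProduct.AlgebraTensorModule.distribBaseChange R c.S A A).trans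
        (TensorProduct.congr c.linEquiv c.linEquiv)
      let b := MonoidAlgebra.basis c.M c.S
      apply Φ.injective
      apply (b.tensorProduct b).repr.injective
      refine Finsupp.ext fun ⟨k, m⟩ => ?_
      have hcoef : ∀ x : A ⊗[R] A, (b.tensorProduct b).repr (Φ ((1 : c.S) ⊗ₜ x)) (k, m) =
          LinearMap.mul' R c.S (TensorProduct.map (c.cf k).ofConv (c.cf m).ofConv x) := by
        intro x
        induction x using TensorProduct.induction_on with
        | zero => simp
        | add y z hy hz => simp only [TensorProduct.tmul_add, map_add, Finsupp.add_apply, hy, hz]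
        | tmul y z =>
          simp [Φ, b, TensorProduct.AlgebraTensorModule.distribBaseChange_tmul, Chart.linEquiv_tmul,
            Module.Basis.tensorProduct_repr_tmul_apply]
          rw [mul_comm]
          rfl
      rw [hcoef, map_zero, map_zero, Finsupp.zero_apply, map_sub, map_sub, sub_eq_zero,
        ← LinearMap.convMul_apply, TensorProduct.map_tmul, LinearMap.mul'_apply, hcfl, hcfl]
      by_cases hkm : k = m
      · subst hkm
        rw [c.cf_mul_self, hcfl]
        split_ifs <;> simp
      · rw [c.cf_mul_ne hkm]
        show (0 : c.S) = _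
        split_ifs with h₁ h₂ <;> simp_all
  refine eq_top_of_covering (fun c' => c' = c) (fun p hp => ?_) _ ?_
  · obtain ⟨q, hq⟩ := PrimeSpectrum.comap_surjective_of_faithfullyFlat (B := c.S)
      (⟨p, hp⟩ : PrimeSpectrum R)
    exact ⟨c, rfl, inferInstance, q.asIdeal, q.2, congrArg PrimeSpectrum.asIdeal hq⟩
  · rintro c' rfl
    refine eq_top_iff.2 fun y hy => ?_
    clear hy
    induction y using MonoidAlgebra.induction_linear with
    | zero => exact zero_mem _
    | add u v hu hv => exact add_mem hu hv
    | single l s =>
      rw [show MonoidAlgebra.single l s = s • MonoidAlgebra.single l (1 : c'.S) by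
        rw [MonoidAlgebra.smul_single, smul_eq_mul, mul_one], ← hg]
      exact Submodule.smul_mem _ s (Submodule.subset_span ⟨g l, Submodule.subset_span (hgl l), rfl⟩)

end Groth.Agent.MultT
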