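import Groth.Agent.MultT.ChartEquiv
import Groth.Agent.MultT.BaseChange
import Groth.Agent.MultT.CharDescent
import Mathlib

/-! Kernels of homomorphisms from groups of multiplicative type to affine groups of finite type. -/

set_option autoImplicit false

open TensorProduct WithConv Coalgebra

universe u

namespace Groth.Agent.MultT

variable {R : Type u} [CommRing R] {A : Type u} [CommRing A] [HopfAlgebra R A]
  {C : Type u} [CommRing C] [HopfAlgebra R C] (c : Chart R A) (φ : C →ₐc[R] A)

/-- The characters occurring at a prime. -/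
def Chart.charN (q : PrimeSpectrum c.S) : Subgroup c.M :=
  Subgroup.closure {m | ∃ x, c.pull φ m x ∉ q.asIdeal}

theorem Chart.charN_le {q : PrimeSpectrum c.S} {N : Subgroup c.M}
    (h : ∀ m ∉ N, ∀ x, c.pull φ m x ∈ q.asIdeal) : c.charN φ q ≤ N := by
  refine (Subgroup.closure_le _).2 fun m hm => ?_
  obtain ⟨x, hx⟩ := hm
  by_contra hmN
  exact hx (h m hmN x)

theorem Chart.pull_mem_of_not_mem {q : PrimeSpectrum c.S} {m : c.M} (hm : m ∉ c.charN φ q) (x : C) :
    c.pull φ m x ∈ q.asIdeal := by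
  by_contra h
  exact hm (Subgroup.subset_closure ⟨x, h⟩)

/-- Coefficients outside a subgroup lie in the ideal of those of generators. -/
theorem Chart.pull_mem_span {G : Set C} (hG : Algebra.adjoin R G = ⊤) (N : Subgroup c.M)
    (I : Ideal c.S) (hI : ∀ g ∈ G, ∀ m ∉ N, c.pull φ m g ∈ I) (x : C) :
    ∀ m ∉ N, c.pull φ m x ∈ I := by
  classical
  have hx : x ∈ Algebra.adjoin R G := hG ▸ Algebra.mem_top
  induction hx using Algebra.adjoin_induction with
  | mem g hg => exact hI g hg
  | algebraMap r =>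
    intro m hm
    rw [c.pull_apply, AlgHomClass.commutes, AlgHom.commutes]
    have h1 : m ≠ 1 := fun h => hm (h ▸ N.one_mem)
    rw [show (algebraMap R (MonoidAlgebra c.S c.M) r) = MonoidAlgebra.single 1 (algebraMap R c.S r) from rfl,
      cfM_single, if_neg (Ne.symm h1)]
    exact I.zero_mem
  | add a b _ _ ha hb =>
    intro m hm
    rw [c.pull_apply, map_add, map_add, map_add]
    exact I.add_mem (ha m hm) (hb m hm)
  | mul a b _ _ ha hb =>
    intro m hm
    rw [c.pull_apply, map_mul, map_mul]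
    show (c.j (φ a) * c.j (φ b)).coeff m ∈ I
    rw [MonoidAlgebra.coeff_mul, Finsupp.sum]
    refine I.sum_mem fun s _ => ?_
    rw [Finsupp.sum]
    refine I.sum_mem fun t _ => ?_
    show (if s * t = m then (c.j (φ a)).coeff s * (c.j (φ b)).coeff t else 0) ∈ I
    split_ifs with hst
    · by_cases hs : s ∈ N
      · refine I.mul_mem_left _ (hb t fun ht => hm ?_)
        rw [← hst]
        exact N.mul_mem hs ht
      · exact I.mul_mem_right _ (ha s hs)
    · exact I.zero_mem

/-- The ideal of coefficients outside a subgroup. -/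
noncomputable def Chart.outIdeal (N : Subgroup c.M) : Ideal c.S :=
  Ideal.span {z | ∃ m ∉ N, ∃ x, c.pull φ m x = z}

theorem Chart.outIdeal_idem (N : Subgroup c.M) : IsIdempotentElem (c.outIdeal φ N) := by
  refine le_antisymm Ideal.mul_le_left (Ideal.span_le.2 ?_)
  rintro z ⟨m, hm, x, rfl⟩
  show c.pull φ m x ∈ c.outIdeal φ N * c.outIdeal φ N
  rw [← c.pull_mul_self φ m, LinearMap.convMul_apply]
  induction comul (R := R) x using TensorProduct.induction_on with
  | zero => simp
  | tmul a b =>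
    rw [TensorProduct.map_tmul, LinearMap.mul'_apply]
    exact Ideal.mul_mem_mul (Ideal.subset_span ⟨m, hm, a, rfl⟩) (Ideal.subset_span ⟨m, hm, b, rfl⟩)
  | add a b ha hb => rw [map_add, map_add]; exact Ideal.add_mem _ ha hb

theorem Chart.finite_supp (G : Finset C) : {m : c.M | ∃ g ∈ G, c.pull φ m g ≠ 0}.Finite := by
  classical
  refine Set.Finite.subset (G.biUnion fun g => (c.j (φ g)).coeff.support).finite_toSet fun m hm => ?_
  obtain ⟨g, hg, h⟩ := hm
  exact Finset.mem_coe.2 (Finset.mem_biUnion.2 ⟨g, hg, Finsupp.mem_support_iff.2 h⟩)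

theorem Chart.outIdeal_fg [Algebra.FiniteType R C] (N : Subgroup c.M) : (c.outIdeal φ N).FG := by
  classical
  obtain ⟨G, hG⟩ := Algebra.FiniteType.out (R := R) (A := C)
  let s : Set c.S := {z | ∃ g ∈ G, ∃ m ∈ {m : c.M | ∃ g ∈ G, c.pull φ m g ≠ 0}, m ∉ N ∧ c.pull φ m g = z}
  have hs : s.Finite := by
    refine Set.Finite.subset ((G.finite_toSet.prod (c.finite_supp φ G)).image
      fun p => c.pull φ p.2 p.1) ?_
    rintro z ⟨g, hg, m, hm, -, rfl⟩
    exact ⟨(g, m), ⟨hg, hm⟩, rfl⟩
  suffices h : c.outIdeal φ N = Ideal.span s by rw [h]; exact Submodule.fg_span hs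
  refine le_antisymm (Ideal.span_le.2 ?_) (Ideal.span_le.2 ?_)
  · rintro z ⟨m, hm, x, rfl⟩
    refine c.pull_mem_span φ hG N _ (fun g hg k hk => ?_) x m hm
    by_cases h0 : c.pull φ k g = 0
    · rw [h0]; exact zero_mem _
    · exact Ideal.subset_span ⟨g, hg, k, ⟨g, hg, h0⟩, hk, rfl⟩
  · rintro z ⟨g, -, m, -, hm, rfl⟩
    exact Ideal.subset_span ⟨m, hm, g, rfl⟩

theorem Chart.exists_idem_out [Algebra.FiniteType R C] (N : Subgroup c.M) :
    ∃ ε : c.S, IsIdempotentElem ε ∧ c.outIdeal φ N = Ideal.span {ε} :=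
  (Ideal.isIdempotentElem_iff_of_fg _ (c.outIdeal_fg φ N)).mp (c.outIdeal_idem φ N)

theorem Chart.isOpen_fiber [Algebra.FiniteType R C] (N : Subgroup c.M) :
    IsOpen (c.charN φ ⁻¹' {N}) := by
  classical
  obtain ⟨G, hG⟩ := Algebra.FiniteType.out (R := R) (A := C)
  obtain ⟨ε, hε, hεN⟩ := c.exists_idem_out φ N
  refine isOpen_iff_forall_mem_open.2 fun q hq => ?_
  replace hq : c.charN φ q = N := hq
  have hεq : ε ∈ q.asIdeal := by
    have h1 : c.outIdeal φ N ≤ q.asIdeal := Ideal.span_le.2 (by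
      rintro z ⟨m, hm, x, rfl⟩
      exact c.pull_mem_of_not_mem φ (hq ▸ hm) x)
    exact h1 (hεN ▸ Ideal.mem_span_singleton_self ε)
  let T : Set c.M := {m | ∃ g ∈ G, c.pull φ m g ∉ q.asIdeal}
  have hT : T.Finite := (c.finite_supp φ G).subset (by
    rintro m ⟨g, hg, h⟩
    exact ⟨g, hg, fun h0 => h (by rw [h0]; exact zero_mem _)⟩)
  choose w hwG hw using fun m : hT.toFinset => hT.mem_toFinset.1 m.2
  let a : c.S := (1 - ε) * ∏ m : hT.toFinset, c.pull φ m (w m)
  have ha : a ∉ q.asIdeal := by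
    refine fun h => (q.isPrime.mem_or_mem h).elim (fun h1 => ?_) (fun h2 => ?_)
    · exact q.isPrime.ne_top ((Ideal.eq_top_iff_one _).2 (by simpa using q.asIdeal.add_mem h1 hεq))
    · obtain ⟨m, -, hm⟩ := q.isPrime.prod_mem_iff.1 h2
      exact hw m hm
  refine ⟨(PrimeSpectrum.basicOpen a : Set (PrimeSpectrum c.S)), fun q' hq' => ?_,
    (PrimeSpectrum.basicOpen a).2, ha⟩
  replace hq' : a ∉ q'.asIdeal := hq'
  have h1 : (1 - ε) ∉ q'.asIdeal := fun h => hq' (Ideal.mul_mem_right _ _ h)
  have h2 : ε ∈ q'.asIdeal := (q'.isPrime.mem_or_mem (show ε * (1 - ε) ∈ q'.asIdeal by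
    rw [mul_sub, mul_one, hε.eq, sub_self]; exact zero_mem _)).resolve_right h1
  refine le_antisymm (c.charN_le φ fun m hm x => ?_) ?_
  · have h3 : c.pull φ m x ∈ c.outIdeal φ N := Ideal.subset_span ⟨m, hm, x, rfl⟩
    rw [hεN, Ideal.mem_span_singleton'] at h3
    obtain ⟨r, hr⟩ := h3
    rw [← hr]
    exact q'.asIdeal.mul_mem_left r h2
  · have hTq : T ⊆ c.charN φ q' := fun m hm => Subgroup.subset_closure ⟨w ⟨m, hT.mem_toFinset.2 hm⟩,
      fun h => hq' (Ideal.mul_mem_left _ _ (Ideal.prod_mem _ (Finset.mem_univ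
        (⟨m, hT.mem_toFinset.2 hm⟩ : hT.toFinset)) h))⟩
    rw [← hq]
    refine (c.charN_le φ fun m hm x => c.pull_mem_span φ hG (Subgroup.closure T) q.asIdeal
      (fun g hg k hk => ?_) x m hm).trans ((Subgroup.closure_le _).2 hTq)
    by_contra h
    exact hk (Subgroup.subset_closure ⟨g, hg, h⟩)

theorem Chart.isLocallyConstant_charN [Algebra.FiniteType R C] : IsLocallyConstant (c.charN φ) :=
  IsLocallyConstant.iff_isOpen_fiber.2 (c.isOpen_fiber φ)

theorem Chart.exists_idem_preimage [Algebra.FiniteType R C] (U : Set (Subgroup c.M)) :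
    ∃ e : c.S, IsIdempotentElem e ∧ ∀ q : PrimeSpectrum c.S, e ∉ q.asIdeal ↔ c.charN φ q ∈ U := by
  have h : IsClopen (c.charN φ ⁻¹' U) :=
    ⟨⟨c.isLocallyConstant_charN φ Uᶜ⟩, c.isLocallyConstant_charN φ U⟩
  obtain ⟨e, he, heq⟩ := PrimeSpectrum.exists_idempotent_basicOpen_eq_of_isClopen h
  refine ⟨e, he, fun q => ?_⟩
  exact (Set.ext_iff.1 heq q).symm

theorem eq_zero_of_idem_mem {S : Type u} [CommRing S] {e : S} (he : IsIdempotentElem e)
    (h : ∀ q : PrimeSpectrum S, e ∈ q.asIdeal) : e = 0 := by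
  have hn : IsNilpotent e := nilpotent_iff_mem_prime.2 fun J hJ => h ⟨J, hJ⟩
  exact IsIdempotentElem.eq_zero_of_isNilpotent he hn

variable (J : Ideal A) [J.IsHopfIdeal R]

/-- The kernel is diagonalisable where the type is constant. -/
theorem Chart.isDiag_kernel [Algebra.FiniteType R C]
    (hJ : J = Ideal.map φ (RingHom.ker (Bialgebra.counitAlgHom R C)))
    {P : Type u} [CommGroup P] (hP : ∀ q, Nonempty (c.M ⧸ c.charN φ q ≃* P)) :
    SGA3b.IsDiag c.S (c.S ⊗[R] (A ⧸ J)) := by
  classical
  obtain ⟨Ψ, hΨ⟩ := c.exists_bialgEquiv_tmul c.S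
  let qm : (c.S ⊗[R] A) →ₐc[c.S] c.S ⊗[R] (A ⧸ J) :=
    Bialgebra.TensorProduct.map (R := R) (S := c.S) (A := c.S) (C := c.S) (B := A) (D := A ⧸ J)
      (BialgHom.id c.S c.S) (Bialgebra.Quotient.mkBialgHom J)
  have hqm : ∀ s a, qm (s ⊗ₜ a) = s ⊗ₜ Ideal.Quotient.mk J a := fun s a => by
    simp only [qm, Bialgebra.TensorProduct.map_tmul]
    rfl
  have hqsurj : Function.Surjective qm := fun z => by
    induction z using TensorProduct.induction_on with
    | zero => exact ⟨0, map_zero _⟩
    | tmul s b =>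
      obtain ⟨a, rfl⟩ := Ideal.Quotient.mk_surjective b
      exact ⟨s ⊗ₜ a, hqm s a⟩
    | add a b ha hb =>
      obtain ⟨x, rfl⟩ := ha
      obtain ⟨y, rfl⟩ := hb
      exact ⟨x + y, map_add _ x y⟩
  have hΨ' : ∀ a, Ψ ((1 : c.S) ⊗ₜ a) = c.j a := fun a => by
    rw [hΨ]
    refine cfM_ext fun k => ?_
    show (MonoidAlgebra.mapAlgHom c.M (IsScalarTower.toAlgHom R c.S c.S) (c.j a)).coeff k = _
    simp
    rfl
  let χ₀ : c.M →* c.S ⊗[R] (A ⧸ J) :=
    { toFun := fun m => qm (Ψ.symm (MonoidAlgebra.single m 1))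
      map_one' := by rw [← MonoidAlgebra.one_def, map_one, map_one]
      map_mul' := fun m m' => by
        rw [← map_mul, ← map_mul, MonoidAlgebra.single_mul_single, one_mul] }
  -- characters in the image of the coefficient functionals die
  have hkill : ∀ m x, c.pull φ m x • (χ₀ m - 1) = 0 := by
    intro m x
    let f : C →ₗ[R] c.S := (c.pull φ m).ofConv
    let g : C →ₗ[R] A := (φ : C →ₗc[R] A).toLinearMap
    have h1 : Ψ (TensorProduct.map f g (comul x)) = MonoidAlgebra.single m (c.pull φ m x) := by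
      refine cfM_ext fun l => ?_
      rw [cfM_single]
      have hl : cfM c.S l (Ψ (TensorProduct.map f g (comul x))) =
          (c.pull φ m * c.pull φ l).ofConv x := by
        rw [LinearMap.convMul_apply]
        induction comul (R := R) x using TensorProduct.induction_on with
        | zero => simp
        | tmul a b =>
          rw [TensorProduct.map_tmul, TensorProduct.map_tmul, LinearMap.mul'_apply,
            show f a ⊗ₜ[R] g b = f a • ((1 : c.S) ⊗ₜ[R] g b) by
              rw [TensorProduct.smul_tmul', smul_eq_mul, mul_one],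
            map_smul, map_smul, smul_eq_mul, hΨ']
          rfl
        | add a b ha hb => simp only [map_add, ha, hb]
      rw [hl]
      by_cases h : m = l
      · subst h; rw [if_pos rfl, c.pull_mul_self]
      · rw [if_neg h, c.pull_mul_ne φ h]; rfl
    have h2 : qm (TensorProduct.map f g (comul x)) = c.pull φ m x • 1 := by
      have hε : ∀ b, Ideal.Quotient.mk J (g b) = counit (R := R) b • (1 : A ⧸ J) := by
        intro b
        have hmem : φ (b - algebraMap R C (counit (R := R) b)) ∈ J :=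
          hJ ▸ Ideal.mem_map_of_mem _ (by simp [RingHom.mem_ker])
        rw [← Ideal.Quotient.eq_zero_iff_mem, map_sub, map_sub, sub_eq_zero,
          AlgHomClass.commutes] at hmem
        rw [show g b = φ b from rfl, hmem, Algebra.smul_def, mul_one]
        rfl
      have key : ∀ t : C ⊗[R] C, qm (TensorProduct.map f g t) =
          f (TensorProduct.rid R C ((counit (R := R)).lTensor C t)) ⊗ₜ[R] (1 : A ⧸ J) := by
        intro t
        induction t using TensorProduct.induction_on with
        | zero => simp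
        | tmul a b =>
          rw [TensorProduct.map_tmul, hqm, hε, TensorProduct.tmul_smul, TensorProduct.smul_tmul']
          simp
        | add a b ha hb => simp only [map_add, TensorProduct.add_tmul, ha, hb]
      rw [key, Coalgebra.lTensor_counit_comul, TensorProduct.rid_tmul, one_smul,
        Algebra.TensorProduct.one_def, TensorProduct.smul_tmul', smul_eq_mul, mul_one]
    have h3 : c.pull φ m x • χ₀ m = qm (TensorProduct.map f g (comul x)) := by
      rw [← Ψ.symm_apply_apply (TensorProduct.map f g (comul x)), h1,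
        show MonoidAlgebra.single m (c.pull φ m x) = c.pull φ m x • MonoidAlgebra.single m (1 : c.S) by
          rw [MonoidAlgebra.smul_single, smul_eq_mul, mul_one], map_smul, map_smul]
      rfl
    rw [smul_sub, h3, h2, sub_self]
  -- the pieces
  haveI : Finite (Set.range (c.charN φ)) := (c.isLocallyConstant_charN φ).range_finite.to_subtype
  cases nonempty_fintype (Set.range (c.charN φ))
  choose e he hemem using fun N : Set.range (c.charN φ) => c.exists_idem_preimage φ {(N : Subgroup c.M)}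
  have heq : ∀ (N : Set.range (c.charN φ)) (q : PrimeSpectrum c.S), e N ∉ q.asIdeal →
      c.charN φ q = N := fun N q h => (hemem N q).1 h
  have hortho : ∀ N N', N ≠ N' → e N * e N' = 0 := fun N N' hne =>
    eq_zero_of_idem_mem ((he N).mul (he N')) fun q => by
      by_contra h
      exact hne (Subtype.ext ((heq N q fun h' => h (Ideal.mul_mem_right _ _ h')).symm.trans
        (heq N' q fun h' => h (Ideal.mul_mem_left _ _ h'))))
  have hco : OrthogonalIdempotents e := ⟨he, fun N N' h => hortho N N' h⟩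
  have hcomp : ∑ N, e N = 1 := by
    refine ((IsIdempotentElem.iff_eq_one_of_isUnit ?_).1 (hco.isIdempotentElem_sum (s := Finset.univ)))
    by_contra hu
    obtain ⟨mx, hmx, hle⟩ := Ideal.exists_le_maximal (Ideal.span {∑ N, e N})
      (fun h => hu (Ideal.span_singleton_eq_top.1 h))
    let q : PrimeSpectrum c.S := ⟨mx, hmx.isPrime⟩
    let N : Set.range (c.charN φ) := ⟨c.charN φ q, q, rfl⟩
    have h1 : e N ∉ mx := (hemem N q).2 rfl
    refine h1 ?_
    have h2 : e N * ∑ N', e N' ∈ mx := mx.mul_mem_left _ (hle (Ideal.mem_span_singleton_self _))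
    rwa [Finset.mul_sum, Finset.sum_eq_single N (fun N' _ h => hortho N N' (Ne.symm h))
      (fun h => absurd (Finset.mem_univ N) h), (he N).eq] at h2
  have hout : ∀ (N : Set.range (c.charN φ)) m, m ∉ (N : Subgroup c.M) → ∀ x,
      e N * c.pull φ m x = 0 := by
    intro N m hm x
    obtain ⟨ε, hε, hεN⟩ := c.exists_idem_out φ (N : Subgroup c.M)
    have h0 : e N * ε = 0 := eq_zero_of_idem_mem ((he N).mul hε) fun q => by
      by_cases h : e N ∈ q.asIdeal
      · exact Ideal.mul_mem_right _ _ h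
      · refine Ideal.mul_mem_left _ _ ?_
        have h1 : c.outIdeal φ (N : Subgroup c.M) ≤ q.asIdeal := Ideal.span_le.2 (by
          rintro z ⟨k, hk, y, rfl⟩
          exact c.pull_mem_of_not_mem φ ((heq N q h).symm ▸ hk) y)
        exact h1 (hεN ▸ Ideal.mem_span_singleton_self ε)
    have h2 : c.pull φ m x ∈ c.outIdeal φ (N : Subgroup c.M) := Ideal.subset_span ⟨m, hm, x, rfl⟩
    rw [hεN, Ideal.mem_span_singleton'] at h2
    obtain ⟨r, hr⟩ := h2
    rw [← hr, ← mul_assoc, mul_comm (e N) r, mul_assoc, h0, mul_zero]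
  have hin : ∀ (N : Set.range (c.charN φ)) m, m ∈ (N : Subgroup c.M) → e N • (χ₀ m - 1) = 0 := by
    intro N m hm
    let a : c.M → Ideal c.S := fun k => LinearMap.ker (LinearMap.toSpanSingleton c.S _ (χ₀ k - 1))
    have ha : ∀ k s, s ∈ a k ↔ s • (χ₀ k - 1) = 0 := fun k s => Iff.rfl
    have htop : a m ⊔ Ideal.span {1 - e N} = ⊤ := by
      by_contra htop
      obtain ⟨mx, hmx, hle⟩ := Ideal.exists_le_maximal _ htop
      let q : PrimeSpectrum c.S := ⟨mx, hmx.isPrime⟩
      have heN : e N ∉ q.asIdeal := fun h => hmx.ne_top ((Ideal.eq_top_iff_one _).2 (by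
        have := mx.add_mem h (hle (Ideal.mem_sup_right (Ideal.mem_span_singleton_self _)))
        simpa using this))
      let H : Subgroup c.M :=
        { carrier := {k | ∃ s ∈ a k, s ∉ mx}
          one_mem' := ⟨1, (ha 1 1).2 (by rw [map_one, sub_self, smul_zero]),
            fun h => hmx.ne_top ((Ideal.eq_top_iff_one _).2 h)⟩
          mul_mem' := by
            rintro k l ⟨s, hs, hs'⟩ ⟨t, ht, ht'⟩
            refine ⟨s * t, (ha _ _).2 ?_, fun h => (hmx.isPrime.mem_or_mem h).elim hs' ht'⟩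
            rw [ha] at hs ht
            rw [map_mul, show χ₀ k * χ₀ l - 1 = χ₀ k * (χ₀ l - 1) + (χ₀ k - 1) by ring, smul_add,
              mul_comm s t, mul_smul t s (χ₀ k - 1), hs, smul_zero, add_zero, mul_comm t s, mul_smul,
              ← mul_smul_comm, ht, mul_zero, smul_zero]
          inv_mem' := by
            rintro k ⟨s, hs, hs'⟩
            refine ⟨s, (ha _ _).2 ?_, hs'⟩
            rw [ha] at hs
            have hu : χ₀ k⁻¹ * χ₀ k = 1 := by rw [← map_mul, inv_mul_cancel, map_one]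
            rw [show χ₀ k⁻¹ - 1 = -(χ₀ k⁻¹ * (χ₀ k - 1)) by rw [mul_sub, hu, mul_one, neg_sub],
              smul_neg, ← mul_smul_comm, hs, mul_zero, neg_zero] }
      have hH : c.charN φ q ≤ H := (Subgroup.closure_le _).2 fun k hk => by
        obtain ⟨y, hy⟩ := hk
        exact ⟨c.pull φ k y, (ha _ _).2 (hkill k y), hy⟩
      obtain ⟨s, hs, hs'⟩ := hH ((heq N q heN).symm ▸ hm)
      exact hs' (hle (Ideal.mem_sup_left hs))
    obtain ⟨s, hs, t, ht, hst⟩ := Submodule.mem_sup.1
      ((Ideal.eq_top_iff_one _).1 htop)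
    obtain ⟨r, rfl⟩ := Ideal.mem_span_singleton'.1 ht
    have heq' : e N = e N * s := by
      have h := congrArg (e N * ·) hst
      simp only [mul_add, mul_one] at h
      rw [← mul_assoc, mul_comm (e N) r, mul_assoc, mul_sub, mul_one, (he N).eq, sub_self, mul_zero,
        add_zero] at h
      exact h.symm
    rw [heq', mul_smul, (ha _ _).1 hs, smul_zero]
  -- the projections
  have hP' : ∀ N : Set.range (c.charN φ), Nonempty (c.M ⧸ (N : Subgroup c.M) ≃* P) := fun N => by
    obtain ⟨q, hq⟩ := N.2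
    exact hq ▸ hP q
  let θ := fun N => (hP' N).some
  let π : ∀ N : Set.range (c.charN φ), c.M →* P := fun N =>
    (θ N).toMonoidHom.comp (QuotientGroup.mk' (N : Subgroup c.M))
  have hπ : ∀ N m, π N m = 1 ↔ m ∈ (N : Subgroup c.M) := fun N m => by
    simp [π, QuotientGroup.eq_one_iff]
  have hπs : ∀ N, Function.Surjective (π N) := fun N =>
    (θ N).surjective.comp (QuotientGroup.mk'_surjective _)
  choose lft hlft using hπs
  let Pl : MonoidAlgebra c.S c.M →ₗ[c.S] MonoidAlgebra c.S P :=
    ∑ N, e N • (MonoidAlgebra.mapDomainBialgHom c.S (π N) :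
      MonoidAlgebra c.S c.M →ₐc[c.S] MonoidAlgebra c.S P).toCoalgHom.toLinearMap
  have hPl : ∀ z, Pl z = ∑ N, e N • MonoidAlgebra.mapDomainBialgHom c.S (π N) z := fun z => by
    simp only [Pl, LinearMap.sum_apply, LinearMap.smul_apply]
    rfl
  let Pla : MonoidAlgebra c.S c.M →ₐ[c.S] MonoidAlgebra c.S P := AlgHom.ofLinearMap Pl
    (by simp only [hPl, map_one]; rw [← Finset.sum_smul, hcomp, one_smul])
    (fun z w => by
      simp only [hPl, map_mul, Finset.sum_mul, Finset.mul_sum]
      refine Finset.sum_congr rfl fun N _ => ?_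
      rw [Finset.sum_eq_single N]
      · rw [smul_mul_smul_comm, (he N).eq]
      · intro N' _ h
        rw [smul_mul_smul_comm, hortho N' N h, zero_smul]
      · exact fun h => absurd (Finset.mem_univ N) h)
  have hPla : ∀ z, Pla z = ∑ N, e N • MonoidAlgebra.mapDomainBialgHom c.S (π N) z := hPl
  have hcne : ∀ N m, MonoidAlgebra.mapDomainBialgHom c.S (π N) (MonoidAlgebra.single m (1 : c.S)) =
      MonoidAlgebra.single (π N m) 1 := fun N m => by simp
  let Plb : MonoidAlgebra c.S c.M →ₐc[c.S] MonoidAlgebra c.S P := BialgHom.ofAlgHom Pla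
    (MonoidAlgebra.algHom_ext (fun m => by
      show counit (R := c.S) (Pla (MonoidAlgebra.single m 1)) = counit (R := c.S) (MonoidAlgebra.single m (1 : c.S))
      simp [hPla, hcomp]) (Subsingleton.elim _ _))
    (MonoidAlgebra.algHom_ext (fun m => by
      show Algebra.TensorProduct.map Pla Pla (comul (R := c.S) (MonoidAlgebra.single m (1 : c.S))) =
        comul (R := c.S) (Pla (MonoidAlgebra.single m 1))
      rw [(MonoidAlgebra.isGroupLikeElem_single_one m).comul_eq_tmul_self, Algebra.TensorProduct.map_tmul,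
        hPla, map_sum, TensorProduct.sum_tmul]
      refine Finset.sum_congr rfl fun N _ => ?_
      rw [map_smul, hcne, (MonoidAlgebra.isGroupLikeElem_single_one (π N m)).comul_eq_tmul_self,
        TensorProduct.tmul_sum, Finset.sum_eq_single N]
      · rw [hcne, ← TensorProduct.smul_tmul', TensorProduct.tmul_smul, smul_smul, (he N).eq]
      · intro N' _ h
        rw [hcne, ← TensorProduct.smul_tmul', TensorProduct.tmul_smul, smul_smul, hortho N N' (Ne.symm h), zero_smul]
      · exact fun h => absurd (Finset.mem_univ N) h) (Subsingleton.elim _ _))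
  let F : (c.S ⊗[R] A) →ₐc[c.S] MonoidAlgebra c.S P :=
    Plb.comp (Ψ : (c.S ⊗[R] A) →ₐc[c.S] MonoidAlgebra c.S c.M)
  have hF : ∀ y, F y = Pla (Ψ y) := fun _ => rfl
  have hFs : Function.Surjective F := by
    intro z
    induction z using MonoidAlgebra.induction_linear with
    | zero => exact ⟨0, map_zero _⟩
    | add a b ha hb =>
      obtain ⟨x, rfl⟩ := ha
      obtain ⟨y, rfl⟩ := hb
      exact ⟨x + y, map_add _ x y⟩
    | single p r =>
      refine ⟨Ψ.symm (∑ N, (r * e N) • MonoidAlgebra.single (lft N p) 1), ?_⟩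
      rw [hF, Ψ.apply_symm_apply, map_sum]
      simp only [map_smul, hPla, hcne, Finset.smul_sum, smul_smul]
      rw [Finset.sum_congr rfl fun N _ => Finset.sum_eq_single N
        (fun N' _ h => by rw [mul_left_comm, hortho N' N h, mul_zero, zero_smul])
        (fun h => absurd (Finset.mem_univ N) h)]
      simp only [mul_left_comm _ r, (he _).eq, hlft, MonoidAlgebra.smul_single, smul_eq_mul, mul_one]
      show ∑ N, (MonoidAlgebra.lsingle p : c.S →ₗ[c.S] MonoidAlgebra c.S P) (r * e N) = _
      rw [← map_sum, ← Finset.mul_sum, hcomp, mul_one]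
      rfl
  have hFJ : ∀ a ∈ J, F ((1 : c.S) ⊗ₜ a) = 0 := by
    let F₀ : A →ₐ[R] MonoidAlgebra c.S P :=
      ((F : (c.S ⊗[R] A) →ₐ[c.S] MonoidAlgebra c.S P).restrictScalars R).comp
        Algebra.TensorProduct.includeRight
    suffices h : J ≤ RingHom.ker F₀ from fun a ha => h ha
    rw [hJ, Ideal.map_le_iff_le_comap]
    intro x hx
    rw [RingHom.mem_ker, Bialgebra.counitAlgHom_apply] at hx
    show F ((1 : c.S) ⊗ₜ φ x) = 0
    rw [hF, hΨ', hPla]
    refine Finset.sum_eq_zero fun N _ => ?_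
    have htot : (c.j (φ x)).coeff.sum (fun _ s => s) = 0 := by
      rw [c.total, CoalgHomClass.counit_comp_apply, hx, map_zero]
    conv_lhs => rw [← MonoidAlgebra.sum_coeff_single (c.j (φ x))]
    rw [Finsupp.sum, map_sum, Finset.smul_sum,
      Finset.sum_congr rfl (g := fun l => MonoidAlgebra.single 1 (e N * (c.j (φ x)).coeff l)) fun l _ => by
        rw [show MonoidAlgebra.single l ((c.j (φ x)).coeff l) =
          (c.j (φ x)).coeff l • MonoidAlgebra.single l (1 : c.S) by
            rw [MonoidAlgebra.smul_single, smul_eq_mul, mul_one], map_smul, hcne, smul_smul,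
          MonoidAlgebra.smul_single, smul_eq_mul, mul_one]
        by_cases hl : l ∈ (N : Subgroup c.M)
        · rw [(hπ N l).2 hl]
        · rw [show e N * (c.j (φ x)).coeff l = 0 from hout N l hl x]
          simp]
    show ∑ l ∈ _, (MonoidAlgebra.lsingle 1 : c.S →ₗ[c.S] MonoidAlgebra c.S P) (e N * _) = 0
    rw [← map_sum]
    rw [← Finset.mul_sum, show ∑ l ∈ (c.j (φ x)).coeff.support, (c.j (φ x)).coeff l = 0 from htot, mul_zero,
      map_zero]
  have hχ : ∀ (N : Set.range (c.charN φ)) m m', π N m = π N m' → e N • χ₀ m = e N • χ₀ m' := by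
    intro N m m' h
    have h1 : m * m'⁻¹ ∈ (N : Subgroup c.M) := (hπ N _).1 (by rw [map_mul, map_inv, h, mul_inv_cancel])
    have h2 := hin N _ h1
    rw [smul_sub, sub_eq_zero] at h2
    calc e N • χ₀ m = (e N • χ₀ (m * m'⁻¹)) * χ₀ m' := by
          rw [smul_mul_assoc, ← map_mul, inv_mul_cancel_right]
      _ = _ := by rw [h2, smul_mul_assoc, one_mul]
  let χ : P →* c.S ⊗[R] (A ⧸ J) :=
    { toFun := fun p => ∑ N, e N • χ₀ (lft N p)
      map_one' := by
        rw [Finset.sum_congr rfl fun N _ => hχ N (lft N 1) 1 (by rw [hlft, map_one]), map_one,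
          ← Finset.sum_smul, hcomp, one_smul]
      map_mul' := fun p p' => by
        rw [Finset.sum_mul]
        refine Finset.sum_congr rfl fun N _ => ?_
        rw [Finset.mul_sum, Finset.sum_eq_single N
          (fun N' _ h => by rw [smul_mul_smul_comm, hortho N N' (Ne.symm h), zero_smul])
          (fun h => absurd (Finset.mem_univ N) h), smul_mul_smul_comm, (he N).eq, ← map_mul]
        exact hχ N _ _ (by rw [hlft, map_mul, hlft, hlft]) }
  let g : MonoidAlgebra c.S P →ₐ[c.S] c.S ⊗[R] (A ⧸ J) := MonoidAlgebra.lift c.S _ P χ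
  have hg : ∀ y, g (F y) = qm y := by
    intro y
    obtain ⟨z, rfl⟩ : ∃ z, Ψ.symm z = y := ⟨Ψ y, Ψ.symm_apply_apply y⟩
    rw [hF, Ψ.apply_symm_apply]
    induction z using MonoidAlgebra.induction_linear with
    | zero => simp
    | add a b ha hb => simp only [map_add, ha, hb]
    | single m r =>
      rw [show MonoidAlgebra.single m r = r • MonoidAlgebra.single m (1 : c.S) by
        rw [MonoidAlgebra.smul_single, smul_eq_mul, mul_one], map_smul, map_smul, map_smul, map_smul]
      congr 1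
      rw [hPla, map_sum]
      have hgs : ∀ p, g (MonoidAlgebra.single p 1) = ∑ N, e N • χ₀ (lft N p) := fun p => by simp [g, χ]
      simp only [map_smul, hcne, hgs, Finset.smul_sum, smul_smul]
      rw [Finset.sum_congr rfl fun N _ => (Finset.sum_eq_single N
        (fun N' _ h => by rw [hortho N N' (Ne.symm h), zero_smul])
        (fun h => absurd (Finset.mem_univ N) h)).trans
          (show (e N * e N) • χ₀ (lft N (π N m)) = e N • χ₀ m by
            rw [(he N).eq]; exact hχ N _ _ (hlft N _))]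
      rw [← Finset.sum_smul, hcomp, one_smul]
      rfl
  let g₁ : A ⧸ J →ₐ[R] MonoidAlgebra c.S P := Ideal.Quotient.liftₐ J
    (((F : (c.S ⊗[R] A) →ₐ[c.S] MonoidAlgebra c.S P).restrictScalars R).comp
      Algebra.TensorProduct.includeRight) hFJ
  let g' : c.S ⊗[R] (A ⧸ J) →ₐ[c.S] MonoidAlgebra c.S P :=
    Algebra.TensorProduct.lift (Algebra.ofId _ _) g₁ fun _ _ => Commute.all _ _
  have hg' : ∀ y, g' (qm y) = F y := by
    intro y
    induction y using TensorProduct.induction_on with
    | zero => simp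
    | add a b ha hb => simp only [map_add, ha, hb]
    | tmul s a =>
      rw [hqm, Algebra.TensorProduct.lift_tmul, Algebra.ofId_apply, ← Algebra.smul_def,
        show (s : c.S) ⊗ₜ[R] a = s • ((1 : c.S) ⊗ₜ[R] a) by
          rw [TensorProduct.smul_tmul', smul_eq_mul, mul_one], map_smul]
      rfl
  exact ⟨P, inferInstance, ⟨bialgEquivOfComp F hFs qm hqsurj g g' hg hg'⟩⟩

/-- Two trivialisations over a field give the same type. -/
theorem nonempty_quot_equiv {K : Type u} [Field K] [Algebra R K] {M₁ M₂ : Type u} [CommGroup M₁]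
    [CommGroup M₂] (e₁ : (K ⊗[R] A) ≃ₐc[K] MonoidAlgebra K M₁)
    (e₂ : (K ⊗[R] A) ≃ₐc[K] MonoidAlgebra K M₂) :
    Nonempty ((M₁ ⧸ Subgroup.closure {m | ∃ x : C, (e₁ ((1 : K) ⊗ₜ φ x)).coeff m ≠ 0}) ≃*
      (M₂ ⧸ Subgroup.closure {m | ∃ x : C, (e₂ ((1 : K) ⊗ₜ φ x)).coeff m ≠ 0})) := by
  classical
  let θ := e₁.symm.trans e₂
  let f : M₁ →* M₂ := MonoidAlgebra.mapDomainOfBialgHom (θ : MonoidAlgebra K M₁ →ₐc[K] MonoidAlgebra K M₂)
  let f' : M₂ →* M₁ :=
    MonoidAlgebra.mapDomainOfBialgHom (θ.symm : MonoidAlgebra K M₂ →ₐc[K] MonoidAlgebra K M₁)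
  have hf : ∀ m r, MonoidAlgebra.single (f m) r = θ (MonoidAlgebra.single m r) := fun m r =>
    MonoidAlgebra.single_mapDomainOfBialgHom _ m r
  have hf' : ∀ m r, MonoidAlgebra.single (f' m) r = θ.symm (MonoidAlgebra.single m r) := fun m r =>
    MonoidAlgebra.single_mapDomainOfBialgHom _ m r
  let σ : M₁ ≃* M₂ :=
    { toFun := f
      invFun := f'
      left_inv := fun m => MonoidAlgebra.single_left_injective (R := K) one_ne_zero
        (show MonoidAlgebra.single (f' (f m)) (1 : K) = MonoidAlgebra.single m 1 by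
          rw [hf', hf, θ.symm_apply_apply])
      right_inv := fun m => MonoidAlgebra.single_left_injective (R := K) one_ne_zero
        (show MonoidAlgebra.single (f (f' m)) (1 : K) = MonoidAlgebra.single m 1 by
          rw [hf, hf', θ.apply_symm_apply])
      map_mul' := map_mul f }
  have hcoef : ∀ (z : MonoidAlgebra K M₁) m, (θ z).coeff (σ m) = z.coeff m := by
    intro z
    induction z using MonoidAlgebra.induction_linear with
    | zero => simp
    | add a b ha hb => intro m; simp only [map_add, MonoidAlgebra.coeff_add, Finsupp.add_apply, ha, hb]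
    | single k r =>
      intro m
      rw [← hf, show f k = σ k from rfl]
      simp [Finsupp.single_apply]
  have hx : ∀ x : C, θ (e₁ ((1 : K) ⊗ₜ φ x)) = e₂ ((1 : K) ⊗ₜ φ x) := fun x => by
    show e₂ (e₁.symm (e₁ _)) = _
    rw [e₁.symm_apply_apply]
  refine ⟨QuotientGroup.congr _ _ σ ?_⟩
  rw [MonoidHom.map_closure]
  congr 1
  ext m
  constructor
  · rintro ⟨k, ⟨x, hk⟩, rfl⟩
    exact ⟨x, by rw [← hx]; exact fun h => hk ((hcoef _ k).symm.trans h)⟩
  · rintro ⟨x, hm⟩
    obtain ⟨k, rfl⟩ := σ.surjective m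
    exact ⟨k, ⟨x, fun h => hm (by rw [← hx, hcoef]; exact h)⟩, rfl⟩

/-- The characters at the point under a prime of an extension. -/
theorem Chart.charN_comap (T : Type u) [CommRing T] [Algebra c.S T] [Algebra R T]
    [IsScalarTower R c.S T] (q : PrimeSpectrum T) :
    (c.map T).charN φ q = c.charN φ (PrimeSpectrum.comap (algebraMap c.S T) q) := by
  have h : ∀ m x, (c.map T).pull φ m x = algebraMap c.S T (c.pull φ m x) := fun m x => by
    show ((c.map T).j (φ x)).coeff m = _
    rw [c.map_j]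
    exact MonoidAlgebra.coeff_mapRingHom (algebraMap c.S T) (c.j (φ x)) m
  unfold Chart.charN
  refine congrArg Subgroup.closure (Set.ext fun m => ?_)
  exact exists_congr fun x => by rw [h]; rfl

/-- The kernel of a homomorphism to a group of finite type is of multiplicative type. -/
theorem isMultType_kernel (hA : SGA3b.IsMultType R A) [Algebra.FiniteType R C]
    (hJ : J = Ideal.map φ (RingHom.ker (Bialgebra.counitAlgHom R C))) :
    SGA3b.IsMultType R (A ⧸ J) := by
  classical
  obtain ⟨s, hs, h⟩ := hA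
  refine ⟨{g | SGA3b.IsMultTypeConst (Localization.Away g) (Localization.Away g ⊗[R] (A ⧸ J))}, ?_,
    fun g hg => hg⟩
  by_contra htop
  obtain ⟨p, hp, hle⟩ := Ideal.exists_le_maximal _ htop
  obtain ⟨f, hf, hfp⟩ : ∃ f ∈ s, f ∉ p := by
    by_contra hc
    push Not at hc
    exact hp.ne_top (top_le_iff.mp (hs ▸ Ideal.span_le.mpr hc))
  obtain ⟨S, _, _, hff, M, _, ⟨e₀⟩⟩ := h f hf
  let L := Localization.Away f
  letI : Algebra R S := Algebra.compHom S (algebraMap R L)
  haveI : IsScalarTower R L S := .of_algebraMap_eq fun _ => rfl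
  let c : Chart R A := chartOfEquiv e₀
  have hd : Disjoint (Submonoid.powers f : Set R) (p : Set R) := by
    rw [Set.disjoint_left]
    rintro _ ⟨n, rfl⟩ h'
    exact hfp (hp.isPrime.mem_of_pow_mem n h')
  have hpL := IsLocalization.isPrime_of_isPrime_disjoint (.powers f) L p hp.isPrime hd
  obtain ⟨q₀, hq₀⟩ := PrimeSpectrum.comap_surjective_of_faithfullyFlat (B := S)
    (⟨p.map (algebraMap R L), hpL⟩ : PrimeSpectrum L)
  let P := c.M ⧸ c.charN φ q₀
  obtain ⟨e, he, hemem⟩ : ∃ e : S, IsIdempotentElem e ∧ ∀ q : PrimeSpectrum S,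
      e ∉ q.asIdeal ↔ c.charN φ q ∈ {N | Nonempty (c.M ⧸ N ≃* P)} :=
    c.exists_idem_preimage φ {N | Nonempty (c.M ⧸ N ≃* P)}
  let T := S ⊗[L] S
  let i₁ : S →ₐ[L] T := Algebra.TensorProduct.includeLeft
  let i₂ : S →ₐ[L] T := Algebra.TensorProduct.includeRight
  have key : ∀ Q : PrimeSpectrum T, i₁ e ∈ Q.asIdeal ↔ i₂ e ∈ Q.asIdeal := by
    intro Q
    let K := Q.asIdeal.ResidueField
    let π : T →+* K := algebraMap T K
    have hside : ∀ i : S →ₐ[L] T, ∃ ε : (K ⊗[R] A) ≃ₐc[K] MonoidAlgebra K c.M,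
        c.charN φ (PrimeSpectrum.comap i.toRingHom Q) =
          Subgroup.closure {m | ∃ x : C, (ε ((1 : K) ⊗ₜ φ x)).coeff m ≠ 0} := by
      intro i
      letI : Algebra c.S K := (π.comp i.toRingHom).toAlgebra
      haveI : IsScalarTower R c.S K := .of_algebraMap_eq fun r => by
        show algebraMap R K r = π (i (algebraMap L S (algebraMap R L r)))
        rw [AlgHom.commutes, ← IsScalarTower.algebraMap_apply R L T, ← IsScalarTower.algebraMap_apply]
      obtain ⟨ε, hε⟩ := c.exists_bialgEquiv_tmul K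
      refine ⟨ε, congrArg Subgroup.closure (Set.ext fun m => exists_congr fun x => ?_)⟩
      have h2 : (ε ((1 : K) ⊗ₜ φ x)).coeff m = π (i (c.pull φ m x)) := by
        rw [hε]
        simp
        rfl
      rw [h2]
      exact (not_congr (Ideal.algebraMap_residueField_eq_zero (I := Q.asIdeal))).symm
    obtain ⟨ε₁, h₁⟩ := hside i₁
    obtain ⟨ε₂, h₂⟩ := hside i₂
    obtain ⟨σ⟩ := nonempty_quot_equiv φ ε₁ ε₂
    rw [← h₁, ← h₂] at σ
    have hm₁ := hemem (PrimeSpectrum.comap i₁.toRingHom Q)
    have hm₂ := hemem (PrimeSpectrum.comap i₂.toRingHom Q)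
    refine not_iff_not.1 (hm₁.trans (Iff.trans ?_ hm₂.symm))
    exact ⟨fun ⟨u⟩ => ⟨σ.symm.trans u⟩, fun ⟨u⟩ => ⟨σ.trans u⟩⟩
  have h12 : i₁ e = i₂ e := PrimeSpectrum.basicOpen_injOn_isIdempotentElem (he.map i₁) (he.map i₂)
    (TopologicalSpace.Opens.ext (Set.ext fun Q => not_congr (key Q)))
  have hmem : e ∈ Set.range (algebraMap L S) := by
    rw [← Algebra.IsEffective.eqLocus_includeLeft_includeRight (Algebra.IsEffective.of_faithfullyFlat L S)]
    exact h12
  obtain ⟨r, hr⟩ := hmem
  have hinj := FaithfulSMul.algebraMap_injective L S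
  have hrr : IsIdempotentElem r := hinj (by rw [map_mul, hr]; exact he)
  obtain ⟨n, x, hx⟩ := IsLocalization.Away.surj f r
  have hrq : r ∉ p.map (algebraMap R L) := fun h' => by
    have h1 : e ∈ q₀.asIdeal := by
      rw [← hr]
      exact (Set.ext_iff.1 (congrArg SetLike.coe (congrArg PrimeSpectrum.asIdeal hq₀)) r).2 h'
    exact (hemem q₀).2 ⟨MulEquiv.refl _⟩ h1
  have hxp : x ∉ p := fun h' => by
    have h1 : r * algebraMap R L f ^ n ∈ p.map (algebraMap R L) := hx ▸ Ideal.mem_map_of_mem _ h'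
    rcases hpL.mem_or_mem h1 with h2 | h2
    · exact hrq h2
    · exact hpL.ne_top (Ideal.eq_top_of_isUnit_mem _ h2
        ((IsLocalization.Away.algebraMap_isUnit f).pow n))
  refine (fun hg => hxp (((hp.isPrime.mem_or_mem (hle (Ideal.subset_span hg))).resolve_left hfp))) ?_
  show SGA3b.IsMultTypeConst (Localization.Away (f * x)) (Localization.Away (f * x) ⊗[R] (A ⧸ J))
  let L' := Localization.Away (f * x)
  letI : Algebra L L' := (IsLocalization.Away.awayToAwayRight f x : L →+* L').toAlgebra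
  haveI : IsScalarTower R L L' := .of_algebraMap_eq fun a =>
    (IsLocalization.Away.awayToAwayRight_eq f x a).symm
  let S' := L' ⊗[L] S
  letI : Algebra S S' := Algebra.TensorProduct.rightAlgebra
  haveI : IsScalarTower R S S' := .of_algebraMap_eq fun a => by
    show _ = (1 : L') ⊗ₜ[L] algebraMap R S a
    rw [IsScalarTower.algebraMap_apply R L S, Algebra.algebraMap_eq_smul_one (A := S), ← TensorProduct.smul_tmul,
      ← Algebra.algebraMap_eq_smul_one, ← IsScalarTower.algebraMap_apply]
    rfl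
  have hr1 : algebraMap L L' r = 1 := by
    refine (IsIdempotentElem.iff_eq_one_of_isUnit ?_).1 (hrr.map (algebraMap L L'))
    have h1 : IsUnit (algebraMap L L' (algebraMap R L x)) := by
      rw [← IsScalarTower.algebraMap_apply]
      exact isUnit_of_dvd_unit (map_dvd _ (dvd_mul_left x f)) (IsLocalization.Away.algebraMap_isUnit (f * x))
    rw [← hx, map_mul] at h1
    exact isUnit_of_mul_isUnit_left h1
  haveI : Module.FaithfullyFlat L S := hff
  refine ⟨S', inferInstance, inferInstance, inferInstance, ?_⟩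
  refine isDiag_of_equiv (bcTrans R L' S' (A ⧸ J)) ?_
  letI : Algebra c.S S' := (inferInstance : Algebra S S')
  haveI : IsScalarTower R c.S S' := (inferInstance : IsScalarTower R S S')
  refine Chart.isDiag_kernel (c.map S') φ J hJ (P := P) fun q => ?_
  rw [show (c.map S').charN φ q = _ from @Chart.charN_comap R _ A _ _ C _ _ c φ S' _ (inferInstance : Algebra S S') _ (inferInstance : IsScalarTower R S S') q]
  refine ((hemem (PrimeSpectrum.comap (algebraMap S S') q)).1 fun h' => ?_)
  have h1 : algebraMap S S' e = 1 := by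
    show (1 : L') ⊗ₜ[L] e = 1
    rw [← hr, Algebra.algebraMap_eq_smul_one (A := S), ← TensorProduct.smul_tmul,
      ← Algebra.algebraMap_eq_smul_one, hr1]
    rfl
  exact q.isPrime.ne_top ((Ideal.eq_top_iff_one _).2 (h1 ▸ h'))

end Groth.Agent.MultT
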