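import Groth.Agent.MultT.Kernel
import Groth.Agent.MultT.Dense
import Groth.Agent.MultT.Connected
import Groth.Agent.HopfSmDim.Versch
import Mathlib

/-! Basic facts about groups of multiplicative type: cocommutativity, functoriality of power maps,
torsion ideals are Hopf ideals, charts after a change of ring. -/

set_option autoImplicit false

open TensorProduct WithConv Coalgebra

universe u

namespace Groth.Agent.MultT

variable {R : Type u} [CommRing R] {A : Type u} [CommRing A] [HopfAlgebra R A]

/-- The base change map of a chart, as a linear equivalence. -/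
noncomputable def Chart.linEquiv (c : Chart R A) : c.S ⊗[R] A ≃ₗ[c.S] MonoidAlgebra c.S c.M :=
  LinearEquiv.ofBijective (c.j.toLinearMap.liftBaseChange c.S) c.bij

theorem Chart.linEquiv_tmul (c : Chart R A) (s : c.S) (a : A) : c.linEquiv (s ⊗ₜ a) = s • c.j a := by
  simp [Chart.linEquiv]

/-- Cocommutativity of a group of multiplicative type. -/
theorem isCocomm (hA : SGA3b.IsMultType R A) : Coalgebra.IsCocomm R A := by
  classical
  refine ⟨LinearMap.ext fun a => ?_⟩
  rw [LinearMap.comp_apply, LinearEquiv.coe_coe, ← sub_eq_zero]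
  by_contra hne
  obtain ⟨m, hm, hle⟩ := Ideal.exists_le_maximal
    (Submodule.colon (⊥ : Submodule R (A ⊗[R] A)) ({TensorProduct.comm R A A (comul a) - comul a} : Set (A ⊗[R] A)))
    (fun ht => hne (by
      have h1 : (1 : R) ∈ Submodule.colon (⊥ : Submodule R (A ⊗[R] A))
          ({TensorProduct.comm R A A (comul a) - comul a} : Set (A ⊗[R] A)) := ht ▸ Submodule.mem_top
      simpa [Submodule.mem_colon_singleton] using h1))
  obtain ⟨c, hflat, q, hq, hqm⟩ := exists_charts hA m hm.isPrime
  let Φ := (TensorProduct.AlgebraTensorModule.distribBaseChange R c.S A A).trans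
    (TensorProduct.congr c.linEquiv c.linEquiv)
  let b := MonoidAlgebra.basis c.M c.S
  have hcoef : ∀ (x : A ⊗[R] A) (l n : c.M),
      (b.tensorProduct b).repr (Φ ((1 : c.S) ⊗ₜ x)) (l, n) =
        LinearMap.mul' R c.S (TensorProduct.map (c.cf l).ofConv (c.cf n).ofConv x) := by
    intro x l n
    induction x using TensorProduct.induction_on with
    | zero => simp
    | add y z hy hz => simp only [TensorProduct.tmul_add, map_add, Finsupp.add_apply, hy, hz]
    | tmul y z =>
      simp [Φ, b, TensorProduct.AlgebraTensorModule.distribBaseChange_tmul, Chart.linEquiv_tmul,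
        Module.Basis.tensorProduct_repr_tmul_apply]
      rw [mul_comm]
      rfl
  have hzero : (1 : c.S) ⊗ₜ[R] (TensorProduct.comm R A A (comul a) - comul a) = 0 := by
    apply Φ.injective
    apply (b.tensorProduct b).repr.injective
    refine Finsupp.ext fun ⟨l, n⟩ => ?_
    rw [hcoef, map_zero, map_zero, Finsupp.zero_apply, map_sub, map_sub, sub_eq_zero]
    have hsw : ∀ x : A ⊗[R] A, LinearMap.mul' R c.S
        (TensorProduct.map (c.cf l).ofConv (c.cf n).ofConv (TensorProduct.comm R A A x)) =
        LinearMap.mul' R c.S (TensorProduct.map (c.cf n).ofConv (c.cf l).ofConv x) := by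
      intro x
      induction x using TensorProduct.induction_on with
      | zero => simp
      | tmul y z => simp [mul_comm]
      | add y z hy hz => simp only [map_add, hy, hz]
    rw [hsw, ← LinearMap.convMul_apply, ← LinearMap.convMul_apply]
    by_cases h : n = l
    · subst h; rfl
    · rw [c.cf_mul_ne h, c.cf_mul_ne (Ne.symm h)]
  obtain ⟨r, hr, hr0⟩ := exists_smul_eq_zero_of_tmul hzero q
  exact hr (hqm ▸ hle (Submodule.mem_colon_singleton.2 ((Submodule.mem_bot R).2 hr0)))

/-- Bialgebra maps commute with power maps. -/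
theorem powConv_comp {B : Type u} [CommRing B] [HopfAlgebra R B] (f : A →ₐc[R] B) (n : ℕ) (a : A) :
    f (SGA3b.powConv R A n a) = SGA3b.powConv R B n (f a) := by
  suffices h : toConv ((f : A →ₐ[R] B).comp ((toConv (AlgHom.id R A)) ^ n).ofConv) =
      toConv ((((toConv (AlgHom.id R B)) ^ n).ofConv).comp (f : A →ₐ[R] B)) from
    congrArg (fun g : WithConv (A →ₐ[R] B) => g.ofConv a) h
  induction n with
  | zero =>
    refine WithConv.ext (AlgHom.ext fun x => ?_)
    simp [AlgHom.convOne_apply, CoalgHomClass.counit_comp_apply]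
    exact AlgHomClass.commutes f _
  | succ n ih =>
    rw [pow_succ, pow_succ, AlgHom.comp_convMul_distrib, toConv_ofConv, ih, AlgHom.convMul_comp_bialgHom_distrib]
    rfl

/-- For a cocommutative Hopf algebra the power maps respect the comultiplication. -/
theorem comul_powConv [Coalgebra.IsCocomm R A] (n : ℕ) (a : A) :
    comul (R := R) (SGA3b.powConv R A n a) =
      Algebra.TensorProduct.map (SGA3b.powConv R A n) (SGA3b.powConv R A n) (comul a) := by
  let D := Bialgebra.comulAlgHom R A
  let p := SGA3b.powConv R A n
  let i₁ : A →ₐ[R] A ⊗[R] A := Algebra.TensorProduct.includeLeft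
  let i₂ : A →ₐ[R] A ⊗[R] A := Algebra.TensorProduct.includeRight
  have hD : toConv D = toConv i₁ * toConv i₂ := by
    refine WithConv.ext (AlgHom.ext fun x => ?_)
    rw [AlgHom.convMul_apply]
    show comul (R := R) x = _
    induction comul (R := R) x using TensorProduct.induction_on with
    | zero => simp
    | tmul y z => simp [i₁, i₂]
    | add y z hy hz => simp only [map_add, ← hy, ← hz]
  have hcomp : ∀ (i : A →ₐ[R] A ⊗[R] A) (m : ℕ),
      toConv (i.comp ((toConv (AlgHom.id R A)) ^ m).ofConv) = toConv i ^ m := by
    intro i m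
    induction m with
    | zero =>
      refine WithConv.ext (AlgHom.ext fun x => ?_)
      simp [AlgHom.convOne_apply]
    | succ m ih =>
      rw [pow_succ, pow_succ, AlgHom.comp_convMul_distrib, toConv_ofConv, ih, AlgHom.comp_id]
  have hmap : toConv ((Algebra.TensorProduct.map p p).comp D) = toConv (i₁.comp p) * toConv (i₂.comp p) := by
    refine WithConv.ext (AlgHom.ext fun x => ?_)
    rw [AlgHom.convMul_apply]
    show Algebra.TensorProduct.map p p (comul (R := R) x) = _
    induction comul (R := R) x using TensorProduct.induction_on with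
    | zero => simp
    | tmul y z => simp [i₁, i₂]
    | add y z hy hz => simp only [map_add, hy, hz]
  have h : toConv (D.comp p) = toConv ((Algebra.TensorProduct.map p p).comp D) := by
    rw [hmap, show p = ((toConv (AlgHom.id R A)) ^ n).ofConv from rfl, hcomp D n, hcomp i₁ n, hcomp i₂ n,
      hD, mul_pow]
  exact congrArg (fun g : WithConv (A →ₐ[R] A ⊗[R] A) => g.ofConv a) h

theorem counit_powConv (n : ℕ) (a : A) :
    counit (R := R) (SGA3b.powConv R A n a) = counit (R := R) a := by
  suffices h : toConv ((Bialgebra.counitAlgHom R A).comp ((toConv (AlgHom.id R A)) ^ n).ofConv) =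
      toConv (Bialgebra.counitAlgHom R A) from
    congrArg (fun g : WithConv (A →ₐ[R] R) => g.ofConv a) h
  induction n with
  | zero =>
    refine WithConv.ext (AlgHom.ext fun x => ?_)
    simp [AlgHom.convOne_apply]
  | succ n ih =>
    rw [pow_succ, AlgHom.comp_convMul_distrib, toConv_ofConv, ih, AlgHom.comp_id,
      show toConv (Bialgebra.counitAlgHom R A) = 1 from WithConv.ext (AlgHom.ext fun x => by
        simp [AlgHom.convOne_apply]), one_mul]

/-- The power map of a cocommutative Hopf algebra as a bialgebra map. -/
noncomputable def powBialgHom [Coalgebra.IsCocomm R A] (n : ℕ) : A →ₐc[R] A :=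
  BialgHom.ofAlgHom (SGA3b.powConv R A n) (AlgHom.ext fun a => counit_powConv n a)
    (AlgHom.ext fun a => (comul_powConv n a).symm)

/-- Torsion ideals of cocommutative Hopf algebras are Hopf ideals. -/
theorem isHopfIdeal_torsion [Coalgebra.IsCocomm R A] (n : ℕ) :
    (SGA3b.torsionIdeal R A n).IsHopfIdeal R := by
  set I := SGA3b.torsionIdeal R A n with hI
  let π := Ideal.Quotient.mkₐ R I
  have hpi : ∀ x : A, π (SGA3b.powConv R A n x) = algebraMap R (A ⧸ I) (counit (R := R) x) := by
    intro x
    rw [← π.commutes, ← sub_eq_zero, ← map_sub]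
    refine Ideal.Quotient.eq_zero_iff_mem.2 ?_
    have : SGA3b.powConv R A n x - algebraMap R A (counit (R := R) x) =
        SGA3b.powConv R A n (x - algebraMap R A (counit (R := R) x)) := by
      rw [map_sub, AlgHom.commutes]
    rw [this]
    exact Ideal.mem_map_of_mem _ (by simp [RingHom.mem_ker])
  have hε : I ≤ RingHom.ker (Bialgebra.counitAlgHom R A) := by
    refine Ideal.map_le_iff_le_comap.2 fun x hx => ?_
    rw [RingHom.mem_ker, Bialgebra.counitAlgHom_apply] at hx
    rw [Ideal.mem_comap, RingHom.mem_ker, Bialgebra.counitAlgHom_apply]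
    exact (counit_powConv n x).trans hx
  have hψ : I ≤ RingHom.ker ((Algebra.TensorProduct.map π π).comp (Bialgebra.comulAlgHom R A)) := by
    refine Ideal.map_le_iff_le_comap.2 fun x hx => ?_
    rw [RingHom.mem_ker, Bialgebra.counitAlgHom_apply] at hx
    rw [Ideal.mem_comap, RingHom.mem_ker, AlgHom.comp_apply]
    show Algebra.TensorProduct.map π π (comul (R := R) (SGA3b.powConv R A n x)) = 0
    rw [comul_powConv]
    have key : ∀ t : A ⊗[R] A, Algebra.TensorProduct.map π π
        (Algebra.TensorProduct.map (SGA3b.powConv R A n) (SGA3b.powConv R A n) t) =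
        algebraMap R _ (counit (R := R) (TensorProduct.rid R A ((counit (R := R)).lTensor A t))) := by
      intro t
      induction t using TensorProduct.induction_on with
      | zero => simp
      | tmul y z =>
        simp [hpi, Algebra.algebraMap_eq_smul_one, TensorProduct.smul_tmul', Algebra.TensorProduct.one_def,
          smul_smul, mul_comm]
      | add y z hy hz => simp only [map_add, hy, hz]
    rw [key, Coalgebra.lTensor_counit_comul, TensorProduct.rid_tmul, one_smul, hx, map_zero]
  have hS : I ≤ I.comap (HopfAlgebra.antipodeAlgHom R A) := by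
    refine Ideal.map_le_iff_le_comap.2 fun x hx => ?_
    rw [Ideal.mem_comap, Ideal.mem_comap]
    have h := antipode_comp (powBialgHom (R := R) (A := A) n) x
    show HopfAlgebra.antipode R (powBialgHom (R := R) (A := A) n x) ∈ I
    rw [h]
    refine Ideal.mem_map_of_mem (SGA3b.powConv R A n) ?_
    rw [RingHom.mem_ker, Bialgebra.counitAlgHom_apply] at hx ⊢
    rw [HopfAlgebra.counit_antipode]
    exact hx
  exact { toIsCoideal := ⟨fun x hx => hε hx, fun x hx => hψ hx⟩, antipode_mem := fun x hx => hS hx }

/-- The base change of the Hopf algebra to any algebra over a chart is a group algebra. -/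
theorem Chart.exists_bialgEquiv (c : Chart R A) (T : Type u) [CommRing T] [Algebra c.S T] [Algebra R T]
    [IsScalarTower R c.S T] : Nonempty ((T ⊗[R] A) ≃ₐc[T] MonoidAlgebra T c.M) := by
  classical
  let π : MonoidAlgebra c.S c.M →ₐ[R] MonoidAlgebra T c.M :=
    MonoidAlgebra.mapAlgHom c.M (IsScalarTower.toAlgHom R c.S T)
  let g : T ⊗[R] A →ₐ[T] MonoidAlgebra T c.M :=
    Algebra.TensorProduct.lift (Algebra.ofId _ _) (π.comp c.j) fun _ _ => Commute.all _ _
  let b := (Algebra.TensorProduct.basis T (MonoidAlgebra.basis c.M c.S |>.map c.linEquiv.symm))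
  let χ := TensorProduct.AlgebraTensorModule.cancelBaseChange R c.S T T A
  have hπs : ∀ (l : c.M) (s : c.S), π (MonoidAlgebra.single l s) = MonoidAlgebra.single l (algebraMap c.S T s) :=
    fun l s => by simp [π]
  have hbasis : ∀ l, g (χ (b l)) = MonoidAlgebra.basis c.M T l := by
    intro l
    have key : ∀ z : c.S ⊗[R] A, g (χ ((1 : T) ⊗ₜ z)) = π (c.linEquiv z) := by
      intro z
      induction z using TensorProduct.induction_on with
      | zero => simp
      | add y w hy hw => simp only [TensorProduct.tmul_add, map_add, hy, hw]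
      | tmul s a =>
        rw [Chart.linEquiv_tmul]
        simp [χ, g, Algebra.smul_def, Algebra.ofId_apply, π, MonoidAlgebra.coe_algebraMap]
    simp only [b, Algebra.TensorProduct.basis_apply, Module.Basis.map_apply]
    rw [key, LinearEquiv.apply_symm_apply]
    simp [MonoidAlgebra.basis_apply, hπs]
  let E : T ⊗[R] A ≃ₗ[T] MonoidAlgebra T c.M := (b.map χ).equiv (MonoidAlgebra.basis c.M T) (Equiv.refl _)
  have hgE : g.toLinearMap = E.toLinearMap := (b.map χ).ext fun l => by
    show g ((b.map χ) l) = E ((b.map χ) l)
    simp only [E]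
    rw [Module.Basis.equiv_apply, Module.Basis.map_apply, hbasis]
    rfl
  have hbij : Function.Bijective g := by
    have h : (g : T ⊗[R] A → MonoidAlgebra T c.M) = E := funext fun x => LinearMap.congr_fun hgE x
    rw [h]
    exact E.bijective
  have hexp : ∀ a : A, π (c.j a) = ∑ l ∈ (c.j a).coeff.support,
      MonoidAlgebra.single l (algebraMap c.S T (c.cf l a)) := by
    intro a
    conv_lhs => rw [← MonoidAlgebra.sum_coeff_single (c.j a)]
    rw [Finsupp.sum, map_sum]
    exact Finset.sum_congr rfl fun l _ => hπs l _
  refine ⟨BialgEquiv.ofBijective (BialgHom.ofAlgHom g ?_ ?_) hbij⟩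
  · refine Algebra.TensorProduct.ext' fun t a => ?_
    simp only [AlgHom.comp_apply, g, Algebra.TensorProduct.lift_tmul, Algebra.ofId_apply, map_mul,
      AlgHom.commutes, Algebra.algebraMap_self, RingHom.id_apply, Bialgebra.counitAlgHom_apply,
      TensorProduct.counit_tmul, CommSemiring.counit_apply, smul_eq_mul]
    rw [hexp, map_sum]
    simp only [MonoidAlgebra.counit_single, CommSemiring.counit_apply]
    rw [← map_sum, Algebra.smul_def, IsScalarTower.algebraMap_apply R c.S T, ← c.total a, mul_comm]
    rfl
  · refine Algebra.TensorProduct.ext (Subsingleton.elim _ _) (AlgHom.ext fun a => ?_)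
    simp only [AlgHom.comp_apply, AlgHom.restrictScalars_apply, Algebra.TensorProduct.includeRight_apply,
      Bialgebra.comulAlgHom_apply]
    let bT := (MonoidAlgebra.basis c.M T).tensorProduct (MonoidAlgebra.basis c.M T)
    apply bT.repr.injective
    refine Finsupp.ext fun ⟨l, n⟩ => ?_
    have hl : ∀ x : A, (MonoidAlgebra.basis c.M T).repr (g ((1 : T) ⊗ₜ x)) l = algebraMap c.S T (c.cf l x) := by
      intro x; simp [g, π, MonoidAlgebra.basis]; rfl
    have hn : ∀ x : A, (MonoidAlgebra.basis c.M T).repr (g ((1 : T) ⊗ₜ x)) n = algebraMap c.S T (c.cf n x) := by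
      intro x; simp [g, π, MonoidAlgebra.basis]; rfl
    have h1 : bT.repr (Algebra.TensorProduct.map g g (comul (R := T) ((1 : T) ⊗ₜ[R] a))) (l, n) =
        algebraMap c.S T ((c.cf l * c.cf n).ofConv a) := by
      rw [LinearMap.convMul_apply, TensorProduct.comul_tmul, CommSemiring.comul_apply]
      induction comul (R := R) a using TensorProduct.induction_on with
      | zero => simp
      | tmul x y =>
        simp only [TensorProduct.AlgebraTensorModule.tensorTensorTensorComm_tmul,
          Algebra.TensorProduct.map_tmul, bT, Module.Basis.tensorProduct_repr_tmul_apply, hl, hn,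
          TensorProduct.map_tmul, LinearMap.mul'_apply, map_mul]
        rw [smul_eq_mul, mul_comm]
      | add x y hx hy => simp only [TensorProduct.tmul_add, map_add, Finsupp.add_apply, hx, hy]
    rw [h1]
    have hgexp : g ((1 : T) ⊗ₜ a) = ∑ k ∈ (c.j a).coeff.support,
        MonoidAlgebra.single k (algebraMap c.S T (c.cf k a)) := by
      rw [← hexp]; simp [g]; rw [← MonoidAlgebra.one_def, one_mul]
    rw [hgexp, map_sum, map_sum, Finsupp.finset_sum_apply]
    have h2 : ∀ k : c.M, bT.repr (comul (R := T) (MonoidAlgebra.single k (algebraMap c.S T (c.cf k a)))) (l, n) =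
        if k = l ∧ k = n then algebraMap c.S T (c.cf k a) else 0 := by
      intro k
      rw [show MonoidAlgebra.single k (algebraMap c.S T (c.cf k a)) =
        algebraMap c.S T (c.cf k a) • MonoidAlgebra.single k (1 : T) by
          rw [MonoidAlgebra.smul_single, smul_eq_mul, mul_one], map_smul,
        (MonoidAlgebra.isGroupLikeElem_single_one k).comul_eq_tmul_self, map_smul, Finsupp.smul_apply]
      simp [bT, MonoidAlgebra.basis, Finsupp.single_apply]
      split_ifs <;> aesop
    rw [Finset.sum_congr rfl fun k _ => h2 k]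
    by_cases hln : l = n
    · subst hln
      rw [c.cf_mul_self]
      simp only [and_self, Finset.sum_ite_eq']
      split_ifs with hs
      · rfl
      · rw [show c.cf l a = 0 from Finsupp.notMem_support_iff.1 hs, map_zero]
    · rw [c.cf_mul_ne hln]
      rw [Finset.sum_eq_zero fun k _ => if_neg fun h => hln (h.1.symm.trans h.2)]
      simp

end Groth.Agent.MultT
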