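import Groth.Agent.MultT.DescentDatum
import Groth.Agent.S0532
import Mathlib

/-! Isotrivial groups of multiplicative type lift along henselian pairs. -/

set_option autoImplicit false
set_option synthInstance.maxHeartbeats 400000

open TensorProduct MonoidAlgebra

universe u

noncomputable section

namespace Groth.Agent.MultT

theorem tmul_algebraMap {K : Type u} [CommRing K] (S B : Type u) [CommRing S] [Algebra K S] [CommRing B]
    [Algebra K B] (r : K) : (1 : S) ⊗ₜ[K] algebraMap K B r = algebraMap S (S ⊗[K] B) (algebraMap K S r) :=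
  ((Algebra.TensorProduct.includeRight : B →ₐ[K] S ⊗[K] B).commutes r).trans (IsScalarTower.algebraMap_apply K S _ r)

section Descend

variable {K S : Type u} [CommRing K] [CommRing S] [Algebra K S] [Module.FaithfullyFlat K S]
  {B C : Type u} [CommRing B] [HopfAlgebra K B] [CommRing C] [HopfAlgebra K C]

/-- A bialgebra isomorphism of base changes coming from an algebra map descends. -/
theorem exists_bialgEquiv_descend (Φ : (S ⊗[K] B) ≃ₐc[S] (S ⊗[K] C)) (ψ : B →ₐ[K] C)
    (h : ∀ b, Φ ((1 : S) ⊗ₜ b) = (1 : S) ⊗ₜ ψ b) : Nonempty (B ≃ₐc[K] C) := by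
  have hΦ : ∀ x, Φ x = ψ.toLinearMap.lTensor S x := by
    intro x
    induction x using TensorProduct.induction_on with
    | zero => simp
    | add x y hx hy => simp only [map_add, hx, hy]
    | tmul s b =>
      rw [show s ⊗ₜ[K] b = s • ((1 : S) ⊗ₜ[K] b) by rw [TensorProduct.smul_tmul', smul_eq_mul, mul_one],
        map_smul, h]
      simp [TensorProduct.smul_tmul']
  have hb : Function.Bijective (ψ.toLinearMap.lTensor S) := by
    rw [← funext hΦ]
    exact Φ.bijective
  have hψ : Function.Bijective ψ :=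
    ⟨(Module.FaithfullyFlat.lTensor_injective_iff_injective K S ψ.toLinearMap).1 hb.1,
      (Module.FaithfullyFlat.lTensor_surjective_iff_surjective K S ψ.toLinearMap).1 hb.2⟩
  refine ⟨BialgEquiv.ofBijective (BialgHom.ofAlgHom ψ (AlgHom.ext fun b => ?_) (AlgHom.ext fun b => ?_)) hψ⟩
  · apply Module.FaithfullyFlat.tensorProduct_mk_injective (A := K) (B := S) K
    apply (TensorProduct.rid K S).injective
    have h1 := CoalgHomClass.counit_comp_apply Φ ((1 : S) ⊗ₜ b)
    rw [h, TensorProduct.counit_tmul, TensorProduct.counit_tmul] at h1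
    simpa [Algebra.smul_def] using h1
  · apply Module.FaithfullyFlat.tensorProduct_mk_injective (A := K) (B := S) (C ⊗[K] C)
    apply (TensorProduct.AlgebraTensorModule.distribBaseChange K S C C).injective
    show TensorProduct.AlgebraTensorModule.distribBaseChange K S C C
        ((1 : S) ⊗ₜ Algebra.TensorProduct.map ψ ψ (Coalgebra.comul b)) =
      TensorProduct.AlgebraTensorModule.distribBaseChange K S C C ((1 : S) ⊗ₜ Coalgebra.comul (ψ b))
    have hd : ∀ (D : Type u) [CommRing D] [HopfAlgebra K D] (d : D),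
        TensorProduct.AlgebraTensorModule.distribBaseChange K S D D ((1 : S) ⊗ₜ Coalgebra.comul d) =
          Coalgebra.comul (R := S) ((1 : S) ⊗ₜ[K] d) := by
      intro D _ _ d
      rw [TensorProduct.comul_tmul, CommSemiring.comul_apply]
      induction Coalgebra.comul (R := K) d using TensorProduct.induction_on with
      | zero => simp
      | add x y hx hy => simp only [TensorProduct.tmul_add, map_add, hx, hy]
      | tmul x y => simp
    rw [hd C (ψ b), ← h, ← CoalgHomClass.map_comp_comul_apply, ← hd B b]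
    induction Coalgebra.comul (R := K) b using TensorProduct.induction_on with
    | zero => simp
    | add x y hx hy => simp only [TensorProduct.tmul_add, map_add, hx, hy]
    | tmul x y =>
      simp only [Algebra.TensorProduct.map_tmul, TensorProduct.AlgebraTensorModule.distribBaseChange_tmul,
        TensorProduct.map_tmul]
      simp [h]

/-- Elements with equal images under both inclusions descend. -/
theorem mem_range_of_eq (w : S ⊗[K] B)
    (hw : Algebra.TensorProduct.map (Algebra.TensorProduct.includeLeft : S →ₐ[K] S ⊗[K] S) (AlgHom.id K B) w =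
      Algebra.TensorProduct.map (Algebra.TensorProduct.includeRight : S →ₐ[K] S ⊗[K] S) (AlgHom.id K B) w) :
    ∃ b, w = (1 : S) ⊗ₜ b := by
  let α := (TensorProduct.assoc K S S B).toLinearMap
  have hL : ∀ x : S ⊗[K] B, α (Algebra.TensorProduct.map (Algebra.TensorProduct.includeLeft : S →ₐ[K] S ⊗[K] S)
      (AlgHom.id K B) x) = LinearMap.lTensor S (TensorProduct.mk K S B 1) x := by
    intro x
    induction x using TensorProduct.induction_on with
    | zero => simp
    | add x y hx hy => simp only [map_add, hx, hy]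
    | tmul s b => simp [α]
  have hR : ∀ x : S ⊗[K] B, α (Algebra.TensorProduct.map (Algebra.TensorProduct.includeRight : S →ₐ[K] S ⊗[K] S)
      (AlgHom.id K B) x) = TensorProduct.mk K S (S ⊗[K] B) 1 x := by
    intro x
    induction x using TensorProduct.induction_on with
    | zero => simp
    | add x y hx hy => simp only [map_add, hx, hy]
    | tmul s b => simp [α]
  obtain ⟨b, hb⟩ := Groth.Agent.SchDescent.mem_range_of_amitsur K S B w (by rw [← hR, ← hw, hL])
  exact ⟨b, hb.symm⟩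

end Descend

variable {R : Type u} [CommRing R] {I : Ideal R} {S : Type u} [CommRing S] [Algebra R S]
  {S₀ : Type u} [CommRing S₀] [Algebra (R ⧸ I) S₀] [Algebra R S₀] [IsScalarTower R (R ⧸ I) S₀]
  {A₀ : Type u} [CommRing A₀] [HopfAlgebra (R ⧸ I) A₀] {M : Type u} [CommGroup M]
  {A : Type u} [CommRing A] [HopfAlgebra R A]

/-- The reduction of a descended group is the group given over the quotient. -/
theorem nonempty_reduction_equiv [Module.FaithfullyFlat (R ⧸ I) S₀]
    (e₀ : (S₀ ⊗[R ⧸ I] A₀) ≃ₐc[S₀] MonoidAlgebra S₀ M) (π : S →ₐ[R] S₀)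
    (χ : M →* MonoidAlgebra (S ⊗[R] S) M) (hc : Compat e₀ π χ)
    (e : (S ⊗[R] A) ≃ₐc[S] MonoidAlgebra S M)
    (he : ∀ a, act χ (mapAlgHom M (iL R S) (e ((1 : S) ⊗ₜ a))) = mapAlgHom M (iR R S) (e ((1 : S) ⊗ₜ a))) :
    Nonempty (((R ⧸ I) ⊗[R] A) ≃ₐc[R ⧸ I] A₀) := by
  letI : Algebra R A₀ := Algebra.compHom A₀ (Ideal.Quotient.mk I)
  haveI : IsScalarTower R (R ⧸ I) A₀ := .of_algebraMap_eq fun _ => rfl
  obtain ⟨eπ, heπ⟩ := exists_baseEquiv (K := R) e π
  let i1 : S₀ →ₐ[R ⧸ I] S₀ ⊗[R ⧸ I] S₀ := Algebra.TensorProduct.includeLeft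
  let i2 : S₀ →ₐ[R ⧸ I] S₀ ⊗[R ⧸ I] S₀ := Algebra.TensorProduct.includeRight
  obtain ⟨E1, hE1⟩ := exists_baseEquiv e₀ i1
  obtain ⟨E2, hE2⟩ := exists_baseEquiv e₀ i2
  let φ : S ⊗[R] S →ₐ[R] S₀ ⊗[R ⧸ I] S₀ := Algebra.TensorProduct.lift ((i1.restrictScalars R).comp π)
    ((i2.restrictScalars R).comp π) fun _ _ => Commute.all _ _
  have hφL : φ.comp (iL R S) = (i1.restrictScalars R).comp π := AlgHom.ext fun s => by simp [φ]
  have hφR : φ.comp (iR R S) = (i2.restrictScalars R).comp π := AlgHom.ext fun s => by simp [φ]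
  -- the two descriptions of the datum over the quotient agree
  have hE : ∀ y, act (mapFam φ χ) (E1 y) = E2 y := by
    intro y
    induction y using TensorProduct.induction_on with
    | zero => simp
    | add x y hx hy => simp only [map_add, hx, hy]
    | tmul t a =>
      rw [show t ⊗ₜ[R ⧸ I] a = t • ((1 : S₀ ⊗[R ⧸ I] S₀) ⊗ₜ[R ⧸ I] a) by
          rw [TensorProduct.smul_tmul', smul_eq_mul, mul_one], map_smul, map_smul, map_smul, hE1, hE2]
      congr 1
      exact hc (S₀ ⊗[R ⧸ I] S₀) i1 i2 a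
  have hx : ∀ a : A, ∃ b : A₀, e₀ ((1 : S₀) ⊗ₜ b) = mapAlgHom M π (e ((1 : S) ⊗ₜ a)) := by
    intro a
    have h1 : act (mapFam φ χ) (mapAlgHom M (i1.restrictScalars R) (mapAlgHom M π (e ((1 : S) ⊗ₜ a)))) =
        mapAlgHom M (i2.restrictScalars R) (mapAlgHom M π (e ((1 : S) ⊗ₜ a))) := by
      rw [mapAlgHom_mapAlgHom, mapAlgHom_mapAlgHom, ← hφL, ← hφR, ← mapAlgHom_mapAlgHom, ← mapAlgHom_mapAlgHom,
        ← he, mapAlgHom_act]
    obtain ⟨w, hw⟩ : ∃ w, e₀ w = mapAlgHom M π (e ((1 : S) ⊗ₜ a)) := ⟨e₀.symm _, e₀.apply_symm_apply _⟩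
    rw [← hw] at h1 ⊢
    obtain ⟨b, rfl⟩ := mem_range_of_eq w (E2.injective (by
      show E2 _ = E2 _
      rw [← hE, baseEquiv_map e₀ hE1, baseEquiv_map e₀ hE2]
      exact h1))
    exact ⟨b, rfl⟩
  have hinj : Function.Injective fun b : A₀ => e₀ ((1 : S₀) ⊗ₜ[R ⧸ I] b) := fun b b' h =>
    Module.FaithfullyFlat.tensorProduct_mk_injective (A := R ⧸ I) (B := S₀) A₀ (e₀.injective h)
  choose f hf using hx
  let ψ₀ : A →ₐ[R] A₀ :=
    { toFun := f
      map_one' := hinj (by
        show e₀ _ = e₀ _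
        rw [hf, ← Algebra.TensorProduct.one_def, ← Algebra.TensorProduct.one_def, map_one, map_one, map_one])
      map_mul' := fun a b => hinj (by
        show e₀ _ = e₀ _
        rw [hf, show ((1 : S) ⊗ₜ[R] (a * b)) = ((1 : S) ⊗ₜ[R] a) * ((1 : S) ⊗ₜ[R] b) by simp,
          show ((1 : S₀) ⊗ₜ[R ⧸ I] (f a * f b)) = ((1 : S₀) ⊗ₜ[R ⧸ I] f a) * ((1 : S₀) ⊗ₜ[R ⧸ I] f b) by simp,
          map_mul, map_mul, map_mul, hf, hf])
      map_zero' := hinj (by
        show e₀ _ = e₀ _
        rw [hf]; simp)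
      map_add' := fun a b => hinj (by
        show e₀ _ = e₀ _
        rw [hf, TensorProduct.tmul_add, TensorProduct.tmul_add, map_add, map_add, map_add, hf, hf])
      commutes' := fun r => hinj (by
        show e₀ _ = e₀ _
        rw [hf, tmul_algebraMap S A r, IsScalarTower.algebraMap_apply R (R ⧸ I) A₀,
          tmul_algebraMap (K := R ⧸ I) S₀ A₀, AlgHomClass.commutes e, AlgHomClass.commutes e₀,
          ← IsScalarTower.algebraMap_apply]
        simp [MonoidAlgebra.coe_algebraMap]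
        exact IsScalarTower.algebraMap_apply R (R ⧸ I) S₀ r) }
  let ψ : (R ⧸ I) ⊗[R] A →ₐ[R ⧸ I] A₀ :=
    Algebra.TensorProduct.lift (Algebra.ofId _ _) ψ₀ fun _ _ => Commute.all _ _
  let Φ := ((bcTrans R (R ⧸ I) S₀ A).trans eπ).trans e₀.symm
  refine exists_bialgEquiv_descend Φ ψ fun b => ?_
  induction b using TensorProduct.induction_on with
  | zero => simp
  | add x y hx hy => simp only [TensorProduct.tmul_add, map_add, hx, hy]
  | tmul r a =>
    apply e₀.injective
    show e₀ (e₀.symm (eπ (bcTrans R (R ⧸ I) S₀ A ((1 : S₀) ⊗ₜ (r ⊗ₜ a))))) = e₀ ((1 : S₀) ⊗ₜ ψ (r ⊗ₜ a))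
    rw [BialgEquiv.apply_symm_apply, bcTrans_tmul,
      show (r • (1 : S₀)) ⊗ₜ[R] a = (r • (1 : S₀)) • ((1 : S₀) ⊗ₜ[R] a) by
        rw [TensorProduct.smul_tmul', smul_eq_mul, mul_one], map_smul, heπ, ← hf]
    simp only [ψ, Algebra.TensorProduct.lift_tmul, Algebra.ofId_apply]
    rw [← Algebra.smul_def r (ψ₀ a), TensorProduct.tmul_smul, ← smul_one_smul S₀ r ((1 : S₀) ⊗ₜ[R ⧸ I] ψ₀ a),
      map_smul]
    rfl

/-- Isotrivial groups of multiplicative type lift along henselian pairs. -/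
theorem exists_isotrivial_lift (I : Ideal R) [HenselianRing R I] (A₀ : Type u) [CommRing A₀]
    [HopfAlgebra (R ⧸ I) A₀] (h0 : SGA3b.IsIsotrivial (R ⧸ I) A₀) :
    ∃ (A : Type u) (_ : CommRing A) (_ : HopfAlgebra R A),
      SGA3b.IsIsotrivial R A ∧ Nonempty (((R ⧸ I) ⊗[R] A) ≃ₐc[R ⧸ I] A₀) := by
  obtain ⟨S₀, _, _, het, hfin, hff, M, _, ⟨e₀⟩⟩ := h0
  haveI := het; haveI := hfin; haveI := hff
  letI : Algebra R S₀ := Algebra.compHom S₀ (Ideal.Quotient.mk I)
  haveI : IsScalarTower R (R ⧸ I) S₀ := .of_algebraMap_eq fun _ => rfl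
  obtain ⟨S, _, _, hSfin, hSet, ⟨ε⟩⟩ := Groth.Agent.S0532.result R I S₀
  haveI := hSfin; haveI := hSet
  haveI : Module.Flat R S := Algebra.Smooth.flat R S
  let π : S →ₐ[R] S₀ := (ε.toAlgHom.restrictScalars R).comp Algebra.TensorProduct.includeRight
  have hmk : ∀ x : (R ⧸ I) ⊗[R] S, ∃ s, (1 : R ⧸ I) ⊗ₜ[R] s = x := by
    intro x
    induction x using TensorProduct.induction_on with
    | zero => exact ⟨0, by simp⟩
    | add x y hx hy =>
      obtain ⟨s, rfl⟩ := hx; obtain ⟨t, rfl⟩ := hy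
      exact ⟨s + t, by rw [TensorProduct.tmul_add]⟩
    | tmul r s =>
      obtain ⟨r, rfl⟩ := Ideal.Quotient.mk_surjective r
      exact ⟨r • s, by
        rw [TensorProduct.tmul_smul, TensorProduct.smul_tmul', Algebra.smul_def, mul_one]; rfl⟩
  have hπ : Function.Surjective π := fun y => by
    obtain ⟨s, hs⟩ := hmk (ε.symm y)
    exact ⟨s, by show ε ((1 : R ⧸ I) ⊗ₜ s) = y; rw [hs, AlgEquiv.apply_symm_apply]⟩
  have hker : RingHom.ker π = I.map (algebraMap R S) := by
    ext x
    rw [RingHom.mem_ker, ← Submodule.restrictScalars_mem R, ← Ideal.smul_top_eq_map,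
      ← Submodule.Quotient.mk_eq_zero, ← TensorProduct.quotTensorEquivQuotSMul_mk_one_tmul,
      LinearEquiv.map_eq_zero_iff]
    exact map_eq_zero_iff ε ε.injective
  haveI : Module.FaithfullyFlat R S := by
    refine ⟨fun m hm htop => ?_⟩
    have hIm : I ≤ m := le_trans (HenselianRing.jac : I ≤ _) (sInf_le ⟨bot_le, hm⟩)
    have h2 : (m.map (Ideal.Quotient.mk I)).IsMaximal := by
      refine Ideal.IsMaximal.map_of_surjective_of_ker_le Ideal.Quotient.mk_surjective ?_
      rwa [Ideal.mk_ker]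
    refine Module.FaithfullyFlat.submodule_ne_top (R := R ⧸ I) (M := S₀) h2 ?_
    have h3 : ∀ x ∈ (m • ⊤ : Submodule R S), π x ∈ (m.map (Ideal.Quotient.mk I) • ⊤ : Submodule (R ⧸ I) S₀) := by
      intro x hx
      refine Submodule.smul_induction_on hx (fun r hr s _ => ?_) fun x y hx hy => by
        rw [map_add]; exact add_mem hx hy
      rw [map_smul, ← algebraMap_smul (R ⧸ I) r (π s)]
      exact Submodule.smul_mem_smul (Ideal.mem_map_of_mem _ hr) Submodule.mem_top
    rw [eq_top_iff]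
    intro y _
    obtain ⟨x, rfl⟩ := hπ y
    exact h3 x (by rw [htop]; exact Submodule.mem_top)
  obtain ⟨χ, hgl, hc⟩ := exists_compat e₀ π hπ hker
  obtain ⟨A, _, _, e, he⟩ := exists_hopf χ hgl
    (counit_rho χ (norm_of_compat e₀ π hker χ hgl hc))
    (coassoc_rho χ (cocycle_of_compat e₀ π hπ hker χ hgl hc))
  exact ⟨A, inferInstance, inferInstance,
    ⟨S, inferInstance, inferInstance, hSet, hSfin, inferInstance, M, inferInstance, ⟨e⟩⟩,
    nonempty_reduction_equiv e₀ π χ hc e he⟩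

end Groth.Agent.MultT
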