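import Groth.Agent.MultT.AdicFlat
import Groth.Agent.MultT.DescentLift
import Groth.Agent.MultT.Quasi
import Mathlib

/-! Over an adically complete ring the isotrivial lift of the special fibre is an open and closed
subgroup of a group flat near the special fibre. -/

set_option autoImplicit false
set_option synthInstance.maxHeartbeats 400000

open TensorProduct Coalgebra

universe u

noncomputable section

namespace Groth.Agent.MultT

variable {R : Type u} [CommRing R] {C : Type u} [CommRing C] [HopfAlgebra R C]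

theorem conv_antipode_cancel {T : Type u} [CommRing T] [Algebra R T] (a b : C →ₐ[R] T) :
    WithConv.toConv a * (WithConv.toConv (a.comp (HopfAlgebra.antipodeAlgHom R C)) * WithConv.toConv b) =
      WithConv.toConv b := by
  have h3 : WithConv.toConv a * WithConv.toConv (a.comp (HopfAlgebra.antipodeAlgHom R C)) = 1 := by
    refine WithConv.ext (AlgHom.ext fun x => ?_)
    rw [AlgHom.convMul_apply, AlgHom.convOne_apply, ← a.commutes,
      ← HopfAlgebra.mul_antipode_lTensor_comul_apply (R := R) x]
    induction comul (R := R) x using TensorProduct.induction_on with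
    | zero => simp
    | add x y hx hy => simp only [map_add, hx, hy]
    | tmul x y => simp
  rw [← mul_assoc, h3, one_mul]

/-- A Hopf ideal with flat quotient contained in its product with the augmentation ideal is idempotent. -/
theorem isIdempotentElem_hopfIdeal (K : Ideal C) [K.IsHopfIdeal R] [Module.Flat R (C ⧸ K)]
    (h : K ≤ RingHom.ker (Bialgebra.counitAlgHom R C) * K) : IsIdempotentElem K := by
  refine le_antisymm Ideal.mul_le_left fun k hk => ?_
  let G := C ⧸ K
  let q : C →ₐ[R] G := Ideal.Quotient.mkₐ R K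
  let j : K →ₗ[R] C := K.subtype.restrictScalars R
  let ι : G ⊗[R] K →ₗ[R] G ⊗[R] C := j.lTensor G
  have hι : Function.Injective ι := Module.Flat.lTensor_preserves_injective_linearMap j Subtype.val_injective
  let ψ : G ⊗[R] K →ₗ[R] G ⊗[C] K := TensorProduct.lift (LinearMap.mk₂ R (fun g k => g ⊗ₜ[C] k)
    (fun a b c => TensorProduct.add_tmul a b c) (fun r a b => (TensorProduct.smul_tmul' r a b).symm)
    (fun a b c => TensorProduct.tmul_add a b c) (fun r a b => TensorProduct.tmul_smul r a b))
  have hψ : ∀ g k, ψ (g ⊗ₜ k) = g ⊗ₜ[C] k := fun g k => rfl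
  let π : G ⊗[R] C →ₐ[R] G := Algebra.TensorProduct.lift (AlgHom.id R G) q fun _ _ => Commute.all _ _
  -- the tensor ideal
  have key1 : ∀ z w, ∃ w'', ι w'' = z * ι w ∧ ψ w'' = π z • ψ w := by
    intro z
    induction z using TensorProduct.induction_on with
    | zero => exact fun w => ⟨0, by simp, by simp⟩
    | add z z' hz hz' =>
      intro w
      obtain ⟨w₁, h1, h1'⟩ := hz w
      obtain ⟨w₂, h2, h2'⟩ := hz' w
      exact ⟨w₁ + w₂, by rw [map_add, h1, h2, add_mul], by rw [map_add, h1', h2', map_add, add_smul]⟩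
    | tmul g a =>
      intro w
      induction w using TensorProduct.induction_on with
      | zero => exact ⟨0, by simp, by simp⟩
      | add w w' hw hw' =>
        obtain ⟨w₁, h1, h1'⟩ := hw
        obtain ⟨w₂, h2, h2'⟩ := hw'
        exact ⟨w₁ + w₂, by rw [map_add, h1, h2, map_add, mul_add], by rw [map_add, h1', h2', map_add, smul_add]⟩
      | tmul g' k' =>
        refine ⟨(g * g') ⊗ₜ (a • k'), ?_, ?_⟩
        · simp [ι, j]
        · rw [hψ, hψ, TensorProduct.tmul_smul, TensorProduct.smul_tmul', TensorProduct.smul_tmul', Algebra.smul_def,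
            show π (g ⊗ₜ a) = g * algebraMap C G a from Algebra.TensorProduct.lift_tmul _ _ _ _ _, smul_eq_mul]
          congr 1
          ring
  -- translations
  let τ₀ : C →ₐ[R] G ⊗[R] C :=
    (Algebra.TensorProduct.map q (AlgHom.id R C)).comp (Bialgebra.comulAlgHom R C)
  let σ₀ : C →ₐ[R] G ⊗[R] C :=
    (Algebra.TensorProduct.map (q.comp (HopfAlgebra.antipodeAlgHom R C)) (AlgHom.id R C)).comp
      (Bialgebra.comulAlgHom R C)
  have hπσ : ∀ c, π (σ₀ c) = algebraMap R G (counit (R := R) c) := by
    intro c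
    rw [show algebraMap R G (counit (R := R) c) = q (algebraMap R C (counit (R := R) c)) from
        (q.commutes _).symm, ← HopfAlgebra.mul_antipode_rTensor_comul_apply (R := R) c]
    show π (Algebra.TensorProduct.map (q.comp (HopfAlgebra.antipodeAlgHom R C)) (AlgHom.id R C) (comul (R := R) c)) = _
    induction comul (R := R) c using TensorProduct.induction_on with
    | zero => simp
    | add x y hx hy => simp only [map_add, hx, hy]
    | tmul x y => simp [π]
  have hmk : ∀ x ∈ K, Algebra.TensorProduct.map q q (comul (R := R) x) = 0 := fun x hx =>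
    Submodule.IsCoideal.map_mkQ_comul_eq_zero (R := R) (I := K.restrictScalars R) hx
  have hexact : Function.Exact j q.toLinearMap := fun x => by
    constructor
    · exact fun hx => ⟨⟨x, Ideal.Quotient.eq_zero_iff_mem.1 hx⟩, rfl⟩
    · rintro ⟨y, rfl⟩
      exact Ideal.Quotient.eq_zero_iff_mem.2 y.2
  have hrange : ∀ z : G ⊗[R] C, q.toLinearMap.lTensor G z = 0 → ∃ w, ι w = z := fun z hz =>
    ((lTensor_exact G hexact Ideal.Quotient.mk_surjective) z).1 hz
  have hσK : ∀ x ∈ K, ∃ w, ι w = σ₀ x := fun x hx => hrange _ (by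
    have : ∀ t : C ⊗[R] C, q.toLinearMap.lTensor G
        (Algebra.TensorProduct.map (q.comp (HopfAlgebra.antipodeAlgHom R C)) (AlgHom.id R C) t) =
        (HopfAlgebra.antipode R (A := G)).rTensor G (Algebra.TensorProduct.map q q t) := by
      intro t
      induction t using TensorProduct.induction_on with
      | zero => simp
      | add x y hx hy => simp only [map_add, hx, hy]
      | tmul x y => simp [q, HopfAlgebra.Quotient.antipode_mk]; rfl
    show q.toLinearMap.lTensor G (Algebra.TensorProduct.map _ _ (comul (R := R) x)) = 0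
    rw [this, hmk x hx, map_zero])
  obtain ⟨wk, hwk⟩ : ∃ w, ι w = τ₀ k := hrange _ (by
    have : ∀ t : C ⊗[R] C, q.toLinearMap.lTensor G (Algebra.TensorProduct.map q (AlgHom.id R C) t) =
        Algebra.TensorProduct.map q q t := by
      intro t
      induction t using TensorProduct.induction_on with
      | zero => simp
      | add x y hx hy => simp only [map_add, hx, hy]
      | tmul x y => simp
    show q.toLinearMap.lTensor G (Algebra.TensorProduct.map q _ (comul (R := R) k)) = 0
    rw [this, hmk k hk])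
  let σ : G ⊗[R] C →ₐ[R] G ⊗[R] C :=
    Algebra.TensorProduct.lift (Algebra.TensorProduct.includeLeft) σ₀ fun _ _ => Commute.all _ _
  have hσ : ∀ w, ∃ w', ι w' = σ (ι w) ∧ ψ w' = 0 := by
    intro w
    induction w using TensorProduct.induction_on with
    | zero => exact ⟨0, by simp, by simp⟩
    | add w w' hw hw' =>
      obtain ⟨w₁, h1, h1'⟩ := hw
      obtain ⟨w₂, h2, h2'⟩ := hw'
      exact ⟨w₁ + w₂, by simp only [map_add, h1, h2], by rw [map_add, h1', h2', add_zero]⟩
    | tmul g x =>
      obtain ⟨x, hx⟩ := x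
      have hx' := h hx
      show ∃ w', ι w' = σ (g ⊗ₜ x) ∧ ψ w' = 0
      refine Submodule.mul_induction_on hx' (fun a ha b hb => ?_) fun u v hu hv => ?_
      · obtain ⟨w₁, hw₁⟩ := hσK b hb
        obtain ⟨w₂, hw₂, hw₂'⟩ := key1 ((g ⊗ₜ (1 : C)) * σ₀ a) w₁
        refine ⟨w₂, ?_, ?_⟩
        · rw [hw₂, hw₁]
          simp [σ, map_mul, mul_assoc]
        · have ha' : counit (R := R) a = 0 := ha
          rw [hw₂', map_mul, hπσ, ha', map_zero, mul_zero, zero_smul]
      · obtain ⟨w₁, h1, h1'⟩ := hu
        obtain ⟨w₂, h2, h2'⟩ := hv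
        exact ⟨w₁ + w₂, by rw [map_add, h1, h2, TensorProduct.tmul_add, map_add],
          by rw [map_add, h1', h2', add_zero]⟩
  have hστ : σ (τ₀ k) = (1 : G) ⊗ₜ k := by
    let iL : C →ₐ[R] G ⊗[R] C := Algebra.TensorProduct.includeLeft.comp q
    let iR : C →ₐ[R] G ⊗[R] C := Algebra.TensorProduct.includeRight
    let iS : C →ₐ[R] G ⊗[R] C := iL.comp (HopfAlgebra.antipodeAlgHom R C)
    have h1 : WithConv.toConv σ₀ = WithConv.toConv iS * WithConv.toConv iR := by
      refine WithConv.ext (AlgHom.ext fun x => ?_)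
      rw [AlgHom.convMul_apply]
      show Algebra.TensorProduct.map (q.comp (HopfAlgebra.antipodeAlgHom R C)) (AlgHom.id R C) (comul (R := R) x) = _
      induction comul (R := R) x using TensorProduct.induction_on with
      | zero => simp
      | add x y hx hy => simp only [map_add, hx, hy]
      | tmul x y => simp [iS, iL, iR]
    have h2 : WithConv.toConv (σ.comp τ₀) = WithConv.toConv iL * WithConv.toConv σ₀ := by
      refine WithConv.ext (AlgHom.ext fun x => ?_)
      rw [AlgHom.convMul_apply]
      show σ (Algebra.TensorProduct.map q (AlgHom.id R C) (comul (R := R) x)) = _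
      induction comul (R := R) x using TensorProduct.induction_on with
      | zero => simp
      | add x y hx hy => simp only [map_add, hx, hy]
      | tmul x y => simp [σ, iL]
    rw [h1, conv_antipode_cancel iL iR] at h2
    exact congrArg (fun f : WithConv (C →ₐ[R] G ⊗[R] C) => f.ofConv k) h2
  obtain ⟨w', hw', hw'0⟩ := hσ wk
  rw [hwk, hστ] at hw'
  have h0 : (1 : G) ⊗ₜ[C] (⟨k, hk⟩ : K) = 0 := by
    rw [← hψ, ← hw'0]
    congr 1
    exact (hι (hw'.trans rfl)).symm
  have h1 := congrArg (TensorProduct.quotTensorEquivQuotSMul K K) h0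
  rw [map_zero, TensorProduct.quotTensorEquivQuotSMul_mk_one_tmul, Submodule.Quotient.mk_eq_zero] at h1
  have h2 := Submodule.mem_map_of_mem (f := K.subtype) h1
  rw [Submodule.map_smul'', Submodule.map_top, Submodule.range_subtype] at h2
  exact h2

/-- The kernel of a surjective homomorphism of Hopf algebras is a Hopf ideal with the expected quotient. -/
theorem exists_quot_equiv {G : Type u} [CommRing G] [HopfAlgebra R G] (φ : C →ₐc[R] G)
    (hφ : Function.Surjective φ) : ∃ _ : (RingHom.ker (φ : C →ₐ[R] G)).IsHopfIdeal R,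
      Nonempty ((C ⧸ RingHom.ker (φ : C →ₐ[R] G)) ≃ₐc[R] G) := by
  let K := RingHom.ker (φ : C →ₐ[R] G)
  let e := Ideal.quotientKerAlgEquivOfSurjective (f := (φ : C →ₐ[R] G)) hφ
  have he : ∀ x, e (Ideal.Quotient.mk K x) = φ x := fun x => rfl
  have hee : ∀ t : C ⊗[R] C, Algebra.TensorProduct.congr e e
      (Algebra.TensorProduct.map (Ideal.Quotient.mkₐ R K) (Ideal.Quotient.mkₐ R K) t) =
      Algebra.TensorProduct.map (φ : C →ₐ[R] G) (φ : C →ₐ[R] G) t := by
    intro t
    induction t using TensorProduct.induction_on with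
    | zero => simp
    | add x y hx hy => simp only [map_add, hx, hy]
    | tmul x y => simp [he]
  have hK : K.IsHopfIdeal R :=
    { toIsCoideal := ⟨fun x hx => by
          have hx' : φ x = 0 := hx
          rw [← CoalgHomClass.counit_comp_apply φ x, hx', map_zero], fun x hx => by
          have hx' : φ x = 0 := hx
          show Algebra.TensorProduct.map (Ideal.Quotient.mkₐ R K) (Ideal.Quotient.mkₐ R K) (comul (R := R) x) = 0
          apply (Algebra.TensorProduct.congr e e).injective
          rw [hee, map_zero]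
          exact (CoalgHomClass.map_comp_comul_apply φ x).trans (by rw [hx', map_zero])⟩
      antipode_mem := fun x hx => by
        have hx' : φ x = 0 := hx
        show φ (HopfAlgebra.antipode R x) = 0
        rw [← antipode_comp, hx', map_zero] }
  haveI := hK
  refine ⟨hK, ⟨BialgEquiv.ofAlgEquiv e (AlgHom.ext fun y => ?_) (AlgHom.ext fun y => ?_)⟩⟩
  · obtain ⟨x, rfl⟩ := Ideal.Quotient.mk_surjective y
    show counit (R := R) (φ x) = counit (R := R) x
    exact CoalgHomClass.counit_comp_apply φ x
  · obtain ⟨x, rfl⟩ := Ideal.Quotient.mk_surjective y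
    show Algebra.TensorProduct.map (e : _ →ₐ[R] G) (e : _ →ₐ[R] G)
      (Algebra.TensorProduct.map (Ideal.Quotient.mkₐ R K) (Ideal.Quotient.mkₐ R K) (comul (R := R) x)) =
        comul (R := R) (φ x)
    rw [← CoalgHomClass.map_comp_comul_apply φ x]
    exact hee _

/-- Base change of an isomorphism of Hopf algebras. -/
theorem exists_bcCongr {B : Type u} [CommRing B] [HopfAlgebra R B] (f : C ≃ₐc[R] B) (T : Type u) [CommRing T]
    [Algebra R T] : Nonempty ((T ⊗[R] C) ≃ₐc[T] (T ⊗[R] B)) := by
  let g := Bialgebra.TensorProduct.map (R := R) (S := T) (A := T) (C := T) (B := C) (D := B) (BialgHom.id T T)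
    (f : C →ₐc[R] B)
  let l := LinearEquiv.lTensor T (f : C ≃ₐ[R] B).toLinearEquiv
  have h : ∀ z, g z = l z := by
    intro z
    induction z using TensorProduct.induction_on with
    | zero => rw [map_zero, map_zero]
    | tmul a b => rfl
    | add a b ha hb => rw [map_add, map_add, ha, hb]
  exact ⟨BialgEquiv.ofBijective g (by rw [funext h]; exact l.bijective)⟩

theorem isIsotrivial_of_equiv {B : Type u} [CommRing B] [HopfAlgebra R B] (f : C ≃ₐc[R] B)
    (h : SGA3b.IsIsotrivial R B) : SGA3b.IsIsotrivial R C := by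
  obtain ⟨T, _, _, het, hfin, hff, hd⟩ := h
  obtain ⟨g⟩ := exists_bcCongr f T
  exact ⟨T, inferInstance, inferInstance, het, hfin, hff, isDiag_of_equiv g hd⟩

/-- A homomorphism to an isotrivial group, surjective modulo an ideal in the radical, is surjective. -/
theorem surjective_of_reduction {G : Type u} [CommRing G] [HopfAlgebra R G] (I : Ideal R)
    (hI : I ≤ Ideal.jacobson ⊥) (hG : SGA3b.IsIsotrivial R G) (φ : C →ₐc[R] G)
    (h : ∀ g, ∃ x, φ x - g ∈ I.map (algebraMap R G)) : Function.Surjective φ := by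
  classical
  obtain ⟨c, hfin, hproj, hff⟩ := finite_projective_chart hG
  haveI : Algebra.IsIntegral R c.S := Algebra.IsIntegral.of_finite R c.S
  have hJ : I.map (algebraMap R c.S) ≤ Ideal.jacobson ⊥ := Hensel.map_le_jacobson hI
  let B' : Submodule c.S (MonoidAlgebra c.S c.M) := Submodule.span c.S (Set.range fun x => c.j (φ x))
  have hcoef : ∀ y ∈ B', ∀ m, MonoidAlgebra.single m (cfM c.S m y) ∈ B' := by
    intro y hy m
    induction hy using Submodule.span_induction with
    | mem y hy =>
      obtain ⟨x, rfl⟩ := hy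
      obtain ⟨s, hs⟩ := TensorProduct.exists_finset (comul (R := R) x)
      have hs' : comul (R := R) (φ x) = ∑ i ∈ s, φ i.1 ⊗ₜ φ i.2 := by
        rw [← CoalgHomClass.map_comp_comul_apply φ x, hs, map_sum]
        rfl
      have heq : MonoidAlgebra.single m (cfM c.S m (c.j (φ x))) = ∑ i ∈ s, c.cf m (φ i.2) • c.j (φ i.1) := by
        refine cfM_ext fun l => ?_
        rw [cfM_single, map_sum]
        have h1 : (c.cf l * c.cf m) (φ x) = ∑ i ∈ s, c.cf l (φ i.1) * c.cf m (φ i.2) := by
          rw [LinearMap.convMul_apply, hs', map_sum, map_sum]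
          simp
        simp only [map_smul, ← c.cf_apply, smul_eq_mul]
        rw [Finset.sum_congr rfl fun i _ => mul_comm (c.cf m (φ i.2)) _, ← h1]
        by_cases hml : m = l
        · subst hml; rw [if_pos rfl, c.cf_mul_self]
        · rw [if_neg hml, c.cf_mul_ne (Ne.symm hml)]
          rfl
      rw [heq]
      exact Submodule.sum_mem _ fun i _ => Submodule.smul_mem _ _ (Submodule.subset_span ⟨i.1, rfl⟩)
    | zero => simp
    | add y z _ _ hy hz => rw [map_add, MonoidAlgebra.single_add]; exact add_mem hy hz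
    | smul t y _ hy => rw [map_smul, ← MonoidAlgebra.smul_single]; exact Submodule.smul_mem _ _ hy
  have hmod : ∀ z, ∃ y ∈ B', ∀ m, cfM c.S m y - cfM c.S m z ∈ I.map (algebraMap R c.S) := by
    intro z
    obtain ⟨w, rfl⟩ := c.bij.2 z
    induction w using TensorProduct.induction_on with
    | zero => exact ⟨0, zero_mem _, fun m => by simp⟩
    | add a b ha hb =>
      obtain ⟨y, hy, hy'⟩ := ha
      obtain ⟨y', hy₁, hy₁'⟩ := hb
      refine ⟨y + y', add_mem hy hy₁, fun m => ?_⟩
      rw [map_add, map_add, map_add, add_sub_add_comm]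
      exact Ideal.add_mem _ (hy' m) (hy₁' m)
    | tmul s g =>
      obtain ⟨x, hx⟩ := h g
      refine ⟨s • c.j (φ x), Submodule.smul_mem _ _ (Submodule.subset_span ⟨x, rfl⟩), fun m => ?_⟩
      rw [LinearMap.liftBaseChange_tmul, map_smul, map_smul, ← smul_sub, smul_eq_mul]
      refine Ideal.mul_mem_left _ _ ?_
      have := map_mem_map (c.cf m).ofConv hx
      rw [map_sub] at this
      exact this
  have htop : B' = ⊤ := by
    rw [eq_top_iff]
    intro z _
    rw [← MonoidAlgebra.sum_coeff_single z]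
    refine Submodule.sum_mem _ fun m _ => ?_
    obtain ⟨y, hy, hy'⟩ := hmod (MonoidAlgebra.single m 1)
    have hu : IsUnit (cfM c.S m y) := by
      have h1 := hy' m
      rw [cfM_single, if_pos rfl] at h1
      have := Ideal.mem_jacobson_bot.1 (hJ h1) 1
      rwa [mul_one, sub_add_cancel] at this
    obtain ⟨v, hv⟩ := hu.exists_left_inv
    have h2 := Submodule.smul_mem _ (z.coeff m * v) (hcoef y hy m)
    rwa [MonoidAlgebra.smul_single, smul_eq_mul, mul_assoc, hv, mul_one] at h2
  have hsurj : Function.Surjective (((φ : C →ₐ[R] G).toLinearMap).lTensor c.S) := by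
    intro w
    have hmem : c.j.toLinearMap.liftBaseChange c.S w ∈ B' := htop ▸ Submodule.mem_top
    suffices ∀ z ∈ B', ∃ v, c.j.toLinearMap.liftBaseChange c.S (((φ : C →ₐ[R] G).toLinearMap).lTensor c.S v) = z by
      obtain ⟨v, hv⟩ := this _ hmem
      exact ⟨v, c.bij.1 hv⟩
    intro z hz
    induction hz using Submodule.span_induction with
    | mem z hz => obtain ⟨x, rfl⟩ := hz; exact ⟨1 ⊗ₜ x, by simp⟩
    | zero => exact ⟨0, by simp⟩
    | add a b _ _ ha hb =>
      obtain ⟨v, hv⟩ := ha; obtain ⟨v', hv'⟩ := hb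
      exact ⟨v + v', by rw [map_add, map_add, hv, hv']⟩
    | smul t a _ ha =>
      obtain ⟨v, hv⟩ := ha
      refine ⟨t • v, ?_⟩
      show c.j.toLinearMap.liftBaseChange c.S ((((φ : C →ₐ[R] G).toLinearMap).baseChange c.S) (t • v)) = _
      rw [map_smul, map_smul]
      exact congrArg (t • ·) hv
  exact (Module.FaithfullyFlat.lTensor_surjective_iff_surjective R c.S _).1 hsurj

/-- Over an adically complete Noetherian ring, a group of finite type flat near an isotrivial special fibre
contains the isotrivial lift of that fibre as an open and closed subgroup. -/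
theorem exists_open_subgroup [IsNoetherianRing R] (I : Ideal R) [IsAdicComplete I R]
    [Algebra.FiniteType R C]
    (hfl : ∀ (q : Ideal C) [q.IsPrime], Ideal.map (algebraMap R C) I ≤ q →
      Module.Flat R (Localization.AtPrime q))
    (h0 : SGA3b.IsIsotrivial (R ⧸ I) ((R ⧸ I) ⊗[R] C)) :
    ∃ e : C, IsIdempotentElem e ∧ e ∈ Ideal.map (algebraMap R C) I ∧
      ∃ _ : (Ideal.span {e}).IsHopfIdeal R, SGA3b.IsIsotrivial R (C ⧸ Ideal.span {e}) := by
  haveI : HenselianRing R I := IsAdicComplete.henselianRing R I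
  have hIj : I ≤ Ideal.jacobson ⊥ := HenselianRing.jac
  obtain ⟨G, _, _, hG, ⟨e₀⟩⟩ := exists_isotrivial_lift I ((R ⧸ I) ⊗[R] C) h0
  have hpre : ∀ z : (R ⧸ I) ⊗[R] G, ∃ g, (1 : R ⧸ I) ⊗ₜ[R] g = z := by
    intro z
    induction z using TensorProduct.induction_on with
    | zero => exact ⟨0, by simp⟩
    | add x y hx hy =>
      obtain ⟨a, rfl⟩ := hx; obtain ⟨b, rfl⟩ := hy
      exact ⟨a + b, by rw [TensorProduct.tmul_add]⟩
    | tmul r g =>
      obtain ⟨r, rfl⟩ := Ideal.Quotient.mk_surjective r
      exact ⟨r • g, by rw [TensorProduct.tmul_smul, TensorProduct.smul_tmul', Algebra.smul_def, mul_one]; rfl⟩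
  choose h₀ hh₀ using fun x => hpre (e₀.symm ((1 : R ⧸ I) ⊗ₜ x))
  haveI : Algebra.FiniteType (R ⧸ I) ((R ⧸ I) ⊗[R] C) := inferInstance
  obtain ⟨φ, hφ⟩ := exists_lift_adic_flat I hG hfl (isQuasiIsotrivial (isMultType_of_isotrivial h0)) h₀
    ⟨(e₀.symm : (R ⧸ I) ⊗[R] C →ₐc[R ⧸ I] (R ⧸ I) ⊗[R] G), fun c => (hh₀ c).symm⟩
  have hred : ∀ x, (1 : R ⧸ I) ⊗ₜ[R] φ x = e₀.symm ((1 : R ⧸ I) ⊗ₜ x) := fun x =>
    ((sub_mem_map_iff_tmul I).1 (hφ x)).trans (hh₀ x)
  have hsurj : Function.Surjective φ := surjective_of_reduction I hIj hG φ fun g => by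
    obtain ⟨x, hx⟩ : ∃ x, (1 : R ⧸ I) ⊗ₜ[R] x = e₀ ((1 : R ⧸ I) ⊗ₜ g) := by
      suffices ∀ z : (R ⧸ I) ⊗[R] C, ∃ x, (1 : R ⧸ I) ⊗ₜ[R] x = z from this _
      intro z
      induction z using TensorProduct.induction_on with
      | zero => exact ⟨0, by simp⟩
      | add x y hx hy =>
        obtain ⟨a, rfl⟩ := hx; obtain ⟨b, rfl⟩ := hy
        exact ⟨a + b, by rw [TensorProduct.tmul_add]⟩
      | tmul r g =>
        obtain ⟨r, rfl⟩ := Ideal.Quotient.mk_surjective r
        exact ⟨r • g, by rw [TensorProduct.tmul_smul, TensorProduct.smul_tmul', Algebra.smul_def, mul_one]; rfl⟩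
    exact ⟨x, (sub_mem_map_iff_tmul I).2 (by rw [hred, hx, BialgEquiv.symm_apply_apply])⟩
  haveI : IsNoetherianRing C := Algebra.FiniteType.isNoetherianRing R C
  obtain ⟨hK, ⟨eq⟩⟩ := exists_quot_equiv φ hsurj
  haveI := hK
  let K := RingHom.ker (φ : C →ₐ[R] G)
  have hGflat : Module.Flat R G := by
    obtain ⟨S, _, _, -, -, hff, M, _, ⟨es⟩⟩ := hG
    haveI := hff
    haveI : Module.Free S (MonoidAlgebra S M) := Module.Free.of_basis (MonoidAlgebra.basis M S)
    haveI : Module.Flat S (S ⊗[R] G) :=
      Module.Flat.of_linearEquiv (es : (S ⊗[R] G) ≃ₐ[S] MonoidAlgebra S M).toLinearEquiv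
    exact Module.Flat.of_flat_tensorProduct R G S
  haveI : Module.Flat R (C ⧸ K) := Module.Flat.of_linearEquiv (eq : (C ⧸ K) ≃ₐ[R] G).toLinearEquiv
  let j : K →ₗ[R] C := K.subtype.restrictScalars R
  let J := I.map (algebraMap R C)
  have hKJ : K ≤ J := fun x hx => by
    have hx' : φ x = 0 := hx
    refine (mem_map_iff_tmul I).2 (e₀.symm.injective ?_)
    show e₀.symm _ = e₀.symm _
    rw [map_zero, ← hred, hx', TensorProduct.tmul_zero]
  have hKJK : K ≤ J * K := by
    intro x hx
    have hxI : x ∈ I • (⊤ : Submodule R C) := by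
      rw [Ideal.smul_top_eq_map]; exact hKJ hx
    obtain ⟨w, rfl⟩ : ∃ w : I ⊗[R] C, TensorProduct.lift ((LinearMap.lsmul R C).comp I.subtype) w = x := by
      refine Submodule.smul_induction_on hxI (fun r hr c _ => ⟨⟨r, hr⟩ ⊗ₜ c, rfl⟩) fun a b ha hb => ?_
      obtain ⟨u, rfl⟩ := ha; obtain ⟨v, rfl⟩ := hb
      exact ⟨u + v, map_add _ _ _⟩
    have hz : (φ : C →ₐ[R] G).toLinearMap.lTensor I w = 0 := by
      have hinj : Function.Injective (I.subtype.rTensor G) :=
        Module.Flat.rTensor_preserves_injective_linearMap I.subtype Subtype.val_injective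
      apply hinj
      apply (TensorProduct.lid R G).injective
      rw [map_zero, map_zero]
      have hx' : φ (TensorProduct.lift ((LinearMap.lsmul R C).comp I.subtype) w) = 0 := hx
      refine Eq.trans ?_ hx'
      clear hxI hx hx'
      induction w using TensorProduct.induction_on with
      | zero => simp
      | add a b ha hb => simp only [map_add, ha, hb]
      | tmul r c => simp
    obtain ⟨v, rfl⟩ := ((lTensor_exact I (f := j) (g := (φ : C →ₐ[R] G).toLinearMap) (fun y => by
      constructor
      · exact fun hy => ⟨⟨y, hy⟩, rfl⟩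
      · rintro ⟨y, rfl⟩; exact y.2) hsurj) w).1 hz
    clear hxI hx hz
    induction v using TensorProduct.induction_on with
    | zero => simp
    | add a b ha hb => simp only [map_add]; exact add_mem ha hb
    | tmul r k =>
      simp only [LinearMap.lTensor_tmul, TensorProduct.lift.tmul, LinearMap.comp_apply, LinearMap.lsmul_apply]
      rw [Submodule.subtype_apply, Algebra.smul_def]
      exact Ideal.mul_mem_mul (Ideal.mem_map_of_mem _ r.2) k.2
  have hKfg : K.FG := IsNoetherian.noetherian K
  obtain ⟨e₁, he₁, he₁K⟩ := Submodule.exists_mem_and_smul_eq_self_of_fg_of_le_smul J K hKfg hKJK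
  have hKP : K ≤ RingHom.ker (Bialgebra.counitAlgHom R C) * K := by
    intro x hx
    have hεI : counit (R := R) e₁ ∈ I := by
      have h1 := map_self_mem (counit (R := R) (A := C)) he₁
      exact h1
    have hu : IsUnit (1 - counit (R := R) e₁) := by
      have := Ideal.mem_jacobson_bot.1 (hIj hεI) (-1)
      rwa [mul_neg_one, neg_add_eq_sub] at this
    obtain ⟨v, hv⟩ := hu.exists_left_inv
    have hm : e₁ - algebraMap R C (counit (R := R) e₁) ∈ RingHom.ker (Bialgebra.counitAlgHom R C) := by
      simp [RingHom.mem_ker]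
    have h2 := Ideal.mul_mem_left _ (algebraMap R C v) (Ideal.mul_mem_mul hm hx)
    have h3 : algebraMap R C v * ((e₁ - algebraMap R C (counit (R := R) e₁)) * x) = x := by
      rw [sub_mul, show e₁ * x = x from he₁K x hx, ← one_sub_mul, ← mul_assoc,
        ← map_one (algebraMap R C), ← map_sub, ← map_mul, hv, map_one, one_mul]
    rwa [h3] at h2
  obtain ⟨e, he, heK⟩ := (Ideal.isIdempotentElem_iff_of_fg K hKfg).1 (isIdempotentElem_hopfIdeal K hKP)
  have heK' : K = Ideal.span {e} := heK
  refine ⟨e, he, hKJ (heK' ▸ Ideal.mem_span_singleton_self e), ?_⟩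
  have h4 : ∃ _ : K.IsHopfIdeal R, SGA3b.IsIsotrivial R (C ⧸ K) := ⟨hK, isIsotrivial_of_equiv eq hG⟩
  rw [heK'] at h4
  exact h4

end Groth.Agent.MultT
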