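import Groth.Agent.MultT.DescentLift
import Groth.Agent.MultT.NilIso
import Mathlib

/-! Quasi-isotrivial groups of multiplicative type of constant type lift along a nil ideal. -/

set_option autoImplicit false
set_option synthInstance.maxHeartbeats 400000

open TensorProduct MonoidAlgebra

universe u

noncomputable section

namespace Groth.Agent.MultT

variable {R : Type u} [CommRing R] {I : Ideal R} (hI : ∀ x ∈ I, IsNilpotent x)

include hI

theorem map_le_nil (T : Type u) [CommRing T] [Algebra R T] : I.map (algebraMap R T) ≤ nilradical T :=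
  Ideal.map_le_iff_le_comap.2 fun x hx => mem_nilradical.2 ((hI x hx).map _)

theorem map_le_jac (T : Type u) [CommRing T] [Algebra R T] : I.map (algebraMap R T) ≤ Ideal.jacobson ⊥ :=
  fun x hx => (Ideal.mem_jacobson_bot).2 fun y => IsNilpotent.isUnit_add_one (((mem_nilradical.1 (map_le_nil hI T hx))).map (RingHom.id T) |> fun h => (Commute.all x y).isNilpotent_mul_right h)

/-- Group-like elements lift along a nil ideal. -/
theorem exists_isGL_lift_nil {T : Type u} [CommRing T] [Algebra R T] {M : Type u} [CommGroup M]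
    (z₀ : MonoidAlgebra (T ⧸ I.map (algebraMap R T)) M) (h₀ : IsGL z₀) :
    ∃ z : MonoidAlgebra T M, IsGL z ∧
      mapAlgHom M (Ideal.Quotient.mkₐ R (I.map (algebraMap R T))) z = z₀ := by
  classical
  obtain ⟨ho, h1⟩ := (isGL_iff z₀).1 h₀
  let J := I.map (algebraMap R T)
  have hJ : J ≤ Ideal.jacobson ⊥ := map_le_jac hI T
  have hl : ∀ m, ∃ e : T, IsIdempotentElem e ∧ Ideal.Quotient.mk J e = z₀.coeff m ∧
      (z₀.coeff m = 0 → e = 0) := by
    intro m
    by_cases hm : z₀.coeff m = 0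
    · exact ⟨0, IsIdempotentElem.zero, by rw [map_zero, hm], fun _ => rfl⟩
    · obtain ⟨e, he, hee⟩ := exists_isIdempotentElem_eq_of_ker_isNilpotent (Ideal.Quotient.mk J)
        (fun x hx => mem_nilradical.1 (map_le_nil hI T (Ideal.Quotient.eq_zero_iff_mem.1 hx))) (z₀.coeff m) (Ideal.Quotient.mk_surjective _) (h₀.idem m)
      exact ⟨e, he, hee, fun h => absurd h hm⟩
  choose e he hee he0 using hl
  let z : MonoidAlgebra T M := MonoidAlgebra.ofCoeff (Finsupp.ofSupportFinite e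
    (z₀.coeff.support.finite_toSet.subset fun m hm => Finsupp.mem_support_iff.2 fun h => hm (he0 m h)))
  have hz : ∀ m, z.coeff m = e m := fun m => rfl
  have hmap : mapAlgHom M (Ideal.Quotient.mkₐ R J) z = z₀ := by
    ext m
    rw [coeff_mapAlgHom, hz]
    exact hee m
  have horth : ∀ m n, e m * e n = if m = n then e m else 0 := by
    intro m n
    by_cases hmn : m = n
    · subst hmn; rw [if_pos rfl]; exact he m
    · rw [if_neg hmn]
      refine Hensel.eq_of_idempotent hJ ((he m).mul (he n)) IsIdempotentElem.zero (Ideal.Quotient.eq.1 ?_)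
      rw [map_mul, hee, hee, ho, if_neg hmn, map_zero]
  refine ⟨z, (isGL_iff z).2 ⟨fun m n => by rw [hz, hz]; exact horth m n, ?_⟩, hmap⟩
  have haug : aug T M z = ∑ m ∈ z.coeff.support, e m := by
    conv_lhs => rw [← MonoidAlgebra.sum_coeff_single z]
    simp [Finsupp.sum, hz]
  refine Hensel.eq_of_idempotent hJ ?_ IsIdempotentElem.one (Ideal.Quotient.eq.1 ?_)
  · rw [haug, IsIdempotentElem, Finset.sum_mul_sum]
    simp only [horth, Finset.sum_ite_eq]
    exact Finset.sum_congr rfl fun m hm => if_pos hm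
  · rw [map_one, ← h1, ← hmap, aug_mapAlgHom]
    rfl


variable {S : Type u} [CommRing S] [Algebra R S] {S₀ : Type u} [CommRing S₀] [Algebra (R ⧸ I) S₀] [Algebra R S₀]
  [IsScalarTower R (R ⧸ I) S₀] {A₀ : Type u} [CommRing A₀] [HopfAlgebra (R ⧸ I) A₀] {M : Type u} [CommGroup M]
  (e₀ : (S₀ ⊗[R ⧸ I] A₀) ≃ₐc[S₀] MonoidAlgebra S₀ M)

theorem exists_compat_nil (π : S →ₐ[R] S₀) (hπ : Function.Surjective π)
    (hker : RingHom.ker π = I.map (algebraMap R S)) :
    ∃ χ : M →* MonoidAlgebra (S ⊗[R] S) M, (∀ m, IsGL (χ m)) ∧ Compat e₀ π χ := by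
  let J := I.map (algebraMap R (S ⊗[R] S))
  let T₀ := (S ⊗[R] S) ⧸ J
  have hT₀ : ∀ x ∈ I, algebraMap R T₀ x = 0 := quot_kills I (S ⊗[R] S)
  letI : Algebra (R ⧸ I) T₀ := quotAlgebra I T₀ hT₀
  haveI : IsScalarTower R (R ⧸ I) T₀ := .of_algebraMap_eq fun _ => rfl
  have hJ : J ≤ Ideal.jacobson ⊥ := map_le_jac hI (S ⊗[R] S)
  let mk : S ⊗[R] S →ₐ[R] T₀ := Ideal.Quotient.mkₐ R J
  obtain ⟨f₀, hf₀⟩ := exists_factor π hπ hker (mk.comp (iL R S))
  obtain ⟨g₀, hg₀⟩ := exists_factor π hπ hker (mk.comp (iR R S))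
  obtain ⟨χ₀, hgl₀, hχ₀⟩ := exists_trans e₀ f₀ g₀
  choose χ hgl hχ using fun m => exists_isGL_lift_nil hI (T := S ⊗[R] S) (χ₀ m) (hgl₀ m)
  have hmul : ∀ m n, χ (m * n) = χ m * χ n := fun m n =>
    IsGL.ext_mod (R := R) hJ (hgl _) ((hgl m).mul (hgl n)) (by rw [map_mul, hχ, hχ, hχ, map_mul])
  have hone : χ 1 = 1 := IsGL.ext_mod (R := R) hJ (hgl _) (by
    rw [MonoidAlgebra.one_def]; exact isGL_single 1) (by rw [hχ, map_one, map_one])
  refine ⟨{ toFun := χ, map_one' := hone, map_mul' := hmul }, hgl, ?_⟩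
  intro T _ _ _ _ f g a
  let φ : S ⊗[R] S →ₐ[R] T := Algebra.TensorProduct.lift ((f.restrictScalars R).comp π)
    ((g.restrictScalars R).comp π) fun _ _ => Commute.all _ _
  have hφ : ∀ x, x ∈ J → φ x = 0 := by
    intro x hx
    have : J ≤ RingHom.ker φ := by
      rw [Ideal.map_le_iff_le_comap]
      intro x hx
      show φ (algebraMap R _ x) = 0
      rw [AlgHom.commutes, IsScalarTower.algebraMap_apply R (R ⧸ I) T, Ideal.Quotient.algebraMap_eq,
        Ideal.Quotient.eq_zero_iff_mem.2 hx, map_zero]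
    exact this hx
  let φ₀ : T₀ →ₐ[R] T := Ideal.Quotient.liftₐ J φ hφ
  have hf : φ₀.comp (f₀.restrictScalars R) = f.restrictScalars R := AlgHom.ext fun s₀ => by
    obtain ⟨s, rfl⟩ := hπ s₀
    show φ₀ (f₀ (π s)) = f (π s)
    rw [hf₀]
    show φ (s ⊗ₜ 1) = _
    simp [φ]
  have hg : φ₀.comp (g₀.restrictScalars R) = g.restrictScalars R := AlgHom.ext fun s₀ => by
    obtain ⟨s, rfl⟩ := hπ s₀
    show φ₀ (g₀ (π s)) = g (π s)
    rw [hg₀]
    show φ ((1 : S) ⊗ₜ s) = _
    simp [φ]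
  have h1 : mapFam φ { toFun := χ, map_one' := hone, map_mul' := hmul } = mapFam φ₀ χ₀ := MonoidHom.ext fun m => by
    show mapAlgHom M φ (χ m) = mapAlgHom M φ₀ (χ₀ m)
    rw [← hχ m, mapAlgHom_mapAlgHom]
    rfl
  show act (mapFam φ _) _ = _
  rw [h1, ← hf, ← hg, ← mapAlgHom_mapAlgHom, ← mapAlgHom_mapAlgHom, ← mapAlgHom_act]
  congr 1
  exact hχ₀ a

theorem cocycle_nil (π : S →ₐ[R] S₀) (hπ : Function.Surjective π)
    (hker : RingHom.ker π = I.map (algebraMap R S)) (χ : M →* MonoidAlgebra (S ⊗[R] S) M)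
    (hgl : ∀ m, IsGL (χ m)) (hc : Compat e₀ π χ) (U : Type u) [CommRing U] [Algebra R U]
    (q0 q1 q2 : S →ₐ[R] U) (r01 r12 r02 : S ⊗[R] S →ₐ[R] U) (h01 : ∀ s t, r01 (s ⊗ₜ t) = q0 s * q1 t)
    (h12 : ∀ s t, r12 (s ⊗ₜ t) = q1 s * q2 t) (h02 : ∀ s t, r02 (s ⊗ₜ t) = q0 s * q2 t) (m : M) :
    act (mapFam r12 χ) (mapAlgHom M r01 (χ m)) = mapAlgHom M r02 (χ m) := by
  let J := I.map (algebraMap R U)
  letI : Algebra (R ⧸ I) (U ⧸ J) := quotAlgebra I (U ⧸ J) (quot_kills I U)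
  haveI : IsScalarTower R (R ⧸ I) (U ⧸ J) := .of_algebraMap_eq fun _ => rfl
  have hJ : J ≤ Ideal.jacobson ⊥ := map_le_jac hI U
  let mk : U →ₐ[R] U ⧸ J := Ideal.Quotient.mkₐ R J
  refine IsGL.ext_mod (R := R) hJ (IsGL.act (fun n => (hgl n).map _) ((hgl m).map _)) ((hgl m).map _) ?_
  refine (mapAlgHom_act mk _ _).trans ?_
  have hfam : mapFam mk (mapFam r12 χ) = mapFam (mk.comp r12) χ := MonoidHom.ext fun n =>
    mapAlgHom_mapAlgHom _ _ _
  rw [mapAlgHom_mapAlgHom, mapAlgHom_mapAlgHom]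
  show act (mapFam mk (mapFam r12 χ)) _ = _
  rw [hfam]
  exact compat_trans e₀ π hπ hker χ hc (U ⧸ J) (mk.comp q0) (mk.comp q1) (mk.comp q2)
    (mk.comp r01) (mk.comp r12) (mk.comp r02)
    (fun s t => by simp [h01]) (fun s t => by simp [h12]) (fun s t => by simp [h02]) m

theorem cocycle_of_compat_nil (π : S →ₐ[R] S₀) (hπ : Function.Surjective π)
    (hker : RingHom.ker π = I.map (algebraMap R S)) (χ : M →* MonoidAlgebra (S ⊗[R] S) M)
    (hgl : ∀ m, IsGL (χ m)) (hc : Compat e₀ π χ) (m : M) :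
    act (mapFam (p12 R S) χ) (mapAlgHom M (p01 R S) (χ m)) = mapAlgHom M (p02 R S) (χ m) := by
  exact cocycle_nil hI e₀ π hπ hker χ hgl hc (S ⊗[R] (S ⊗[R] S)) Algebra.TensorProduct.includeLeft
    ((p12 R S).comp (iL R S)) ((p12 R S).comp (iR R S)) (p01 R S) (p12 R S) (p02 R S)
    (fun s t => by simp) (fun s t => by simp) (fun s t => by simp) m

theorem norm_of_compat_nil (π : S →ₐ[R] S₀) (hker : RingHom.ker π = I.map (algebraMap R S))
    (χ : M →* MonoidAlgebra (S ⊗[R] S) M) (hgl : ∀ m, IsGL (χ m)) (hc : Compat e₀ π χ) (m : M) :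
    mapAlgHom M (Algebra.TensorProduct.lmul' R) (χ m) = single m (1 : S) := by
  have hJ : I.map (algebraMap R S) ≤ Ideal.jacobson ⊥ := map_le_jac hI S
  have hid : ((AlgHom.id (R ⧸ I) S₀).restrictScalars R).comp π = π := AlgHom.ext fun _ => rfl
  have key := trans_unique e₀ (f := AlgHom.id (R ⧸ I) S₀)
    (χ := mapFam (Algebra.TensorProduct.lift (((AlgHom.id (R ⧸ I) S₀).restrictScalars R).comp π)
      (((AlgHom.id (R ⧸ I) S₀).restrictScalars R).comp π) fun _ _ => Commute.all _ _) χ)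
    (χ' := MonoidAlgebra.of S₀ M) (fun a => by rw [act_of]; exact hc S₀ _ _ a)
  have h1 : Algebra.TensorProduct.lift (((AlgHom.id (R ⧸ I) S₀).restrictScalars R).comp π)
      (((AlgHom.id (R ⧸ I) S₀).restrictScalars R).comp π) (fun _ _ => Commute.all _ _) =
      π.comp (Algebra.TensorProduct.lmul' R) := Algebra.TensorProduct.ext' fun s t => by simp
  rw [h1] at key
  ext n
  refine Hensel.eq_of_idempotent hJ (((hgl m).map _).idem n) ((isGL_single m).idem n) ?_
  rw [← hker, RingHom.mem_ker, map_sub, sub_eq_zero]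
  have h2 := congrArg (fun z => z.coeff n) (DFunLike.congr_fun key m)
  simp only [mapFam, MonoidHom.comp_apply, RingHom.toMonoidHom_eq_coe, MonoidHom.coe_coe,
    AlgHom.toRingHom_eq_coe, RingHom.coe_coe, MonoidAlgebra.of_apply, MonoidAlgebra.coeff_mapAlgHom,
    AlgHom.comp_apply] at h2
  rw [coeff_mapAlgHom, h2, MonoidAlgebra.coeff_single, MonoidAlgebra.coeff_single]
  classical
  rw [Finsupp.single_apply, Finsupp.single_apply]
  split_ifs <;> simp


/-- A group diagonalised by an étale cover of the closed subscheme lifts along a nil ideal. -/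
theorem exists_quasiConst_lift (e₀ : (S₀ ⊗[R ⧸ I] A₀) ≃ₐc[S₀] MonoidAlgebra S₀ M) [Algebra.Etale (R ⧸ I) S₀] [Module.FaithfullyFlat (R ⧸ I) S₀] :
    ∃ (A : Type u) (_ : CommRing A) (_ : HopfAlgebra R A),
      SGA3b.IsQuasiIsotrivialConst R A ∧ Nonempty (((R ⧸ I) ⊗[R] A) ≃ₐc[R ⧸ I] A₀) := by
  obtain ⟨S, _, _, hSet, ⟨ε⟩⟩ := exists_etale_lift hI S₀
  haveI := hSet
  haveI : Module.Flat R S := Algebra.Smooth.flat R S
  let π : S →ₐ[R] S₀ := (ε.toAlgHom.restrictScalars R).comp (Ideal.Quotient.mkₐ R _)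
  have hπ : Function.Surjective π := ε.surjective.comp Ideal.Quotient.mk_surjective
  have hker : RingHom.ker π = I.map (algebraMap R S) := by
    ext x
    rw [RingHom.mem_ker, ← Ideal.Quotient.eq_zero_iff_mem]
    exact map_eq_zero_iff ε ε.injective
  haveI : Module.FaithfullyFlat R S := by
    refine Module.FaithfullyFlat.of_comap_surjective fun p => ?_
    have hp : I ≤ p.asIdeal := fun x hx => nilradical_le_prime p.asIdeal (hI x hx)
    let p₀ : PrimeSpectrum (R ⧸ I) := ⟨p.asIdeal.map (Ideal.Quotient.mk I),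
      Ideal.map_isPrime_of_surjective Ideal.Quotient.mk_surjective (by rwa [Ideal.mk_ker])⟩
    obtain ⟨Q, hQ⟩ := PrimeSpectrum.comap_surjective_of_faithfullyFlat (B := S₀) p₀
    refine ⟨PrimeSpectrum.comap π.toRingHom Q, PrimeSpectrum.ext ?_⟩
    show (Q.asIdeal.comap π.toRingHom).comap (algebraMap R S) = p.asIdeal
    rw [Ideal.comap_comap, show π.toRingHom.comp (algebraMap R S) =
      (algebraMap (R ⧸ I) S₀).comp (Ideal.Quotient.mk I) from RingHom.ext fun r =>
        (π.commutes r).trans (IsScalarTower.algebraMap_apply R (R ⧸ I) S₀ r), ← Ideal.comap_comap,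
      show Q.asIdeal.comap (algebraMap (R ⧸ I) S₀) = p₀.asIdeal from congrArg PrimeSpectrum.asIdeal hQ]
    exact (Ideal.comap_map_of_surjective' _ Ideal.Quotient.mk_surjective _).trans
      (sup_eq_left.2 (by rwa [Ideal.mk_ker]))
  obtain ⟨χ, hgl, hc⟩ := exists_compat_nil hI e₀ π hπ hker
  obtain ⟨A, _, _, e, he⟩ := exists_hopf χ hgl
    (counit_rho χ (norm_of_compat_nil hI e₀ π hker χ hgl hc))
    (coassoc_rho χ (cocycle_of_compat_nil hI e₀ π hπ hker χ hgl hc))
  exact ⟨A, inferInstance, inferInstance, ⟨S, inferInstance, inferInstance, hSet, inferInstance, M, inferInstance, ⟨e⟩⟩,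
    nonempty_reduction_equiv e₀ π χ hc e he⟩

end Groth.Agent.MultT
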