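import Groth.Agent.MultT.PiHopf
import Groth.Agent.MultT.BaseChange
import Mathlib

/-! Bialgebra isomorphisms glue over the factors of a finite decomposition of the base. -/

set_option autoImplicit false
set_option synthInstance.maxHeartbeats 400000

open TensorProduct

universe u

noncomputable section

namespace Groth.Agent.MultT.PiHopf

variable {R : Type u} [CommRing R] {ι : Type u} [Fintype ι] [DecidableEq ι] {e : ι → R}
  (he : CompleteOrthogonalIdempotents e) {K : ι → Type u} [∀ i, CommRing (K i)] [∀ i, Algebra R (K i)]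
  (hs : ∀ i, Function.Surjective (algebraMap R (K i)))
  (hk : ∀ i r, algebraMap R (K i) r = 0 ↔ e i * r = 0)

include he hs hk

omit [DecidableEq ι] in
/-- Elements agreeing over all factors agree. -/
theorem eq_of_forall_tmul {V : Type u} [AddCommGroup V] [Module R V] {v w : V}
    (h : ∀ i, (1 : K i) ⊗ₜ[R] v = (1 : K i) ⊗ₜ[R] w) : v = w := by
  have key : ∀ i, e i • v = e i • w := fun i => by
    obtain ⟨σ, hσ, -⟩ := exists_sec (he.idem i) (hs i) (hk i)
    have h1 : σ 1 = e i := by rw [← map_one (algebraMap R (K i)), hσ, mul_one]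
    simpa [h1] using congrArg (fun z => TensorProduct.lid R V (σ.rTensor V z)) (h i)
  rw [← one_smul R v, ← one_smul R w, ← he.complete, Finset.sum_smul, Finset.sum_smul]
  exact Finset.sum_congr rfl fun i _ => key i

omit [DecidableEq ι] in
theorem exists_glue {V : Type u} [AddCommGroup V] [Module R V] (y : ∀ i, K i ⊗[R] V) :
    ∃ v : V, ∀ i, (1 : K i) ⊗ₜ[R] v = y i := by
  classical
  have hy : ∀ i, ∃ v, (1 : K i) ⊗ₜ[R] v = y i := by
    intro i
    induction y i using TensorProduct.induction_on with
    | zero => exact ⟨0, TensorProduct.tmul_zero _ _⟩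
    | add a b ha hb =>
      obtain ⟨a, rfl⟩ := ha; obtain ⟨b, rfl⟩ := hb
      exact ⟨a + b, TensorProduct.tmul_add _ _ _⟩
    | tmul k v =>
      obtain ⟨r, rfl⟩ := hs i k
      exact ⟨r • v, by rw [TensorProduct.tmul_smul, TensorProduct.smul_tmul', Algebra.smul_def, mul_one]⟩
  choose f hf using hy
  refine ⟨∑ j, e j • f j, fun i => ?_⟩
  rw [TensorProduct.tmul_sum, Finset.sum_eq_single i ?_ (fun h => absurd (Finset.mem_univ i) h)]
  · rw [← TensorProduct.smul_tmul, Algebra.smul_def, algebraMap_idem he hk, one_mul, hf]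
  · intro j _ hj
    rw [← TensorProduct.smul_tmul, Algebra.smul_def, (hk i (e j)).2 (he.ortho hj.symm), zero_mul, TensorProduct.zero_tmul]

omit [DecidableEq ι] in
/-- Bialgebra isomorphisms over the factors glue. -/
theorem exists_equiv {C D : Type u} [CommRing C] [HopfAlgebra R C] [CommRing D] [HopfAlgebra R D]
    (θ : ∀ i, (K i ⊗[R] C) ≃ₐc[K i] (K i ⊗[R] D)) : Nonempty (C ≃ₐc[R] D) := by
  choose f hf using fun c : C => exists_glue he hs hk (V := D) (fun i => θ i ((1 : K i) ⊗ₜ c))
  have heq : ∀ {v w : D}, (∀ i, (1 : K i) ⊗ₜ[R] v = (1 : K i) ⊗ₜ[R] w) → v = w := eq_of_forall_tmul he hs hk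
  let ψ : C →ₐ[R] D :=
    { toFun := f
      map_one' := heq fun i => by
        rw [hf, ← Algebra.TensorProduct.one_def, ← Algebra.TensorProduct.one_def, map_one]
      map_mul' := fun a b => heq fun i => by
        have hm : ∀ (X : Type u) [CommRing X] [Algebra R X] (x y : X),
            (1 : K i) ⊗ₜ[R] (x * y) = ((1 : K i) ⊗ₜ[R] x) * ((1 : K i) ⊗ₜ[R] y) := fun X _ _ x y => by simp
        rw [hf, hm C, hm D, map_mul, hf, hf]
      map_zero' := heq fun i => by rw [hf]; simp
      map_add' := fun a b => heq fun i => by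
        rw [hf, TensorProduct.tmul_add, TensorProduct.tmul_add, map_add, hf, hf]
      commutes' := fun r => heq fun i => by
        have hm : ∀ (X : Type u) [CommRing X] [Algebra R X],
            (1 : K i) ⊗ₜ[R] algebraMap R X r = algebraMap (K i) (K i ⊗[R] X) (algebraMap R (K i) r) :=
          fun X _ _ => ((Algebra.TensorProduct.includeRight : X →ₐ[R] K i ⊗[R] X).commutes r).trans
            (IsScalarTower.algebraMap_apply R (K i) _ r)
        rw [hf, hm C, hm D, AlgHomClass.commutes] }
  have hψ : ∀ i c, θ i ((1 : K i) ⊗ₜ c) = (1 : K i) ⊗ₜ ψ c := fun i c => (hf c i).symm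
  have hbij : Function.Bijective ψ := by
    refine ⟨fun a b hab => eq_of_forall_tmul he hs hk fun i => (θ i).injective ?_, fun d => ?_⟩
    · show θ i ((1 : K i) ⊗ₜ a) = θ i ((1 : K i) ⊗ₜ b)
      rw [hψ, hψ, hab]
    · obtain ⟨c, hc⟩ := exists_glue he hs hk (V := C) (fun i => (θ i).symm ((1 : K i) ⊗ₜ d))
      exact ⟨c, heq fun i => by rw [← hψ, hc, BialgEquiv.apply_symm_apply]⟩
  refine ⟨BialgEquiv.ofBijective (BialgHom.ofAlgHom ψ (AlgHom.ext fun b => ?_) (AlgHom.ext fun b => ?_)) hbij⟩
  · refine eq_of_forall_tmul he hs hk fun i => ?_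
    apply (TensorProduct.rid R (K i)).injective
    have h1 := CoalgHomClass.counit_comp_apply (θ i) ((1 : K i) ⊗ₜ b)
    rw [hψ, TensorProduct.counit_tmul, TensorProduct.counit_tmul] at h1
    simpa [Algebra.smul_def] using h1
  · refine eq_of_forall_tmul he hs hk fun i => ?_
    apply (TensorProduct.AlgebraTensorModule.distribBaseChange R (K i) D D).injective
    show TensorProduct.AlgebraTensorModule.distribBaseChange R (K i) D D
        ((1 : K i) ⊗ₜ Algebra.TensorProduct.map ψ ψ (Coalgebra.comul b)) =
      TensorProduct.AlgebraTensorModule.distribBaseChange R (K i) D D ((1 : K i) ⊗ₜ Coalgebra.comul (ψ b))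
    have hd : ∀ (X : Type u) [CommRing X] [HopfAlgebra R X] (d : X),
        TensorProduct.AlgebraTensorModule.distribBaseChange R (K i) X X ((1 : K i) ⊗ₜ Coalgebra.comul d) =
          Coalgebra.comul (R := K i) ((1 : K i) ⊗ₜ[R] d) := by
      intro X _ _ d
      rw [TensorProduct.comul_tmul, CommSemiring.comul_apply]
      induction Coalgebra.comul (R := R) d using TensorProduct.induction_on with
      | zero => simp
      | add x y hx hy => simp only [TensorProduct.tmul_add, map_add, hx, hy]
      | tmul x y => simp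
    rw [hd D (ψ b), ← hψ, ← CoalgHomClass.map_comp_comul_apply, ← hd C b]
    induction Coalgebra.comul (R := R) b using TensorProduct.induction_on with
    | zero => simp
    | add x y hx hy => simp only [TensorProduct.tmul_add, map_add, hx, hy]
    | tmul x y =>
      simp only [Algebra.TensorProduct.map_tmul, TensorProduct.AlgebraTensorModule.distribBaseChange_tmul,
        TensorProduct.map_tmul]
      simp [hψ]

end Groth.Agent.MultT.PiHopf
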