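import Groth.Agent.MultT.HochApply
import Groth.Agent.MultT.Isotrivial
import Groth.Agent.MultT.SplitConn
import Groth.Agent.MultT.BaseChange
import Groth.Agent.Comod.FGSub
import Mathlib

/-! Lifting homomorphisms to smooth groups over adically complete Noetherian rings. -/

set_option autoImplicit false
set_option synthInstance.maxHeartbeats 400000
set_option synthInstance.maxSize 1024

open TensorProduct WithConv Coalgebra

universe u

namespace Groth.Agent.MultT

variable {R : Type u} [CommRing R]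

/-- Images of ideal multiples under linear maps to algebras over an extension. -/
theorem map_mem_map_tower {R' : Type u} [CommRing R'] [Algebra R R'] {V T : Type u} [CommRing V] [Algebra R V]
    [CommRing T] [Algebra R T] [Algebra R' T] [IsScalarTower R R' T] (g : V →ₗ[R] T) {K : Ideal R} {x : V}
    (hx : x ∈ K.map (algebraMap R V)) : g x ∈ (K.map (algebraMap R R')).map (algebraMap R' T) := by
  rw [Ideal.map_map, ← IsScalarTower.algebraMap_eq]
  exact map_mem_map g hx

theorem map_self_mem {K : Ideal R} {V : Type u} [CommRing V] [Algebra R V] (g : V →ₗ[R] R) {x : V}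
    (hx : x ∈ K.map (algebraMap R V)) : g x ∈ K := by
  have h := map_mem_map g hx
  rwa [Algebra.algebraMap_self, Ideal.map_id] at h

theorem tmul_sub_mem {T V : Type u} [CommRing T] [Algebra R T] [CommRing V] [Algebra R V] {K : Ideal R}
    {x x' : T} {y y' : V} (hx : x - x' ∈ K.map (algebraMap R T)) (hy : y - y' ∈ K.map (algebraMap R V)) :
    x ⊗ₜ[R] y - x' ⊗ₜ[R] y' ∈ K.map (algebraMap R (T ⊗[R] V)) := by
  rw [show x ⊗ₜ[R] y - x' ⊗ₜ[R] y' = (x - x') ⊗ₜ[R] y + x' ⊗ₜ[R] (y - y') by
    rw [TensorProduct.sub_tmul, TensorProduct.tmul_sub]; abel]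
  exact Ideal.add_mem _ (map_mem_map ((TensorProduct.mk R T V).flip y) hx)
    (map_mem_map (TensorProduct.mk R T V x') hy)

section complete

variable {I : Ideal R} {S : Type u} [CommRing S] [Algebra R S] [Module.Finite R S] [Module.Projective R S]

theorem exists_limit [IsAdicComplete I R] (s : ℕ → S)
    (hs : ∀ n, s (n + 1) - s n ∈ (I ^ (n + 1)).map (algebraMap R S)) :
    ∃ l, ∀ n, l - s n ∈ (I ^ (n + 1)).map (algebraMap R S) := by
  obtain ⟨N, f, g, -, -, hfg⟩ := Module.Finite.exists_comp_eq_id_of_projective R S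
  have hcau : ∀ i, ∀ {m n : ℕ}, m ≤ n → g (s m) i ≡ g (s n) i [SMOD (I ^ m • ⊤ : Submodule R R)] := by
    intro i m n hmn
    rw [SModEq.sub_mem, smul_eq_mul, Ideal.mul_top]
    induction n, hmn using Nat.le_induction with
    | base => simp
    | succ n hmn ih =>
      have h1 : g (s (n + 1) - s n) i ∈ I ^ m := Ideal.pow_le_pow_right (by omega)
        (map_self_mem ((LinearMap.proj i).comp g) (hs n))
      rw [map_sub, Pi.sub_apply] at h1
      simpa using Ideal.sub_mem _ ih h1
  choose L hL using fun i => IsPrecomplete.prec (IsAdicComplete.toIsPrecomplete (I := I) (M := R)) (hcau i)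
  have hw : ∀ n, f L - s n ∈ (I ^ n).map (algebraMap R S) := by
    intro n
    have h2 : f L - s n = ∑ i, (L i - g (s n) i) • f (Pi.single i 1) := by
      rw [show s n = f (g (s n)) from (LinearMap.congr_fun hfg (s n)).symm, ← map_sub]
      conv_lhs => rw [pi_eq_sum_univ' (L - g (s n))]
      rw [map_sum]
      refine Finset.sum_congr rfl fun i _ => ?_
      rw [map_smul, ← show g (s n) = g (f (g (s n))) from
        congrArg g (LinearMap.congr_fun hfg (s n)).symm]
      rfl
    rw [h2]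
    refine Ideal.sum_mem _ fun i _ => ?_
    rw [Algebra.smul_def]
    refine Ideal.mul_mem_right _ _ (Ideal.mem_map_of_mem _ ?_)
    have := hL i n
    rw [SModEq.sub_mem, smul_eq_mul, Ideal.mul_top] at this
    simpa using (Ideal.neg_mem_iff _).2 this
  exact ⟨f L, fun n => by simpa using Ideal.add_mem _ (hw (n + 1)) (hs n)⟩

theorem eq_zero_of_forall_mem [IsHausdorff I R] {x : S}
    (hx : ∀ n, x ∈ (I ^ n).map (algebraMap R S)) : x = 0 := by
  obtain ⟨N, f, g, -, hg, -⟩ := Module.Finite.exists_comp_eq_id_of_projective R S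
  refine hg (funext fun i => ?_)
  rw [map_zero, Pi.zero_apply]
  refine IsHausdorff.haus ‹IsHausdorff I R› _ fun n => ?_
  rw [SModEq.zero, smul_eq_mul, Ideal.mul_top]
  exact map_self_mem ((LinearMap.proj i).comp g) (hx n)

theorem exists_retraction [Module.FaithfullyFlat R S] : ∃ r : S →ₗ[R] R, r 1 = 1 := by
  obtain ⟨N, f, g, -, -, hfg⟩ := Module.Finite.exists_comp_eq_id_of_projective R S
  let K : Ideal R := LinearMap.range (LinearMap.applyₗ (R := R) (M₂ := R) (1 : S))
  have htop : K = ⊤ := by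
    by_contra h
    obtain ⟨m, hm, hle⟩ := Ideal.exists_le_maximal K h
    have h1 : (1 : S) ∈ m.map (algebraMap R S) := by
      have h2 : f (g 1) = 1 := LinearMap.congr_fun hfg 1
      rw [← h2, pi_eq_sum_univ' (g 1), map_sum]
      refine Ideal.sum_mem _ fun i _ => ?_
      rw [map_smul, Algebra.smul_def]
      exact Ideal.mul_mem_right _ _ (Ideal.mem_map_of_mem _ (hle ⟨(LinearMap.proj i).comp g, rfl⟩))
    refine hm.ne_top ((Ideal.eq_top_iff_one m).2 ?_)
    rw [← Ideal.comap_map_eq_self_of_faithfullyFlat (B := S) m, Ideal.mem_comap, map_one]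
    exact h1
  exact (Ideal.eq_top_iff_one K).1 htop

end complete

variable {A : Type u} [CommRing A] [HopfAlgebra R A] {C : Type u} [CommRing C] [HopfAlgebra R C]

/-- A function inducing a homomorphism modulo an ideal. -/
def HomMod (L : Ideal R) (h : C → A) : Prop :=
  ∃ φ : ((R ⧸ L) ⊗[R] C) →ₐc[R ⧸ L] ((R ⧸ L) ⊗[R] A), ∀ c, φ (1 ⊗ₜ c) = 1 ⊗ₜ h c

namespace HomMod

variable {L : Ideal R} {h : C → A} (H : HomMod L h)
include H

theorem map_add (x y : C) : h (x + y) - (h x + h y) ∈ L.map (algebraMap R A) := by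
  obtain ⟨φ, hφ⟩ := H
  rw [sub_mem_map_iff_tmul, ← hφ, TensorProduct.tmul_add, _root_.map_add, hφ, hφ, TensorProduct.tmul_add]

theorem map_smul (r : R) (x : C) : h (r • x) - r • h x ∈ L.map (algebraMap R A) := by
  obtain ⟨φ, hφ⟩ := H
  rw [sub_mem_map_iff_tmul, ← hφ, TensorProduct.tmul_smul, LinearMapClass.map_smul_of_tower, hφ,
    TensorProduct.tmul_smul]

theorem map_mul (x y : C) : h (x * y) - h x * h y ∈ L.map (algebraMap R A) := by
  obtain ⟨φ, hφ⟩ := H
  rw [sub_mem_map_iff_tmul, ← hφ,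
    show ((1 : R ⧸ L) ⊗ₜ[R] (x * y)) = ((1 : R ⧸ L) ⊗ₜ[R] x) * ((1 : R ⧸ L) ⊗ₜ[R] y) by simp,
    _root_.map_mul, hφ, hφ]
  simp

theorem map_one : h 1 - 1 ∈ L.map (algebraMap R A) := by
  obtain ⟨φ, hφ⟩ := H
  rw [sub_mem_map_iff_tmul, ← hφ, ← Algebra.TensorProduct.one_def, _root_.map_one,
    ← Algebra.TensorProduct.one_def]

theorem counit (x : C) : Coalgebra.counit (R := R) (h x) - Coalgebra.counit (R := R) x ∈ L := by
  obtain ⟨φ, hφ⟩ := H
  have h1 := CoalgHomClass.counit_comp_apply φ ((1 : R ⧸ L) ⊗ₜ[R] x)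
  rw [hφ, TensorProduct.counit_tmul, TensorProduct.counit_tmul, CommSemiring.counit_apply,
    Algebra.smul_def, Algebra.smul_def, mul_one, mul_one] at h1
  exact Ideal.Quotient.eq.1 h1

theorem comul (x : C) (s : Finset (C × C)) (hs : Coalgebra.comul (R := R) x = ∑ i ∈ s, i.1 ⊗ₜ i.2) :
    Coalgebra.comul (R := R) (h x) - ∑ i ∈ s, h i.1 ⊗ₜ h i.2 ∈ L.map (algebraMap R (A ⊗[R] A)) := by
  obtain ⟨φ, hφ⟩ := H
  rw [sub_mem_map_iff_tmul]
  apply (TensorProduct.AlgebraTensorModule.distribBaseChange R (R ⧸ L) A A).injective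
  rw [← LinearMap.baseChange_tmul, ← comul_eq_distrib, ← hφ, ← CoalgHomClass.map_comp_comul_apply φ,
    comul_eq_distrib, LinearMap.baseChange_tmul, hs, TensorProduct.tmul_sum, TensorProduct.tmul_sum,
    _root_.map_sum, _root_.map_sum, _root_.map_sum]
  exact Finset.sum_congr rfl fun i _ => by
    simp [hφ, TensorProduct.AlgebraTensorModule.distribBaseChange_tmul]

end HomMod

set_option backward.isDefEq.respectTransparency false in
/-- A lift of a homomorphism modulo an ideal is good. -/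
theorem good_of_homMod {L : Ideal R} {h : C → A} (H : HomMod L h) (R' : Type u) [CommRing R'] [Algebra R R']
    (ψ₀ : C →ₐ[R] R' ⊗[R] A)
    (hψ₀ : ∀ c, ψ₀ c - (1 : R') ⊗ₜ[R] h c ∈ (L.map (algebraMap R R')).map (algebraMap R' (R' ⊗[R] A))) :
    Good (L.map (algebraMap R R'))
      (Algebra.TensorProduct.lift (Algebra.ofId R' (R' ⊗[R] A)) ψ₀ fun _ _ => Commute.all _ _) := by
  let J : Ideal R' := L.map (algebraMap R R')
  let q : A →ₐ[R] R' ⊗[R] A := Algebra.TensorProduct.includeRight
  let ψ : R' ⊗[R] C →ₐ[R'] R' ⊗[R] A :=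
    Algebra.TensorProduct.lift (Algebra.ofId R' (R' ⊗[R] A)) ψ₀ fun _ _ => Commute.all _ _
  have hψ : ∀ c, ψ (1 ⊗ₜ c) = ψ₀ c := fun c => by simp [ψ, ← Algebra.TensorProduct.one_def]
  let d := TensorProduct.AlgebraTensorModule.distribBaseChange R R' A A
  show Good J ψ
  intro z
  induction z using TensorProduct.induction_on with
  | zero => simp
  | add a b ha hb => simp only [WithConv.ofConv_sub, LinearMap.sub_apply, map_add] at ha hb ⊢
                     convert Ideal.add_mem _ ha hb using 1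
  | tmul r c =>
    rw [show r ⊗ₜ[R] c = r • ((1 : R') ⊗ₜ[R] c) by rw [TensorProduct.smul_tmul', smul_eq_mul, mul_one],
      map_smul, Algebra.smul_def]
    refine Ideal.mul_mem_left _ _ ?_
    show lawQ ψ ((1 : R') ⊗ₜ[R] c) - lawP ψ ((1 : R') ⊗ₜ[R] c) ∈ J.map (algebraMap R' ((R' ⊗[R] A) ⊗[R'] (R' ⊗[R] A)))
    obtain ⟨s, hs⟩ := TensorProduct.exists_finset (comul (R := R) c)
    rw [lawP_apply, comul_eq_distrib, LinearMap.baseChange_tmul, hs, TensorProduct.tmul_sum, map_sum, map_sum]
    let JT : Ideal ((R' ⊗[R] A) ⊗[R'] (R' ⊗[R] A)) := J.map (algebraMap R' ((R' ⊗[R] A) ⊗[R'] (R' ⊗[R] A)))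
    have e1 : lawQ ψ ((1 : R') ⊗ₜ[R] c) - d ((1 : R') ⊗ₜ[R] comul (R := R) (h c)) ∈ JT := by
      rw [show lawQ ψ ((1 : R') ⊗ₜ[R] c) = comul (R := R') (ψ₀ c) by rw [← hψ]; rfl,
        show d ((1 : R') ⊗ₜ[R] comul (R := R) (h c)) = comul (R := R') (q (h c)) by
          rw [comul_eq_distrib]; rfl, ← map_sub]
      exact map_mem_map (comul (R := R')) (hψ₀ c)
    have e2 : d ((1 : R') ⊗ₜ[R] comul (R := R) (h c)) - ∑ i ∈ s, (q (h i.1)) ⊗ₜ[R'] (q (h i.2)) ∈
        JT := by
      let tl : A ⊗[R] A →ₗ[R] (R' ⊗[R] A) ⊗[R'] (R' ⊗[R] A) :=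
        (d.toLinearMap.restrictScalars R).comp (TensorProduct.mk R R' (A ⊗[R] A) 1)
      have h1 : ∑ i ∈ s, (q (h i.1)) ⊗ₜ[R'] (q (h i.2)) = tl (∑ i ∈ s, h i.1 ⊗ₜ h i.2) := by
        rw [map_sum]
        exact Finset.sum_congr rfl fun i _ => by
          simp [tl, d, q, TensorProduct.AlgebraTensorModule.distribBaseChange_tmul]
      rw [h1, show d ((1 : R') ⊗ₜ[R] comul (R := R) (h c)) = tl (comul (h c)) from rfl, ← map_sub]
      exact map_mem_map_tower (R' := R') tl (H.comul c s hs)
    have e3 : ∑ i ∈ s, (q (h i.1)) ⊗ₜ[R'] (q (h i.2)) -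
        ∑ i ∈ s, Algebra.TensorProduct.map ψ ψ (TensorProduct.AlgebraTensorModule.distribBaseChange R R' C C ((1 : R') ⊗ₜ[R] (i.1 ⊗ₜ[R] i.2))) ∈
        JT := by
      rw [← Finset.sum_sub_distrib]
      refine Ideal.sum_mem _ fun i _ => ?_
      rw [show Algebra.TensorProduct.map ψ ψ
          (TensorProduct.AlgebraTensorModule.distribBaseChange R R' C C ((1 : R') ⊗ₜ[R] (i.1 ⊗ₜ[R] i.2))) =
        ψ₀ i.1 ⊗ₜ[R'] ψ₀ i.2 by
          rw [TensorProduct.AlgebraTensorModule.distribBaseChange_tmul, Algebra.TensorProduct.map_tmul,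
            hψ, hψ]]
      exact tmul_sub_mem (by simpa [J, q] using (Ideal.neg_mem_iff _).2 (hψ₀ i.1))
        (by simpa [J, q] using (Ideal.neg_mem_iff _).2 (hψ₀ i.2))
    simpa using Ideal.add_mem _ (Ideal.add_mem _ e1 e2) e3

/-- A homomorphism modulo an ideal lifts modulo a nilpotent thickening. -/
theorem exists_homMod_step (hA : SGA3b.IsMultType R A) [Algebra.FormallySmooth R C] {L L' : Ideal R}
    (hle : L' ≤ L) (hsq : L * L ≤ L') {h : C → A} (H : HomMod L h) :
    ∃ h' : C → A, HomMod L' h' ∧ ∀ c, h' c - h c ∈ L.map (algebraMap R A) := by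
  let R' := R ⧸ L'
  let A' := R' ⊗[R] A
  let J : Ideal R' := L.map (algebraMap R R')
  let JA : Ideal A' := J.map (algebraMap R' A')
  let q : A →ₐ[R] A' := Algebra.TensorProduct.includeRight
  have hJ : IsNilpotent J := ⟨2, le_bot_iff.1 (by
    rw [pow_two, ← Ideal.map_mul]
    refine (Ideal.map_mono hsq).trans ?_
    rw [Ideal.Quotient.algebraMap_eq, Ideal.map_quotient_self])⟩
  have hJA : IsNilpotent JA := by
    obtain ⟨n, hn⟩ := hJ
    exact ⟨n, by rw [← Ideal.map_pow, hn, Ideal.zero_eq_bot, Ideal.map_bot]; rfl⟩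
  have hq : ∀ {a b : A}, a - b ∈ L.map (algebraMap R A) → q a - q b ∈ JA := fun {a b} hab => by
    rw [← map_sub]
    exact map_mem_map_tower (R' := R') q.toLinearMap hab
  let mk := Ideal.Quotient.mkₐ R JA
  have hmk : ∀ {a b : A}, a - b ∈ L.map (algebraMap R A) → mk (q a) = mk (q b) := fun hab =>
    Ideal.Quotient.eq.2 (hq hab)
  have hm1 : mk (q (h 1)) = 1 := (hmk H.map_one).trans (by rw [map_one, map_one])
  let g₀ : C →ₗ[R] A' ⧸ JA :=
    { toFun := fun c => mk (q (h c))
      map_add' := fun x y => (hmk (H.map_add x y)).trans (by rw [map_add, map_add])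
      map_smul' := fun r x => (hmk (H.map_smul r x)).trans (by rw [map_smul, map_smul, RingHom.id_apply]) }
  let g : C →ₐ[R] A' ⧸ JA := AlgHom.ofLinearMap g₀ hm1
    fun x y => (hmk (H.map_mul x y)).trans (by rw [map_mul, map_mul]; rfl)
  let ψ₀ := Algebra.FormallySmooth.lift JA hJA g
  have hψ₀ : ∀ c, ψ₀ c - q (h c) ∈ JA := fun c =>
    Ideal.Quotient.eq.1 (Algebra.FormallySmooth.mk_lift JA hJA g c)
  let ψ : R' ⊗[R] C →ₐ[R'] A' := Algebra.TensorProduct.lift (Algebra.ofId R' A') ψ₀ fun _ _ => Commute.all _ _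
  have hψ : ∀ c, ψ (1 ⊗ₜ c) = ψ₀ c := fun c => by simp [ψ, ← Algebra.TensorProduct.one_def]
  have hgood : Good J ψ := good_of_homMod H R' ψ₀ hψ₀
  obtain ⟨φ, hφ⟩ := exists_lift_of_good (isMultType_baseChange hA R') J hJ ψ hgood
  have hqs : Function.Surjective q := fun z => by
    induction z using TensorProduct.induction_on with
    | zero => exact ⟨0, map_zero _⟩
    | add a b ha hb =>
      obtain ⟨x, rfl⟩ := ha
      obtain ⟨y, rfl⟩ := hb
      exact ⟨x + y, map_add _ x y⟩
    | tmul r a =>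
      obtain ⟨r, rfl⟩ := Ideal.Quotient.mk_surjective r
      exact ⟨r • a, by
        show (1 : R') ⊗ₜ[R] (r • a) = _
        rw [TensorProduct.tmul_smul, TensorProduct.smul_tmul', Algebra.smul_def, mul_one]; rfl⟩
  choose h' hh' using fun c => hqs (φ ((1 : R') ⊗ₜ[R] c))
  refine ⟨h', ⟨φ, fun c => (hh' c).symm⟩, fun c => ?_⟩
  have h1 : q (h' c) - q (h c) ∈ JA := by
    rw [hh']
    have h2 := hφ ((1 : R') ⊗ₜ[R] c)
    rw [hψ] at h2
    simpa using Ideal.add_mem _ h2 (hψ₀ c)
  let π : A' →ₐ[R] (R ⧸ L) ⊗[R] A :=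
    Algebra.TensorProduct.map (Ideal.Quotient.factorₐ R hle) (AlgHom.id R A)
  have hπ : JA ≤ RingHom.ker π := by
    rw [show JA = L.map (algebraMap R A') by
      simp only [JA, J]; rw [Ideal.map_map, ← IsScalarTower.algebraMap_eq], Ideal.map_le_iff_le_comap]
    intro r hr
    rw [Ideal.mem_comap, RingHom.mem_ker, AlgHom.commutes, Algebra.TensorProduct.algebraMap_apply,
      Ideal.Quotient.algebraMap_eq, Ideal.Quotient.eq_zero_iff_mem.2 hr, TensorProduct.zero_tmul]
  rw [sub_mem_map_iff_tmul]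
  have h2 := hπ h1
  rw [RingHom.mem_ker, map_sub, sub_eq_zero] at h2
  have hπq : ∀ a : A, π (q a) = (1 : R ⧸ L) ⊗ₜ[R] a := fun a => by
    show Algebra.TensorProduct.map (Ideal.Quotient.factorₐ R hle) (AlgHom.id R A) ((1 : R') ⊗ₜ[R] a) = _
    rw [Algebra.TensorProduct.map_tmul, map_one, AlgHom.id_apply]
  rw [← hπq, ← hπq]
  exact h2

theorem mem_map_of_coeff {S : Type u} [CommRing S] [Algebra R S] {M : Type u} [CommGroup M] {K : Ideal R}
    {x : MonoidAlgebra S M} (h : ∀ m, x.coeff m ∈ K.map (algebraMap R S)) :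
    x ∈ K.map (algebraMap R (MonoidAlgebra S M)) := by
  rw [← MonoidAlgebra.sum_coeff_single x]
  refine Ideal.sum_mem _ fun m _ => ?_
  exact map_mem_map ((MonoidAlgebra.lsingle m : S →ₗ[S] MonoidAlgebra S M).restrictScalars R) (h m)

/-- Homomorphisms to smooth groups lift from the reduction over a complete Noetherian ring. -/
theorem exists_lift_adic [IsNoetherianRing R] (I : Ideal R) [IsAdicComplete I R]
    (hA : SGA3b.IsIsotrivial R A) [Algebra.Smooth R C] (h₀ : C → A) (H₀ : HomMod I h₀) :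
    ∃ φ : C →ₐc[R] A, ∀ c, φ c - h₀ c ∈ I.map (algebraMap R A) := by
  classical
  have hM : SGA3b.IsMultType R A := isMultType_of_isotrivial hA
  obtain ⟨S, _, _, het, hfin, hff, M, _, ⟨e⟩⟩ := hA
  let c : Chart R A := chartOfBaseChange e
  haveI : Module.Finite R c.S := hfin
  haveI : Module.FaithfullyFlat R c.S := hff
  haveI : Algebra.Etale R c.S := het
  haveI : Module.FinitePresentation R c.S := Module.FinitePresentation.of_finite_of_finitePresentation _ _
  haveI : Module.Projective R c.S := Module.Flat.projective_of_finitePresentation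
  -- the tower
  let st : ∀ n, {h : C → A // HomMod (I ^ (n + 1)) h} := fun n =>
    n.rec ⟨h₀, by show HomMod (I ^ 1) h₀; rw [pow_one]; exact H₀⟩ fun k hk =>
      ⟨(exists_homMod_step hM (Ideal.pow_le_pow_right (Nat.le_succ _))
        (by rw [← pow_add]; exact Ideal.pow_le_pow_right (by omega)) hk.2).choose,
      (exists_homMod_step hM (Ideal.pow_le_pow_right (Nat.le_succ _))
        (by rw [← pow_add]; exact Ideal.pow_le_pow_right (by omega)) hk.2).choose_spec.1⟩
  let h : ℕ → C → A := fun n => (st n).1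
  have H : ∀ n, HomMod (I ^ (n + 1)) (h n) := fun n => (st n).2
  have hstep : ∀ n x, h (n + 1) x - h n x ∈ (I ^ (n + 1)).map (algebraMap R A) := fun n x =>
    (exists_homMod_step hM (Ideal.pow_le_pow_right (Nat.le_succ _))
        (by rw [← pow_add]; exact Ideal.pow_le_pow_right (by omega)) (st n).2).choose_spec.2 x
  have hpow : ∀ (T : Type u) [CommRing T] [Algebra R T] (n : ℕ),
      (I ^ (n + 1)).map (algebraMap R T) ≤ (I ^ n).map (algebraMap R T) := fun T _ _ n =>
    Ideal.map_mono (Ideal.pow_le_pow_right (Nat.le_succ _))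
  have hcf : ∀ (m : c.M) n x, c.cf m (h (n + 1) x) - c.cf m (h n x) ∈
      (I ^ (n + 1)).map (algebraMap R c.S) := fun m n x => by
    rw [← map_sub]; exact map_mem_map (c.cf m).ofConv (hstep n x)
  choose F hF using fun (m : c.M) (x : C) => exists_limit (I := I) (fun n => c.cf m (h n x)) fun n => hcf m n x
  have hsep : ∀ {a b : c.S}, (∀ n, a - b ∈ (I ^ (n + 1)).map (algebraMap R c.S)) → a = b := fun hab =>
    sub_eq_zero.1 (eq_zero_of_forall_mem (I := I) fun n => hpow _ n (hab n))
  have Fadd : ∀ m x y, F m (x + y) = F m x + F m y := fun m x y => hsep fun n => by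
    have h1 := map_mem_map (c.cf m).ofConv ((H n).map_add x y)
    rw [map_sub, map_add] at h1
    rw [show F m (x + y) - (F m x + F m y) = (F m (x + y) - c.cf m (h n (x + y))) +
      (c.cf m (h n (x + y)) - (c.cf m (h n x) + c.cf m (h n y))) -
        (F m x - c.cf m (h n x)) - (F m y - c.cf m (h n y)) by ring]
    exact Ideal.sub_mem _ (Ideal.sub_mem _ (Ideal.add_mem _ (hF m (x + y) n) h1) (hF m x n)) (hF m y n)
  have Fsmul : ∀ m (r : R) x, F m (r • x) = r • F m x := fun m r x => hsep fun n => by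
    have h1 := map_mem_map (c.cf m).ofConv ((H n).map_smul r x)
    rw [map_sub, map_smul] at h1
    rw [show F m (r • x) - r • F m x = (F m (r • x) - c.cf m (h n (r • x))) +
      (c.cf m (h n (r • x)) - r • c.cf m (h n x)) - r • (F m x - c.cf m (h n x)) by rw [smul_sub]; ring]
    exact Ideal.sub_mem _ (Ideal.add_mem _ (hF m (r • x) n) h1)
      (by rw [Algebra.smul_def]; exact Ideal.mul_mem_left _ _ (hF m x n))
  let Fl : c.M → C →ₗ[R] c.S := fun m => { toFun := F m, map_add' := Fadd m, map_smul' := fun r x => Fsmul m r x }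
  have hFidem : ∀ (m : c.M) (x : C) (s : Finset (C × C)), comul (R := R) x = ∑ i ∈ s, i.1 ⊗ₜ i.2 →
      F m x = ∑ i ∈ s, F m i.1 * F m i.2 := fun m x s hs => hsep fun n => by
    have h1 := map_mem_map (LinearMap.mul' R c.S ∘ₗ TensorProduct.map (c.cf m).ofConv (c.cf m).ofConv)
      ((H n).comul x s hs)
    rw [map_sub, map_sum, LinearMap.comp_apply, ← LinearMap.convMul_apply, c.cf_mul_self] at h1
    simp only [LinearMap.comp_apply, TensorProduct.map_tmul, LinearMap.mul'_apply] at h1
    rw [show F m x - ∑ i ∈ s, F m i.1 * F m i.2 = (F m x - c.cf m (h n x)) +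
      (c.cf m (h n x) - ∑ i ∈ s, c.cf m (h n i.1) * c.cf m (h n i.2)) -
      ∑ i ∈ s, (F m i.1 * F m i.2 - c.cf m (h n i.1) * c.cf m (h n i.2)) by
        rw [Finset.sum_sub_distrib]; ring]
    refine Ideal.sub_mem _ (Ideal.add_mem _ (hF m x n) h1) (Ideal.sum_mem _ fun i _ => ?_)
    rw [show F m i.1 * F m i.2 - c.cf m (h n i.1) * c.cf m (h n i.2) =
      (F m i.1 - c.cf m (h n i.1)) * F m i.2 + c.cf m (h n i.1) * (F m i.2 - c.cf m (h n i.2)) by ring]
    exact Ideal.add_mem _ (Ideal.mul_mem_right _ _ (hF m i.1 n)) (Ideal.mul_mem_left _ _ (hF m i.2 n))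
  -- finiteness of supports
  have hfs : ∀ x : C, {m | F m x ≠ 0}.Finite := by
    intro x
    obtain ⟨W, hxW, hWfg, hW⟩ := Comod.exists_fg_stable (comul (R := R) (A := C)) Coalgebra.coassoc
      (LinearMap.ext fun v => by simp) (Submodule.span R {x}) (Submodule.fg_span_singleton x)
    obtain ⟨G, hG⟩ := hWfg
    have hex : ∀ v : G, ∃ s : Finset (C × C), (∀ i ∈ s, i.1 ∈ W) ∧ comul (R := R) (v : C) = ∑ i ∈ s, i.1 ⊗ₜ i.2 := by
      intro v
      obtain ⟨t, ht⟩ := hW v (hG ▸ Submodule.subset_span v.2)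
      obtain ⟨s, hs⟩ := TensorProduct.exists_finset t
      refine ⟨s.image fun i => ((i.1 : C), i.2), ?_, ?_⟩
      · intro i hi
        obtain ⟨j, -, rfl⟩ := Finset.mem_image.1 hi
        exact j.1.2
      · have hinjOn : Set.InjOn (fun i : W × C => ((i.1 : C), i.2)) ↑s := fun i _ j _ hij =>
          Prod.ext (Subtype.ext (Prod.ext_iff.1 hij).1) (Prod.ext_iff.1 hij).2
        rw [← ht, hs, map_sum, Finset.sum_image hinjOn]
        simp
    choose s hsW hs using hex
    let Ω : Set c.M := ↑(Finset.univ.biUnion fun v : G => (s v).biUnion fun i => (c.j (h 0 i.2)).coeff.support)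
    have hΩ : ∀ m ∉ Ω, ∀ w ∈ W, F m w = 0 := by
      intro m hm
      let K : Ideal c.S := Ideal.span ((Fl m) '' (W : Set C))
      let IS := I.map (algebraMap R c.S)
      have hK : K ≤ IS * K := by
        refine Ideal.span_le.2 ?_
        rintro _ ⟨w, hw, rfl⟩
        rw [SetLike.mem_coe, ← hG] at hw
        induction hw using Submodule.span_induction with
        | mem v hv =>
          show F m v ∈ IS * K
          rw [hFidem m v _ (hs ⟨v, hv⟩)]
          refine Ideal.sum_mem _ fun i hi => ?_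
          rw [mul_comm (F m i.1)]
          refine Ideal.mul_mem_mul ?_ (Ideal.subset_span ⟨i.1, hsW _ i hi, rfl⟩)
          have h0 : c.cf m (h 0 i.2) = 0 := Finsupp.notMem_support_iff.1 fun hmem =>
            hm (Finset.mem_coe.2 (Finset.mem_biUnion.2 ⟨⟨v, hv⟩, Finset.mem_univ _,
              Finset.mem_biUnion.2 ⟨i, hi, hmem⟩⟩))
          have h1 := hF m i.2 0
          rw [show c.cf m (h 0 i.2) = 0 from h0, sub_zero, zero_add, pow_one] at h1
          exact h1
        | zero => rw [map_zero]; exact zero_mem _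
        | add a b _ _ ha hb => rw [map_add]; exact Ideal.add_mem _ ha hb
        | smul r a _ ha => rw [map_smul, Algebra.smul_def]; exact Ideal.mul_mem_left _ _ ha
      have hKn : ∀ n : ℕ, K ≤ IS ^ n := by
        intro n
        induction n with
        | zero => simp
        | succ n ih => exact hK.trans ((Ideal.mul_mono_right ih).trans (pow_succ' IS n).ge)
      intro w hw
      refine eq_zero_of_forall_mem (I := I) fun n => ?_
      rw [Ideal.map_pow]
      exact hKn n (Ideal.subset_span ⟨w, hw, rfl⟩)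
    refine (Finset.univ.biUnion fun v : G =>
      (s v).biUnion fun i => (c.j (h 0 i.2)).coeff.support).finite_toSet.subset fun m hm => ?_
    by_contra hmΩ
    exact hm (hΩ m hmΩ x (hxW (Submodule.mem_span_singleton_self x)))
  let Z₀ : C → MonoidAlgebra c.S c.M := fun x =>
    MonoidAlgebra.ofCoeff (Finsupp.ofSupportFinite (fun m => F m x) (hfs x))
  have hZ : ∀ x n, Z₀ x - c.j (h n x) ∈ (I ^ (n + 1)).map (algebraMap R (MonoidAlgebra c.S c.M)) :=
    fun x n => mem_map_of_coeff fun m => hF m x n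
  have hsepM : ∀ {a b : MonoidAlgebra c.S c.M},
      (∀ n, a - b ∈ (I ^ (n + 1)).map (algebraMap R (MonoidAlgebra c.S c.M))) → a = b := fun {a b} hab =>
    cfM_ext fun m => hsep fun n => by
      rw [← map_sub]
      exact map_mem_map ((cfM c.S m).restrictScalars R) (hab n)
  let rr := Classical.choose (exists_retraction (R := R) (S := c.S))
  have hrr : rr 1 = 1 := Classical.choose_spec (exists_retraction (R := R) (S := c.S))
  let r' : c.S ⊗[R] A →ₗ[R] A := (TensorProduct.lid R A).toLinearMap ∘ₗ rr.rTensor A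
  let f : C → A := fun x => r' (c.linEquiv.symm (Z₀ x))
  have hf : ∀ x n, f x - h n x ∈ (I ^ (n + 1)).map (algebraMap R A) := by
    intro x n
    have h1 : h n x = r' (c.linEquiv.symm (c.j (h n x))) := by
      rw [show c.j (h n x) = c.linEquiv ((1 : c.S) ⊗ₜ h n x) by rw [Chart.linEquiv_tmul, one_smul],
        LinearEquiv.symm_apply_apply]
      simp [r', hrr]
    rw [h1]
    show r' _ - r' _ ∈ _
    rw [← map_sub, ← map_sub]
    exact map_mem_map (r'.comp (c.linEquiv.symm.toLinearMap.restrictScalars R)) (hZ x n)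
  have hinj : ∀ {a : A}, (1 : c.S) ⊗ₜ[R] a = 0 → a = 0 := fun {a} ha =>
    Module.FaithfullyFlat.tensorProduct_mk_injective (A := R) (B := c.S) A (by
      rw [TensorProduct.mk_apply, ha, map_zero])
  have hjinj : ∀ {a b : A}, c.j a = c.j b → a = b := fun {a b} hab => sub_eq_zero.1 (hinj (c.bij.1 (by
    rw [LinearMap.liftBaseChange_tmul, one_smul, map_zero]
    show c.j (a - b) = 0
    rw [map_sub, hab, sub_self])))
  have hjf : ∀ x, c.j (f x) = Z₀ x := fun x => hsepM fun n => by
    rw [show c.j (f x) - Z₀ x = c.j (f x - h n x) - (Z₀ x - c.j (h n x)) by rw [map_sub]; ring]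
    exact Ideal.sub_mem _ (map_mem_map c.j.toLinearMap (hf x n)) (hZ x n)
  have heqA : ∀ {a b : A}, (∀ n, a - b ∈ (I ^ (n + 1)).map (algebraMap R A)) → a = b := fun hab =>
    hjinj (hsepM fun n => by rw [← map_sub]; exact map_mem_map c.j.toLinearMap (hab n))
  have fmul : ∀ x y, f (x * y) = f x * f y := fun x y => heqA fun n => by
    rw [show f (x * y) - f x * f y = (f (x * y) - h n (x * y)) + (h n (x * y) - h n x * h n y) -
      ((f x - h n x) * f y + h n x * (f y - h n y)) by ring]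
    exact Ideal.sub_mem _ (Ideal.add_mem _ (hf _ n) ((H n).map_mul x y))
      (Ideal.add_mem _ (Ideal.mul_mem_right _ _ (hf x n)) (Ideal.mul_mem_left _ _ (hf y n)))
  have fone : f 1 = 1 := heqA fun n => by
    simpa using Ideal.add_mem _ (hf 1 n) (H n).map_one
  have fadd : ∀ x y, f (x + y) = f x + f y := fun x y => heqA fun n => by
    rw [show f (x + y) - (f x + f y) = (f (x + y) - h n (x + y)) + (h n (x + y) - (h n x + h n y)) -
      ((f x - h n x) + (f y - h n y)) by ring]
    exact Ideal.sub_mem _ (Ideal.add_mem _ (hf _ n) ((H n).map_add x y)) (Ideal.add_mem _ (hf x n) (hf y n))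
  have fsmul : ∀ (r : R) x, f (r • x) = r • f x := fun r x => heqA fun n => by
    rw [show f (r • x) - r • f x = (f (r • x) - h n (r • x)) + (h n (r • x) - r • h n x) -
      r • (f x - h n x) by rw [smul_sub]; ring]
    exact Ideal.sub_mem _ (Ideal.add_mem _ (hf _ n) ((H n).map_smul r x))
      (by rw [Algebra.smul_def]; exact Ideal.mul_mem_left _ _ (hf x n))
  let φ : C →ₐ[R] A := AlgHom.ofLinearMap { toFun := f, map_add' := fadd, map_smul' := fsmul } fone fmul
  refine ⟨BialgHom.ofAlgHom φ (AlgHom.ext fun x => ?_) (AlgHom.ext fun x => ?_), fun x => ?_⟩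
  · show counit (f x) = counit x
    rw [← sub_eq_zero]
    refine IsHausdorff.haus (IsAdicComplete.toIsHausdorff (I := I) (M := R)) _ fun n => ?_
    rw [SModEq.zero, smul_eq_mul, Ideal.mul_top]
    refine Ideal.pow_le_pow_right (Nat.le_succ n) ?_
    have h1 := map_self_mem (counit (R := R) (A := A)) (hf x n)
    rw [map_sub] at h1
    simpa using Ideal.add_mem _ h1 ((H n).counit x)
  · show Algebra.TensorProduct.map φ φ (comul x) = comul (f x)
    obtain ⟨s, hs⟩ := TensorProduct.exists_finset (comul (R := R) x)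
    rw [hs, map_sum]
    simp only [Algebra.TensorProduct.map_tmul]
    have hdiff : ∀ n, (∑ i ∈ s, f i.1 ⊗ₜ[R] f i.2) - comul (f x) ∈
        (I ^ (n + 1)).map (algebraMap R (A ⊗[R] A)) := fun n => by
      have h1 : (∑ i ∈ s, f i.1 ⊗ₜ[R] f i.2) - ∑ i ∈ s, h n i.1 ⊗ₜ[R] h n i.2 ∈
          (I ^ (n + 1)).map (algebraMap R (A ⊗[R] A)) := by
        rw [← Finset.sum_sub_distrib]
        exact Ideal.sum_mem _ fun i _ => tmul_sub_mem (hf i.1 n) (hf i.2 n)
      have h3 : comul (f x) - comul (h n x) ∈ (I ^ (n + 1)).map (algebraMap R (A ⊗[R] A)) := by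
        rw [← map_sub]; exact map_mem_map (comul (R := R)) (hf x n)
      convert Ideal.sub_mem _ (Ideal.sub_mem _ h1 h3) ((H n).comul x s hs) using 1
      abel
    show ∑ i ∈ s, f i.1 ⊗ₜ[R] f i.2 = comul (f x)
    rw [← sub_eq_zero]
    apply Module.FaithfullyFlat.tensorProduct_mk_injective (A := R) (B := c.S) (A ⊗[R] A)
    let Φ := (TensorProduct.AlgebraTensorModule.distribBaseChange R c.S A A).trans
      (TensorProduct.congr c.linEquiv c.linEquiv)
    let b := MonoidAlgebra.basis c.M c.S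
    apply Φ.injective
    apply (b.tensorProduct b).repr.injective
    refine Finsupp.ext fun ln => ?_
    obtain ⟨l, k⟩ := ln
    rw [map_zero, map_zero, map_zero, Finsupp.zero_apply, TensorProduct.mk_apply]
    refine eq_zero_of_forall_mem (I := I) fun n => hpow _ n ?_
    exact map_mem_map ((((Finsupp.lapply (l, k)).comp (b.tensorProduct b).repr.toLinearMap).comp
      Φ.toLinearMap).restrictScalars R |>.comp (TensorProduct.mk R c.S (A ⊗[R] A) 1)) (hdiff n)
  · have h1 := hf x 0
    rw [zero_add, pow_one] at h1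
    exact h1

end Groth.Agent.MultT
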