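import Groth.Agent.MultT.Rigid
import Mathlib.RingTheory.FiniteType
import Mathlib.RingTheory.TensorProduct.Finite
import Mathlib.GroupTheory.Torsion
import Mathlib.GroupTheory.FiniteAbelian.Basic
import Mathlib.GroupTheory.OrderOfElement
import Mathlib.GroupTheory.Finiteness
import Mathlib.LinearAlgebra.FreeModule.Finite.Basic

/-!
# Power maps of groups of multiplicative type; finiteness
-/

universe u

open TensorProduct WithConv

noncomputable section

namespace Groth.Agent.MultT

variable {R : Type u} [CommRing R] {A : Type u} [CommRing A] [HopfAlgebra R A] (c : Chart R A)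

/-- The endomorphism of the group algebra induced by a monoid endomorphism. -/
def Chart.mapD (f : c.M →* c.M) : MonoidAlgebra c.S c.M →ₐ[R] MonoidAlgebra c.S c.M :=
  (MonoidAlgebra.mapDomainAlgHom c.S c.S f).restrictScalars R

theorem Chart.mapD_single (f : c.M →* c.M) (l : c.M) (s : c.S) :
    c.mapD f (MonoidAlgebra.single l s) = MonoidAlgebra.single (f l) s := by
  simp [Chart.mapD]

theorem Chart.mapD_mul (f g : c.M →* c.M) :
    toConv ((c.mapD f).comp c.j) * toConv ((c.mapD g).comp c.j) =
      toConv ((c.mapD (f * g)).comp c.j) := by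
  classical
  refine WithConv.ext (AlgHom.ext fun x => ?_)
  rw [AlgHom.convMul_apply]
  let r := Coalgebra.Repr.arbitrary R x
  let F : Finset c.M := (c.j x).coeff.support ∪
    (r.index.biUnion fun i => (c.j (r.left i)).coeff.support ∪ (c.j (r.right i)).coeff.support)
  have hexp : ∀ y : MonoidAlgebra c.S c.M, y.coeff.support ⊆ F →
      y = ∑ l ∈ F, MonoidAlgebra.single l (cfM c.S l y) := by
    intro y hy
    conv_lhs => rw [← MonoidAlgebra.sum_coeff_single y]
    exact Finset.sum_subset hy (fun l _ hl => by simp [Finsupp.notMem_support_iff.mp hl])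
  rw [← r.eq, map_sum]
  simp only [Algebra.TensorProduct.lift_tmul, ofConv_toConv, AlgHom.comp_apply]
  calc ∑ i ∈ r.index, c.mapD f (c.j (r.left i)) * c.mapD g (c.j (r.right i))
      = ∑ i ∈ r.index, ∑ l ∈ F, ∑ n ∈ F,
          MonoidAlgebra.single (f l * g n) (c.cf l (r.left i) * c.cf n (r.right i)) := by
        refine Finset.sum_congr rfl fun i hi => ?_
        conv_lhs => rw [hexp (c.j (r.left i)) ((Finset.subset_union_left.trans
            (Finset.subset_biUnion_of_mem (fun i => (c.j (r.left i)).coeff.support ∪
              (c.j (r.right i)).coeff.support) hi)).trans Finset.subset_union_right),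
          hexp (c.j (r.right i)) ((Finset.subset_union_right.trans
            (Finset.subset_biUnion_of_mem (fun i => (c.j (r.left i)).coeff.support ∪
              (c.j (r.right i)).coeff.support) hi)).trans Finset.subset_union_right),
          map_sum, map_sum, Finset.sum_mul_sum]
        simp [c.mapD_single, c.cf_apply]
    _ = ∑ l ∈ F, ∑ n ∈ F, MonoidAlgebra.single (f l * g n) ((c.cf l * c.cf n) x) := by
        rw [Finset.sum_comm]
        refine Finset.sum_congr rfl fun l _ => ?_
        rw [Finset.sum_comm]
        refine Finset.sum_congr rfl fun n _ => ?_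
        rw [r.convMul_apply]
        exact (map_sum (MonoidAlgebra.lsingle (R := c.S) (f l * g n)) _ _).symm
    _ = ∑ l ∈ F, MonoidAlgebra.single ((f * g) l) (c.cf l x) := by
        refine Finset.sum_congr rfl fun l hl => ?_
        rw [Finset.sum_eq_single_of_mem l hl, c.cf_mul_self, MonoidHom.mul_apply]
        intro n _ hn
        rw [c.cf_mul_ne (Ne.symm hn)]
        simp
    _ = c.mapD (f * g) (c.j x) := by
        conv_rhs => rw [hexp (c.j x) Finset.subset_union_left, map_sum]
        simp [c.mapD_single, c.cf_apply]

theorem Chart.mapD_one_comp :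
    toConv ((c.mapD 1).comp c.j) = 1 := by
  classical
  refine WithConv.ext (AlgHom.ext fun x => ?_)
  rw [AlgHom.convOne_apply]
  show c.mapD 1 (c.j x) = _
  conv_lhs => rw [← MonoidAlgebra.sum_coeff_single (c.j x)]
  rw [map_finsuppSum]
  simp only [c.mapD_single, MonoidHom.one_apply]
  rw [MonoidAlgebra.coe_algebraMap, Function.comp_apply, ← c.total x, Finsupp.sum, Finsupp.sum]
  exact (map_sum (MonoidAlgebra.lsingle (R := c.S) (1 : c.M)) _ _).symm

theorem Chart.mapD_id_comp : (c.mapD (MonoidHom.id c.M)).comp c.j = c.j := by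
  refine AlgHom.ext fun x => ?_
  simp [Chart.mapD]

/-- The power map in a chart. -/
theorem Chart.j_powConv (n : ℕ) :
    c.j.comp (SGA3b.powConv R A n) = (c.mapD (powMonoidHom n)).comp c.j := by
  suffices h : toConv (c.j.comp ((toConv (AlgHom.id R A)) ^ n).ofConv) =
      toConv ((c.mapD (powMonoidHom n)).comp c.j) from congrArg WithConv.ofConv h
  induction n with
  | zero =>
    rw [pow_zero, show (powMonoidHom 0 : c.M →* c.M) = 1 from MonoidHom.ext fun l => pow_zero l,
      c.mapD_one_comp]
    exact WithConv.ext (AlgHom.ext fun x => c.j.commutes _)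
  | succ n ih =>
    rw [pow_succ, AlgHom.comp_convMul_distrib, toConv_ofConv, ih, ofConv_toConv, AlgHom.comp_id,
      show (powMonoidHom (n + 1) : c.M →* c.M) = powMonoidHom n * MonoidHom.id c.M from
        MonoidHom.ext fun l => pow_succ l n, ← c.mapD_mul, c.mapD_id_comp]

theorem torsionIdeal_eq_bot_iff (n : ℕ) :
    SGA3b.torsionIdeal R A n = ⊥ ↔
      ∀ a, SGA3b.powConv R A n a = algebraMap R A (Coalgebra.counit (R := R) a) := by
  constructor
  · intro h a
    have hmem : SGA3b.powConv R A n (a - algebraMap R A (Coalgebra.counit (R := R) a)) ∈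
        SGA3b.torsionIdeal R A n := Ideal.mem_map_of_mem _ (by simp [RingHom.mem_ker])
    rw [h, Ideal.mem_bot, map_sub, AlgHom.commutes, sub_eq_zero] at hmem
    exact hmem
  · intro h
    rw [SGA3b.torsionIdeal, eq_bot_iff, Ideal.map_le_iff_le_comap]
    intro a ha
    rw [RingHom.mem_ker, Bialgebra.counitAlgHom_apply] at ha
    show SGA3b.powConv R A n a = 0
    rw [h, ha, map_zero]

/-- Group algebras: finite iff the group is finite. -/
theorem Chart.finite_group [Nontrivial c.S] [Module.Finite R A] : Finite c.M := by
  have : Module.Finite c.S (MonoidAlgebra c.S c.M) :=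
    Module.Finite.of_surjective (c.j.toLinearMap.liftBaseChange c.S) c.bij.2
  exact Module.Finite.finite_basis (MonoidAlgebra.basis c.M c.S)

theorem Chart.card_le [Nontrivial c.S] {d : ℕ} (f : (Fin d → R) →ₗ[R] A) (hf : Function.Surjective f) :
    Nat.card c.M ≤ d := by
  have : Module.Finite R A := Module.Finite.of_surjective f hf
  have := c.finite_group
  have : Fintype c.M := Fintype.ofFinite _
  let g : (Fin d → c.S) →ₗ[c.S] MonoidAlgebra c.S c.M :=
    (Pi.basisFun c.S (Fin d)).constr c.S fun i => c.j (f (Pi.basisFun R (Fin d) i))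
  have hg : Function.Surjective g := by
    intro y
    obtain ⟨w, rfl⟩ := c.bij.2 y
    induction w using TensorProduct.induction_on with
    | zero => exact ⟨0, by simp⟩
    | add a b ha hb =>
      obtain ⟨x, hx⟩ := ha
      obtain ⟨y, hy⟩ := hb
      exact ⟨x + y, by rw [map_add, map_add, hx, hy]⟩
    | tmul s a =>
      obtain ⟨v, rfl⟩ := hf a
      refine ⟨s • fun i => algebraMap R c.S (v i), ?_⟩
      rw [map_smul, LinearMap.liftBaseChange_tmul]
      congr 1
      conv_rhs => rw [← (Pi.basisFun R (Fin d)).sum_repr v]
      simp [g, Module.Basis.constr_apply_fintype, Pi.basisFun_repr]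
  have h := LinearMap.finrank_range_le g
  rw [LinearMap.range_eq_top.mpr hg, finrank_top, Module.finrank_fintype_fun_eq_card, Fintype.card_fin,
    Module.finrank_eq_card_basis (MonoidAlgebra.basis c.M c.S), ← Nat.card_eq_fintype_card] at h
  exact h

/-- A finite group of multiplicative type is killed by a positive integer. -/
theorem exists_torsion_of_finite (hA : SGA3b.IsMultType R A) [Module.Finite R A] :
    ∃ n : ℕ, 0 < n ∧ SGA3b.torsionIdeal R A n = ⊥ := by
  obtain ⟨d, f, hf⟩ := Module.Finite.exists_fin' R A
  refine ⟨d.factorial, Nat.factorial_pos d, (torsionIdeal_eq_bot_iff _).mpr fun a =>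
    eq_of_forall_chart hA fun c _ => ?_⟩
  rcases subsingleton_or_nontrivial c.S with hS | hS
  · have : Subsingleton (MonoidAlgebra c.S c.M) :=
      ⟨fun x y => cfM_ext fun m => Subsingleton.elim _ _⟩
    exact Subsingleton.elim _ _
  have := Module.Finite.of_surjective f hf
  have := c.finite_group
  have hn : (powMonoidHom d.factorial : c.M →* c.M) = 1 := MonoidHom.ext fun l => by
    rw [powMonoidHom_apply, MonoidHom.one_apply]
    exact orderOf_dvd_iff_pow_eq_one.mp ((orderOf_dvd_natCard l).trans (Nat.dvd_factorial Nat.card_pos (c.card_le f hf)))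
  have h := AlgHom.congr_fun (c.j_powConv d.factorial) a
  rw [AlgHom.comp_apply, hn, AlgHom.comp_apply] at h
  rw [h, c.j.commutes]
  exact congr($(c.mapD_one_comp).ofConv a)

/-- A group of multiplicative type of finite type killed by a positive integer is finite. -/
theorem finite_of_torsion (hA : SGA3b.IsMultType R A) [Algebra.FiniteType R A] {n : ℕ} (hn : 0 < n)
    (htor : SGA3b.torsionIdeal R A n = ⊥) : Module.Finite R A := by
  classical
  rw [torsionIdeal_eq_bot_iff] at htor
  obtain ⟨ι, _, c, hflat, hcov⟩ := exists_finite_charts hA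
  have hfin : ∀ i, ∃ F : Finset A, Submodule.span (c i).S ((c i).j '' (F : Set A)) = ⊤ := by
    intro i
    have hfin : Module.Finite (c i).S (MonoidAlgebra (c i).S (c i).M) := by
      rcases subsingleton_or_nontrivial (c i).S with hS | hS
      · exact ⟨⟨∅, Subsingleton.elim _ _⟩⟩
      have hbij := (c i).bij
      have hFT : Algebra.FiniteType (c i).S (MonoidAlgebra (c i).S (c i).M) := by
        let g : (c i).S ⊗[R] A →ₐ[(c i).S] MonoidAlgebra (c i).S (c i).M :=
          Algebra.TensorProduct.lift (Algebra.ofId _ _) (c i).j fun _ _ => Commute.all _ _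
        have hg : ∀ z, g z = (c i).j.toLinearMap.liftBaseChange (c i).S z := by
          intro z
          induction z using TensorProduct.induction_on with
          | zero => simp
          | add a b ha hb => rw [map_add, map_add, ha, hb]
          | tmul s a => simp [g, Algebra.smul_def, Algebra.ofId_apply]
        exact Algebra.FiniteType.of_surjective g (fun y => by
          obtain ⟨z, hz⟩ := hbij.2 y
          exact ⟨z, (hg z).trans hz⟩)
      have hfg : Monoid.FG (c i).M := MonoidAlgebra.finiteType_iff_fg.mp hFT
      have hfg' : Group.FG (c i).M := Group.fg_iff_monoid_fg.mpr hfg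
      have hpow : ∀ l : (c i).M, l ^ n = 1 := by
        intro l
        obtain ⟨w, hw⟩ := hbij.2 (MonoidAlgebra.single l 1)
        have h1 : ∀ z, MonoidAlgebra.mapDomainAlgHom (c i).S (c i).S (powMonoidHom n)
            ((c i).j.toLinearMap.liftBaseChange (c i).S z) =
            MonoidAlgebra.mapDomainAlgHom (c i).S (c i).S (1 : (c i).M →* (c i).M)
            ((c i).j.toLinearMap.liftBaseChange (c i).S z) := by
          intro z
          induction z using TensorProduct.induction_on with
          | zero => simp
          | add a b ha hb => simp only [map_add, ha, hb]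
          | tmul s a =>
            rw [LinearMap.liftBaseChange_tmul, map_smul, map_smul]
            congr 1
            have hh := AlgHom.congr_fun ((c i).j_powConv n) a
            rw [AlgHom.comp_apply, htor, (c i).j.commutes, AlgHom.comp_apply] at hh
            exact hh.symm.trans (congr($((c i).mapD_one_comp).ofConv a)).symm
        have h2 := h1 w
        rw [hw, MonoidAlgebra.mapDomainAlgHom_apply, MonoidAlgebra.mapDomainAlgHom_apply,
          MonoidAlgebra.mapDomain_single, MonoidAlgebra.mapDomain_single] at h2
        exact (MonoidAlgebra.single_left_inj one_ne_zero).mp h2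
      have : Finite (c i).M := CommGroup.finite_of_fg_isMulTorsion (G := (c i).M) fun l =>
        isOfFinOrder_iff_pow_eq_one.mpr ⟨n, hn, hpow l⟩
      exact Module.Finite.of_basis (MonoidAlgebra.basis (c i).M (c i).S)
    obtain ⟨s, hs⟩ := hfin.fg_top
    have hrep : ∀ y : MonoidAlgebra (c i).S (c i).M, ∃ F : Finset A,
        y ∈ Submodule.span (c i).S ((c i).j '' (F : Set A)) := by
      intro y
      obtain ⟨w, rfl⟩ := (c i).bij.2 y
      induction w using TensorProduct.induction_on with
      | zero => exact ⟨∅, by simp⟩
      | add a b ha hb =>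
        obtain ⟨F, hF⟩ := ha
        obtain ⟨G, hG⟩ := hb
        refine ⟨F ∪ G, ?_⟩
        rw [map_add]
        exact add_mem (Submodule.span_mono (Set.image_mono (by simp)) hF)
          (Submodule.span_mono (Set.image_mono (by simp)) hG)
      | tmul s a =>
        refine ⟨{a}, ?_⟩
        rw [LinearMap.liftBaseChange_tmul]
        exact Submodule.smul_mem _ _ (Submodule.subset_span ⟨a, by simp, rfl⟩)
    choose F hF using hrep
    refine ⟨s.biUnion F, top_le_iff.mp (hs ▸ Submodule.span_le.mpr fun y hy => ?_)⟩
    exact Submodule.span_mono (Set.image_mono (by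
      intro a ha
      exact Finset.mem_biUnion.mpr ⟨y, hy, ha⟩)) (hF y)
  choose F hF using hfin
  have : Fintype ι := Fintype.ofFinite ι
  let N : Submodule R A := Submodule.span R (Finset.univ.biUnion F : Finset A)
  have hN : N = ⊤ := by
    refine eq_top_of_covering (fun d => ∃ i, d = c i) (fun p hp => ?_) N ?_
    · obtain ⟨i, hq⟩ := hcov p hp
      exact ⟨c i, ⟨i, rfl⟩, hflat i, hq⟩
    · rintro _ ⟨i, rfl⟩
      refine top_le_iff.mp (hF i ▸ Submodule.span_mono (Set.image_mono ?_))
      intro a ha
      exact Submodule.subset_span (Finset.mem_biUnion.mpr ⟨i, Finset.mem_univ i, ha⟩)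
  exact ⟨⟨Finset.univ.biUnion F, hN⟩⟩

theorem finite_iff (hA : SGA3b.IsMultType R A) (hft : Algebra.FiniteType R A) :
    Module.Finite R A ↔ ∃ n : ℕ, 0 < n ∧ SGA3b.torsionIdeal R A n = ⊥ :=
  ⟨fun _ => exists_torsion_of_finite hA, fun ⟨_, hn, h⟩ => finite_of_torsion hA hn h⟩

end Groth.Agent.MultT
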