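import Groth.Agent.MultT.OpenSub
import Mathlib

/-! Groups with connected fibres over an adically complete ring and isotrivial special fibre; tori. -/

set_option autoImplicit false
set_option synthInstance.maxHeartbeats 400000

open TensorProduct Coalgebra

universe u

noncomputable section

namespace Groth.Agent.MultT

variable {R : Type u} [CommRing R] {C : Type u} [CommRing C] [HopfAlgebra R C]

theorem idempotent_trivial_of_connected {B : Type u} [CommRing B] [ConnectedSpace (PrimeSpectrum B)] {e : B}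
    (he : IsIdempotentElem e) : e = 0 ∨ e = 1 := by
  have hc : IsClopen (PrimeSpectrum.basicOpen e : Set (PrimeSpectrum B)) :=
    PrimeSpectrum.isClopen_iff.2 ⟨e, he, rfl⟩
  rcases isClopen_iff.1 hc with h | h
  · left
    have hn : IsNilpotent e := PrimeSpectrum.basicOpen_eq_bot_iff e |>.1 (SetLike.coe_injective (h.trans (by simp)))
    obtain ⟨n, hn⟩ := hn
    rw [← he.pow_succ_eq n, pow_succ, hn, zero_mul]
  · right
    have hu : IsUnit e := by
      by_contra hne
      obtain ⟨m, hm, hem⟩ := exists_max_ideal_of_mem_nonunits hne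
      have : (⟨m, hm.isPrime⟩ : PrimeSpectrum B) ∈ (PrimeSpectrum.basicOpen e : Set (PrimeSpectrum B)) :=
        h ▸ Set.mem_univ _
      exact this hem
    exact (IsIdempotentElem.iff_eq_one_of_isUnit hu).1 he

/-- An idempotent killed by the counit vanishes if all fibres are connected. -/
theorem eq_zero_of_connected_fibres
    (hconn : ∀ (p : Ideal R) [p.IsPrime], ConnectedSpace (PrimeSpectrum (p.ResidueField ⊗[R] C))) {e : C}
    (he : IsIdempotentElem e) (hε : counit (R := R) e = 0) : e = 0 := by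
  suffices h : ∀ q : Ideal C, q.IsPrime → e ∈ q by
    obtain ⟨n, hn⟩ := nilpotent_iff_mem_prime.2 h
    rw [← he.pow_succ_eq n, pow_succ, hn, zero_mul]
  intro q hq
  let p := q.comap (algebraMap R C)
  haveI := hconn p
  let i : C →ₐ[R] p.ResidueField ⊗[R] C := Algebra.TensorProduct.includeRight
  have hi : i e = 0 := by
    rcases idempotent_trivial_of_connected (he.map i) with h | h
    · exact h
    · have h1 := congrArg (counit (R := p.ResidueField)) h
      rw [show i e = (1 : p.ResidueField) ⊗ₜ e from rfl, TensorProduct.counit_tmul, hε,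
        Algebra.TensorProduct.one_def, TensorProduct.counit_tmul, Bialgebra.counit_one (R := R) (A := C)] at h1
      simp at h1
  let κ : p.ResidueField →ₐ[R] q.ResidueField :=
    { toRingHom := Ideal.ResidueField.map p q (algebraMap R C) rfl
      commutes' := fun r => by
        show Ideal.ResidueField.map p q (algebraMap R C) rfl (algebraMap R p.ResidueField r) = _
        rw [Ideal.ResidueField.map_algebraMap, ← IsScalarTower.algebraMap_apply] }
  let F : p.ResidueField ⊗[R] C →ₐ[R] q.ResidueField :=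
    Algebra.TensorProduct.lift κ (IsScalarTower.toAlgHom R C q.ResidueField) fun _ _ => Commute.all _ _
  have hF : F (i e) = algebraMap C q.ResidueField e := by
    show F ((1 : p.ResidueField) ⊗ₜ e) = _
    simp [F]
  rw [hi, map_zero] at hF
  exact Ideal.algebraMap_residueField_eq_zero.1 hF.symm

/-- A group with connected fibres, flat of finite type over an adically complete ring, with isotrivial special
fibre is isotrivial. -/
theorem isIsotrivial_of_connected [IsNoetherianRing R] (I : Ideal R) [IsAdicComplete I R] [Module.Flat R C]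
    [Algebra.FiniteType R C]
    (hconn : ∀ (p : Ideal R) [p.IsPrime], ConnectedSpace (PrimeSpectrum (p.ResidueField ⊗[R] C)))
    (h0 : SGA3b.IsIsotrivial (R ⧸ I) ((R ⧸ I) ⊗[R] C)) : SGA3b.IsIsotrivial R C := by
  haveI : HenselianRing R I := IsAdicComplete.henselianRing R I
  obtain ⟨e, he, heI, hK, hiso⟩ := exists_open_subgroup I (fun q _ _ => by
    haveI : Module.Flat C (Localization.AtPrime q) := IsLocalization.flat _ q.primeCompl
    exact Module.Flat.trans R C _) h0
  have hε : counit (R := R) e = 0 := by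
    have h1 : counit (R := R) e ∈ I := map_self_mem (counit (R := R) (A := C)) heI
    exact Hensel.eq_of_idempotent (HenselianRing.jac : I ≤ _) (he.map (Bialgebra.counitAlgHom R C))
      IsIdempotentElem.zero (by simpa using h1)
  have he0 := eq_zero_of_connected_fibres hconn he hε
  haveI := hK
  subst he0
  refine isIsotrivial_of_equiv (BialgEquiv.ofBijective
    (Bialgebra.Quotient.mkBialgHom (Ideal.span {(0 : C)})) ⟨fun x y h => ?_, Ideal.Quotient.mk_surjective⟩) hiso
  have h' := Ideal.Quotient.eq.1 (show Ideal.Quotient.mk _ x = Ideal.Quotient.mk _ y from h)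
  rw [Ideal.mem_span_singleton] at h'
  exact sub_eq_zero.1 (zero_dvd_iff.1 h')

/-- An isotrivial group whose special fibre is a torus is a torus. -/
theorem isTorus_of_special (I : Ideal R) (hI : I ≤ Ideal.jacobson ⊥) (hC : SGA3b.IsIsotrivial R C)
    (h0 : SGA3b.IsTorus (R ⧸ I) ((R ⧸ I) ⊗[R] C)) : SGA3b.IsTorus R C := by
  rcases subsingleton_or_nontrivial R with hs | hs
  · exact ⟨∅, Subsingleton.elim _ _, fun f hf => hf.elim⟩
  obtain ⟨S, _, _, het, hfin, hff, M, _, ⟨e⟩⟩ := hC
  haveI := hff
  obtain ⟨m, hm⟩ := Ideal.exists_maximal R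
  have hIm : I ≤ m := hI.trans (sInf_le ⟨bot_le, hm⟩)
  haveI : Nontrivial (R ⧸ I) := Ideal.Quotient.nontrivial_iff.2 fun h => hm.ne_top (top_le_iff.1 (h ▸ hIm))
  obtain ⟨s, hspan, hs⟩ := h0
  obtain ⟨m₀, hm₀⟩ := Ideal.exists_maximal (R ⧸ I)
  obtain ⟨f, hf, hfm⟩ : ∃ f ∈ s, f ∉ m₀ := by
    by_contra hne
    push Not at hne
    exact hm₀.ne_top (top_le_iff.1 (hspan ▸ Ideal.span_le.2 hne))
  obtain ⟨S₁, _, _, hff₁, n, ⟨e₁⟩⟩ := hs f hf
  haveI := hff₁
  let L := Localization.Away f
  haveI : Nontrivial L := not_subsingleton_iff_nontrivial.1 fun h => by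
    obtain ⟨k, hk⟩ := (IsLocalization.subsingleton_iff (M := Submonoid.powers f) (S := L)).1 h
    exact hfm (hm₀.isPrime.mem_of_pow_mem k (by rw [show f ^ k = 0 from hk]; exact m₀.zero_mem))
  haveI : Nontrivial S₁ := (FaithfulSMul.algebraMap_injective L S₁).nontrivial
  letI : Algebra R S₁ := ((algebraMap L S₁).comp (algebraMap R L)).toAlgebra
  haveI : IsScalarTower R L S₁ := .of_algebraMap_eq fun _ => rfl
  haveI : Nontrivial (S ⊗[R] S₁) := Module.FaithfullyFlat.lTensor_nontrivial R S S₁
  obtain ⟨w, hw⟩ := Ideal.exists_maximal (S ⊗[R] S₁)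
  let k := (S ⊗[R] S₁) ⧸ w
  haveI : IsDomain k := Ideal.Quotient.isDomain w
  let f₀ : S →ₐ[R] k := (Ideal.Quotient.mkₐ R w).comp Algebra.TensorProduct.includeLeft
  let f₁ : S₁ →ₐ[R] k := (Ideal.Quotient.mkₐ R w).comp Algebra.TensorProduct.includeRight
  letI : Algebra L k := (f₁.toRingHom.comp (algebraMap L S₁)).toAlgebra
  haveI : IsScalarTower R L k := .of_algebraMap_eq fun r => (f₁.commutes r).symm
  let f₁' : S₁ →ₐ[L] k := { toRingHom := f₁.toRingHom, commutes' := fun _ => rfl }
  obtain ⟨E₀, -⟩ := exists_baseEquiv e f₀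
  let U : Type u := ULift.{u} (Multiplicative (Fin n → ℤ))
  obtain ⟨E₁, -⟩ := exists_baseEquiv
    (e₁.trans (MonoidAlgebra.domCongrBialgEquiv S₁ S₁ (MulEquiv.ulift (α := Multiplicative (Fin n → ℤ))).symm) :
      _ ≃ₐc[S₁] MonoidAlgebra S₁ U) f₁'
  letI : Algebra (R ⧸ I) k := ((algebraMap L k).comp (algebraMap (R ⧸ I) L)).toAlgebra
  haveI : IsScalarTower (R ⧸ I) L k := .of_algebraMap_eq fun _ => rfl
  haveI : IsScalarTower R (R ⧸ I) k := .of_algebraMap_eq fun r => by
    show _ = algebraMap L k (algebraMap (R ⧸ I) L (algebraMap R (R ⧸ I) r))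
    rw [← IsScalarTower.algebraMap_apply R (R ⧸ I) L, ← IsScalarTower.algebraMap_apply]
  let θ := E₀.symm.trans (((bcTrans (R ⧸ I) L k ((R ⧸ I) ⊗[R] C)).trans (bcTrans R (R ⧸ I) k C)).symm.trans E₁)
  let g := MonoidAlgebra.mapDomainOfBialgHom (θ : MonoidAlgebra k M →ₐc[k] MonoidAlgebra k U)
  let g' := MonoidAlgebra.mapDomainOfBialgHom
    (θ.symm : MonoidAlgebra k U →ₐc[k] MonoidAlgebra k M)
  have hgg : g'.comp g = MonoidHom.id M := by
    rw [← MonoidAlgebra.mapDomainOfBialgHom_comp]
    convert MonoidAlgebra.mapDomainOfBialgHom_id (R := k) (G := M)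
    exact BialgHom.ext fun x => θ.symm_apply_apply x
  have hgg' : g.comp g' = MonoidHom.id _ := by
    rw [← MonoidAlgebra.mapDomainOfBialgHom_comp]
    convert MonoidAlgebra.mapDomainOfBialgHom_id (R := k) (G := U)
    exact BialgHom.ext fun x => θ.apply_symm_apply x
  let μ : M ≃* Multiplicative (Fin n → ℤ) := (g.toMulEquiv g' hgg hgg').trans MulEquiv.ulift
  refine ⟨{1}, Ideal.span_singleton_one, fun x hx => ?_⟩
  obtain rfl : x = 1 := hx
  let R₁ := Localization.Away (1 : R)
  let T := R₁ ⊗[R] S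
  obtain ⟨ET, -⟩ := exists_baseEquiv e (Algebra.TensorProduct.includeRight : S →ₐ[R] T)
  exact ⟨T, inferInstance, inferInstance, inferInstance, n,
    ⟨((bcTrans R R₁ T C).trans ET).trans (MonoidAlgebra.domCongrBialgEquiv T T μ)⟩⟩

end Groth.Agent.MultT
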