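import Groth.Agent.MultT.Basic2
import Groth.Agent.MultT.Connected
import Mathlib

/-! Groups of multiplicative type are flat; the finite ones are projective. -/

set_option autoImplicit false

open TensorProduct

universe u

namespace Groth.Agent.MultT

variable {R : Type u} [CommRing R] {A : Type u} [CommRing A] [HopfAlgebra R A]

theorem Chart.free_baseChange (c : Chart R A) : Module.Free c.S (c.S ⊗[R] A) :=
  .of_basis ((MonoidAlgebra.basis c.M c.S).map c.linEquiv.symm)

/-- A group of multiplicative type is flat. -/
theorem flat (hA : SGA3b.IsMultType R A) : Module.Flat R A := by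
  rw [Module.Flat.iff_rTensor_injective']
  intro I
  rw [injective_iff_map_eq_zero]
  intro x hx
  by_contra hne
  obtain ⟨m, hm, hle⟩ := Ideal.exists_le_maximal
    (Submodule.colon (⊥ : Submodule R (I ⊗[R] A)) ({x} : Set (I ⊗[R] A)))
    (fun ht => hne (by
      have h1 : (1 : R) ∈ Submodule.colon (⊥ : Submodule R (I ⊗[R] A)) ({x} : Set (I ⊗[R] A)) :=
        ht ▸ Submodule.mem_top
      simpa [Submodule.mem_colon_singleton] using h1))
  obtain ⟨c, hflat, q, hq, hqm⟩ := exists_charts hA m hm.isPrime
  haveI := hflat
  haveI := c.free_baseChange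
  haveI : Module.Flat R (c.S ⊗[R] A) := Module.Flat.trans R c.S _
  have hinj := Module.Flat.rTensor_preserves_injective_linearMap (M := c.S ⊗[R] A) I.subtype
    Subtype.val_injective
  have hnat : ∀ y : I ⊗[R] A, (I.subtype.rTensor (c.S ⊗[R] A))
      (TensorProduct.leftComm R c.S I A ((1 : c.S) ⊗ₜ y)) =
      TensorProduct.leftComm R c.S R A ((1 : c.S) ⊗ₜ I.subtype.rTensor A y) := by
    intro y
    induction y using TensorProduct.induction_on with
    | zero => simp
    | tmul i a => simp
    | add u v hu hv => simp only [TensorProduct.tmul_add, map_add, hu, hv]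
  have h0 : (1 : c.S) ⊗ₜ[R] x = 0 := by
    apply (TensorProduct.leftComm R c.S I A).injective
    apply hinj
    rw [hnat, hx, TensorProduct.tmul_zero, map_zero, map_zero, map_zero]
  obtain ⟨r, hr, hr0⟩ := exists_smul_eq_zero_of_tmul h0 q
  exact hr (hqm ▸ hle (Submodule.mem_colon_singleton.2 ((Submodule.mem_bot R).2 hr0)))

/-- A finite group of multiplicative type is finitely presented. -/
theorem finitePresentation (hA : SGA3b.IsMultType R A) [Module.Finite R A] :
    Module.FinitePresentation R A := by
  classical
  haveI := flat hA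
  obtain ⟨n, f, hf⟩ := Module.Finite.exists_fin' R A
  rw [← Module.FinitePresentation.fg_ker_iff f hf]
  obtain ⟨ι, _, c, hflat, hcov⟩ := exists_finite_charts hA
  let K := LinearMap.ker f
  have hgen : ∀ i, ∃ G : Finset K, ∀ z : (c i).S ⊗[R] K,
      z ∈ Submodule.span (c i).S ((TensorProduct.mk R (c i).S K 1) '' G) := by
    intro i
    haveI := (c i).free_baseChange
    haveI : Module.Finite (c i).S ((c i).S ⊗[R] K) := by
      haveI : Module.Finite (c i).S ((c i).S ⊗[R] A) := Module.Finite.base_change R (c i).S A
      haveI : Module.FinitePresentation (c i).S ((c i).S ⊗[R] A) :=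
        Module.finitePresentation_of_projective _ _
      haveI := hflat i
      have hsurj : Function.Surjective (f.baseChange (c i).S) :=
        LinearMap.lTensor_surjective (c i).S hf
      have hfg := Module.FinitePresentation.fg_ker (f.baseChange (c i).S) hsurj
      haveI : Module.Finite (c i).S (LinearMap.ker (f.baseChange (c i).S)) := Module.Finite.iff_fg.2 hfg
      have hex := Module.Flat.lTensor_exact (c i).S (LinearMap.exact_subtype_ker_map f)
      have hin : Function.Injective (K.subtype.baseChange (c i).S) :=
        Module.Flat.lTensor_preserves_injective_linearMap K.subtype Subtype.val_injective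
      have hr : LinearMap.range (K.subtype.baseChange (c i).S) = LinearMap.ker (f.baseChange (c i).S) :=
        SetLike.ext fun y => (hex y).symm
      exact Module.Finite.equiv ((LinearEquiv.ofInjective _ hin).trans (LinearEquiv.ofEq _ _ hr)).symm
    obtain ⟨s, hs⟩ := Module.Finite.fg_top (R := (c i).S) (M := (c i).S ⊗[R] K)
    have hrep : ∀ z : (c i).S ⊗[R] K, ∃ G : Finset K,
        z ∈ Submodule.span (c i).S ((TensorProduct.mk R (c i).S K 1) '' G) := by
      intro z
      induction z using TensorProduct.induction_on with
      | zero => exact ⟨∅, zero_mem _⟩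
      | tmul t k =>
        refine ⟨{k}, ?_⟩
        rw [show t ⊗ₜ[R] k = t • ((1 : (c i).S) ⊗ₜ[R] k) by
          rw [TensorProduct.smul_tmul', smul_eq_mul, mul_one]]
        exact Submodule.smul_mem _ _ (Submodule.subset_span ⟨k, by simp, rfl⟩)
      | add u v hu hv =>
        obtain ⟨G, hG⟩ := hu
        obtain ⟨H, hH⟩ := hv
        exact ⟨G ∪ H, add_mem (Submodule.span_mono (Set.image_mono (by simp)) hG)
          (Submodule.span_mono (Set.image_mono (by simp)) hH)⟩
    choose G hG using hrep
    refine ⟨s.biUnion G, fun z => ?_⟩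
    have hle : Submodule.span (c i).S (s : Set ((c i).S ⊗[R] K)) ≤
        Submodule.span (c i).S ((TensorProduct.mk R (c i).S K 1) '' (s.biUnion G)) :=
      Submodule.span_le.2 fun y hy => Submodule.span_mono (Set.image_mono (fun k hk =>
        Finset.mem_biUnion.2 ⟨y, hy, hk⟩)) (hG y)
    exact hle (hs ▸ Submodule.mem_top)
  choose G hG using hgen
  haveI : Fintype ι := Fintype.ofFinite ι
  let N : Submodule R K := Submodule.span R (Finset.univ.biUnion G : Finset K)
  have hN : N = ⊤ := by
    rw [eq_top_iff]
    intro k _
    by_contra hne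
    obtain ⟨m, hm, hle⟩ := Ideal.exists_le_maximal (N.colon ({k} : Set K)) (fun ht => hne (by
      have : (1 : R) ∈ N.colon ({k} : Set K) := ht ▸ Submodule.mem_top
      simpa [Submodule.mem_colon_singleton] using this))
    obtain ⟨i, q, hq, hqm⟩ := hcov m hm.isPrime
    haveI := hflat i
    have h0 : (1 : (c i).S) ⊗ₜ[R] (Submodule.Quotient.mk k : K ⧸ N) = 0 := by
      have hsub : Submodule.span (c i).S ((TensorProduct.mk R (c i).S K 1) '' (G i)) ≤
          LinearMap.ker (N.mkQ.baseChange (c i).S) := by
        refine Submodule.span_le.2 ?_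
        rintro _ ⟨y, hy, rfl⟩
        simp [(Submodule.Quotient.mk_eq_zero N).2 (Submodule.subset_span
          (Finset.mem_biUnion.2 ⟨i, Finset.mem_univ i, hy⟩))]
      exact hsub (hG i ((1 : (c i).S) ⊗ₜ k))
    obtain ⟨r, hr, hr0⟩ := exists_smul_eq_zero_of_tmul h0 q
    refine hr (hqm ▸ hle (Submodule.mem_colon_singleton.2 ?_))
    rwa [← Submodule.Quotient.mk_smul, Submodule.Quotient.mk_eq_zero] at hr0
  exact Module.Finite.iff_fg.1 ⟨⟨_, hN⟩⟩

/-- A finite group of multiplicative type is projective. -/
theorem projective (hA : SGA3b.IsMultType R A) [Module.Finite R A] : Module.Projective R A := by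
  haveI := flat hA
  haveI := finitePresentation hA
  exact Module.Flat.projective_of_finitePresentation

end Groth.Agent.MultT
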