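import Groth.Agent.MultT.Basic2
import Mathlib

/-! The invariant integral of a group of multiplicative type. -/

set_option autoImplicit false

open TensorProduct WithConv Coalgebra

universe u

namespace Groth.Agent.MultT

variable {R : Type u} [CommRing R] {A : Type u} [CommRing A] [HopfAlgebra R A]

/-- A normalised invariant functional. -/
def IsHaar {T : Type u} [CommRing T] [Algebra R T] (l : A →ₗ[R] T) : Prop :=
  l 1 = 1 ∧ ∀ a, l.rTensor A (comul a) = l a ⊗ₜ[R] (1 : A)

theorem IsHaar.comp {T T' : Type u} [CommRing T] [Algebra R T] [CommRing T'] [Algebra R T']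
    {l : A →ₗ[R] T} (h : IsHaar l) (g : T →ₐ[R] T') : IsHaar (g.toLinearMap ∘ₗ l) := by
  refine ⟨by simp [h.1], fun a => ?_⟩
  rw [LinearMap.rTensor_comp, LinearMap.comp_apply, h.2]
  rfl

theorem IsHaar.mul_eq {T : Type u} [CommRing T] [Algebra R T] {l : A →ₗ[R] T} (h : IsHaar l)
    (f : WithConv (A →ₗ[R] T)) (a : A) : (toConv l * f) a = l a * f 1 := by
  have h2 := congrArg (LinearMap.mul' R T ∘ₗ f.ofConv.lTensor T) (h.2 a)
  rw [LinearMap.comp_apply, LinearMap.comp_apply, LinearMap.lTensor_tmul, LinearMap.mul'_apply] at h2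
  rw [LinearMap.convMul_apply]
  refine Eq.trans ?_ h2
  induction comul (R := R) a using TensorProduct.induction_on with
  | zero => simp
  | tmul x y => simp
  | add x y hx hy => simp only [map_add, hx, hy]

/-- Normalised invariant functionals are unique. -/
theorem IsHaar.eq [Coalgebra.IsCocomm R A] {T : Type u} [CommRing T] [Algebra R T]
    {l l' : A →ₗ[R] T} (h : IsHaar l) (h' : IsHaar l') : l = l' := by
  refine LinearMap.ext fun a => ?_
  have e1 := h.mul_eq (toConv l') a
  have e2 := h'.mul_eq (toConv l) a
  rw [mul_comm (toConv l') (toConv l), e1] at e2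
  simpa [h.1, h'.1] using e2

theorem Chart.isHaar_cf_one (c : Chart R A) : IsHaar (c.cf 1).ofConv := by
  classical
  refine ⟨?_, fun a => ?_⟩
  · show cfM c.S 1 (c.j 1) = 1
    rw [map_one, MonoidAlgebra.one_def, cfM_single, if_pos rfl]
  · apply c.linEquiv.injective
    refine cfM_ext fun m => ?_
    have key : ∀ t : A ⊗[R] A, cfM c.S m (c.linEquiv ((c.cf 1).ofConv.rTensor A t)) =
        LinearMap.mul' R c.S (TensorProduct.map (c.cf 1).ofConv (c.cf m).ofConv t) := by
      intro t
      induction t using TensorProduct.induction_on with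
      | zero => simp
      | add x y hx hy => simp only [map_add, hx, hy]
      | tmul x y =>
        rw [LinearMap.rTensor_tmul, Chart.linEquiv_tmul, map_smul]
        rfl
    rw [key, ← LinearMap.convMul_apply, Chart.linEquiv_tmul, map_smul, map_one, MonoidAlgebra.one_def,
      cfM_single]
    by_cases h : (1 : c.M) = m
    · subst h; rw [if_pos rfl, c.cf_mul_self, smul_eq_mul, mul_one]
    · rw [if_neg h, c.cf_mul_ne h, smul_zero]; rfl

/-- A group of multiplicative type has an invariant integral. -/
theorem exists_isHaar (hA : SGA3b.IsMultType R A) : ∃ l : A →ₗ[R] R, IsHaar l := by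
  classical
  haveI := isCocomm hA
  obtain ⟨ι, _, c, hflat, hcov⟩ := exists_finite_charts hA
  cases nonempty_fintype ι
  haveI := hflat
  let T := ∀ i, (c i).S
  haveI : Module.Flat R T :=
    Module.Flat.of_linearEquiv (DirectSum.linearEquivFunOnFintype R ι fun i => (c i).S).symm
  haveI : Module.FaithfullyFlat R T := by
    apply Module.FaithfullyFlat.of_comap_surjective
    intro p
    obtain ⟨i, q, hq, hqp⟩ := hcov p.asIdeal p.isPrime
    exact ⟨PrimeSpectrum.comap (Pi.evalRingHom (fun i => (c i).S) i) ⟨q, hq⟩, PrimeSpectrum.ext hqp⟩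
  let lT : A →ₗ[R] T := LinearMap.pi fun i => ((c i).cf 1).ofConv
  have hproj : ∀ i (z : A ⊗[R] A), (LinearMap.proj (R := R) (φ := fun i => (c i).S) i).rTensor A
      (lT.rTensor A z) = ((c i).cf 1).ofConv.rTensor A z := fun i z => by
    rw [← LinearMap.comp_apply, ← LinearMap.rTensor_comp]
    rfl
  have hlT : IsHaar lT := by
    refine ⟨funext fun i => (c i).isHaar_cf_one.1, fun a => ?_⟩
    apply (TensorProduct.piLeft R A fun i => (c i).S).injective
    refine funext fun i => ?_
    have e : ∀ z : T ⊗[R] A, TensorProduct.piLeft R A (fun i => (c i).S) z i =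
        (LinearMap.proj (R := R) (φ := fun i => (c i).S) i).rTensor A z := by
      intro z
      induction z using TensorProduct.induction_on with
      | zero => simp
      | tmul x y => simp
      | add x y hx hy => simp only [map_add, Pi.add_apply, hx, hy]
    rw [e, e, hproj, (c i).isHaar_cf_one.2, LinearMap.rTensor_tmul]
    rfl
  have hmem : ∀ a, ∃ r, algebraMap R T r = lT a := fun a => by
    have h12 := LinearMap.congr_fun
      ((hlT.comp (Algebra.TensorProduct.includeLeft : T →ₐ[R] T ⊗[R] T)).eq
        (hlT.comp (Algebra.TensorProduct.includeRight : T →ₐ[R] T ⊗[R] T))) a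
    show lT a ∈ Set.range (algebraMap R T)
    rw [← Algebra.IsEffective.eqLocus_includeLeft_includeRight (Algebra.IsEffective.of_faithfullyFlat R T)]
    exact h12
  choose g hg using hmem
  have hinj := FaithfulSMul.algebraMap_injective R T
  let l : A →ₗ[R] R :=
    { toFun := g
      map_add' := fun a b => hinj (by rw [map_add, hg, hg, hg, map_add])
      map_smul' := fun r a => hinj (by
        rw [hg, map_smul, RingHom.id_apply, smul_eq_mul, map_mul, hg, Algebra.smul_def]) }
  refine ⟨l, hinj (show algebraMap R T (g 1) = algebraMap R T 1 by rw [hg, hlT.1, map_one]), fun a => ?_⟩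
  apply (TensorProduct.lid R A).injective
  refine eq_of_forall_chart hA fun d hd => ?_
  have hl : (Algebra.linearMap R d.S) ∘ₗ l = (d.cf 1).ofConv := by
    refine IsHaar.eq ?_ d.isHaar_cf_one
    refine ⟨by
      show algebraMap R d.S (g 1) = 1
      rw [show g 1 = 1 from hinj (by rw [hg, hlT.1, map_one]), map_one], fun b => ?_⟩
    haveI : Module.FaithfullyFlat R T := inferInstance
    apply Module.FaithfullyFlat.tensorProduct_mk_injective (A := R) (B := T) (d.S ⊗[R] A)
    have e : ∀ z : A ⊗[R] A, (1 : T) ⊗ₜ[R] ((Algebra.linearMap R d.S ∘ₗ l).rTensor A z) =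
        (TensorProduct.leftComm R d.S T A) ((1 : d.S) ⊗ₜ[R] (lT.rTensor A z)) := by
      intro z
      induction z using TensorProduct.induction_on with
      | zero => simp
      | add x y hx hy => simp only [TensorProduct.tmul_add, map_add, hx, hy]
      | tmul x y =>
        simp only [LinearMap.rTensor_tmul, TensorProduct.leftComm_tmul, LinearMap.comp_apply,
          Algebra.linearMap_apply]
        rw [← hg x, Algebra.algebraMap_eq_smul_one (A := d.S), Algebra.algebraMap_eq_smul_one (A := T),
          ← TensorProduct.smul_tmul', TensorProduct.tmul_smul, TensorProduct.smul_tmul']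
        rfl
    show (1 : T) ⊗ₜ[R] _ = (1 : T) ⊗ₜ[R] _
    rw [e, hlT.2, TensorProduct.leftComm_tmul, LinearMap.comp_apply, Algebra.linearMap_apply,
      show lT b = algebraMap R T (g b) from (hg b).symm, Algebra.algebraMap_eq_smul_one (A := T),
      Algebra.algebraMap_eq_smul_one (A := d.S), ← TensorProduct.smul_tmul', ← TensorProduct.smul_tmul',
      TensorProduct.tmul_smul]
    rfl
  refine cfM_ext fun m => ?_
  have key : ∀ t : A ⊗[R] A, cfM d.S m (d.j (TensorProduct.lid R A (l.rTensor A t))) =
      LinearMap.mul' R d.S (TensorProduct.map (d.cf 1).ofConv (d.cf m).ofConv t) := by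
    intro t
    induction t using TensorProduct.induction_on with
    | zero => simp
    | add x y hx hy => simp only [map_add, hx, hy]
    | tmul x y =>
      rw [LinearMap.rTensor_tmul, TensorProduct.lid_tmul, map_smul, TensorProduct.map_tmul,
        LinearMap.mul'_apply, ← hl]
      show cfM d.S m (l x • d.j y) = algebraMap R d.S (l x) * cfM d.S m (d.j y)
      rw [← algebraMap_smul d.S, map_smul, smul_eq_mul]
  rw [key, ← LinearMap.convMul_apply, TensorProduct.lid_tmul, map_smul, map_one, MonoidAlgebra.one_def,
    ← algebraMap_smul d.S (l a), map_smul, cfM_single, ← Algebra.linearMap_apply,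
    ← LinearMap.comp_apply, hl]
  by_cases h : (1 : d.M) = m
  · subst h; rw [if_pos rfl, d.cf_mul_self, smul_eq_mul, mul_one]
  · rw [if_neg h, d.cf_mul_ne h, smul_zero]; rfl

end Groth.Agent.MultT
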