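import Groth.Agent.MultT.FlatLift
import Groth.Agent.MultT.NilIso
import Groth.Agent.MultT.NilLift
import Groth.Agent.Hensel.SmoothQuotientLift
import Groth.Agent.Hensel.SpreadModel
import Groth.Agent.Hensel.Ops
import Groth.Agent.S0532
import Mathlib

/-! Isotriviality and quasi-isotriviality lift to flat groups along a nilpotent ideal. -/

set_option autoImplicit false

open TensorProduct

universe u

namespace Groth.Agent.MultT

variable {R : Type u} [CommRing R] {I : Ideal R} (hIn : IsNilpotent I)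

include hIn

variable {A : Type u} [CommRing A] [HopfAlgebra R A] [Module.Flat R A]


/-- A group becomes diagonalisable over a lift of an algebra over which its reduction is diagonalisable. -/
theorem isDiag_lift_flat {T₀ : Type u} [CommRing T₀] [Algebra (R ⧸ I) T₀] [Algebra R T₀] [IsScalarTower R (R ⧸ I) T₀]
    (hd : SGA3b.IsDiag T₀ (T₀ ⊗[R] A)) (T : Type u) [CommRing T] [Algebra R T]
    (φ : T₀ →ₐ[R] T ⧸ I.map (algebraMap R T)) : SGA3b.IsDiag T (T ⊗[R] A) := by
  let J := I.map (algebraMap R T)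
  letI : Algebra T₀ (T ⧸ J) := φ.toRingHom.toAlgebra
  haveI : IsScalarTower R T₀ (T ⧸ J) := .of_algebraMap_eq fun r => (φ.commutes r).symm
  exact isDiag_of_flat_nilpotent (I := J) (by obtain ⟨n, hn⟩ := hIn; exact ⟨n, by rw [← Ideal.map_pow, hn, Ideal.zero_eq_bot, Ideal.map_bot, Ideal.zero_eq_bot]⟩)
    (isDiag_of_equiv (bcTrans R T (T ⧸ J) A) (isDiag_baseChange hd (T ⧸ J)))

/-- Isotriviality lifts along a nil ideal. -/
theorem isIsotrivial_of_flat (h0 : SGA3b.IsIsotrivial (R ⧸ I) ((R ⧸ I) ⊗[R] A)) : SGA3b.IsIsotrivial R A := by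
  have hI : ∀ x ∈ I, IsNilpotent x := fun x hx => hIn.elim fun n hn => ⟨n, (Submodule.mem_bot R).1 ((hn.trans Ideal.zero_eq_bot) ▸ Ideal.pow_mem_pow hx n)⟩
  haveI := Groth.Agent.Hensel.henselianRing_of_nilpotent hI
  obtain ⟨T₀, _, _, het, hfin, hff, hd⟩ := h0
  haveI := het; haveI := hfin; haveI := hff
  obtain ⟨T, _, _, hTfin, hTet, ⟨e⟩⟩ := Groth.Agent.S0532.result R I T₀
  haveI := hTet; haveI := hTfin
  letI : Algebra R T₀ := Algebra.compHom T₀ (Ideal.Quotient.mk I)
  haveI : IsScalarTower R (R ⧸ I) T₀ := .of_algebraMap_eq fun _ => rfl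
  haveI : Module.Flat R T := Algebra.Smooth.flat R T
  refine ⟨T, inferInstance, inferInstance, hTet, hTfin, Module.FaithfullyFlat.of_comap_surjective fun p => ?_,
    isDiag_lift_flat hIn (isDiag_of_equiv (bcTrans R (R ⧸ I) T₀ A).symm hd) T ?_⟩
  · let p₀ : PrimeSpectrum (R ⧸ I) := ⟨p.asIdeal.map (Ideal.Quotient.mk I), Ideal.map_isPrime_of_surjective
      Ideal.Quotient.mk_surjective (by
        rw [Ideal.mk_ker]; exact fun x hx => p.isPrime.mem_of_pow_mem _ ((hI x hx).choose_spec ▸ zero_mem _))⟩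
    obtain ⟨Q, hQ⟩ := PrimeSpectrum.comap_surjective_of_faithfullyFlat (B := T₀) p₀
    let ψ : T →ₐ[R] T₀ := (e.toAlgHom.restrictScalars R).comp Algebra.TensorProduct.includeRight
    refine ⟨PrimeSpectrum.comap ψ.toRingHom Q, PrimeSpectrum.ext ?_⟩
    show (Q.asIdeal.comap ψ.toRingHom).comap (algebraMap R T) = p.asIdeal
    rw [Ideal.comap_comap, show ψ.toRingHom.comp (algebraMap R T) =
      (algebraMap (R ⧸ I) T₀).comp (Ideal.Quotient.mk I) from RingHom.ext ψ.commutes, ← Ideal.comap_comap,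
      show Q.asIdeal.comap (algebraMap (R ⧸ I) T₀) = p₀.asIdeal from congrArg PrimeSpectrum.asIdeal hQ]
    exact (Ideal.comap_map_of_surjective' _ Ideal.Quotient.mk_surjective _).trans (sup_eq_left.2 (by
      rw [Ideal.mk_ker]; exact fun x hx => p.isPrime.mem_of_pow_mem _ ((hI x hx).choose_spec ▸ zero_mem _)))
  · exact (Algebra.TensorProduct.lift
      (Ideal.Quotient.liftₐ I (Algebra.ofId R _) fun x hx => by
        show Ideal.Quotient.mk _ (algebraMap R T x) = 0
        exact Ideal.Quotient.eq_zero_iff_mem.2 (Ideal.mem_map_of_mem _ hx))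
      (Ideal.Quotient.mkₐ R _) fun _ _ => Commute.all _ _).comp (e.symm.toAlgHom.restrictScalars R)

/-- Quasi-isotriviality lifts along a nil ideal. -/
theorem isQuasiIsotrivial_of_flat (h0 : SGA3b.IsQuasiIsotrivial (R ⧸ I) ((R ⧸ I) ⊗[R] A)) :
    SGA3b.IsQuasiIsotrivial R A := by
  have hI : ∀ x ∈ I, IsNilpotent x := fun x hx => hIn.elim fun n hn => ⟨n, (Submodule.mem_bot R).1 ((hn.trans Ideal.zero_eq_bot) ▸ Ideal.pow_mem_pow hx n)⟩
  obtain ⟨s, hs, hq⟩ := h0
  have hmem : ∀ p : PrimeSpectrum R, I ≤ p.asIdeal := fun p x hx => nilradical_le_prime p.asIdeal (hI x hx)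
  refine ⟨Ideal.Quotient.mk I ⁻¹' s, ?_, ?_⟩
  · by_contra hne
    obtain ⟨m, hm, hle⟩ := Ideal.exists_le_maximal _ hne
    have h1 : Ideal.span s ≤ m.map (Ideal.Quotient.mk I) := Ideal.span_le.2 fun b hb => by
      obtain ⟨r, rfl⟩ := Ideal.Quotient.mk_surjective b
      exact Ideal.mem_map_of_mem _ (hle (Ideal.subset_span hb))
    rw [hs, top_le_iff] at h1
    have h2 := Ideal.comap_map_of_surjective' (Ideal.Quotient.mk I) Ideal.Quotient.mk_surjective m
    rw [h1, Ideal.comap_top, sup_eq_left.2 (by rw [Ideal.mk_ker]; exact hmem ⟨m, hm.isPrime⟩)] at h2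
    exact hm.ne_top h2.symm
  intro f hf
  obtain ⟨T₀, _, _, het, hff, hd⟩ := hq _ hf
  haveI := het; haveI := hff
  let f₀ := Ideal.Quotient.mk I f
  let L₀ := Localization.Away f₀
  letI : Algebra (R ⧸ I) T₀ := Algebra.compHom T₀ (algebraMap (R ⧸ I) L₀)
  haveI : IsScalarTower (R ⧸ I) L₀ T₀ := .of_algebraMap_eq fun _ => rfl
  letI : Algebra R T₀ := Algebra.compHom T₀ (algebraMap R L₀)
  haveI : IsScalarTower R L₀ T₀ := .of_algebraMap_eq fun _ => rfl
  haveI : IsScalarTower R (R ⧸ I) T₀ := .of_algebraMap_eq fun r => by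
    show algebraMap L₀ T₀ (algebraMap R L₀ r) = algebraMap L₀ T₀ (algebraMap (R ⧸ I) L₀ (algebraMap R (R ⧸ I) r))
    rw [← IsScalarTower.algebraMap_apply R (R ⧸ I) L₀]
  haveI : Algebra.Etale (R ⧸ I) L₀ := Algebra.Etale.of_isLocalizationAway f₀
  haveI : Algebra.Etale (R ⧸ I) T₀ := Algebra.Etale.comp (R ⧸ I) L₀ T₀
  obtain ⟨T, _, _, hTet, ⟨e⟩⟩ := exists_etale_lift hI T₀
  haveI := hTet
  haveI : Module.Flat R T := Algebra.Smooth.flat R T
  let ψ : T →ₐ[R] T₀ := (e.toAlgHom.restrictScalars R).comp (Ideal.Quotient.mkₐ R _)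
  let φ : T₀ →ₐ[R] T ⧸ I.map (algebraMap R T) := e.symm.toAlgHom.restrictScalars R
  have hfT : IsUnit (algebraMap R T f) := by
    have hu : IsUnit (algebraMap R T₀ f) := by
      rw [IsScalarTower.algebraMap_apply R L₀ T₀, IsScalarTower.algebraMap_apply R (R ⧸ I) L₀]
      exact ((IsLocalization.Away.algebraMap_isUnit f₀ : IsUnit (algebraMap (R ⧸ I) L₀ f₀))).map _
    by_contra h
    obtain ⟨m, hm, hfm⟩ := exists_max_ideal_of_mem_nonunits h
    have hu' : IsUnit (Ideal.Quotient.mk (I.map (algebraMap R T)) (algebraMap R T f)) := by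
      have := hu.map φ
      rwa [φ.commutes] at this
    have hle : I.map (algebraMap R T) ≤ m := Ideal.map_le_iff_le_comap.2 fun x hx =>
      nilradical_le_prime m ((hI x hx).map _)
    have := (hu'.map (Ideal.Quotient.factor hle))
    rw [Ideal.Quotient.factor_mk, Ideal.Quotient.eq_zero_iff_mem.2 hfm] at this
    haveI hnt : Nontrivial (T ⧸ m) := Ideal.Quotient.nontrivial_iff.2 hm.ne_top
    exact not_isUnit_zero this
  let L := Localization.Away f
  letI : Algebra L T := (IsLocalization.Away.lift (S := L) f hfT).toAlgebra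
  haveI : IsScalarTower R L T := .of_algebraMap_eq fun r => (IsLocalization.Away.lift_eq (S := L) f hfT r).symm
  haveI : Algebra.Etale L T := Algebra.Etale.of_restrictScalars R L T
  haveI : Module.Flat L T := Algebra.Smooth.flat L T
  have hT : SGA3b.IsDiag T (T ⊗[R] A) := isDiag_lift_flat hIn (T₀ := T₀)
    (isDiag_of_equiv (bcTrans R (R ⧸ I) T₀ A).symm
      (isDiag_of_equiv (bcTrans (R ⧸ I) L₀ T₀ ((R ⧸ I) ⊗[R] A)).symm hd)) T φ
  refine ⟨T, inferInstance, inferInstance, inferInstance, Module.FaithfullyFlat.of_comap_surjective fun q => ?_,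
    isDiag_of_equiv (bcTrans R L T A) hT⟩
  let p := PrimeSpectrum.comap (algebraMap R L) q
  have hfp : f ∉ p.asIdeal := fun h =>
    q.2.ne_top (Ideal.eq_top_of_isUnit_mem _ (Ideal.mem_comap.1 h) (IsLocalization.Away.algebraMap_isUnit f))
  let p₀ : PrimeSpectrum (R ⧸ I) := ⟨p.asIdeal.map (Ideal.Quotient.mk I),
    Ideal.map_isPrime_of_surjective Ideal.Quotient.mk_surjective (by rw [Ideal.mk_ker]; exact hmem p)⟩
  have hp₀ : p₀.asIdeal.comap (Ideal.Quotient.mk I) = p.asIdeal :=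
    (Ideal.comap_map_of_surjective' _ Ideal.Quotient.mk_surjective _).trans
      (sup_eq_left.2 (by rw [Ideal.mk_ker]; exact hmem p))
  obtain ⟨P, hP⟩ : p₀ ∈ Set.range (PrimeSpectrum.comap (algebraMap (R ⧸ I) L₀)) := by
    rw [PrimeSpectrum.localization_away_comap_range L₀ f₀]
    exact fun h => hfp (hp₀ ▸ Ideal.mem_comap.2 h)
  obtain ⟨Q, hQ⟩ := PrimeSpectrum.comap_surjective_of_faithfullyFlat (B := T₀) P
  refine ⟨PrimeSpectrum.comap ψ.toRingHom Q,
    PrimeSpectrum.localization_comap_injective L (Submonoid.powers f) (PrimeSpectrum.ext ?_)⟩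
  show ((Q.asIdeal.comap ψ.toRingHom).comap (algebraMap L T)).comap (algebraMap R L) = p.asIdeal
  rw [Ideal.comap_comap, ← IsScalarTower.algebraMap_eq, Ideal.comap_comap,
    show ψ.toRingHom.comp (algebraMap R T) =
      ((algebraMap L₀ T₀).comp (algebraMap (R ⧸ I) L₀)).comp (Ideal.Quotient.mk I) from RingHom.ext fun r => by
        rw [show ψ.toRingHom.comp (algebraMap R T) = algebraMap R T₀ from RingHom.ext ψ.commutes]
        exact IsScalarTower.algebraMap_apply R (R ⧸ I) T₀ r,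
    ← hp₀, ← Ideal.comap_comap, ← Ideal.comap_comap]
  exact congrArg (Ideal.comap (Ideal.Quotient.mk I))
    ((congrArg (fun x : PrimeSpectrum L₀ => x.asIdeal.comap (algebraMap (R ⧸ I) L₀)) hQ).trans
      (congrArg PrimeSpectrum.asIdeal hP))

end Groth.Agent.MultT
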