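import Groth.Agent.MultT.AdicLift
import Groth.Agent.MultT.HomLift
import Groth.Agent.MultT.QuasiBC
import Groth.Agent.MultT.FlatIso
import Groth.Agent.S2978
import Mathlib

/-! Homomorphisms into groups flat near the special fibre over adically complete rings. -/

set_option autoImplicit false
set_option synthInstance.maxHeartbeats 400000

open TensorProduct WithConv Coalgebra

universe u

namespace Groth.Agent.MultT

variable {R : Type u} [CommRing R] {A : Type u} [CommRing A] [HopfAlgebra R A]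
  {C : Type u} [CommRing C] [HopfAlgebra R C]

theorem isNoetherianRing_of_fg' (R S : Type u) [CommRing R] [IsNoetherianRing R] [CommRing S] [Algebra R S]
    [Module.Finite R S] : IsNoetherianRing S :=
  isNoetherianRing_iff.2 (isNoetherian_of_tower R inferInstance)

/-- A compatible system of homomorphisms modulo the powers of an ideal has a limit. -/
theorem exists_limit_homMod [IsNoetherianRing R] (I : Ideal R) [IsAdicComplete I R] (c : Chart R A)
    [Module.Finite R c.S] [Module.Projective R c.S] [Module.FaithfullyFlat R c.S]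
    (h : ℕ → C → A) (H : ∀ n, HomMod (I ^ (n + 1)) (h n))
    (hstep : ∀ n x, h (n + 1) x - h n x ∈ (I ^ (n + 1)).map (algebraMap R A)) :
    ∃ φ : C →ₐc[R] A, ∀ x n, φ x - h n x ∈ (I ^ (n + 1)).map (algebraMap R A) := by
  classical
  have hpow : ∀ (T : Type u) [CommRing T] [Algebra R T] (n : ℕ),
      (I ^ (n + 1)).map (algebraMap R T) ≤ (I ^ n).map (algebraMap R T) := fun T _ _ n =>
    Ideal.map_mono (Ideal.pow_le_pow_right (Nat.le_succ _))
  have hcf : ∀ (m : c.M) n x, c.cf m (h (n + 1) x) - c.cf m (h n x) ∈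
      (I ^ (n + 1)).map (algebraMap R c.S) := fun m n x => by
    rw [← map_sub]; exact map_mem_map (c.cf m).ofConv (hstep n x)
  choose F hF using fun (m : c.M) (x : C) => exists_limit (I := I) (fun n => c.cf m (h n x)) fun n => hcf m n x
  have hsep : ∀ {a b : c.S}, (∀ n, a - b ∈ (I ^ (n + 1)).map (algebraMap R c.S)) → a = b := fun hab =>
    sub_eq_zero.1 (eq_zero_of_forall_mem (I := I) fun n => hpow _ n (hab n))
  have Fadd : ∀ m x y, F m (x + y) = F m x + F m y := fun m x y => hsep fun n => by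
    have h1 := map_mem_map (c.cf m).ofConv ((H n).map_add x y)
    rw [map_sub, map_add] at h1
    rw [show F m (x + y) - (F m x + F m y) = (F m (x + y) - c.cf m (h n (x + y))) +
      (c.cf m (h n (x + y)) - (c.cf m (h n x) + c.cf m (h n y))) -
        (F m x - c.cf m (h n x)) - (F m y - c.cf m (h n y)) by ring]
    exact Ideal.sub_mem _ (Ideal.sub_mem _ (Ideal.add_mem _ (hF m (x + y) n) h1) (hF m x n)) (hF m y n)
  have Fsmul : ∀ m (r : R) x, F m (r • x) = r • F m x := fun m r x => hsep fun n => by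
    have h1 := map_mem_map (c.cf m).ofConv ((H n).map_smul r x)
    rw [map_sub, map_smul] at h1
    rw [show F m (r • x) - r • F m x = (F m (r • x) - c.cf m (h n (r • x))) +
      (c.cf m (h n (r • x)) - r • c.cf m (h n x)) - r • (F m x - c.cf m (h n x)) by rw [smul_sub]; ring]
    exact Ideal.sub_mem _ (Ideal.add_mem _ (hF m (r • x) n) h1)
      (by rw [Algebra.smul_def]; exact Ideal.mul_mem_left _ _ (hF m x n))
  let Fl : c.M → C →ₗ[R] c.S := fun m => { toFun := F m, map_add' := Fadd m, map_smul' := fun r x => Fsmul m r x }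
  have hFmul : ∀ (l k : c.M) (x : C) (s : Finset (C × C)), comul (R := R) x = ∑ i ∈ s, i.1 ⊗ₜ i.2 →
      (if l = k then F l x else 0) = ∑ i ∈ s, F l i.1 * F k i.2 := fun l k x s hs => hsep fun n => by
    have h1 := map_mem_map (LinearMap.mul' R c.S ∘ₗ TensorProduct.map (c.cf l).ofConv (c.cf k).ofConv)
      ((H n).comul x s hs)
    rw [map_sub, map_sum, LinearMap.comp_apply, ← LinearMap.convMul_apply] at h1
    simp only [LinearMap.comp_apply, TensorProduct.map_tmul, LinearMap.mul'_apply] at h1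
    have h2 : (if l = k then F l x else 0) - (c.cf l * c.cf k) (h n x) ∈
        (I ^ (n + 1)).map (algebraMap R c.S) := by
      by_cases hlk : l = k
      · subst hlk; rw [if_pos rfl, c.cf_mul_self]; exact hF l x n
      · rw [if_neg hlk, c.cf_mul_ne hlk]; simp
    rw [show (if l = k then F l x else 0) - ∑ i ∈ s, F l i.1 * F k i.2 =
      ((if l = k then F l x else 0) - (c.cf l * c.cf k) (h n x)) +
      ((c.cf l * c.cf k) (h n x) - ∑ i ∈ s, c.cf l (h n i.1) * c.cf k (h n i.2)) -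
      ∑ i ∈ s, (F l i.1 * F k i.2 - c.cf l (h n i.1) * c.cf k (h n i.2)) by
        rw [Finset.sum_sub_distrib]; ring]
    refine Ideal.sub_mem _ (Ideal.add_mem _ h2 h1) (Ideal.sum_mem _ fun i _ => ?_)
    rw [show F l i.1 * F k i.2 - c.cf l (h n i.1) * c.cf k (h n i.2) =
      (F l i.1 - c.cf l (h n i.1)) * F k i.2 + c.cf l (h n i.1) * (F k i.2 - c.cf k (h n i.2)) by ring]
    exact Ideal.add_mem _ (Ideal.mul_mem_right _ _ (hF l i.1 n)) (Ideal.mul_mem_left _ _ (hF k i.2 n))
  -- finiteness of supports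
  have hfs : ∀ x : C, {m | F m x ≠ 0}.Finite := by
    intro x
    haveI : IsNoetherianRing c.S := isNoetherianRing_of_fg' R c.S
    obtain ⟨s, hs⟩ := TensorProduct.exists_finset (comul (R := R) x)
    have hfin := Groth.Agent.S2978.result c.S c.M (fun p => if p.1 = p.2 then F p.1 x else 0)
      (fun m m' hne => if_neg hne) s (fun i m => F m i.1.1) (fun i m => F m i.1.2) fun m m' => by
        show (if m = m' then F m x else 0) = ∑ i : s, F m i.1.1 * F m' i.1.2
        rw [hFmul m m' x s hs, ← Finset.sum_coe_sort s]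
    refine (hfin.image Prod.fst).subset fun m hm => ⟨(m, m), ?_, rfl⟩
    simpa using hm
  let Z₀ : C → MonoidAlgebra c.S c.M := fun x =>
    MonoidAlgebra.ofCoeff (Finsupp.ofSupportFinite (fun m => F m x) (hfs x))
  have hZ : ∀ x n, Z₀ x - c.j (h n x) ∈ (I ^ (n + 1)).map (algebraMap R (MonoidAlgebra c.S c.M)) :=
    fun x n => mem_map_of_coeff fun m => hF m x n
  have hsepM : ∀ {a b : MonoidAlgebra c.S c.M},
      (∀ n, a - b ∈ (I ^ (n + 1)).map (algebraMap R (MonoidAlgebra c.S c.M))) → a = b := fun {a b} hab =>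
    cfM_ext fun m => hsep fun n => by
      rw [← map_sub]
      exact map_mem_map ((cfM c.S m).restrictScalars R) (hab n)
  let rr := Classical.choose (exists_retraction (R := R) (S := c.S))
  have hrr : rr 1 = 1 := Classical.choose_spec (exists_retraction (R := R) (S := c.S))
  let r' : c.S ⊗[R] A →ₗ[R] A := (TensorProduct.lid R A).toLinearMap ∘ₗ rr.rTensor A
  let f : C → A := fun x => r' (c.linEquiv.symm (Z₀ x))
  have hf : ∀ x n, f x - h n x ∈ (I ^ (n + 1)).map (algebraMap R A) := by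
    intro x n
    have h1 : h n x = r' (c.linEquiv.symm (c.j (h n x))) := by
      rw [show c.j (h n x) = c.linEquiv ((1 : c.S) ⊗ₜ h n x) by rw [Chart.linEquiv_tmul, one_smul],
        LinearEquiv.symm_apply_apply]
      simp [r', hrr]
    rw [h1]
    show r' _ - r' _ ∈ _
    rw [← map_sub, ← map_sub]
    exact map_mem_map (r'.comp (c.linEquiv.symm.toLinearMap.restrictScalars R)) (hZ x n)
  have hinj : ∀ {a : A}, (1 : c.S) ⊗ₜ[R] a = 0 → a = 0 := fun {a} ha =>
    Module.FaithfullyFlat.tensorProduct_mk_injective (A := R) (B := c.S) A (by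
      rw [TensorProduct.mk_apply, ha, map_zero])
  have hjinj : ∀ {a b : A}, c.j a = c.j b → a = b := fun {a b} hab => sub_eq_zero.1 (hinj (c.bij.1 (by
    rw [LinearMap.liftBaseChange_tmul, one_smul, map_zero]
    show c.j (a - b) = 0
    rw [map_sub, hab, sub_self])))
  have hjf : ∀ x, c.j (f x) = Z₀ x := fun x => hsepM fun n => by
    rw [show c.j (f x) - Z₀ x = c.j (f x - h n x) - (Z₀ x - c.j (h n x)) by rw [map_sub]; ring]
    exact Ideal.sub_mem _ (map_mem_map c.j.toLinearMap (hf x n)) (hZ x n)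
  have heqA : ∀ {a b : A}, (∀ n, a - b ∈ (I ^ (n + 1)).map (algebraMap R A)) → a = b := fun hab =>
    hjinj (hsepM fun n => by rw [← map_sub]; exact map_mem_map c.j.toLinearMap (hab n))
  have fmul : ∀ x y, f (x * y) = f x * f y := fun x y => heqA fun n => by
    rw [show f (x * y) - f x * f y = (f (x * y) - h n (x * y)) + (h n (x * y) - h n x * h n y) -
      ((f x - h n x) * f y + h n x * (f y - h n y)) by ring]
    exact Ideal.sub_mem _ (Ideal.add_mem _ (hf _ n) ((H n).map_mul x y))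
      (Ideal.add_mem _ (Ideal.mul_mem_right _ _ (hf x n)) (Ideal.mul_mem_left _ _ (hf y n)))
  have fone : f 1 = 1 := heqA fun n => by
    simpa using Ideal.add_mem _ (hf 1 n) (H n).map_one
  have fadd : ∀ x y, f (x + y) = f x + f y := fun x y => heqA fun n => by
    rw [show f (x + y) - (f x + f y) = (f (x + y) - h n (x + y)) + (h n (x + y) - (h n x + h n y)) -
      ((f x - h n x) + (f y - h n y)) by ring]
    exact Ideal.sub_mem _ (Ideal.add_mem _ (hf _ n) ((H n).map_add x y)) (Ideal.add_mem _ (hf x n) (hf y n))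
  have fsmul : ∀ (r : R) x, f (r • x) = r • f x := fun r x => heqA fun n => by
    rw [show f (r • x) - r • f x = (f (r • x) - h n (r • x)) + (h n (r • x) - r • h n x) -
      r • (f x - h n x) by rw [smul_sub]; ring]
    exact Ideal.sub_mem _ (Ideal.add_mem _ (hf _ n) ((H n).map_smul r x))
      (by rw [Algebra.smul_def]; exact Ideal.mul_mem_left _ _ (hf x n))
  let φ : C →ₐ[R] A := AlgHom.ofLinearMap { toFun := f, map_add' := fadd, map_smul' := fsmul } fone fmul
  refine ⟨BialgHom.ofAlgHom φ (AlgHom.ext fun x => ?_) (AlgHom.ext fun x => ?_), fun x => ?_⟩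
  · show counit (f x) = counit x
    rw [← sub_eq_zero]
    refine IsHausdorff.haus (IsAdicComplete.toIsHausdorff (I := I) (M := R)) _ fun n => ?_
    rw [SModEq.zero, smul_eq_mul, Ideal.mul_top]
    refine Ideal.pow_le_pow_right (Nat.le_succ n) ?_
    have h1 := map_self_mem (counit (R := R) (A := A)) (hf x n)
    rw [map_sub] at h1
    simpa using Ideal.add_mem _ h1 ((H n).counit x)
  · show Algebra.TensorProduct.map φ φ (comul x) = comul (f x)
    obtain ⟨s, hs⟩ := TensorProduct.exists_finset (comul (R := R) x)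
    rw [hs, map_sum]
    simp only [Algebra.TensorProduct.map_tmul]
    have hdiff : ∀ n, (∑ i ∈ s, f i.1 ⊗ₜ[R] f i.2) - comul (f x) ∈
        (I ^ (n + 1)).map (algebraMap R (A ⊗[R] A)) := fun n => by
      have h1 : (∑ i ∈ s, f i.1 ⊗ₜ[R] f i.2) - ∑ i ∈ s, h n i.1 ⊗ₜ[R] h n i.2 ∈
          (I ^ (n + 1)).map (algebraMap R (A ⊗[R] A)) := by
        rw [← Finset.sum_sub_distrib]
        exact Ideal.sum_mem _ fun i _ => tmul_sub_mem (hf i.1 n) (hf i.2 n)
      have h3 : comul (f x) - comul (h n x) ∈ (I ^ (n + 1)).map (algebraMap R (A ⊗[R] A)) := by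
        rw [← map_sub]; exact map_mem_map (comul (R := R)) (hf x n)
      convert Ideal.sub_mem _ (Ideal.sub_mem _ h1 h3) ((H n).comul x s hs) using 1
      abel
    show ∑ i ∈ s, f i.1 ⊗ₜ[R] f i.2 = comul (f x)
    rw [← sub_eq_zero]
    apply Module.FaithfullyFlat.tensorProduct_mk_injective (A := R) (B := c.S) (A ⊗[R] A)
    let Φ := (TensorProduct.AlgebraTensorModule.distribBaseChange R c.S A A).trans
      (TensorProduct.congr c.linEquiv c.linEquiv)
    let b := MonoidAlgebra.basis c.M c.S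
    apply Φ.injective
    apply (b.tensorProduct b).repr.injective
    refine Finsupp.ext fun ln => ?_
    obtain ⟨l, k⟩ := ln
    rw [map_zero, map_zero, map_zero, Finsupp.zero_apply, TensorProduct.mk_apply]
    refine eq_zero_of_forall_mem (I := I) fun n => hpow _ n ?_
    exact map_mem_map ((((Finsupp.lapply (l, k)).comp (b.tensorProduct b).repr.toLinearMap).comp
      Φ.toLinearMap).restrictScalars R |>.comp (TensorProduct.mk R c.S (A ⊗[R] A) 1)) (hdiff n)
  · exact hf x


/-- A homomorphism modulo an ideal between groups of multiplicative type lifts to a thickening. -/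
theorem exists_homMod_step_multType (hA : SGA3b.IsMultType R A) {L L' : Ideal R}
    (hC : SGA3b.IsMultType (R ⧸ L') ((R ⧸ L') ⊗[R] C)) (hle : L' ≤ L) (hsq : L * L ≤ L') {h : C → A}
    (H : HomMod L h) :
    ∃ h' : C → A, HomMod L' h' ∧ ∀ x, h' x - h x ∈ L.map (algebraMap R A) := by
  let R' := R ⧸ L'
  let J : Ideal R' := L.map (algebraMap R R')
  let Q := R' ⧸ J
  have hJ : ∀ x ∈ J, IsNilpotent x := fun x hx => ⟨2, by
    have h1 : x * x ∈ J * J := Ideal.mul_mem_mul hx hx
    rw [← Ideal.map_mul] at h1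
    have h2 := Ideal.map_mono hsq h1
    rw [Ideal.Quotient.algebraMap_eq, Ideal.map_quotient_self] at h2
    rw [pow_two]; exact h2⟩
  obtain ⟨φ, hφ⟩ := H
  let f : R ⧸ L →+* Q := Ideal.Quotient.lift L (algebraMap R Q) fun a ha => by
    rw [IsScalarTower.algebraMap_apply R R' Q, Ideal.Quotient.algebraMap_eq]
    exact Ideal.Quotient.eq_zero_iff_mem.2 (Ideal.mem_map_of_mem _ ha)
  letI : Algebra (R ⧸ L) Q := f.toAlgebra
  haveI : IsScalarTower R (R ⧸ L) Q := .of_algebraMap_eq fun r => rfl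
  let φQ : (Q ⊗[R] C) →ₐc[Q] Q ⊗[R] A :=
    ((bcTrans R (R ⧸ L) Q A : _ →ₐc[Q] _).comp (Bialgebra.TensorProduct.map (R := R ⧸ L) (S := Q) (A := Q)
      (C := Q) (B := (R ⧸ L) ⊗[R] C) (D := (R ⧸ L) ⊗[R] A) (BialgHom.id Q Q) φ)).comp
        ((bcTrans R (R ⧸ L) Q C).symm : _ →ₐc[Q] _)
  have hφQ : ∀ x, φQ ((1 : Q) ⊗ₜ x) = (1 : Q) ⊗ₜ h x := fun x => by
    show bcTrans R (R ⧸ L) Q A (Bialgebra.TensorProduct.map (R := R ⧸ L) (S := Q) (A := Q)
      (C := Q) (B := (R ⧸ L) ⊗[R] C) (D := (R ⧸ L) ⊗[R] A) (BialgHom.id Q Q) φ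
        ((bcTrans R (R ⧸ L) Q C).symm _)) = _
    rw [show ((1 : Q) ⊗ₜ[R] x) = bcTrans R (R ⧸ L) Q C ((1 : Q) ⊗ₜ[R ⧸ L] ((1 : R ⧸ L) ⊗ₜ[R] x)) by
      rw [bcTrans_tmul, one_smul], BialgEquiv.symm_apply_apply, Bialgebra.TensorProduct.map_tmul, hφ]
    show bcTrans R (R ⧸ L) Q A ((1 : Q) ⊗ₜ[R ⧸ L] _) = _
    rw [bcTrans_tmul, one_smul]
  let φ₀ : (Q ⊗[R'] (R' ⊗[R] C)) →ₐc[Q] Q ⊗[R'] (R' ⊗[R] A) :=
    (((bcTrans R R' Q A).symm : _ →ₐc[Q] _).comp φQ).comp ((bcTrans R R' Q C) : _ →ₐc[Q] _)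
  obtain ⟨ψ, hψ⟩ := exists_hom_lift_nil φ₀ hJ (isMultType_baseChange hA R') hC
  have hqs : Function.Surjective (fun a : A => (1 : R') ⊗ₜ[R] a) := fun z => by
    induction z using TensorProduct.induction_on with
    | zero => exact ⟨0, by simp⟩
    | add a b ha hb =>
      obtain ⟨x, rfl⟩ := ha
      obtain ⟨y, rfl⟩ := hb
      exact ⟨x + y, by simp [TensorProduct.tmul_add]⟩
    | tmul r a =>
      obtain ⟨r, rfl⟩ := Ideal.Quotient.mk_surjective r
      exact ⟨r • a, by
        show (1 : R') ⊗ₜ[R] (r • a) = _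
        rw [TensorProduct.tmul_smul, TensorProduct.smul_tmul', Algebra.smul_def, mul_one]; rfl⟩
  choose h' hh' using fun x => hqs (ψ ((1 : R') ⊗ₜ[R] x))
  refine ⟨h', ⟨ψ, fun x => (hh' x).symm⟩, fun x => ?_⟩
  have h1 := hψ ((1 : R') ⊗ₜ[R] x)
  rw [← hh'] at h1
  have h2 : φ₀ ((1 : Q) ⊗ₜ[R'] ((1 : R') ⊗ₜ[R] x)) = (bcTrans R R' Q A).symm ((1 : Q) ⊗ₜ[R] h x) := by
    show (bcTrans R R' Q A).symm (φQ (bcTrans R R' Q C _)) = _
    rw [bcTrans_tmul, one_smul, hφQ]
  have h3 : ((1 : Q) ⊗ₜ[R] h x) = (1 : Q) ⊗ₜ[R] h' x := by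
    apply (EquivLike.injective (bcTrans R R' Q A).symm)
    rw [← h2]
    refine h1.trans ?_
    show (1 : Q) ⊗ₜ[R'] ((1 : R') ⊗ₜ[R] h' x) = _
    rw [← (bcTrans R R' Q A).symm_apply_apply ((1 : Q) ⊗ₜ[R'] ((1 : R') ⊗ₜ[R] h' x)), bcTrans_tmul, one_smul]
  let g : Q →+* R ⧸ L := Ideal.Quotient.lift J (Ideal.Quotient.factor hle) (fun a ha => by
    have h4 : J ≤ RingHom.ker (Ideal.Quotient.factor hle) := by
      refine Ideal.map_le_iff_le_comap.2 fun r hr => ?_
      rw [Ideal.mem_comap, RingHom.mem_ker, Ideal.Quotient.algebraMap_eq, Ideal.Quotient.factor_mk]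
      exact Ideal.Quotient.eq_zero_iff_mem.2 hr
    exact h4 ha)
  let g' : Q →ₐ[R] R ⧸ L := { g with commutes' := fun r => rfl }
  rw [sub_mem_map_iff_tmul]
  have h5 := congrArg (Algebra.TensorProduct.map g' (AlgHom.id R A)) h3
  rw [Algebra.TensorProduct.map_tmul, Algebra.TensorProduct.map_tmul, map_one] at h5
  exact h5.symm

theorem flat_quot_of_flat_near (I L : Ideal R) {k : ℕ} (hk : I ^ k ≤ L)
    (hfl : ∀ (q : Ideal C) [q.IsPrime], Ideal.map (algebraMap R C) I ≤ q →
      Module.Flat R (Localization.AtPrime q)) : Module.Flat (R ⧸ L) ((R ⧸ L) ⊗[R] C) := by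
  let J := I.map (algebraMap R C)
  let W : Submonoid C :=
    { carrier := {w | w - 1 ∈ J}
      one_mem' := by simp
      mul_mem' := fun {a b} ha hb => by
        show a * b - 1 ∈ J
        rw [show a * b - 1 = a * (b - 1) + (a - 1) by ring]
        exact Ideal.add_mem _ (Ideal.mul_mem_left _ _ hb) ha }
  let C' := Localization W
  haveI : Module.Flat R C' := by
    have hmax : ∀ (P : Ideal C') [P.IsMaximal], J ≤ P.comap (algebraMap C C') := by
      intro P hP x hx
      by_contra hxP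
      obtain ⟨y, hy⟩ := hP.exists_inv hxP
      obtain ⟨i, hi, hyi⟩ := hy
      obtain ⟨⟨a, w⟩, rfl⟩ := IsLocalization.mk'_surjective W y |>.imp fun a ha => ha
      have hu : IsUnit (algebraMap C C' (w.1 - a * x)) := by
        refine IsLocalization.map_units C' (⟨w.1 - a * x, ?_⟩ : W)
        show w.1 - a * x - 1 ∈ J
        rw [show w.1 - a * x - 1 = (w.1 - 1) - a * x by ring]
        exact Ideal.sub_mem _ w.2 (Ideal.mul_mem_left _ _ hx)
      refine hP.ne_top (Ideal.eq_top_of_isUnit_mem _ ?_ hu)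
      have h1 : algebraMap C C' (w.1 - a * x) = algebraMap C C' w.1 * i := by
        rw [map_sub, map_mul, eq_sub_of_add_eq' hyi, mul_sub, mul_one, ← mul_assoc, IsLocalization.mk'_spec'_mk]
      rw [h1]
      exact P.mul_mem_left _ hi
    refine Module.flat_of_isLocalized_maximal (R := R) C' C'
      (fun P => Localization.AtPrime P) (fun P _ => Algebra.linearMap C' (Localization.AtPrime P)) fun P hP => ?_
    let q := P.comap (algebraMap C C')
    haveI := hfl q (hmax P)
    haveI : IsLocalization.AtPrime (Localization.AtPrime P) q :=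
      IsLocalization.isLocalization_isLocalization_atPrime_isLocalization W (Localization.AtPrime P) P
    exact Module.Flat.of_linearEquiv
      ((IsLocalization.algEquiv q.primeCompl (Localization.AtPrime q) (Localization.AtPrime P)).restrictScalars
        R).toLinearEquiv.symm
  let i₂ : C →ₐ[R] (R ⧸ L) ⊗[R] C := Algebra.TensorProduct.includeRight
  have hnil : ∀ x ∈ J, IsNilpotent (i₂ x) := by
    intro x hx
    refine ⟨k, ?_⟩
    rw [← map_pow]
    refine (mem_map_iff_tmul L).1 (Ideal.map_mono hk ?_)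
    rw [Ideal.map_pow]
    exact Ideal.pow_mem_pow hx k
  have hunit : ∀ w : W, IsUnit (i₂ w.1) := fun w => by
    rw [show i₂ w.1 = i₂ (w.1 - 1) + 1 by rw [map_sub, map_one, sub_add_cancel]]
    exact (hnil _ w.2).isUnit_add_one
  let back : C' →ₐ[R] (R ⧸ L) ⊗[R] C := IsLocalization.liftAlgHom (M := W) (f := i₂) hunit
  let F : (R ⧸ L) ⊗[R] C →ₐ[R ⧸ L] (R ⧸ L) ⊗[R] C' :=
    Algebra.TensorProduct.map (AlgHom.id _ _) (IsScalarTower.toAlgHom R C C')
  let G : (R ⧸ L) ⊗[R] C' →ₐ[R ⧸ L] (R ⧸ L) ⊗[R] C :=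
    Algebra.TensorProduct.lift (Algebra.ofId _ _) back fun _ _ => Commute.all _ _
  have hback : ∀ x, back (algebraMap C C' x) = i₂ x := fun x => IsLocalization.lift_eq _ x
  let E : ((R ⧸ L) ⊗[R] C) ≃ₐ[R ⧸ L] (R ⧸ L) ⊗[R] C' := AlgEquiv.ofAlgHom F G
    (Algebra.TensorProduct.ext (Subsingleton.elim _ _) (IsLocalization.algHom_ext W (AlgHom.ext fun x => by
      show F (G ((1 : R ⧸ L) ⊗ₜ[R] algebraMap C C' x)) = (1 : R ⧸ L) ⊗ₜ[R] algebraMap C C' x
      rw [Algebra.TensorProduct.lift_tmul, map_one, one_mul, hback]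
      simp [F, i₂])))
    (Algebra.TensorProduct.ext (Subsingleton.elim _ _) (AlgHom.ext fun x => by
      show G (F ((1 : R ⧸ L) ⊗ₜ[R] x)) = (1 : R ⧸ L) ⊗ₜ[R] x
      rw [Algebra.TensorProduct.map_tmul, map_one, Algebra.TensorProduct.lift_tmul, map_one, one_mul]
      exact hback x))
  exact Module.Flat.of_linearEquiv E.toLinearEquiv

/-- The thickenings of a flat group with quasi-isotrivial reduction are of multiplicative type. -/
theorem isMultType_level (I : Ideal R) (n : ℕ)
    (hfl : ∀ (q : Ideal C) [q.IsPrime], Ideal.map (algebraMap R C) I ≤ q →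
      Module.Flat R (Localization.AtPrime q))
    (h0 : SGA3b.IsQuasiIsotrivial (R ⧸ I) ((R ⧸ I) ⊗[R] C)) :
    SGA3b.IsMultType (R ⧸ I ^ (n + 1)) ((R ⧸ I ^ (n + 1)) ⊗[R] C) := by
  let R' := R ⧸ I ^ (n + 1)
  let J : Ideal R' := I.map (algebraMap R R')
  have hJ : IsNilpotent J := ⟨n + 1, by
    rw [← Ideal.map_pow, Ideal.Quotient.algebraMap_eq, Ideal.map_quotient_self]; rfl⟩
  haveI := flat_quot_of_flat_near I (I ^ (n + 1)) le_rfl hfl
  let f : R ⧸ I →+* R' ⧸ J := Ideal.Quotient.lift I (algebraMap R (R' ⧸ J)) fun a ha => by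
    rw [IsScalarTower.algebraMap_apply R R' (R' ⧸ J), Ideal.Quotient.algebraMap_eq]
    exact Ideal.Quotient.eq_zero_iff_mem.2 (Ideal.mem_map_of_mem _ ha)
  letI : Algebra (R ⧸ I) (R' ⧸ J) := f.toAlgebra
  haveI : IsScalarTower R (R ⧸ I) (R' ⧸ J) := .of_algebraMap_eq fun r => rfl
  exact isMultType_of_quasi (isQuasiIsotrivial_of_flat hJ
    (isQuasiIsotrivial_transfer (R ⧸ I) R' (R' ⧸ J) h0))

theorem finite_projective_chart (hA : SGA3b.IsIsotrivial R A) :
    ∃ c : Chart R A, Module.Finite R c.S ∧ Module.Projective R c.S ∧ Module.FaithfullyFlat R c.S := by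
  obtain ⟨S, _, _, het, hfin, hff, M, _, ⟨e⟩⟩ := hA
  let c : Chart R A := chartOfBaseChange e
  haveI : Module.Finite R c.S := hfin
  haveI : Module.FaithfullyFlat R c.S := hff
  haveI : Algebra.Etale R c.S := het
  haveI : Module.FinitePresentation R c.S := Module.FinitePresentation.of_finite_of_finitePresentation _ _
  exact ⟨c, hfin, Module.Flat.projective_of_finitePresentation, hff⟩

theorem eq_of_forall_level [IsNoetherianRing R] (I : Ideal R) [IsAdicComplete I R] (c : Chart R A)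
    [Module.Finite R c.S] [Module.Projective R c.S] [Module.FaithfullyFlat R c.S] {a b : A}
    (h : ∀ n, a - b ∈ (I ^ (n + 1)).map (algebraMap R A)) : a = b := by
  have hj : c.j (a - b) = 0 := cfM_ext fun m => by
    rw [map_zero]
    refine eq_zero_of_forall_mem (I := I) fun n => ?_
    exact Ideal.map_mono (Ideal.pow_le_pow_right (Nat.le_succ n)) (map_mem_map (c.cf m).ofConv (h n))
  refine sub_eq_zero.1 (Module.FaithfullyFlat.tensorProduct_mk_injective (A := R) (B := c.S) A ?_)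
  rw [TensorProduct.mk_apply, map_zero]
  refine c.bij.1 ?_
  rw [map_zero, LinearMap.liftBaseChange_tmul, one_smul]
  exact hj

/-- Uniqueness of lifts over adically complete rings. -/
theorem eq_of_reduction_adic [IsNoetherianRing R] (I : Ideal R) [IsAdicComplete I R]
    (hA : SGA3b.IsIsotrivial R A)
    (hfl : ∀ (q : Ideal C) [q.IsPrime], Ideal.map (algebraMap R C) I ≤ q →
      Module.Flat R (Localization.AtPrime q))
    (h0 : SGA3b.IsQuasiIsotrivial (R ⧸ I) ((R ⧸ I) ⊗[R] C)) (φ ψ : C →ₐc[R] A)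
    (h : ∀ x, (1 : R ⧸ I) ⊗ₜ[R] (φ x) = (1 : R ⧸ I) ⊗ₜ[R] (ψ x)) : φ = ψ := by
  have hM := isMultType_of_isotrivial hA
  obtain ⟨c, hfin, hproj, hff⟩ := finite_projective_chart hA
  refine BialgHom.ext fun x => eq_of_forall_level I c fun n => ?_
  rw [sub_mem_map_iff_tmul]
  let R' := R ⧸ I ^ (n + 1)
  haveI := isCocomm (isMultType_level I n hfl h0)
  let bc : (C →ₐc[R] A) → (R' ⊗[R] C →ₐc[R'] R' ⊗[R] A) := fun f =>
    Bialgebra.TensorProduct.map (R := R) (S := R') (A := R') (C := R') (B := C) (D := A) (BialgHom.id R' R') f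
  have hbc : ∀ f r y, bc f (r ⊗ₜ y) = r ⊗ₜ f y := fun f r y => Bialgebra.TensorProduct.map_tmul ..
  have hJ : IsNilpotent (I.map (algebraMap R R')) := ⟨n + 1, by
    rw [← Ideal.map_pow, Ideal.Quotient.algebraMap_eq, Ideal.map_quotient_self]; rfl⟩
  have key := eq_of_mod_nilpotent (isMultType_baseChange hM R') hJ (φ := bc φ) (ψ := bc ψ) fun z => by
    induction z using TensorProduct.induction_on with
    | zero => simp
    | add u v hu hv =>
      rw [map_add, map_add, add_sub_add_comm]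
      exact Ideal.add_mem _ hu hv
    | tmul r y =>
      rw [hbc, hbc, ← TensorProduct.tmul_sub]
      exact map_mem_map_tower (R' := R') (TensorProduct.mk R R' A r) ((sub_mem_map_iff_tmul I).2 (h y))
  have := DFunLike.congr_fun key ((1 : R') ⊗ₜ[R] x)
  rwa [hbc, hbc] at this

/-- Homomorphisms lift over adically complete rings. -/
theorem exists_lift_adic_flat [IsNoetherianRing R] (I : Ideal R) [IsAdicComplete I R]
    (hA : SGA3b.IsIsotrivial R A)
    (hfl : ∀ (q : Ideal C) [q.IsPrime], Ideal.map (algebraMap R C) I ≤ q →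
      Module.Flat R (Localization.AtPrime q))
    (h0 : SGA3b.IsQuasiIsotrivial (R ⧸ I) ((R ⧸ I) ⊗[R] C)) (h₀ : C → A) (H₀ : HomMod I h₀) :
    ∃ φ : C →ₐc[R] A, ∀ x, φ x - h₀ x ∈ I.map (algebraMap R A) := by
  classical
  have hM := isMultType_of_isotrivial hA
  obtain ⟨c, hfin, hproj, hff⟩ := finite_projective_chart hA
  have step : ∀ n (h : C → A), HomMod (I ^ (n + 1)) h → ∃ h', HomMod (I ^ (n + 2)) h' ∧
      ∀ x, h' x - h x ∈ (I ^ (n + 1)).map (algebraMap R A) := fun n h H =>
    exists_homMod_step_multType hM (isMultType_level I (n + 1) hfl h0)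
      (Ideal.pow_le_pow_right (Nat.le_succ _)) (by rw [← pow_add]; exact Ideal.pow_le_pow_right (by omega)) H
  let st : ∀ n, {h : C → A // HomMod (I ^ (n + 1)) h} := fun n =>
    n.rec ⟨h₀, by show HomMod (I ^ 1) h₀; rw [pow_one]; exact H₀⟩ fun k hk =>
      ⟨(step k _ hk.2).choose, (step k _ hk.2).choose_spec.1⟩
  obtain ⟨φ, hφ⟩ := exists_limit_homMod I c (fun n => (st n).1) (fun n => (st n).2)
    fun n x => (step n _ (st n).2).choose_spec.2 x
  refine ⟨φ, fun x => ?_⟩
  have h1 : (I ^ (0 + 1)).map (algebraMap R A) = I.map (algebraMap R A) := by rw [zero_add, pow_one]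
  exact h1 ▸ (show φ x - h₀ x ∈ (I ^ (0 + 1)).map (algebraMap R A) from hφ x 0)

end Groth.Agent.MultT
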