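import Groth.Prelude.Def_SGA3b
import Mathlib.RingTheory.HopfAlgebra.MonoidAlgebra
import Mathlib.RingTheory.Bialgebra.Convolution
import Mathlib.RingTheory.Flat.FaithfullyFlat.Algebra
import Mathlib.RingTheory.Localization.BaseChange
import Mathlib.LinearAlgebra.TensorProduct.Tower

/-!
# Diagonalising charts of groups of multiplicative type
-/

universe u v

open TensorProduct WithConv

noncomputable section

namespace Groth.Agent.MultT

variable {R : Type u} [CommRing R] {A : Type u} [CommRing A] [HopfAlgebra R A]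

/-- A coefficient of an element of a group algebra. -/
def cfM (S : Type u) [CommRing S] {M : Type u} (m : M) : MonoidAlgebra S M →ₗ[S] S :=
  Finsupp.lapply m ∘ₗ (MonoidAlgebra.coeffLinearEquiv S).toLinearMap

theorem cfM_single {S : Type u} [CommRing S] {M : Type u} [DecidableEq M] (m n : M) (s : S) :
    cfM S m (MonoidAlgebra.single n s) = if n = m then s else 0 := by
  simp [cfM, Finsupp.single_apply]

theorem cfM_ext {S : Type u} [CommRing S] {M : Type u} {x y : MonoidAlgebra S M}
    (h : ∀ m, cfM S m x = cfM S m y) : x = y := by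
  apply (MonoidAlgebra.coeffLinearEquiv S).injective
  ext m
  exact h m

theorem cfM_mul_cfM (S : Type u) [CommRing S] {M : Type u} [CommGroup M] [DecidableEq M] (m n : M) :
    toConv (cfM S m) * toConv (cfM S n) =
      (if m = n then toConv (cfM S m) else 0 : WithConv (MonoidAlgebra S M →ₗ[S] S)) := by
  refine WithConv.ext (LinearMap.ext fun x => ?_)
  induction x using MonoidAlgebra.induction_linear with
  | zero => simp
  | add x y hx hy => simp only [map_add, hx, hy]
  | single l s =>
    rw [LinearMap.convMul_apply, MonoidAlgebra.comul_single]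
    simp only [CommSemiring.comul_apply, TensorProduct.map_tmul, MonoidAlgebra.lsingle_apply,
      LinearMap.mul'_apply, ofConv_toConv]
    by_cases h : m = n
    · subst h
      by_cases hl : l = m <;> simp [cfM_single, hl]
    · rw [if_neg h, cfM_single, cfM_single]
      by_cases hl : l = m
      · subst hl; simp [h]
      · simp [hl]

/-- A functional on a base change, restricted to the original coalgebra. -/
def restrictFun {S : Type u} [CommRing S] [Algebra R S] {T : Type u} [CommRing T] [Algebra S T]
    [Algebra R T] [IsScalarTower R S T] (x : S ⊗[R] A →ₗ[S] T) : A →ₗ[R] T :=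
  x.restrictScalars R ∘ₗ (Algebra.TensorProduct.includeRight : A →ₐ[R] S ⊗[R] A).toLinearMap

theorem restrictFun_mul {S : Type u} [CommRing S] [Algebra R S] {T : Type u} [CommRing T]
    [Algebra S T] [Algebra R T] [IsScalarTower R S T] (x y : WithConv (S ⊗[R] A →ₗ[S] T)) :
    toConv (restrictFun (A := A) (x * y).ofConv) =
      toConv (restrictFun x.ofConv) * toConv (restrictFun y.ofConv) := by
  refine WithConv.ext (LinearMap.ext fun a => ?_)
  show (x * y).ofConv ((1 : S) ⊗ₜ[R] a) = _
  rw [LinearMap.convMul_apply, LinearMap.convMul_apply, TensorProduct.comul_tmul,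
    CommSemiring.comul_apply]
  induction Coalgebra.comul (R := R) a using TensorProduct.induction_on with
  | zero => simp
  | tmul b c => simp [restrictFun]
  | add b c hb hc => simp only [map_add, TensorProduct.tmul_add, hb, hc]

variable (R A) in
/-- A diagonalising chart: a map to a group algebra over an extension `S`, inducing an isomorphism of
bialgebras after base change, described through the coefficient functionals. -/
structure Chart where
  /-- The extension. -/
  S : Type u
  [instS : CommRing S]
  [algS : Algebra R S]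
  /-- The character group. -/
  M : Type u
  [grpM : CommGroup M]
  /-- The map. -/
  j : A →ₐ[R] MonoidAlgebra S M
  orth : ∀ m n : M, haveI := Classical.decEq M
    toConv ((cfM S m).restrictScalars R ∘ₗ j.toLinearMap) *
      toConv ((cfM S n).restrictScalars R ∘ₗ j.toLinearMap) =
    if m = n then toConv ((cfM S m).restrictScalars R ∘ₗ j.toLinearMap) else 0
  total : ∀ a, (j a).coeff.sum (fun _ s => s) = algebraMap R S (Coalgebra.counit a)
  bij : Function.Bijective (j.toLinearMap.liftBaseChange S)

attribute [instance] Chart.instS Chart.algS Chart.grpM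

variable (c : Chart R A)

/-- The coefficient functionals of a chart. -/
def Chart.cf (m : c.M) : WithConv (A →ₗ[R] c.S) :=
  toConv ((cfM c.S m).restrictScalars R ∘ₗ c.j.toLinearMap)

theorem Chart.cf_apply (m : c.M) (a : A) : c.cf m a = cfM c.S m (c.j a) := rfl

theorem Chart.cf_mul_self (m : c.M) : c.cf m * c.cf m = c.cf m := by
  simpa using! c.orth m m

theorem Chart.cf_mul_ne {m n : c.M} (h : m ≠ n) : c.cf m * c.cf n = 0 := by
  have := c.orth m n
  rw [if_neg h] at this
  exact this

/-- Charts for a diagonalisation of a base change. -/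
def chartOfEquiv {S₀ : Type u} [CommRing S₀] [Algebra R S₀] {S : Type u} [CommRing S] [Algebra S₀ S]
    [Algebra R S] [IsScalarTower R S₀ S] {M : Type u} [CommGroup M]
    (e : (S ⊗[S₀] (S₀ ⊗[R] A)) ≃ₐc[S] MonoidAlgebra S M) : Chart R A where
  S := S
  M := M
  j := ((e : (S ⊗[S₀] (S₀ ⊗[R] A)) →ₐ[S] MonoidAlgebra S M).restrictScalars R).comp
    (((Algebra.TensorProduct.includeRight : S₀ ⊗[R] A →ₐ[S₀] S ⊗[S₀] (S₀ ⊗[R] A)).restrictScalars R).comp
      Algebra.TensorProduct.includeRight)
  orth m n := by
    classical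
    let q : M → WithConv (S ⊗[S₀] (S₀ ⊗[R] A) →ₗ[S] S) := fun l =>
      toConv (cfM S l ∘ₗ (e : (S ⊗[S₀] (S₀ ⊗[R] A)) →ₗc[S] MonoidAlgebra S M).toLinearMap)
    have hq : q m * q n = if m = n then q m else 0 := by
      have := congrArg (fun f : WithConv (MonoidAlgebra S M →ₗ[S] S) =>
        toConv (f.ofConv ∘ₗ (e : (S ⊗[S₀] (S₀ ⊗[R] A)) →ₗc[S] MonoidAlgebra S M).toLinearMap))
        (cfM_mul_cfM S m n)
      simp only [LinearMap.convMul_comp_coalgHom_distrib, toConv_ofConv] at this
      refine this.trans ?_
      split_ifs with h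
      · rfl
      · rfl
    have h1 := restrictFun_mul (R := S₀) (A := S₀ ⊗[R] A) (q m) (q n)
    rw [hq] at h1
    by_cases h : m = n
    · subst h
      rw [if_pos rfl] at h1 ⊢
      have h2 := restrictFun_mul (R := R) (A := A)
        (toConv (restrictFun (R := S₀) (A := S₀ ⊗[R] A) (q m).ofConv))
        (toConv (restrictFun (R := S₀) (A := S₀ ⊗[R] A) (q m).ofConv))
      rw [← h1] at h2
      exact h2.symm
    rw [if_neg h] at h1 ⊢
    have h2 := restrictFun_mul (R := R) (A := A) (toConv (restrictFun (R := S₀) (A := S₀ ⊗[R] A) (q m).ofConv))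
      (toConv (restrictFun (R := S₀) (A := S₀ ⊗[R] A) (q n).ofConv))
    rw [← h1] at h2
    exact h2.symm
  total a := by
    classical
    have key : ∀ x : MonoidAlgebra S M, x.coeff.sum (fun _ s => s) = Coalgebra.counit (R := S) x := by
      intro x
      induction x using MonoidAlgebra.induction_linear with
      | zero => simp
      | add x y hx hy =>
        rw [map_add, ← hx, ← hy, MonoidAlgebra.coeff_add, Finsupp.sum_add_index] <;> simp
      | single l s => simp
    rw [key]
    show Coalgebra.counit (R := S) (e ((1 : S) ⊗ₜ[S₀] ((1 : S₀) ⊗ₜ[R] a))) = _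
    rw [CoalgHomClass.counit_comp_apply, TensorProduct.counit_tmul, TensorProduct.counit_tmul]
    simp [Algebra.smul_def, ← IsScalarTower.algebraMap_apply]
  bij := by
    let E : S ⊗[R] A →ₗ[S] MonoidAlgebra S M :=
      (e : (S ⊗[S₀] (S₀ ⊗[R] A)) ≃ₐ[S] MonoidAlgebra S M).toLinearMap ∘ₗ
        (AlgebraTensorModule.cancelBaseChange R S₀ S S A).symm.toLinearMap
    have hE : Function.Bijective E :=
      (e : (S ⊗[S₀] (S₀ ⊗[R] A)) ≃ₐ[S] MonoidAlgebra S M).bijective.comp
        (AlgebraTensorModule.cancelBaseChange R S₀ S S A).symm.bijective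
    have h : ∀ g : A →ₗ[R] MonoidAlgebra S M,
        (∀ a, g a = E (1 ⊗ₜ a)) → g.liftBaseChange S = E := by
      intro g hg
      refine TensorProduct.AlgebraTensorModule.ext fun s a => ?_
      rw [LinearMap.liftBaseChange_tmul, hg, ← map_smul, TensorProduct.smul_tmul', smul_eq_mul, mul_one]
    rw [h _ fun a => ?_]
    · exact hE
    · simp [E]

/-- Charts detecting everything exist for a group of multiplicative type. -/
theorem exists_charts (h : SGA3b.IsMultType R A) :
    ∀ p : Ideal R, p.IsPrime → ∃ c : Chart R A, Module.Flat R c.S ∧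
      ∃ q : Ideal c.S, q.IsPrime ∧ q.comap (algebraMap R c.S) = p := by
  intro p hp
  obtain ⟨s, hs, h⟩ := h
  obtain ⟨f, hf, hfp⟩ : ∃ f ∈ s, f ∉ p := by
    by_contra hc
    push Not at hc
    exact hp.ne_top (top_le_iff.mp (hs ▸ Ideal.span_le.mpr hc))
  obtain ⟨S, _, _, hff, M, _, ⟨e⟩⟩ := h f hf
  letI : Algebra R S := Algebra.compHom S (algebraMap R (Localization.Away f))
  haveI : IsScalarTower R (Localization.Away f) S := .of_algebraMap_eq fun _ => rfl
  refine ⟨chartOfEquiv e, ?_, ?_⟩
  · haveI : Module.Flat R (Localization.Away f) := IsLocalization.flat _ (Submonoid.powers f)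
    exact Module.Flat.trans R (Localization.Away f) S
  · have hd : Disjoint (Submonoid.powers f : Set R) (p : Set R) := by
      rw [Set.disjoint_left]
      rintro _ ⟨n, rfl⟩ h'
      exact hfp (hp.mem_of_pow_mem n h')
    have := IsLocalization.isPrime_of_isPrime_disjoint (.powers f) (Localization.Away f) p hp hd
    obtain ⟨q, hq⟩ := PrimeSpectrum.comap_surjective_of_faithfullyFlat (B := S)
      (⟨p.map (algebraMap R (Localization.Away f)), this⟩ : PrimeSpectrum (Localization.Away f))
    refine ⟨q.asIdeal, q.2, ?_⟩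
    show q.asIdeal.comap (algebraMap R S) = p
    rw [show (algebraMap R S) = (algebraMap (Localization.Away f) S).comp (algebraMap R _) from rfl,
      ← Ideal.comap_comap, show q.asIdeal.comap (algebraMap (Localization.Away f) S) = _ from
        congrArg PrimeSpectrum.asIdeal hq]
    exact IsLocalization.under_map_of_isPrime_disjoint (.powers f) (Localization.Away f) hp hd

/-- An element vanishing in all charts is zero. -/
theorem eq_zero_of_forall_chart (h : SGA3b.IsMultType R A) {a : A}
    (ha : ∀ c : Chart R A, Module.Flat R c.S → c.j a = 0) : a = 0 := by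
  by_contra hne
  obtain ⟨m, hm, hle⟩ := Ideal.exists_le_maximal (Submodule.colon (⊥ : Submodule R A) ({a} : Set A))
    (fun ht => hne (by
      have : (1 : R) ∈ Submodule.colon (⊥ : Submodule R A) ({a} : Set A) := ht ▸ Submodule.mem_top
      simpa [Submodule.mem_colon_singleton] using this))
  obtain ⟨c, hflat, q, hq, hqm⟩ := exists_charts h m hm.isPrime
  let φ : R →ₗ[R] A := LinearMap.toSpanSingleton R A a
  have hker : LinearMap.ker φ ≤ m := fun r hr => hle (by
    simpa [Submodule.mem_colon_singleton, φ] using! hr)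
  have hex : Function.Exact (LinearMap.ker φ).subtype φ := LinearMap.exact_subtype_ker_map φ
  have hex' := Module.Flat.lTensor_exact c.S hex
  have h1 : (1 : c.S) ⊗ₜ[R] a = 0 := c.bij.1 (by
    rw [map_zero, LinearMap.liftBaseChange_tmul, one_smul]
    exact ha c hflat)
  obtain ⟨z, hz⟩ := (hex' (1 ⊗ₜ 1)).mp (by simpa [φ] using h1)
  have hmem : ∀ w : c.S ⊗[R] LinearMap.ker φ,
      TensorProduct.rid R c.S ((LinearMap.ker φ).subtype.lTensor c.S w) ∈ q := by
    intro w
    induction w using TensorProduct.induction_on with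
    | zero => simp
    | tmul s r =>
      simp only [LinearMap.lTensor_tmul, TensorProduct.rid_tmul, Submodule.subtype_apply,
        Algebra.smul_def]
      refine q.mul_mem_right _ ?_
      have : (r : R) ∈ q.comap (algebraMap R c.S) := hqm ▸ hker r.2
      exact this
    | add x y hx hy => simp only [map_add]; exact q.add_mem hx hy
  refine hq.ne_top ((Ideal.eq_top_iff_one q).mpr ?_)
  have := hmem z
  rwa [hz, TensorProduct.rid_tmul, one_smul] at this

theorem eq_of_forall_chart (h : SGA3b.IsMultType R A) {a b : A}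
    (ha : ∀ c : Chart R A, Module.Flat R c.S → c.j a = c.j b) : a = b :=
  sub_eq_zero.mp (eq_zero_of_forall_chart h fun c hc => by rw [map_sub, ha c hc, sub_self])

/-- A submodule spanning in the charts of a covering is everything. -/
theorem eq_top_of_covering (P : Chart R A → Prop)
    (hP : ∀ p : Ideal R, p.IsPrime → ∃ c : Chart R A, P c ∧ Module.Flat R c.S ∧
      ∃ q : Ideal c.S, q.IsPrime ∧ q.comap (algebraMap R c.S) = p)
    (N : Submodule R A)
    (hN : ∀ c : Chart R A, P c → Submodule.span c.S (c.j '' (N : Set A)) = ⊤) :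
    N = ⊤ := by
  rw [eq_top_iff]
  intro a _
  by_contra hne
  obtain ⟨m, hm, hle⟩ := Ideal.exists_le_maximal (N.colon ({a} : Set A)) (fun ht => hne (by
    have : (1 : R) ∈ N.colon ({a} : Set A) := ht ▸ Submodule.mem_top
    simpa [Submodule.mem_colon_singleton] using this))
  obtain ⟨c, hPc, hflat, q, hq, hqm⟩ := hP m hm.isPrime
  let φ : R →ₗ[R] A ⧸ N := LinearMap.toSpanSingleton R (A ⧸ N) (Submodule.Quotient.mk a)
  have hker : LinearMap.ker φ ≤ m := fun r hr => hle (by
    rw [LinearMap.mem_ker, LinearMap.toSpanSingleton_apply, ← Submodule.Quotient.mk_smul,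
      Submodule.Quotient.mk_eq_zero] at hr
    simpa [Submodule.mem_colon_singleton] using hr)
  have hex' := Module.Flat.lTensor_exact c.S (LinearMap.exact_subtype_ker_map φ)
  have hz0 : N.mkQ.lTensor c.S ((1 : c.S) ⊗ₜ[R] a) = 0 := by
    have hmem : c.j a ∈ Submodule.span c.S (c.j '' (N : Set A)) := hN c hPc ▸ Submodule.mem_top
    suffices ∀ x ∈ Submodule.span c.S (c.j '' (N : Set A)), ∃ w : c.S ⊗[R] A,
        c.j.toLinearMap.liftBaseChange c.S w = x ∧ N.mkQ.lTensor c.S w = 0 by
      obtain ⟨w, hw, hw0⟩ := this _ hmem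
      rwa [c.bij.1 (show c.j.toLinearMap.liftBaseChange c.S w =
        c.j.toLinearMap.liftBaseChange c.S ((1 : c.S) ⊗ₜ[R] a) by
          rw [hw, LinearMap.liftBaseChange_tmul, one_smul]; rfl)] at hw0
    intro x hx
    induction hx using Submodule.span_induction with
    | mem x hx =>
      obtain ⟨n, hn, rfl⟩ := hx
      exact ⟨1 ⊗ₜ n, by simp, by simp [(Submodule.Quotient.mk_eq_zero N).mpr hn]⟩
    | zero => exact ⟨0, by simp, by simp⟩
    | add x y _ _ hx hy =>
      obtain ⟨w, hw, hw0⟩ := hx
      obtain ⟨w', hw', hw0'⟩ := hy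
      exact ⟨w + w', by rw [map_add, hw, hw'], by rw [map_add, hw0, hw0', add_zero]⟩
    | smul s x _ hx =>
      obtain ⟨w, hw, hw0⟩ := hx
      refine ⟨s • w, by rw [map_smul, hw], ?_⟩
      show (N.mkQ.baseChange c.S) (s • w) = 0
      rw [map_smul, show N.mkQ.baseChange c.S w = 0 from hw0, smul_zero]
  obtain ⟨z, hz⟩ := (hex' (1 ⊗ₜ 1)).mp (by simpa [φ] using hz0)
  have hmem : ∀ w : c.S ⊗[R] LinearMap.ker φ,
      TensorProduct.rid R c.S ((LinearMap.ker φ).subtype.lTensor c.S w) ∈ q := by
    intro w
    induction w using TensorProduct.induction_on with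
    | zero => simp
    | tmul s r =>
      simp only [LinearMap.lTensor_tmul, TensorProduct.rid_tmul, Submodule.subtype_apply,
        Algebra.smul_def]
      refine q.mul_mem_right _ ?_
      have : (r : R) ∈ q.comap (algebraMap R c.S) := hqm ▸ hker r.2
      exact this
    | add x y hx hy => simp only [map_add]; exact q.add_mem hx hy
  refine hq.ne_top ((Ideal.eq_top_iff_one q).mpr ?_)
  have := hmem z
  rwa [hz, TensorProduct.rid_tmul, one_smul] at this

/-- A submodule spanning in all charts is everything. -/
theorem eq_top_of_forall_chart (h : SGA3b.IsMultType R A) (N : Submodule R A)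
    (hN : ∀ c : Chart R A, Module.Flat R c.S → Submodule.span c.S (c.j '' (N : Set A)) = ⊤) :
    N = ⊤ :=
  eq_top_of_covering (fun c => Module.Flat R c.S)
    (fun p hp => (exists_charts h p hp).imp fun _ hc => ⟨hc.1, hc⟩) N hN

/-- Finitely many charts cover the base. -/
theorem exists_finite_charts (h : SGA3b.IsMultType R A) :
    ∃ (ι : Type u) (_ : Finite ι) (c : ι → Chart R A), (∀ i, Module.Flat R (c i).S) ∧
      ∀ p : Ideal R, p.IsPrime →
        ∃ i, ∃ q : Ideal (c i).S, q.IsPrime ∧ q.comap (algebraMap R (c i).S) = p := by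
  classical
  obtain ⟨s, hs, h⟩ := h
  obtain ⟨t, hts, ht⟩ := (Ideal.span_eq_top_iff_finite s).mp hs
  have hc : ∀ f : t, ∃ c : Chart R A, Module.Flat R c.S ∧ ∀ p : Ideal R, p.IsPrime → (f : R) ∉ p →
      ∃ q : Ideal c.S, q.IsPrime ∧ q.comap (algebraMap R c.S) = p := by
    intro f
    obtain ⟨S, _, _, hff, M, _, ⟨e⟩⟩ := h f (hts f.2)
    letI : Algebra R S := Algebra.compHom S (algebraMap R (Localization.Away (f : R)))
    haveI : IsScalarTower R (Localization.Away (f : R)) S := .of_algebraMap_eq fun _ => rfl
    refine ⟨chartOfEquiv e, ?_, fun p hp hfp => ?_⟩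
    · haveI : Module.Flat R (Localization.Away (f : R)) := IsLocalization.flat _ (Submonoid.powers (f : R))
      exact Module.Flat.trans R (Localization.Away (f : R)) S
    · have hd : Disjoint (Submonoid.powers (f : R) : Set R) (p : Set R) := by
        rw [Set.disjoint_left]
        rintro _ ⟨n, rfl⟩ h'
        exact hfp (hp.mem_of_pow_mem n h')
      have := IsLocalization.isPrime_of_isPrime_disjoint (.powers (f : R)) (Localization.Away (f : R)) p hp hd
      obtain ⟨q, hq⟩ := PrimeSpectrum.comap_surjective_of_faithfullyFlat (B := S)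
        (⟨p.map (algebraMap R (Localization.Away (f : R))), this⟩ : PrimeSpectrum (Localization.Away (f : R)))
      refine ⟨q.asIdeal, q.2, ?_⟩
      show q.asIdeal.comap (algebraMap R S) = p
      rw [show (algebraMap R S) = (algebraMap (Localization.Away (f : R)) S).comp (algebraMap R _) from rfl,
        ← Ideal.comap_comap, show q.asIdeal.comap (algebraMap (Localization.Away (f : R)) S) = _ from
          congrArg PrimeSpectrum.asIdeal hq]
      exact IsLocalization.under_map_of_isPrime_disjoint (.powers (f : R)) (Localization.Away (f : R)) hp hd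
  choose c hcf hcp using hc
  refine ⟨t, inferInstance, c, hcf, fun p hp => ?_⟩
  obtain ⟨f, hf, hfp⟩ : ∃ f ∈ t, f ∉ p := by
    by_contra hc'
    push Not at hc'
    exact hp.ne_top (top_le_iff.mp (ht ▸ Ideal.span_le.mpr hc'))
  exact ⟨⟨f, hf⟩, hcp ⟨f, hf⟩ p hp hfp⟩

end Groth.Agent.MultT
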