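import Groth.Agent.MultT.PairLift
import Groth.Agent.MultT.NilIso
import Groth.Agent.Hensel.Ops
import Groth.Agent.S0532
import Mathlib

/-! Isotriviality lifts along a Noetherian henselian pair. -/

set_option autoImplicit false

open TensorProduct

universe u

namespace Groth.Agent.MultT

variable {R : Type u} [CommRing R] [IsNoetherianRing R] {I : Ideal R} [HenselianRing R I]

/-- Isotriviality lifts along a Noetherian henselian pair. -/
theorem isIsotrivial_of_henselian_pair {A : Type u} [CommRing A] [HopfAlgebra R A] [Algebra.FiniteType R A]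
    (hA : SGA3b.IsMultType R A) (h0 : SGA3b.IsIsotrivial (R ⧸ I) ((R ⧸ I) ⊗[R] A)) : SGA3b.IsIsotrivial R A := by
  obtain ⟨T₀, _, _, het, hfin, hff, hd⟩ := h0
  haveI := het; haveI := hfin; haveI := hff
  obtain ⟨T, _, _, hTfin, hTet, ⟨e⟩⟩ := Groth.Agent.S0532.result R I T₀
  haveI := hTet; haveI := hTfin
  letI : Algebra R T₀ := Algebra.compHom T₀ (Ideal.Quotient.mk I)
  haveI : IsScalarTower R (R ⧸ I) T₀ := .of_algebraMap_eq fun _ => rfl
  haveI : Module.Flat R T := Algebra.Smooth.flat R T
  haveI : IsNoetherianRing T := Algebra.FiniteType.isNoetherianRing R T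
  haveI : Algebra.IsIntegral R T := Algebra.IsIntegral.of_finite R T
  haveI : HenselianRing T (I.map (algebraMap R T)) := Groth.Agent.Hensel.henselianRing_integral R I T
  let ψ : T →ₐ[R] T₀ := (e.toAlgHom.restrictScalars R).comp Algebra.TensorProduct.includeRight
  haveI : Module.FaithfullyFlat R T := ⟨fun {m} hm htop => by
    rw [Ideal.smul_top_eq_map, ← Submodule.restrictScalars_top R T T, Submodule.restrictScalars_inj] at htop
    have hIm : I ≤ m := fun x hx =>
      (sInf_le ⟨bot_le, hm⟩ : Ideal.jacobson ⊥ ≤ m) (HenselianRing.jac (I := I) hx)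
    let p₀ : PrimeSpectrum (R ⧸ I) := ⟨m.map (Ideal.Quotient.mk I),
      @Ideal.map_isPrime_of_surjective _ _ _ _ _ _ _ (Ideal.Quotient.mk I) Ideal.Quotient.mk_surjective m hm.isPrime
        (by rw [Ideal.mk_ker]; exact hIm)⟩
    obtain ⟨Q, hQ⟩ := PrimeSpectrum.comap_surjective_of_faithfullyFlat (B := T₀) p₀
    have hle : m.map (algebraMap R T) ≤ Q.asIdeal.comap ψ.toRingHom := by
      refine Ideal.map_le_iff_le_comap.2 fun x hx => ?_
      rw [Ideal.mem_comap, Ideal.mem_comap]
      show ψ (algebraMap R T x) ∈ Q.asIdeal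
      rw [ψ.commutes]
      have h1 : Ideal.Quotient.mk I x ∈ (PrimeSpectrum.comap (algebraMap (R ⧸ I) T₀) Q).asIdeal := by
        rw [hQ]; exact Ideal.mem_map_of_mem _ hx
      exact h1
    rw [htop, top_le_iff] at hle
    exact Ideal.IsPrime.ne_top inferInstance hle⟩
  let Q := T ⧸ I.map (algebraMap R T)
  let φ : T₀ →ₐ[R] Q := (Algebra.TensorProduct.lift
    (Ideal.Quotient.liftₐ I (Algebra.ofId R Q) fun x hx => by
      show Ideal.Quotient.mk _ (algebraMap R T x) = 0
      exact Ideal.Quotient.eq_zero_iff_mem.2 (Ideal.mem_map_of_mem _ hx))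
    (Ideal.Quotient.mkₐ R _) fun _ _ => Commute.all _ _).comp (e.symm.toAlgHom.restrictScalars R)
  letI : Algebra T₀ Q := φ.toRingHom.toAlgebra
  haveI : IsScalarTower R T₀ Q := .of_algebraMap_eq fun r => (φ.commutes r).symm
  exact ⟨T, inferInstance, inferInstance, hTet, hTfin, inferInstance,
    isDiag_of_henselian_pair (I.map (algebraMap R T)) (isMultType_baseChange hA T)
      (isDiag_of_equiv (bcTrans R T Q A) (isDiag_baseChange
        (isDiag_of_equiv (bcTrans R (R ⧸ I) T₀ A).symm hd) Q))⟩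

end Groth.Agent.MultT
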