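import Groth.Agent.MultT.GaloisDiag
import Groth.Agent.MultT.HomLift
import Groth.Agent.MultT.FibreGlobal
import Groth.Agent.MultT.AdicLift
import Groth.Agent.AdicBasics.Dimension
import Groth.Agent.Hensel.Local
import Mathlib

/-!
# Homomorphisms from groups of multiplicative type descend from the completion of a henselian ring
-/

set_option autoImplicit false
set_option linter.style.haveILetI false
set_option synthInstance.maxHeartbeats 400000
set_option maxHeartbeats 2000000

universe u

open TensorProduct IsLocalRing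

noncomputable section

namespace Groth.Agent.MultT

variable {R : Type u} [CommRing R] {B : Type u} [CommRing B] [HopfAlgebra R B]

/-- Groups of multiplicative type of finite type over henselian local rings have projective algebras. -/
theorem projective_of_henselian [HenselianLocalRing R] (hB : SGA3b.IsMultType R B) [Algebra.FiniteType R B] :
    Module.Projective R B := by
  obtain ⟨S, _, _, het, hfin, hff, M, _, ⟨e⟩⟩ := isIsotrivial_of_henselian hB
  haveI := het
  haveI := hfin
  haveI := hff
  haveI : Module.FinitePresentation R S := Module.FinitePresentation.of_finite_of_finitePresentation R S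
  haveI : Module.Projective R S := Module.Flat.projective_of_finitePresentation
  let f : S ⊗[R] B ≃ₗ[R] (M →₀ S) :=
    ((BialgEquiv.toAlgEquiv e).toLinearEquiv.trans (MonoidAlgebra.coeffLinearEquiv S)).restrictScalars R
  haveI : Module.Projective R (M →₀ S) := by
    obtain ⟨sS, hsS⟩ := Module.projective_def'.1 (inferInstance : Module.Projective R S)
    refine Module.Projective.of_split (Finsupp.mapRange.linearMap sS)
      (Finsupp.mapRange.linearMap (Finsupp.linearCombination R id)) ?_
    rw [← Finsupp.mapRange.linearMap_comp, hsS, Finsupp.mapRange.linearMap_id]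
  haveI : Module.Projective R (S ⊗[R] B) := Module.Projective.of_equiv f.symm
  obtain ⟨r, hr⟩ := exists_retraction (R := R) (S := S)
  refine Module.Projective.of_split (TensorProduct.mk R S B 1)
    ((TensorProduct.lid R B).toLinearMap ∘ₗ r.rTensor B) (LinearMap.ext fun b => ?_)
  simp [hr]

section Coeff

variable (s : B →ₗ[R] (B →₀ R)) (T : Type u) [CommRing T] [Algebra R T]

/-- A coefficient of a base changed element. -/
def coef (b : B) : T ⊗[R] B →ₗ[R] T :=
  (TensorProduct.rid R T).toLinearMap ∘ₗ (Finsupp.lapply b ∘ₗ s).lTensor T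

theorem coef_tmul (b : B) (t : T) (y : B) : coef s T b (t ⊗ₜ y) = s y b • t := by
  simp [coef]

variable {T}

theorem coef_chStage {T' : Type u} [CommRing T'] [Algebra R T'] (f : T →ₐ[R] T') (b : B) (z : T ⊗[R] B) :
    coef s T' b (chStage f B z) = f (coef s T b z) := by
  induction z using TensorProduct.induction_on with
  | zero => simp
  | add u v hu hv => simp only [map_add, hu, hv]
  | tmul t y => simp [coef_tmul]

variable {s}

theorem exists_expansion (hs : ∀ y, Finsupp.linearCombination R id (s y) = y) (z : T ⊗[R] B) :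
    ∃ σ : Finset B, ∀ σ' : Finset B, σ ⊆ σ' → z = ∑ b ∈ σ', coef s T b z ⊗ₜ[R] b := by
  classical
  induction z using TensorProduct.induction_on with
  | zero => exact ⟨∅, fun σ' _ => by simp⟩
  | add u v hu hv =>
    obtain ⟨σ₁, h₁⟩ := hu
    obtain ⟨σ₂, h₂⟩ := hv
    refine ⟨σ₁ ∪ σ₂, fun σ' h => ?_⟩
    conv_lhs => rw [h₁ σ' (Finset.union_subset_left h), h₂ σ' (Finset.union_subset_right h)]
    simp only [map_add, TensorProduct.add_tmul, Finset.sum_add_distrib]
  | tmul t y =>
    refine ⟨(s y).support, fun σ' h => ?_⟩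
    simp only [coef_tmul, TensorProduct.smul_tmul, ← TensorProduct.tmul_sum]
    congr 1
    conv_lhs => rw [← hs y, Finsupp.linearCombination_apply, Finsupp.sum_of_support_subset _ h _ (by simp)]
    rfl

end Coeff

theorem mem_max_iff [IsNoetherianRing R] [IsLocalRing R] (x : AdicCompletion (maximalIdeal R) R) :
    x ∈ maximalIdeal (AdicCompletion (maximalIdeal R) R) ↔ AdicCompletion.evalOneₐ (maximalIdeal R) x = 0 := by
  rw [AdicCompletion.maximalIdeal_eq_map,
    ← AdicCompletion.ker_evalOneₐ_eq_map _ (maximalIdeal R).fg_of_isNoetherianRing]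
  exact RingHom.mem_ker

/-- A finitely generated subalgebra of the completion, unramified at the closed point, is trivial. -/
theorem eq_bot_of_unramified [IsNoetherianRing R] [HenselianLocalRing R]
    (A₁ : Subalgebra R (AdicCompletion (maximalIdeal R) R)) (hfg : A₁.FG)
    (hq : (maximalIdeal (AdicCompletion (maximalIdeal R) R)).comap A₁.val.toRingHom ≤
      (maximalIdeal (AdicCompletion (maximalIdeal R) R)).comap A₁.val.toRingHom ^ 2 ⊔
        (maximalIdeal R).map (algebraMap R A₁)) : A₁ = ⊥ := by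
  classical
  let Rc := AdicCompletion (maximalIdeal R) R
  let q : Ideal A₁ := (maximalIdeal Rc).comap A₁.val.toRingHom
  haveI : q.IsPrime := Ideal.IsPrime.comap _
  haveI : Algebra.FiniteType R A₁ := A₁.fg_iff_finiteType.1 hfg
  haveI : IsNoetherianRing A₁ := Algebra.FiniteType.isNoetherianRing R A₁
  have hmc : (maximalIdeal Rc).comap (algebraMap R Rc) = maximalIdeal R := IsLocalRing.maximalIdeal_comap _
  haveI : q.LiesOver (maximalIdeal R) := ⟨by
    rw [Ideal.under, Ideal.comap_comap]
    exact hmc.symm⟩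
  letI : Algebra (Localization.AtPrime (maximalIdeal R)) (Localization.AtPrime q) :=
    Localization.AtPrime.algebraOfLiesOver (maximalIdeal R) q
  have hres : ∀ x : A₁, ∃ r : R, x - algebraMap R A₁ r ∈ q := by
    intro x
    obtain ⟨r, hr⟩ := Ideal.Quotient.mk_surjective (AdicCompletion.evalOneₐ (maximalIdeal R) (x : Rc))
    refine ⟨r, ?_⟩
    show ((x : Rc) - algebraMap R Rc r) ∈ maximalIdeal Rc
    rw [mem_max_iff, map_sub, AlgHom.commutes, sub_eq_zero]
    exact hr.symm
  haveI : Algebra.IsUnramifiedAt R q := by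
    rw [Algebra.isUnramifiedAt_iff_map_eq R (maximalIdeal R) q]
    refine ⟨?_, ?_⟩
    · have hsurj : Function.Surjective (algebraMap (maximalIdeal R).ResidueField q.ResidueField) := by
        intro z
        haveI : q.IsMaximal := Ideal.isMaximal_iff.2 ⟨fun h => Ideal.IsPrime.ne_top inferInstance
          ((Ideal.eq_top_iff_one q).2 h), fun J x hle hx hxJ => by
          obtain ⟨r, hr⟩ := hres x
          have hr' : r ∉ maximalIdeal R := fun hm => hx (by
            have h1 : algebraMap R A₁ r ∈ q := by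
              show algebraMap R Rc r ∈ maximalIdeal Rc
              rw [← hmc] at hm
              exact hm
            simpa using q.add_mem hr h1)
          have hu : IsUnit r := by simpa [IsLocalRing.mem_maximalIdeal] using hr'
          exact (Ideal.eq_top_iff_one J).1 (Ideal.eq_top_of_isUnit_mem J
            (by simpa using J.sub_mem hxJ (hle hr)) (hu.map (algebraMap R A₁)))⟩
        obtain ⟨w, rfl⟩ := q.bijective_algebraMap_quotient_residueField.2 z
        obtain ⟨x, rfl⟩ := Ideal.Quotient.mk_surjective w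
        obtain ⟨r, hr⟩ := hres x
        refine ⟨algebraMap R (maximalIdeal R).ResidueField r, ?_⟩
        rw [← IsScalarTower.algebraMap_apply, Ideal.Quotient.eq.2 hr,
          ← Ideal.Quotient.algebraMap_eq, ← IsScalarTower.algebraMap_apply R A₁ (A₁ ⧸ q),
          ← IsScalarTower.algebraMap_apply R (A₁ ⧸ q) q.ResidueField]
      exact Algebra.IsSeparable.of_equiv_equiv (RingEquiv.refl _)
        (RingEquiv.ofBijective _ ⟨(algebraMap (maximalIdeal R).ResidueField q.ResidueField).injective, hsurj⟩)
        (by ext; rfl)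
    · let L := Localization.AtPrime q
      have hmax : q.map (algebraMap A₁ L) = maximalIdeal L := Localization.AtPrime.map_eq_maximalIdeal
      have hm : (maximalIdeal R).map (algebraMap R L) =
          ((maximalIdeal R).map (algebraMap R A₁)).map (algebraMap A₁ L) := by
        rw [Ideal.map_map, ← IsScalarTower.algebraMap_eq]
      refine le_antisymm ?_ ?_
      · rw [hm, ← hmax]
        refine Ideal.map_mono (Ideal.map_le_iff_le_comap.2 fun r hr => ?_)
        show algebraMap R Rc r ∈ maximalIdeal Rc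
        rw [← hmc] at hr
        exact hr
      · have h1 : maximalIdeal L ≤ (maximalIdeal R).map (algebraMap R L) ⊔ maximalIdeal L * maximalIdeal L := by
          rw [← hmax, hm, ← Ideal.map_mul, ← Ideal.map_sup, sup_comm, ← sq]
          exact Ideal.map_mono hq
        exact Submodule.le_of_le_smul_of_le_jacobson_bot (IsNoetherian.noetherian _)
          (IsLocalRing.jacobson_eq_maximalIdeal ⊥ bot_ne_top).ge h1
  obtain ⟨g, hg, P, φ, hφ⟩ := Algebra.IsUnramifiedAt.exists_hasStandardEtaleSurjectionOn (R := R) q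
  have hgu : IsUnit (A₁.val g) := by
    by_contra h
    exact hg h
  let ι : Localization.Away g →ₐ[R] Rc :=
    IsLocalization.liftAlgHom (M := Submonoid.powers g) (f := A₁.val) (by
      rintro ⟨_, n, rfl⟩
      simpa using hgu.pow n)
  let π : R →ₐ[R] R ⧸ maximalIdeal R := Ideal.Quotient.mkₐ R _
  let σ : P.Ring →ₐ[R] R ⧸ maximalIdeal R := (AdicCompletion.evalOneₐ (maximalIdeal R)).comp (ι.comp φ)
  have hK : HenselianRing R (RingHom.ker π.toRingHom) := by
    have : RingHom.ker π.toRingHom = maximalIdeal R := Ideal.mk_ker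
    rw [this]; infer_instance
  obtain ⟨τ, hτ, -⟩ := Hensel.existsUnique_algHom_of_quotient π Ideal.Quotient.mk_surjective hK σ
  have heq : ι.comp φ = (Algebra.ofId R Rc).comp τ := by
    refine Algebra.FormallyUnramified.ext_of_iInf (I := maximalIdeal Rc)
      (Ideal.iInf_pow_eq_bot_of_isLocalRing _ (maximalIdeal.isMaximal Rc).ne_top) fun x => ?_
    rw [Ideal.Quotient.eq, mem_max_iff, map_sub, sub_eq_zero]
    exact (AlgHom.congr_fun hτ x).symm.trans ((AdicCompletion.evalOneₐ (maximalIdeal R)).commutes (τ x)).symm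
  refine eq_bot_iff.2 fun x hx => Algebra.mem_bot.2 ?_
  obtain ⟨e, he⟩ := hφ (algebraMap A₁ (Localization.Away g) ⟨x, hx⟩)
  refine ⟨τ e, ?_⟩
  have h2 : ι (algebraMap A₁ (Localization.Away g) ⟨x, hx⟩) = x := IsLocalization.lift_eq _ _
  rw [← h2, ← he]
  exact (AlgHom.congr_fun heq e).symm

variable {C : Type u} [CommRing C] [HopfAlgebra R C]

/-- Pushing a homomorphism along a change of scalars. -/
theorem exists_push_hom {E E' : Type u} [CommRing E] [CommRing E'] [Algebra R E] [Algebra R E'] (f : E →ₐ[R] E')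
    (θ : (E ⊗[R] C) →ₐc[E] (E ⊗[R] B)) :
    ∃ θ' : (E' ⊗[R] C) →ₐc[E'] (E' ⊗[R] B), ∀ c, θ' ((1 : E') ⊗ₜ c) = chStage f B (θ ((1 : E) ⊗ₜ c)) := by
  letI : Algebra E E' := f.toRingHom.toAlgebra
  haveI : IsScalarTower R E E' := .of_algebraMap_eq fun r => (f.commutes r).symm
  obtain ⟨θ', h⟩ := exists_ext_hom (E' := E') θ
  refine ⟨θ', fun c => ?_⟩
  have hf : IsScalarTower.toAlgHom R E E' = f := AlgHom.ext fun _ => rfl
  have := h ((1 : E) ⊗ₜ c)
  rw [hf] at this
  simpa using this

/-- A map which is a homomorphism after an injective extension of scalars is one. -/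
theorem exists_hom_of_injective [Module.Flat R B] {E E' : Type u} [CommRing E] [CommRing E'] [Algebra R E]
    [Algebra R E'] (f : E →ₐ[R] E') (hf : Function.Injective f) (ψ : C →ₐ[R] E ⊗[R] B)
    (Φ : (E' ⊗[R] C) →ₐc[E'] (E' ⊗[R] B)) (h : ∀ c, chStage f B (ψ c) = Φ ((1 : E') ⊗ₜ c)) :
    ∃ θ : (E ⊗[R] C) →ₐc[E] (E ⊗[R] B), ∀ c, θ ((1 : E) ⊗ₜ c) = ψ c := by
  refine ⟨BialgHom.ofAlgHom (extHom ψ) ?_ ?_, fun c => extHom_includeRight ψ c⟩
  · refine Algebra.TensorProduct.ext (Subsingleton.elim _ _) (AlgHom.ext fun c => ?_)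
    apply hf
    show f (Coalgebra.counit (R := E) (extHom ψ ((1 : E) ⊗ₜ c))) = f (Coalgebra.counit (R := E) ((1 : E) ⊗ₜ[R] c))
    rw [counit_chStage, counit_chStage, extHom_includeRight, h, CoalgHomClass.counit_comp_apply]
    simp
  · refine Algebra.TensorProduct.ext (Subsingleton.elim _ _) (AlgHom.ext fun c => ?_)
    show Algebra.TensorProduct.map (extHom ψ) (extHom ψ) (Coalgebra.comul (R := E) ((1 : E) ⊗ₜ[R] c)) =
      Coalgebra.comul (R := E) (extHom ψ ((1 : E) ⊗ₜ c))
    rw [extHom_includeRight]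
    apply (TensorProduct.AlgebraTensorModule.distribBaseChange R E B B).symm.injective
    apply Module.Flat.rTensor_preserves_injective_linearMap (M := B ⊗[R] B) f.toLinearMap hf
    have h1 : ∀ y : E ⊗[R] B, f.toLinearMap.rTensor (B ⊗[R] B) ((Coalgebra.comul (R := R)).baseChange E y) =
        (Coalgebra.comul (R := R)).baseChange E' (chStage f B y) := by
      intro y
      induction y using TensorProduct.induction_on with
      | zero => simp
      | add u v hu hv => simp only [map_add, hu, hv]
      | tmul t a => simp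
    have h2 : ∀ y z : E ⊗[R] B, f.toLinearMap.rTensor (B ⊗[R] B)
        ((TensorProduct.AlgebraTensorModule.distribBaseChange R E B B).symm (y ⊗ₜ[E] z)) =
        (TensorProduct.AlgebraTensorModule.distribBaseChange R E' B B).symm
          (chStage f B y ⊗ₜ[E'] chStage f B z) := by
      intro y z
      induction y using TensorProduct.induction_on with
      | zero => simp
      | add u v hu hv => simp only [TensorProduct.add_tmul, map_add, hu, hv]
      | tmul t a =>
        induction z using TensorProduct.induction_on with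
        | zero => simp
        | add u v hu hv => simp only [TensorProduct.tmul_add, map_add, hu, hv]
        | tmul t' b => simp [distrib_symm_tmul]
    rw [comul_eq_distrib _ (ψ c), LinearEquiv.symm_apply_apply, h1, h,
      show (Coalgebra.comul (R := R)).baseChange E' (Φ ((1 : E') ⊗ₜ c)) =
        (TensorProduct.AlgebraTensorModule.distribBaseChange R E' B B).symm
          (Coalgebra.comul (R := E') (Φ ((1 : E') ⊗ₜ c))) by
        rw [comul_eq_distrib, LinearEquiv.symm_apply_apply],
      ← CoalgHomClass.map_comp_comul_apply Φ, TensorProduct.comul_tmul, TensorProduct.comul_tmul,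
      CommSemiring.comul_apply, CommSemiring.comul_apply]
    induction Coalgebra.comul (R := R) c using TensorProduct.induction_on with
    | zero => simp
    | add u v hu hv => simp only [TensorProduct.tmul_add, map_add, hu, hv]
    | tmul a a' =>
      rw [TensorProduct.AlgebraTensorModule.tensorTensorTensorComm_tmul,
        TensorProduct.AlgebraTensorModule.tensorTensorTensorComm_tmul, Algebra.TensorProduct.map_tmul,
        extHom_includeRight, extHom_includeRight, h2, h, h]
      rfl

/-- A homomorphism over the completion to a group with commutative special fibre is defined over the base. -/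
theorem exists_descend_completion [IsNoetherianRing R] [HenselianLocalRing R] (hB : SGA3b.IsMultType R B)
    [Algebra.FiniteType R B] [Algebra.FiniteType R C]
    (hC : SGA3b.IsMultType (ResidueField R) (ResidueField R ⊗[R] C))
    (Φ : (AdicCompletion (maximalIdeal R) R ⊗[R] C) →ₐc[AdicCompletion (maximalIdeal R) R]
      (AdicCompletion (maximalIdeal R) R ⊗[R] B))
    (hinj : Function.Injective (algebraMap R (AdicCompletion (maximalIdeal R) R))) :
    ∃ φ : C →ₐc[R] B, ∀ c, Φ ((1 : AdicCompletion (maximalIdeal R) R) ⊗ₜ c) =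
      (1 : AdicCompletion (maximalIdeal R) R) ⊗ₜ φ c := by
  classical
  let Rc := AdicCompletion (maximalIdeal R) R
  haveI := flat hB
  haveI := projective_of_henselian hB
  obtain ⟨s, hs⟩ := Module.projective_def.1 (inferInstance : Module.Projective R B)
  obtain ⟨G, hG⟩ := Algebra.FiniteType.out (R := R) (A := C)
  let Φc : C → Rc ⊗[R] B := fun c => Φ ((1 : Rc) ⊗ₜ c)
  choose σ hσ using fun g : G => exists_expansion (s := s) (T := Rc) hs (Φc g)
  let Λ : Finset Rc := G.attach.biUnion fun g => (σ g).image fun b => coef s Rc b (Φc g)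
  let A₁ : Subalgebra R Rc := Algebra.adjoin R (Λ : Set Rc)
  have hΛ : ∀ (g : G) (b : B), b ∈ σ g → coef s Rc b (Φc g) ∈ A₁ := fun g b hb =>
    Algebra.subset_adjoin (Finset.mem_biUnion.2 ⟨g, Finset.mem_attach _ _, Finset.mem_image.2 ⟨b, hb, rfl⟩⟩)
  have hf : Function.Injective A₁.val := Subtype.val_injective
  let j := chStage A₁.val B
  have hj : Function.Injective j := chStage_injective _ hf
  let Φa : C →ₐ[R] Rc ⊗[R] B :=
    ((Φ : Rc ⊗[R] C →ₐ[Rc] Rc ⊗[R] B).restrictScalars R).comp Algebra.TensorProduct.includeRight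
  have hrange : ∀ c, Φa c ∈ j.range := by
    have : (⊤ : Subalgebra R C) ≤ j.range.comap Φa := by
      rw [← hG, Algebra.adjoin_le_iff]
      intro g hg
      refine ⟨∑ b ∈ (σ ⟨g, hg⟩).attach, (⟨_, hΛ ⟨g, hg⟩ b.1 b.2⟩ : A₁) ⊗ₜ[R] (b : B), ?_⟩
      show j _ = Φc g
      rw [map_sum]
      conv_rhs => rw [hσ ⟨g, hg⟩ _ subset_rfl]
      rw [← Finset.sum_attach (σ ⟨g, hg⟩)]
      simp [j]
    exact fun c => this Algebra.mem_top
  let ψ : C →ₐ[R] A₁ ⊗[R] B := (AlgEquiv.ofInjective j hj).symm.toAlgHom.comp (Φa.codRestrict j.range hrange)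
  have hψ : ∀ c, j (ψ c) = Φc c := fun c =>
    congrArg Subtype.val ((AlgEquiv.ofInjective j hj).apply_symm_apply ⟨Φa c, hrange c⟩)
  obtain ⟨θ, hθ⟩ := exists_hom_of_injective A₁.val hf ψ Φ hψ
  -- the closed point of `A₁` is unramified
  let q : Ideal A₁ := (maximalIdeal Rc).comap A₁.val.toRingHom
  let J : Ideal A₁ := q ^ 2 ⊔ (maximalIdeal R).map (algebraMap R A₁)
  have hmc : (maximalIdeal Rc).comap (algebraMap R Rc) = maximalIdeal R := IsLocalRing.maximalIdeal_comap _
  have hJq : J ≤ q := by
    refine sup_le (Ideal.pow_le_self two_ne_zero) (Ideal.map_le_iff_le_comap.2 fun r hr => ?_)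
    show algebraMap R Rc r ∈ maximalIdeal Rc
    rw [← hmc] at hr
    exact hr
  let W := A₁ ⧸ J
  let π₁ : A₁ →ₐ[R] W := Ideal.Quotient.mkₐ R J
  let k₀ : R ⧸ maximalIdeal R →ₐ[R] W := Ideal.Quotient.liftₐ _ (Algebra.ofId R W) fun r hr => by
    show algebraMap R W r = 0
    rw [IsScalarTower.algebraMap_apply R A₁ W, Ideal.Quotient.algebraMap_eq, Ideal.Quotient.eq_zero_iff_mem]
    exact Ideal.mem_sup_right (Ideal.mem_map_of_mem _ hr)
  let π₂ : A₁ →ₐ[R] W := k₀.comp ((AdicCompletion.evalOneₐ (maximalIdeal R)).comp A₁.val)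
  let I : Ideal W := q.map π₁.toRingHom
  have hdiff : ∀ x, π₁ x - π₂ x ∈ I := by
    intro x
    obtain ⟨r, hr⟩ := Ideal.Quotient.mk_surjective (AdicCompletion.evalOneₐ (maximalIdeal R) (x : Rc))
    have h2 : π₂ x = π₁ (algebraMap R A₁ r) := by
      rw [AlgHom.commutes]
      show k₀ (AdicCompletion.evalOneₐ (maximalIdeal R) (x : Rc)) = _
      rw [← hr]
      rfl
    rw [h2, ← map_sub]
    refine Ideal.mem_map_of_mem _ ?_
    show ((x : Rc) - algebraMap R Rc r) ∈ maximalIdeal Rc
    rw [mem_max_iff, map_sub, AlgHom.commutes, sub_eq_zero]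
    exact hr.symm
  have hI : IsNilpotent I := ⟨2, by
    rw [← Ideal.map_pow]
    exact (Ideal.map_eq_bot_iff_le_ker _).2 fun x hx => Ideal.Quotient.eq_zero_iff_mem.2 (Ideal.mem_sup_left hx)⟩
  letI : Algebra (ResidueField R) W := (k₀ : R ⧸ maximalIdeal R →+* W).toAlgebra
  haveI : IsScalarTower R (ResidueField R) W := .of_algebraMap_eq fun r => rfl
  haveI : Coalgebra.IsCocomm W (W ⊗[R] C) :=
    isCocomm (isMultType_of_equiv (bcTrans R (ResidueField R) W C).symm (isMultType_baseChange hC W))
  obtain ⟨θ₁, hθ₁⟩ := exists_push_hom π₁ θ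
  obtain ⟨θ₂, hθ₂⟩ := exists_push_hom π₂ θ
  have hcong : ∀ z, θ₁ z - θ₂ z ∈ I.map (algebraMap W (W ⊗[R] B)) := by
    intro z
    induction z using TensorProduct.induction_on with
    | zero => simp
    | add u v hu hv =>
      rw [map_add, map_add, add_sub_add_comm]
      exact add_mem hu hv
    | tmul w c =>
      rw [show w ⊗ₜ[R] c = w • ((1 : W) ⊗ₜ[R] c) by rw [TensorProduct.smul_tmul', smul_eq_mul, mul_one],
        map_smul, map_smul, ← smul_sub, hθ₁, hθ₂]
      refine Submodule.smul_of_tower_mem _ w ?_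
      induction θ ((1 : A₁) ⊗ₜ c) using TensorProduct.induction_on with
      | zero => simp
      | add u v hu hv =>
        rw [map_add, map_add, add_sub_add_comm]
        exact add_mem hu hv
      | tmul t b =>
        rw [Algebra.TensorProduct.map_tmul, Algebra.TensorProduct.map_tmul, AlgHom.id_apply,
          ← TensorProduct.sub_tmul, show (π₁ t - π₂ t) ⊗ₜ[R] b =
            algebraMap W (W ⊗[R] B) (π₁ t - π₂ t) * ((1 : W) ⊗ₜ[R] b) by
              rw [Algebra.TensorProduct.algebraMap_apply, Algebra.TensorProduct.tmul_mul_tmul,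
                Algebra.algebraMap_self, RingHom.id_apply, mul_one, one_mul]]
        exact Ideal.mul_mem_right _ _ (Ideal.mem_map_of_mem _ (hdiff t))
  have heq := eq_of_mod_nilpotent (R := W) (C := W ⊗[R] C) (A := W ⊗[R] B) (isMultType_baseChange hB W) hI θ₁ θ₂
    hcong
  have hπ : π₁ = π₂ := by
    have key : ∀ (c : C) (b : B) (h : coef s Rc b (Φc c) ∈ A₁), π₁ ⟨_, h⟩ = π₂ ⟨_, h⟩ := by
      intro c b h
      have hval : (⟨_, h⟩ : A₁) = coef s A₁ b (ψ c) :=
        Subtype.ext ((congrArg (coef s Rc b) (hψ c)).symm.trans (coef_chStage s A₁.val b (ψ c)))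
      have h12 := congrArg (coef s W b) (DFunLike.congr_fun heq ((1 : W) ⊗ₜ c))
      rw [hθ₁, hθ₂, coef_chStage, coef_chStage, hθ] at h12
      rw [hval, h12]
    refine AlgHom.adjoin_ext fun x hx => ?_
    obtain ⟨g, -, hg⟩ := Finset.mem_biUnion.1 hx
    obtain ⟨b, hb, rfl⟩ := Finset.mem_image.1 hg
    exact key g b _
  have hqJ : q ≤ J := fun x hx => by
    rw [← Ideal.Quotient.eq_zero_iff_mem]
    show π₁ x = 0
    rw [hπ]
    show k₀ (AdicCompletion.evalOneₐ (maximalIdeal R) (x : Rc)) = 0
    have hx' : (x : Rc) ∈ maximalIdeal Rc := hx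
    rw [mem_max_iff] at hx'
    rw [hx', map_zero]
  have hbot : A₁ = ⊥ := eq_bot_of_unramified A₁ ⟨Λ, rfl⟩ hqJ
  -- conclusion
  let inc := chStage (Algebra.ofId R Rc) B
  have hinc : ∀ z, inc z = (1 : Rc) ⊗ₜ[R] TensorProduct.lid R B z := by
    intro z
    induction z using TensorProduct.induction_on with
    | zero => simp
    | add u v hu hv => simp only [map_add, TensorProduct.tmul_add, hu, hv]
    | tmul r b =>
      simp [inc, Algebra.ofId_apply, TensorProduct.tmul_smul, TensorProduct.smul_tmul', Algebra.algebraMap_eq_smul_one]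
  have hall : ∀ c, ∃ z : R ⊗[R] B, inc z = Φc c := by
    intro c
    rw [← hψ]
    induction ψ c using TensorProduct.induction_on with
    | zero => exact ⟨0, by simp⟩
    | add u v hu hv =>
      obtain ⟨a, ha⟩ := hu
      obtain ⟨b, hb⟩ := hv
      exact ⟨a + b, by rw [map_add, map_add, ha, hb]⟩
    | tmul t b =>
      obtain ⟨r, hr⟩ := Algebra.mem_bot.1 (hbot ▸ t.2 : (t : Rc) ∈ (⊥ : Subalgebra R Rc))
      exact ⟨r ⊗ₜ b, by simp [inc, j, Algebra.ofId_apply, hr]⟩
  have hincinj : Function.Injective inc := chStage_injective _ hinj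
  have hrange₀ : ∀ c, Φa c ∈ inc.range := fun c => hall c
  let ψ₀ : C →ₐ[R] R ⊗[R] B :=
    (AlgEquiv.ofInjective inc hincinj).symm.toAlgHom.comp (Φa.codRestrict inc.range hrange₀)
  have hψ₀ : ∀ c, inc (ψ₀ c) = Φc c := fun c =>
    congrArg Subtype.val ((AlgEquiv.ofInjective inc hincinj).apply_symm_apply ⟨Φa c, hrange₀ c⟩)
  obtain ⟨θ₀, hθ₀⟩ := exists_hom_of_injective (Algebra.ofId R Rc) hinj ψ₀ Φ hψ₀
  refine ⟨((Bialgebra.TensorProduct.lid R B : R ⊗[R] B →ₐc[R] B).comp θ₀).comp
    ((Bialgebra.TensorProduct.lid R C).symm : C →ₐc[R] R ⊗[R] C), fun c => ?_⟩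
  show Φc c = (1 : Rc) ⊗ₜ[R] TensorProduct.lid R B (θ₀ ((Bialgebra.TensorProduct.lid R C).symm c))
  rw [show (Bialgebra.TensorProduct.lid R C).symm c = (1 : R) ⊗ₜ[R] c from rfl, hθ₀, ← hinc, hψ₀]

/-- **Homomorphisms from a group of multiplicative type and completion of a henselian base.** -/
theorem bijective_completion [IsNoetherianRing R] [HenselianLocalRing R] (hB : SGA3b.IsMultType R B)
    [Algebra.FiniteType R B] [Algebra.FiniteType R C]
    (hC : SGA3b.IsMultType (ResidueField R) (ResidueField R ⊗[R] C)) :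
    (∀ φ ψ : C →ₐc[R] B, (∀ c, (1 : AdicCompletion (maximalIdeal R) R) ⊗ₜ[R] φ c =
        (1 : AdicCompletion (maximalIdeal R) R) ⊗ₜ[R] ψ c) → φ = ψ) ∧
    ∀ Φ : (AdicCompletion (maximalIdeal R) R ⊗[R] C) →ₐc[AdicCompletion (maximalIdeal R) R]
      (AdicCompletion (maximalIdeal R) R ⊗[R] B), ∃ φ : C →ₐc[R] B,
        ∀ c, Φ ((1 : AdicCompletion (maximalIdeal R) R) ⊗ₜ c) =
          (1 : AdicCompletion (maximalIdeal R) R) ⊗ₜ φ c := by
  haveI := flat hB
  have hinj : Function.Injective (algebraMap R (AdicCompletion (maximalIdeal R) R)) :=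
    AdicCompletion.of_injective (maximalIdeal R) R
  refine ⟨fun φ ψ h => DFunLike.ext _ _ fun c => ?_, fun Φ => exists_descend_completion hB hC Φ hinj⟩
  have h' : chStage (Algebra.ofId R (AdicCompletion (maximalIdeal R) R)) B ((1 : R) ⊗ₜ φ c) =
      chStage (Algebra.ofId R (AdicCompletion (maximalIdeal R) R)) B ((1 : R) ⊗ₜ ψ c) := by simpa using h c
  simpa using congrArg (TensorProduct.lid R B) (chStage_injective _ hinj h')

end Groth.Agent.MultT
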