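import Groth.Agent.MultT.LocalFibre
import Groth.Agent.MultT.Dense
import Groth.Agent.MultT.QFKilled
import Groth.Agent.HopfSmDim.Versch
import Mathlib

/-!
Schematic density of the torsion in a commutative group over a field with an open subgroup of multiplicative type.
-/

set_option autoImplicit false
set_option linter.unusedSectionVars false
set_option linter.style.haveILetI false
set_option backward.isDefEq.respectTransparency false
set_option synthInstance.maxHeartbeats 400000
set_option maxHeartbeats 2000000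

universe u

open TensorProduct WithConv Coalgebra

noncomputable section

namespace Groth.Agent.MultT

variable {R : Type u} [CommRing R] {A : Type u} [CommRing A] [HopfAlgebra R A]

/-- Density in the form of elements implies density in the form of intersections of extended ideals. -/
theorem iInf_eq_bot_of_dense {ι : Type*} (J : ι → Ideal A)
    (h : ∀ a y : A, (∀ i, ∃ k : ℕ, a ^ k * y ∈ J i) → ∃ k : ℕ, a ^ k * y = 0) (a : A) :
    ⨅ i, Ideal.map (algebraMap A (Localization.Away a)) (J i) = ⊥ := by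
  refine eq_bot_iff.2 fun x hx => ?_
  obtain ⟨⟨y, ⟨_, j, rfl⟩⟩, hy⟩ := IsLocalization.surj (Submonoid.powers a) x
  obtain ⟨k, hk⟩ := h a y fun i => by
    have hxn := (Submodule.mem_iInf _).1 hx i
    have hy' : algebraMap A (Localization.Away a) y ∈ Ideal.map (algebraMap A (Localization.Away a)) (J i) :=
      hy ▸ Ideal.mul_mem_right _ _ hxn
    obtain ⟨⟨⟨z, hz⟩, ⟨_, l, rfl⟩⟩, hzl⟩ := (IsLocalization.mem_map_algebraMap_iff (Submonoid.powers a) _).1 hy'
    obtain ⟨⟨_, k, rfl⟩, hk⟩ := (IsLocalization.eq_iff_exists (Submonoid.powers a) _).1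
      (show algebraMap A (Localization.Away a) (y * a ^ l) = algebraMap A _ z by rw [map_mul]; exact hzl)
    refine ⟨k + l, ?_⟩
    rw [show a ^ (k + l) * y = a ^ k * (y * a ^ l) by ring]
    exact hk ▸ Ideal.mul_mem_left _ _ hz
  rw [Ideal.mem_bot]
  have hu : IsUnit (algebraMap A (Localization.Away a) a) :=
    IsLocalization.map_units (Localization.Away a) (⟨a, Submonoid.mem_powers a⟩ : Submonoid.powers a)
  have : x * (algebraMap A (Localization.Away a) (a ^ j) * algebraMap A (Localization.Away a) (a ^ k)) = 0 := by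
    rw [← mul_assoc, show x * algebraMap A (Localization.Away a) (a ^ j) = algebraMap A _ y from hy,
      ← map_mul, mul_comm, hk, map_zero]
  exact (IsUnit.mul_left_eq_zero (by simpa using (hu.pow j).mul (hu.pow k))).1 this

/-- The torsion ideals decrease along divisibility. -/
theorem torsionIdeal_mul_le [IsCocomm R A] (n d : ℕ) :
    SGA3b.torsionIdeal R A (n * d) ≤ SGA3b.torsionIdeal R A n := by
  refine Ideal.map_le_iff_le_comap.2 fun c hc => ?_
  show SGA3b.powConv R A (n * d) c ∈ SGA3b.torsionIdeal R A n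
  rw [← QFKilled.powConv_comp_powConv, AlgHom.comp_apply]
  refine Ideal.mem_map_of_mem _ ?_
  show counit (R := R) (SGA3b.powConv R A d c) = 0
  rw [counit_powConv, show counit (R := R) c = 0 from hc]

section Translate

variable {K : Type u} [CommRing K] [Algebra R K]

/-- A point, as constants on the base change. -/
def cstPt (t : WithConv (A →ₐ[R] K)) : WithConv (A →ₐ[R] K ⊗[R] A) :=
  toConv ((Algebra.TensorProduct.includeLeft : K →ₐ[R] K ⊗[R] A).comp t.ofConv)

theorem cstPt_mul (s t : WithConv (A →ₐ[R] K)) : cstPt (s * t) = cstPt s * cstPt t :=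
  (congrArg toConv (AlgHom.comp_convMul_distrib _ s t)).trans (by simp [cstPt])

theorem cstPt_one : cstPt (1 : WithConv (A →ₐ[R] K)) = 1 := by
  refine WithConv.ext (AlgHom.ext fun c => ?_)
  show (Algebra.TensorProduct.includeLeft : K →ₐ[R] K ⊗[R] A) ((1 : WithConv (A →ₐ[R] K)) c) = _
  rw [AlgHom.convOne_apply, AlgHom.convOne_apply, AlgHom.commutes]

/-- The translated universal point. -/
def transPt (t : WithConv (A →ₐ[R] K)) : WithConv (A →ₐ[R] K ⊗[R] A) :=
  cstPt t * toConv Algebra.TensorProduct.includeRight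

/-- Translation by a point. -/
def transl (t : WithConv (A →ₐ[R] K)) : K ⊗[R] A →ₐ[K] K ⊗[R] A :=
  Algebra.TensorProduct.lift (Algebra.ofId K _) (transPt t).ofConv fun _ _ => Commute.all _ _

theorem transl_one_tmul (t : WithConv (A →ₐ[R] K)) (c : A) : transl t ((1 : K) ⊗ₜ c) = transPt t c := by
  simp [transl, ← Algebra.TensorProduct.one_def]

theorem transl_transl (s t : WithConv (A →ₐ[R] K)) : (transl s).comp (transl t) = transl (t * s) := by
  refine Algebra.TensorProduct.ext (Subsingleton.elim _ _) ?_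
  have h1 : toConv (((transl s).restrictScalars R).comp (cstPt t).ofConv) = cstPt t := by
    refine WithConv.ext (AlgHom.ext fun c => ?_)
    show transl s (t c ⊗ₜ 1) = t c ⊗ₜ 1
    rw [show (t c ⊗ₜ[R] (1 : A)) = algebraMap K (K ⊗[R] A) (t c) from rfl, AlgHom.commutes]
  have h2 : toConv (((transl s).restrictScalars R).comp Algebra.TensorProduct.includeRight) = transPt s :=
    WithConv.ext (AlgHom.ext fun c => transl_one_tmul s c)
  have h3 : toConv (((transl s).restrictScalars R).comp (transPt t).ofConv) = transPt (t * s) := by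
    have h := AlgHom.comp_convMul_distrib ((transl s).restrictScalars R) (cstPt t)
      (toConv Algebra.TensorProduct.includeRight)
    refine (congrArg toConv h).trans ?_
    simp only [toConv_ofConv]
    rw [h1, h2, transPt, transPt, cstPt_mul, mul_assoc]
  refine AlgHom.ext fun c => ?_
  show transl s (transl t ((1 : K) ⊗ₜ c)) = transl (t * s) ((1 : K) ⊗ₜ c)
  rw [transl_one_tmul, transl_one_tmul, ← h3]
  rfl

theorem transl_one (z : K ⊗[R] A) : transl (1 : WithConv (A →ₐ[R] K)) z = z := by
  have : transl (1 : WithConv (A →ₐ[R] K)) = AlgHom.id K _ :=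
    Algebra.TensorProduct.ext (Subsingleton.elim _ _) (AlgHom.ext fun c => by
      show transl (1 : WithConv (A →ₐ[R] K)) ((1 : K) ⊗ₜ c) = (1 : K) ⊗ₜ c
      rw [transl_one_tmul, transPt, cstPt_one, one_mul]
      rfl)
  rw [this]; rfl

theorem transl_powConv [IsCocomm R A] {n : ℕ} {t : WithConv (A →ₐ[R] K)} (ht : t ^ n = 1) (c : A) :
    transl t ((1 : K) ⊗ₜ SGA3b.powConv R A n c) = (1 : K) ⊗ₜ SGA3b.powConv R A n c := by
  have hp : ∀ k : ℕ, t ^ k = toConv (t.ofConv.comp ((toConv (AlgHom.id R A)) ^ k).ofConv) := by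
    intro k
    induction k with
    | zero =>
      refine WithConv.ext (AlgHom.ext fun c => ?_)
      rw [pow_zero, pow_zero, AlgHom.convOne_apply]
      show _ = t.ofConv ((1 : WithConv (A →ₐ[R] A)) c)
      rw [AlgHom.convOne_apply, AlgHom.commutes]
    | succ k ih => rw [pow_succ, pow_succ, ih, AlgHom.comp_convMul_distrib, toConv_ofConv, AlgHom.comp_id]
  let φ : A →ₐc[R] A := powBialgHom n
  have h := AlgHom.convMul_comp_bialgHom_distrib (cstPt t)
    (toConv (Algebra.TensorProduct.includeRight : A →ₐ[R] K ⊗[R] A)) φ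
  have h1 : toConv ((cstPt t).ofConv.comp (φ : A →ₐ[R] A)) = 1 := by
    rw [← cstPt_one, ← ht, hp n]
    rfl
  rw [h1, one_mul] at h
  rw [transl_one_tmul]
  exact congrArg (fun f => f c) h

end Translate

/-- **Density of torsion with an open subgroup of multiplicative type.** -/
theorem dense_torsion_open {k : Type u} [Field k] {C : Type u} [CommRing C] [HopfAlgebra k C] [IsCocomm k C]
    [Algebra.FiniteType k C] {e : C} (he : IsIdempotentElem e) [(Ideal.span {e}).IsHopfIdeal k]
    (hG : SGA3b.IsMultType k (C ⧸ Ideal.span {e})) (a y : C)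
    (h : ∀ n : {n : ℕ // 0 < n}, ∃ j : ℕ, a ^ j * y ∈ SGA3b.torsionIdeal k C n.1) :
    ∃ j : ℕ, a ^ j * y = 0 := by
  classical
  let C' := C ⧸ Ideal.span {e}
  haveI : Algebra.FiniteType k C' :=
    Algebra.FiniteType.of_surjective (Ideal.Quotient.mkₐ k _) Ideal.Quotient.mk_surjective
  let π : C →ₐc[k] C' := Bialgebra.Quotient.mkBialgHom (Ideal.span {e})
  have hπe : π e = 0 := Ideal.Quotient.eq_zero_iff_mem.2 (Ideal.mem_span_singleton_self e)
  have hε : counit (R := k) e = 0 := by
    rw [← CoalgHomClass.counit_comp_apply π e, hπe, map_zero]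
  obtain ⟨S₁, _, _, hS₁, hd₁⟩ := exists_nontrivial_split hG
  haveI := hS₁
  have hiso := isIsotrivial_of_split S₁ hd₁
  let N : Ideal C :=
    { carrier := {r : C | ∃ j : ℕ, r * (a ^ j * y) = 0}
      zero_mem' := ⟨0, zero_mul _⟩
      add_mem' := by
        rintro r r' ⟨j, hj⟩ ⟨j', hj'⟩
        refine ⟨j + j', ?_⟩
        linear_combination a ^ j' * hj + a ^ j * hj'
      smul_mem' := by
        rintro s r ⟨j, hj⟩
        exact ⟨j, by rw [smul_eq_mul]; linear_combination s * hj⟩ }
  suffices hN : N = ⊤ by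
    obtain ⟨j, hj⟩ := (hN ▸ Submodule.mem_top : (1 : C) ∈ N)
    exact ⟨j, by rwa [one_mul] at hj⟩
  by_contra hne
  obtain ⟨m, hm, hle⟩ := Ideal.exists_le_maximal N hne
  haveI := hm
  letI : Field (C ⧸ m) := Ideal.Quotient.field m
  let K := AlgebraicClosure (C ⧸ m)
  let x : C →ₐ[k] K := (IsScalarTower.toAlgHom k (C ⧸ m) K).comp (Ideal.Quotient.mkₐ k m)
  have hxm : ∀ c, x c = 0 → c ∈ m := fun c hc => Ideal.Quotient.eq_zero_iff_mem.1
    ((map_eq_zero (algebraMap (C ⧸ m) K)).1 hc)
  obtain ⟨n₀, t, hn₀, ht, hte, -⟩ := exists_torsion_translate he hε hiso K x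
  -- the element dies on the translated subgroup
  let Φ : K ⊗[k] C →ₐ[K] K ⊗[k] C' := Algebra.TensorProduct.map (AlgHom.id K K) (π : C →ₐ[k] C')
  obtain ⟨j, hj⟩ := dense_torsion (isMultType_baseChange hG K) (Φ (transl t ((1 : K) ⊗ₜ a)))
    (Φ (transl t ((1 : K) ⊗ₜ y))) fun n hn => by
    obtain ⟨j, hj⟩ := h ⟨n * n₀, Nat.mul_pos hn hn₀⟩
    refine ⟨j, ?_⟩
    rw [← map_pow, ← map_mul, ← map_pow (transl t), ← map_mul (transl t), Algebra.TensorProduct.tmul_pow, one_pow,
      Algebra.TensorProduct.tmul_mul_tmul, one_mul]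
    have hle : SGA3b.torsionIdeal k C (n * n₀) ≤ (SGA3b.torsionIdeal K (K ⊗[k] C') n).comap
        ((Φ.comp (transl t)).toRingHom.comp (Algebra.TensorProduct.includeRight : C →ₐ[k] K ⊗[k] C).toRingHom) := by
      refine Ideal.map_le_iff_le_comap.2 fun c hc => ?_
      show Φ (transl t ((1 : K) ⊗ₜ SGA3b.powConv k C (n * n₀) c)) ∈ SGA3b.torsionIdeal K (K ⊗[k] C') n
      rw [transl_powConv (by rw [mul_comm, pow_mul, ht, one_pow]), ← QFKilled.powConv_comp_powConv, AlgHom.comp_apply]
      show (1 : K) ⊗ₜ[k] π (SGA3b.powConv k C n (SGA3b.powConv k C n₀ c)) ∈ SGA3b.torsionIdeal K (K ⊗[k] C') n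
      rw [powConv_comp, ← VerschComp.powConv_one_tmul]
      refine Ideal.mem_map_of_mem _ ?_
      show counit (R := K) ((1 : K) ⊗ₜ[k] π (SGA3b.powConv k C n₀ c)) = 0
      rw [TensorProduct.counit_tmul, CoalgHomClass.counit_comp_apply, counit_powConv,
        show counit (R := k) c = 0 from hc, zero_smul]
    exact hle hj
  let z := a ^ j * y
  have hz : Φ (transl t ((1 : K) ⊗ₜ z)) = 0 := by
    rw [← map_pow, ← map_mul, ← map_pow (transl t), ← map_mul (transl t), Algebra.TensorProduct.tmul_pow, one_pow,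
      Algebra.TensorProduct.tmul_mul_tmul, one_mul] at hj
    exact hj
  let f : K ⊗[k] C := (1 : K) ⊗ₜ (1 - e)
  have hker : ∀ w, Φ w = 0 → f * w = 0 := by
    intro w hw
    have h1 : w ∈ RingHom.ker (Algebra.TensorProduct.map (AlgHom.id k K) (π : C →ₐ[k] C')) := hw
    have h2 := (congrArg (fun J => w ∈ J) (Algebra.TensorProduct.lTensor_ker (A := K)
      (π : C →ₐ[k] C') Ideal.Quotient.mk_surjective)).mp h1
    rw [show RingHom.ker (π : C →ₐ[k] C') = Ideal.span {e} from Ideal.mk_ker, Ideal.map_span,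
      Set.image_singleton, Algebra.TensorProduct.includeRight_apply] at h2
    obtain ⟨v, rfl⟩ := Ideal.mem_span_singleton'.1 h2
    rw [mul_left_comm, Algebra.TensorProduct.tmul_mul_tmul, sub_mul, one_mul, one_mul, he.eq, sub_self,
      TensorProduct.tmul_zero, mul_zero]
  let w := transl t⁻¹ f
  have hw : w * ((1 : K) ⊗ₜ z) = 0 := by
    have := congrArg (transl t⁻¹) (hker _ hz)
    rwa [map_mul, map_zero, ← AlgHom.comp_apply, transl_transl, mul_inv_cancel, transl_one] at this
  -- the multiplier survives at the point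
  let X : K ⊗[k] C →ₐ[K] K := Algebra.TensorProduct.lift (AlgHom.id K K) x fun _ _ => Commute.all _ _
  have hX : toConv ((X.restrictScalars k).comp (transPt t⁻¹).ofConv) = t⁻¹ * toConv x := by
    have h := AlgHom.comp_convMul_distrib (X.restrictScalars k) (cstPt t⁻¹)
      (toConv (Algebra.TensorProduct.includeRight : C →ₐ[k] K ⊗[k] C))
    refine (congrArg toConv h).trans ?_
    simp only [toConv_ofConv]
    congr 1
    · exact WithConv.ext (AlgHom.ext fun c => by simp [X, cstPt])
    · exact congrArg toConv (AlgHom.ext fun c => by simp [X])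
  have hXw : X w = 1 := by
    show X (transl t⁻¹ ((1 : K) ⊗ₜ (1 - e))) = 1
    rw [transl_one_tmul]
    show (toConv ((X.restrictScalars k).comp (transPt t⁻¹).ofConv)) (1 - e) = 1
    rw [hX]
    show (t⁻¹ * toConv x).ofConv (1 - e) = 1
    rw [map_sub, map_one, show (t⁻¹ * toConv x).ofConv e = 0 from hte, sub_zero]
  let b := Module.Free.chooseBasis k K
  let E := TensorProduct.equivFinsuppOfBasisLeft (N := C) b
  have hdec : ∀ i, E w i ∈ m := by
    intro i
    refine hle ⟨j, ?_⟩
    have h0 := congrArg (fun v => E v i) hw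
    have hmul : ∀ v : K ⊗[k] C, E (v * ((1 : K) ⊗ₜ z)) i = E v i * z := by
      intro v
      induction v using TensorProduct.induction_on with
      | zero => simp
      | add u v hu hv => simp only [add_mul, map_add, Finsupp.add_apply, hu, hv]
      | tmul s c => simp [E, smul_mul_assoc]
    simpa [hmul] using h0
  have hXw' : X w = 0 := by
    have hsum := E.symm_apply_apply w
    rw [TensorProduct.equivFinsuppOfBasisLeft_symm_apply] at hsum
    rw [← hsum, map_finsuppSum]
    refine Finset.sum_eq_zero fun i _ => ?_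
    show X (b i ⊗ₜ E w i) = 0
    rw [Algebra.TensorProduct.lift_tmul, show x (E w i) = 0 from by
      show algebraMap (C ⧸ m) K (Ideal.Quotient.mk m (E w i)) = 0
      rw [Ideal.Quotient.eq_zero_iff_mem.2 (hdec i), map_zero], mul_zero]
  exact one_ne_zero (hXw.symm.trans hXw')

end Groth.Agent.MultT
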