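import Groth.Agent.MultT.DescentIso
import Groth.Agent.MultT.AlgFP
import Groth.Agent.MultT.SplitConn
import Groth.Agent.MultT.QuasiBC
import Groth.Agent.MultT.OpenSub
import Groth.Agent.HopfModel.Main
import Mathlib

/-!
Groups split by étale covers descend to a member of a directed family of subrings.
-/

set_option autoImplicit false
set_option linter.unusedSectionVars false
set_option linter.style.haveILetI false
set_option backward.isDefEq.respectTransparency false
set_option synthInstance.maxHeartbeats 400000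
set_option maxHeartbeats 1000000

universe u

open TensorProduct

noncomputable section

namespace Groth.Agent.MultT

/-- Descent of a group of multiplicative type along a directed family of subrings, for a property which descends
along finitely generated subrings. -/
theorem exists_family_descend
    (P : ∀ (S : Type u) [CommRing S] (X : Type u) [CommRing X] [HopfAlgebra S X], Prop)
    (hequiv : ∀ (S : Type u) [CommRing S] (X Y : Type u) [CommRing X] [HopfAlgebra S X] [CommRing Y] [HopfAlgebra S Y],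
      (X ≃ₐc[S] Y) → P S Y → P S X)
    (hdesc : ∀ (R₀ R : Type u) [CommRing R₀] [CommRing R] [Algebra R₀ R] (C₀ : Type u) [CommRing C₀]
      [HopfAlgebra R₀ C₀] [Algebra.FinitePresentation R₀ C₀], P R (R ⊗[R₀] C₀) →
      ∃ A : Subalgebra R₀ R, A.FG ∧ ∀ A' : Subalgebra R₀ R, A ≤ A' → P A' (A' ⊗[R₀] C₀))
    {R : Type u} [CommRing R] {ι : Type u} [Preorder ι] [IsDirected ι (· ≤ ·)] [Nonempty ι]
    (B : ι → Subring R) (hmono : Monotone B) (hsup : ⨆ i, B i = ⊤)
    (C : Type u) [CommRing C] [HopfAlgebra R C] (hfp : Algebra.FinitePresentation R C) (hC : P R C) :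
    ∃ (i : ι) (Ci : Type u) (_ : CommRing Ci) (_ : HopfAlgebra (B i) Ci),
      Algebra.FiniteType (B i) Ci ∧ P (B i) Ci ∧ Nonempty ((R ⊗[B i] Ci) ≃ₐc[R] C) := by
  obtain ⟨R₀, iR, _, hft, -, C₀, _, _, hfp₀, -, ⟨E⟩⟩ := HopfModel.exists_model R C hfp
  haveI := hfp₀
  obtain ⟨A, hA, hA'⟩ := hdesc R₀ R C₀ (hequiv R _ _ E hC)
  have hft' : (Int.castRingHom R₀).FiniteType := by
    rw [show Int.castRingHom R₀ = algebraMap ℤ R₀ from Subsingleton.elim _ _]
    exact RingHom.finiteType_algebraMap.2 hft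
  obtain ⟨i, A', hle, hi⟩ := exists_subalgebra_le B hmono hsup hft' A hA
  have hgoal : ∀ Bi : Subring R, A'.toSubring = Bi → ∃ (Ci : Type u) (_ : CommRing Ci) (_ : HopfAlgebra Bi Ci),
      Algebra.FiniteType Bi Ci ∧ P Bi Ci ∧ Nonempty ((R ⊗[Bi] Ci) ≃ₐc[R] C) := by
    rintro _ rfl
    exact ⟨A' ⊗[R₀] C₀, inferInstance, (inferInstance : HopfAlgebra A' (A' ⊗[R₀] C₀)),
      (inferInstance : Algebra.FiniteType A' (A' ⊗[R₀] C₀)), hA' A' hle, ⟨(bcTrans R₀ A' R C₀).trans E⟩⟩
  obtain ⟨Ci, h1, h2, h3⟩ := hgoal (B i) hi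
  exact ⟨i, Ci, h1, h2, h3⟩

/-- Quasi-isotriviality transfers along isomorphisms. -/
theorem isQuasiIsotrivial_of_equiv {R : Type u} [CommRing R] {X Y : Type u} [CommRing X] [HopfAlgebra R X]
    [CommRing Y] [HopfAlgebra R Y] (e : X ≃ₐc[R] Y) (h : SGA3b.IsQuasiIsotrivial R Y) :
    SGA3b.IsQuasiIsotrivial R X := by
  obtain ⟨s, hs, h⟩ := h
  refine ⟨s, hs, fun f hf => ?_⟩
  obtain ⟨S, _, _, het, hff, hd⟩ := h f hf
  obtain ⟨g⟩ := exists_bcCongr e (Localization.Away f)
  obtain ⟨g'⟩ := exists_bcCongr g S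
  exact ⟨S, inferInstance, inferInstance, het, hff, isDiag_of_equiv g' hd⟩

end Groth.Agent.MultT
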