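import Groth.Agent.SchDescent.Amitsur
import Mathlib

/-! Forms of algebras given by semilinear coactions: the invariants and their base change. -/

set_option autoImplicit false
set_option synthInstance.maxHeartbeats 400000

open TensorProduct

universe u

noncomputable section

namespace Groth.Agent.MultT

variable {R S : Type u} [CommRing R] [CommRing S] [Algebra R S]
  {N : Type u} [CommRing N] [Algebra R N] [Algebra S N] [IsScalarTower R S N]

/-- Compatibility of a coaction with the scalars. -/
def IsSemilin (ρ : N →ₐ[R] S ⊗[R] N) : Prop := ∀ s : S, ρ (algebraMap S N s) = s ⊗ₜ 1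

/-- The invariants of a coaction. -/
def invariants (ρ : N →ₐ[R] S ⊗[R] N) : Subalgebra R N :=
  AlgHom.equalizer ρ Algebra.TensorProduct.includeRight

theorem mem_invariants {ρ : N →ₐ[R] S ⊗[R] N} {n : N} :
    n ∈ invariants ρ ↔ ρ n = 1 ⊗ₜ n := Iff.rfl

theorem rho_liftBaseChange {ρ : N →ₐ[R] S ⊗[R] N} (hsl : IsSemilin ρ) {B : Type u} [AddCommGroup B]
    [Module R B] (j : B →ₗ[R] N) (hj : ∀ b, ρ (j b) = 1 ⊗ₜ j b) (w : S ⊗[R] B) :
    ρ (j.liftBaseChange S w) = j.lTensor S w := by
  induction w using TensorProduct.induction_on with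
  | zero => simp
  | tmul s b =>
    rw [LinearMap.liftBaseChange_tmul, Algebra.smul_def, map_mul, hsl, hj,
      Algebra.TensorProduct.tmul_mul_tmul, mul_one, one_mul, LinearMap.lTensor_tmul]
  | add x y hx hy => simp only [map_add, hx, hy]

theorem liftBaseChange_id_lTensor {B : Type u} [AddCommGroup B] [Module R B] (j : B →ₗ[R] N) (w : S ⊗[R] B) :
    (LinearMap.id : N →ₗ[R] N).liftBaseChange S (j.lTensor S w) = j.liftBaseChange S w := by
  induction w using TensorProduct.induction_on with
  | zero => simp
  | tmul s b => simp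
  | add x y hx hy => simp only [map_add, hx, hy]

/-- The invariants of a coaction are a form. -/
theorem bijective_invariants [Module.Flat R S] {ρ : N →ₐ[R] S ⊗[R] N} (hsl : IsSemilin ρ)
    (hcu : ∀ n, (LinearMap.id : N →ₗ[R] N).liftBaseChange S (ρ n) = n)
    (hco : ∀ n, LinearMap.lTensor S ρ.toLinearMap (ρ n) =
      LinearMap.lTensor S (TensorProduct.mk R S N 1) (ρ n)) :
    Function.Bijective ((invariants ρ).val.toLinearMap.liftBaseChange S) := by
  let ι := (invariants ρ).val.toLinearMap
  let d : N →ₗ[R] S ⊗[R] N := ρ.toLinearMap - TensorProduct.mk R S N 1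
  have hex : Function.Exact ι d := by
    intro n
    constructor
    · intro h
      exact ⟨⟨n, sub_eq_zero.1 h⟩, rfl⟩
    · rintro ⟨⟨m, hm⟩, rfl⟩
      exact sub_eq_zero.2 hm
  have hinj : Function.Injective (ι.lTensor S) :=
    Module.Flat.lTensor_preserves_injective_linearMap ι Subtype.val_injective
  refine ⟨fun w w' h => hinj ?_, fun n => ?_⟩
  · rw [← rho_liftBaseChange hsl ι (fun b => b.2) w, ← rho_liftBaseChange hsl ι (fun b => b.2) w']
    exact congrArg ρ h
  · obtain ⟨w, hw⟩ := ((Module.Flat.lTensor_exact S hex) (ρ n)).mp (by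
      rw [LinearMap.lTensor_sub, LinearMap.sub_apply, sub_eq_zero]
      exact hco n)
    refine ⟨w, ?_⟩
    rw [← liftBaseChange_id_lTensor, hw, hcu]

variable [Module.FaithfullyFlat R S]

/-- The base change of a form determines it. -/
theorem injective_of_form {B : Type u} [AddCommGroup B] [Module R B] (j : B →ₗ[R] N)
    (hbij : Function.Bijective (j.liftBaseChange S)) : Function.Injective j := fun a b h =>
  Module.FaithfullyFlat.tensorProduct_mk_injective (A := R) (B := S) B (hbij.1 (by simp [h]))

/-- Every invariant element comes from the form. -/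
theorem exists_of_invariant {ρ : N →ₐ[R] S ⊗[R] N} (hsl : IsSemilin ρ) {B : Type u} [AddCommGroup B]
    [Module R B] (j : B →ₗ[R] N) (hj : ∀ b, ρ (j b) = 1 ⊗ₜ j b)
    (hbij : Function.Bijective (j.liftBaseChange S)) {n : N} (hn : ρ n = 1 ⊗ₜ n) : ∃ b, j b = n := by
  obtain ⟨w, rfl⟩ := hbij.2 n
  rw [rho_liftBaseChange hsl j hj] at hn
  obtain ⟨b, hb⟩ := Groth.Agent.SchDescent.mem_range_of_amitsur R S B w (by
    have hinj : Function.Injective (((j.liftBaseChange S).restrictScalars R).lTensor S) :=
      Module.Flat.lTensor_preserves_injective_linearMap _ hbij.1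
    refine hinj ?_
    rw [← LinearMap.lTensor_comp_apply]
    have hc : ((j.liftBaseChange S).restrictScalars R) ∘ₗ TensorProduct.mk R S B 1 = j := by
      ext b; simp
    rw [hc, hn]
    simp)
  exact ⟨b, by rw [← hb]; simp⟩

/-- An algebra map to the invariants factors uniquely through a form. -/
theorem exists_algHom_of_invariant {ρ : N →ₐ[R] S ⊗[R] N} (hsl : IsSemilin ρ) {B : Type u} [CommRing B]
    [Algebra R B] (j : B →ₐ[R] N) (hj : ∀ b, ρ (j b) = 1 ⊗ₜ j b)
    (hbij : Function.Bijective (j.toLinearMap.liftBaseChange S)) {C : Type u} [CommRing C] [Algebra R C]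
    (f : C →ₐ[R] N) (hf : ∀ c, ρ (f c) = 1 ⊗ₜ f c) : ∃ g : C →ₐ[R] B, ∀ c, j (g c) = f c := by
  have hinj : Function.Injective j := injective_of_form j.toLinearMap hbij
  choose g hg using fun c => exists_of_invariant hsl j.toLinearMap hj hbij (hf c)
  change ∀ c, j (g c) = f c at hg
  exact ⟨{ toFun := g
           map_one' := hinj (by rw [hg, map_one, map_one])
           map_mul' := fun a b => hinj (by rw [hg, map_mul, map_mul, hg, hg])
           map_zero' := hinj (by rw [hg, map_zero, map_zero])
           map_add' := fun a b => hinj (by rw [hg, map_add, map_add, hg, hg])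
           commutes' := fun r => hinj (by rw [hg, AlgHom.commutes, AlgHom.commutes]) }, hg⟩

end Groth.Agent.MultT
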