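import Groth.Agent.MultT.GLElt
import Groth.Agent.MultT.DescentForm
import Mathlib

/-! Effective descent of diagonalisable groups along a faithfully flat ring map: the Hopf algebra
attached to a cocycle of group-like families. -/

set_option autoImplicit false
set_option synthInstance.maxHeartbeats 400000

open TensorProduct MonoidAlgebra

universe u

noncomputable section

namespace Groth.Agent.MultT

variable {R S : Type u} [CommRing R] [CommRing S] [Algebra R S]
  {M N : Type u} [CommGroup M] [CommGroup N]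

/-- The left inclusion. -/
abbrev iL (R S : Type u) [CommRing R] [CommRing S] [Algebra R S] : S →ₐ[R] S ⊗[R] S :=
  Algebra.TensorProduct.includeLeft

/-- The right inclusion. -/
abbrev iR (R S : Type u) [CommRing R] [CommRing S] [Algebra R S] : S →ₐ[R] S ⊗[R] S :=
  Algebra.TensorProduct.includeRight

/-- Change of group, linear over the base. -/
abbrev rdmap (R S : Type u) [CommRing R] [CommRing S] [Algebra R S] {M N : Type u} [CommGroup M] [CommGroup N]
    (φ : M →* N) : MonoidAlgebra S M →ₐ[R] MonoidAlgebra S N :=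
  mapDomainAlgHom R S φ

/-- Tensoring a group algebra. -/
abbrev omega (R S M : Type u) [CommRing R] [CommRing S] [Algebra R S] [CommGroup M] :
    S ⊗[R] MonoidAlgebra S M ≃ₐ[R] MonoidAlgebra (S ⊗[R] S) M :=
  rTensorEquivAlgEquiv R R S S

/-- The coaction attached to a family. -/
def rho (χ : M →* MonoidAlgebra (S ⊗[R] S) M) : MonoidAlgebra S M →ₐ[R] S ⊗[R] MonoidAlgebra S M :=
  (omega R S M).symm.toAlgHom.comp (((act χ).restrictScalars R).comp (mapAlgHom M (iL R S)))

theorem omega_rho (χ : M →* MonoidAlgebra (S ⊗[R] S) M) (z : MonoidAlgebra S M) :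
    omega R S M (rho χ z) = act χ (mapAlgHom M (iL R S) z) :=
  (omega R S M).apply_symm_apply _

theorem omega_one_tmul (z : MonoidAlgebra S M) : omega R S M (1 ⊗ₜ z) = mapAlgHom M (iR R S) z := by
  simp

theorem rho_eq_iff (χ : M →* MonoidAlgebra (S ⊗[R] S) M) (z : MonoidAlgebra S M) :
    rho χ z = 1 ⊗ₜ z ↔ act χ (mapAlgHom M (iL R S) z) = mapAlgHom M (iR R S) z := by
  rw [← omega_rho, ← omega_one_tmul, (omega R S M).injective.eq_iff]

theorem isSemilin_rho (χ : M →* MonoidAlgebra (S ⊗[R] S) M) : IsSemilin (rho χ) := by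
  intro s
  apply (omega R S M).injective
  rw [omega_rho]
  simp [MonoidAlgebra.coe_algebraMap, MonoidAlgebra.one_def, TensorProduct.smul_tmul']

theorem omega_lTensor (φ : M →* N) (x : S ⊗[R] MonoidAlgebra S M) :
    omega R S N ((rdmap R S φ).toLinearMap.lTensor S x) = dmap _ φ (omega R S M x) := by
  induction x using TensorProduct.induction_on with
  | zero => simp
  | add x y hx hy => simp only [map_add, hx, hy]
  | tmul s z =>
    induction z using MonoidAlgebra.induction_linear with
    | zero => simp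
    | add x y hx hy => simp only [TensorProduct.tmul_add, map_add, hx, hy]
    | single m t => simp

theorem rho_dmap (χ : M →* MonoidAlgebra (S ⊗[R] S) M) (ψ : N →* MonoidAlgebra (S ⊗[R] S) N) (φ : M →* N)
    (h : ∀ m, dmap _ φ (χ m) = ψ (φ m)) {z : MonoidAlgebra S M} (hz : rho χ z = 1 ⊗ₜ z) :
    rho ψ (rdmap R S φ z) = 1 ⊗ₜ rdmap R S φ z := by
  rw [rho_eq_iff] at hz ⊢
  show act ψ (mapAlgHom N (iL R S) (dmap S φ z)) = mapAlgHom N (iR R S) (dmap S φ z)
  rw [mapAlgHom_dmap, mapAlgHom_dmap, ← hz, dmap_act χ ψ φ φ h]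

/-- Forms of a group algebra for a family. -/
structure IsForm (χ : M →* MonoidAlgebra (S ⊗[R] S) M) {B : Type u} [CommRing B] [Algebra R B]
    (j : B →ₐ[R] MonoidAlgebra S M) : Prop where
  inv : ∀ b, rho χ (j b) = 1 ⊗ₜ j b
  bij : Function.Bijective (j.toLinearMap.liftBaseChange S)

/-- The product of two forms. -/
def prodMap {B C : Type u} [CommRing B] [Algebra R B] [CommRing C] [Algebra R C]
    (j : B →ₐ[R] MonoidAlgebra S M) (k : C →ₐ[R] MonoidAlgebra S N) :
    B ⊗[R] C →ₐ[R] MonoidAlgebra S (M × N) :=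
  Algebra.TensorProduct.lift ((rdmap R S (MonoidHom.inl M N)).comp j)
    ((rdmap R S (MonoidHom.inr M N)).comp k) fun _ _ => Commute.all _ _

theorem prodMap_tmul {B C : Type u} [CommRing B] [Algebra R B] [CommRing C] [Algebra R C]
    (j : B →ₐ[R] MonoidAlgebra S M) (k : C →ₐ[R] MonoidAlgebra S N) (b : B) (c : C) :
    prodMap j k (b ⊗ₜ c) = dmap S (MonoidHom.inl M N) (j b) * dmap S (MonoidHom.inr M N) (k c) :=
  Algebra.TensorProduct.lift_tmul _ _ _ b c

theorem IsForm.prod {χ : M →* MonoidAlgebra (S ⊗[R] S) M} {ψ : N →* MonoidAlgebra (S ⊗[R] S) N}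
    {B C : Type u} [CommRing B] [Algebra R B] [CommRing C] [Algebra R C]
    {j : B →ₐ[R] MonoidAlgebra S M} {k : C →ₐ[R] MonoidAlgebra S N}
    (hj : IsForm χ j) (hk : IsForm ψ k) : IsForm (prodFam χ ψ) (prodMap j k) where
  inv x := by
    induction x using TensorProduct.induction_on with
    | zero => simp
    | add x y hx hy => simp only [map_add, hx, hy, TensorProduct.tmul_add]
    | tmul b c =>
      rw [prodMap_tmul, map_mul]
      show rho _ (rdmap R S _ (j b)) * rho _ (rdmap R S _ (k c)) = _
      rw [rho_dmap χ (prodFam χ ψ) _ (prodFam_inl χ ψ) (hj.inv b),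
        rho_dmap ψ (prodFam χ ψ) _ (prodFam_inr χ ψ) (hk.inv c),
        Algebra.TensorProduct.tmul_mul_tmul, one_mul]
      rfl
  bij := by
    let F : S ⊗[R] (B ⊗[R] C) ≃ₗ[S] MonoidAlgebra S (M × N) :=
      (TensorProduct.AlgebraTensorModule.distribBaseChange R S B C).trans
        ((TensorProduct.congr (LinearEquiv.ofBijective _ hj.bij) (LinearEquiv.ofBijective _ hk.bij)).trans
          (tensorEquiv S))
    have hF : ∀ x, (prodMap j k).toLinearMap.liftBaseChange S x = F x := by
      intro x
      induction x using TensorProduct.induction_on with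
      | zero => simp
      | add x y hx hy => simp only [map_add, hx, hy]
      | tmul s y =>
        induction y using TensorProduct.induction_on with
        | zero => simp
        | add x y hx hy => simp only [TensorProduct.tmul_add, map_add, hx, hy]
        | tmul b c =>
          simp only [F, LinearEquiv.trans_apply, TensorProduct.AlgebraTensorModule.distribBaseChange_tmul,
            TensorProduct.congr_tmul, LinearEquiv.ofBijective_apply, LinearMap.liftBaseChange_tmul,
            tensorEquiv_tmul, one_smul, map_smul, AlgHom.toLinearMap_apply, prodMap_tmul,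
            smul_mul_assoc]
    rw [funext hF]
    exact F.bijective

theorem prodMap_map {M' N' B C B' C' : Type u} [CommGroup M'] [CommGroup N'] [CommRing B] [Algebra R B]
    [CommRing C] [Algebra R C] [CommRing B'] [Algebra R B'] [CommRing C'] [Algebra R C']
    (j : B →ₐ[R] MonoidAlgebra S M) (k : C →ₐ[R] MonoidAlgebra S N)
    (j' : B' →ₐ[R] MonoidAlgebra S M') (k' : C' →ₐ[R] MonoidAlgebra S N')
    (φ : M →* M') (ψ : N →* N') (h : B →ₐ[R] B') (g : C →ₐ[R] C')
    (hh : ∀ b, j' (h b) = rdmap R S φ (j b)) (hg : ∀ c, k' (g c) = rdmap R S ψ (k c)) (x : B ⊗[R] C) :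
    prodMap j' k' (Algebra.TensorProduct.map h g x) = dmap S (φ.prodMap ψ) (prodMap j k x) := by
  induction x using TensorProduct.induction_on with
  | zero => simp
  | add x y hx hy => simp only [map_add, hx, hy]
  | tmul b c =>
    simp only [Algebra.TensorProduct.map_tmul, prodMap_tmul, hh, hg]
    show dmap S _ (dmap S φ (j b)) * dmap S _ (dmap S ψ (k c)) = dmap S _ (dmap S _ (j b) * dmap S _ (k c))
    rw [map_mul, dmap_dmap, dmap_dmap, dmap_dmap, dmap_dmap]
    congr 3 <;> ext <;> simp

theorem prodMap_lift {B : Type u} [CommRing B] [Algebra R B] (j : B →ₐ[R] MonoidAlgebra S M)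
    (φ ψ : M →* M) (h g : B →ₐ[R] B)
    (hh : ∀ b, j (h b) = rdmap R S φ (j b)) (hg : ∀ b, j (g b) = rdmap R S ψ (j b)) (x : B ⊗[R] B) :
    j (Algebra.TensorProduct.lift h g (fun _ _ => Commute.all _ _) x) = dmap S (φ.coprod ψ) (prodMap j j x) := by
  induction x using TensorProduct.induction_on with
  | zero => simp
  | add x y hx hy => simp only [map_add, hx, hy]
  | tmul b c =>
    simp only [Algebra.TensorProduct.lift_tmul, prodMap_tmul, map_mul, hh, hg]
    show dmap S φ (j b) * dmap S ψ (j c) = dmap S _ (dmap S _ (j b)) * dmap S _ (dmap S _ (j c))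
    rw [dmap_dmap, dmap_dmap, MonoidHom.coprod_comp_inl, MonoidHom.coprod_comp_inr]

theorem aug_act {T : Type u} [CommRing T] {χ : M →* MonoidAlgebra T N} (hχ : ∀ m, IsGL (χ m))
    (x : MonoidAlgebra T M) : aug T N (act χ x) = aug T M x := by
  induction x using MonoidAlgebra.induction_linear with
  | zero => simp
  | add x y hx hy => simp only [map_add, hx, hy]
  | single m t => simp [(hχ m).2]

theorem dmap_inv {T : Type u} [CommRing T] {χ : M →* MonoidAlgebra T N} (hχ : ∀ m, IsGL (χ m)) (m : M) :
    dmap T invMonoidHom (χ m) = χ m⁻¹ := by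
  have h := congrArg (dmap T ((MonoidHom.id N).coprod invMonoidHom)) (hχ m).1
  rw [dmap_dmap, map_mul, dmap_dmap, dmap_dmap, MonoidHom.coprod_comp_inl, MonoidHom.coprod_comp_inr,
    dmap_id, show ((MonoidHom.id N).coprod invMonoidHom).comp (diagHom N) = 1 by ext n; simp, dmap_one,
    (hχ m).2, map_one] at h
  refine (left_inv_eq_right_inv ?_ h.symm).symm
  rw [← map_mul, inv_mul_cancel, map_one]

section Structure

variable [Module.FaithfullyFlat R S] {A : Type u} [CommRing A] [Algebra R A]
  {χ : M →* MonoidAlgebra (S ⊗[R] S) M} {j : A →ₐ[R] MonoidAlgebra S M}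

theorem prodMap_assoc (y : A ⊗[R] A ⊗[R] A) :
    prodMap j (prodMap j j : _) (Algebra.TensorProduct.assoc R R R A A A y) =
      dmap S (MulEquiv.prodAssoc (M := M) (N := M) (P := M)).toMonoidHom (prodMap (prodMap j j : _) j y : _) := by
  induction y using TensorProduct.induction_on with
  | zero => simp
  | add x y hx hy => simp only [map_add, hx, hy]
  | tmul x z =>
    induction x using TensorProduct.induction_on with
    | zero => simp
    | add x y hx hy => simp only [TensorProduct.add_tmul, map_add, hx, hy]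
    | tmul x y =>
      simp only [Algebra.TensorProduct.assoc_tmul, prodMap_tmul, map_mul, dmap_dmap]
      rw [mul_assoc]
      rfl

theorem coassoc_of_form (hj : IsForm χ j) (Δ : A →ₐ[R] A ⊗[R] A)
    (hΔ : ∀ a, prodMap j j (Δ a) = dmap S (diagHom M) (j a)) (a : A) :
    Algebra.TensorProduct.assoc R R R A A A (Algebra.TensorProduct.map Δ (AlgHom.id R A) (Δ a)) =
      Algebra.TensorProduct.map (AlgHom.id R A) Δ (Δ a) := by
  refine injective_of_form (prodMap j (prodMap j j : _) : _).toLinearMap (hj.prod (hj.prod hj)).bij ?_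
  show prodMap j (prodMap j j : _) _ = prodMap j (prodMap j j : _) _
  rw [prodMap_assoc, prodMap_map j j (prodMap j j : _) j (diagHom M) (MonoidHom.id M) Δ (AlgHom.id R A) hΔ
      (fun c => (dmap_id (j c)).symm),
    prodMap_map j j j (prodMap j j : _) (MonoidHom.id M) (diagHom M) (AlgHom.id R A) Δ
      (fun c => (dmap_id (j c)).symm) hΔ, hΔ, dmap_dmap, dmap_dmap, dmap_dmap]
  rfl

theorem counit_of_form (hj : IsForm χ j) (Δ : A →ₐ[R] A ⊗[R] A) (ε : A →ₐ[R] R)
    (hΔ : ∀ a, prodMap j j (Δ a) = dmap S (diagHom M) (j a))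
    (hε : ∀ a, algebraMap R S (ε a) = aug S M (j a)) (a : A) :
    Algebra.TensorProduct.lid R A (Algebra.TensorProduct.map ε (AlgHom.id R A) (Δ a)) = a ∧
      Algebra.TensorProduct.rid R R A (Algebra.TensorProduct.map (AlgHom.id R A) ε (Δ a)) = a := by
  have htriv : ∀ b, j (algebraMap R A (ε b)) = rdmap R S (1 : M →* M) (j b) := fun b => by
    show j (algebraMap R A (ε b)) = dmap S 1 (j b)
    rw [dmap_one, ← hε, AlgHom.commutes, ← IsScalarTower.algebraMap_apply]
  have hjinj : Function.Injective j := injective_of_form j.toLinearMap hj.bij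
  have hl : ∀ x, Algebra.TensorProduct.lid R A (Algebra.TensorProduct.map ε (AlgHom.id R A) x) =
      Algebra.TensorProduct.lift ((Algebra.ofId R A).comp ε) (AlgHom.id R A) (fun _ _ => Commute.all _ _) x := by
    intro x
    induction x using TensorProduct.induction_on with
    | zero => simp
    | add x y hx hy => simp only [map_add, hx, hy]
    | tmul x y => simp [Algebra.smul_def, Algebra.ofId_apply]
  have hr : ∀ x, Algebra.TensorProduct.rid R R A (Algebra.TensorProduct.map (AlgHom.id R A) ε x) =
      Algebra.TensorProduct.lift (AlgHom.id R A) ((Algebra.ofId R A).comp ε) (fun _ _ => Commute.all _ _) x := by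
    intro x
    induction x using TensorProduct.induction_on with
    | zero => simp
    | add x y hx hy => simp only [map_add, hx, hy]
    | tmul x y => simp [Algebra.smul_def, Algebra.ofId_apply, mul_comm]
  have h1 : ((1 : M →* M).coprod (MonoidHom.id M)).comp (diagHom M) = MonoidHom.id M := by ext; simp
  have h2 : ((MonoidHom.id M).coprod (1 : M →* M)).comp (diagHom M) = MonoidHom.id M := by ext; simp
  refine ⟨hjinj ?_, hjinj ?_⟩
  · rw [hl, prodMap_lift j 1 (MonoidHom.id M) _ _ htriv (fun c => (dmap_id (j c)).symm), hΔ, dmap_dmap, h1,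
      dmap_id]
  · rw [hr, prodMap_lift j (MonoidHom.id M) 1 _ _ (fun c => (dmap_id (j c)).symm) htriv, hΔ, dmap_dmap, h2,
      dmap_id]

theorem antipode_of_form (hj : IsForm χ j) (Δ : A →ₐ[R] A ⊗[R] A) (ε : A →ₐ[R] R) (σ : A →ₐ[R] A)
    (hΔ : ∀ a, prodMap j j (Δ a) = dmap S (diagHom M) (j a))
    (hε : ∀ a, algebraMap R S (ε a) = aug S M (j a))
    (hσ : ∀ a, j (σ a) = dmap S invMonoidHom (j a)) (a : A) :
    Algebra.TensorProduct.lift σ (AlgHom.id R A) (fun _ _ => Commute.all _ _) (Δ a) = algebraMap R A (ε a) ∧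
      Algebra.TensorProduct.lift (AlgHom.id R A) σ (fun _ _ => Commute.all _ _) (Δ a) = algebraMap R A (ε a) := by
  have htriv : j (algebraMap R A (ε a)) = dmap S (1 : M →* M) (j a) := by
    rw [dmap_one, ← hε, AlgHom.commutes, ← IsScalarTower.algebraMap_apply]
  have hjinj : Function.Injective j := injective_of_form j.toLinearMap hj.bij
  have h1 : ((invMonoidHom : M →* M).coprod (MonoidHom.id M)).comp (diagHom M) = 1 := by ext; simp
  have h2 : ((MonoidHom.id M).coprod (invMonoidHom : M →* M)).comp (diagHom M) = 1 := by ext; simp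
  refine ⟨hjinj ?_, hjinj ?_⟩
  · rw [prodMap_lift j invMonoidHom (MonoidHom.id M) σ _ hσ (fun c => (dmap_id (j c)).symm), hΔ, dmap_dmap,
      htriv, h1]
  · rw [prodMap_lift j (MonoidHom.id M) invMonoidHom _ σ (fun c => (dmap_id (j c)).symm) hσ, hΔ, dmap_dmap,
      htriv, h2]

end Structure

/-- The comparison map of a form is a bialgebra isomorphism. -/
theorem exists_equiv_of_form {A : Type u} [CommRing A] [Bialgebra R A] {j : A →ₐ[R] MonoidAlgebra S M}
    (hbij : Function.Bijective (j.toLinearMap.liftBaseChange S))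
    (hΔ : ∀ a, prodMap j j (Coalgebra.comul (R := R) a) = dmap S (diagHom M) (j a))
    (hε : ∀ a, algebraMap R S (Coalgebra.counit (R := R) a) = aug S M (j a)) :
    ∃ e : (S ⊗[R] A) ≃ₐc[S] MonoidAlgebra S M, ∀ a, e ((1 : S) ⊗ₜ a) = j a := by
  let g : S ⊗[R] A →ₐ[S] MonoidAlgebra S M :=
    Algebra.TensorProduct.lift (Algebra.ofId _ _) j fun _ _ => Commute.all _ _
  have hgj : ∀ x, g x = j.toLinearMap.liftBaseChange S x := by
    intro x
    induction x using TensorProduct.induction_on with
    | zero => simp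
    | add x y hx hy => simp only [map_add, hx, hy]
    | tmul s b => simp [g, Algebra.smul_def, Algebra.ofId_apply]
  have hg1 : ∀ a, g ((1 : S) ⊗ₜ a) = j a := fun a => by rw [hgj]; simp
  have hgb : Function.Bijective g := by rw [funext hgj]; exact hbij
  refine ⟨BialgEquiv.ofBijective (BialgHom.ofAlgHom g ?_ ?_) hgb, fun a => hg1 a⟩
  · refine Algebra.TensorProduct.ext (Subsingleton.elim _ _) (AlgHom.ext fun a => ?_)
    simp only [AlgHom.comp_apply, AlgHom.restrictScalars_apply, Algebra.TensorProduct.includeRight_apply,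
      Bialgebra.counitAlgHom_apply, hg1, TensorProduct.counit_tmul, CommSemiring.counit_apply]
    rw [counit_eq_aug, ← hε, Algebra.smul_def, mul_one]
  · refine Algebra.TensorProduct.ext (Subsingleton.elim _ _) (AlgHom.ext fun a => ?_)
    simp only [AlgHom.comp_apply, AlgHom.restrictScalars_apply, Algebra.TensorProduct.includeRight_apply,
      Bialgebra.comulAlgHom_apply, hg1]
    apply (tensorEquiv S).injective
    rw [tensorEquiv_comul, ← hΔ, TensorProduct.comul_tmul, CommSemiring.comul_apply]
    induction Coalgebra.comul (R := R) a using TensorProduct.induction_on with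
    | zero => simp
    | add x y hx hy => simp only [TensorProduct.tmul_add, map_add, hx, hy]
    | tmul x y =>
      simp only [TensorProduct.AlgebraTensorModule.tensorTensorTensorComm_tmul,
        Algebra.TensorProduct.map_tmul, hg1, tensorEquiv_tmul, prodMap_tmul]

/-- The Hopf algebra structure of a form of a group algebra. -/
theorem exists_hopf_of_form [Module.FaithfullyFlat R S] (χ : M →* MonoidAlgebra (S ⊗[R] S) M)
    (hgl : ∀ m, IsGL (χ m)) (A : Type u) [CommRing A] [Algebra R A] (j : A →ₐ[R] MonoidAlgebra S M)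
    (hj : IsForm χ j) :
    ∃ (A : Type u) (_ : CommRing A) (_ : HopfAlgebra R A) (e : (S ⊗[R] A) ≃ₐc[S] MonoidAlgebra S M),
      ∀ a, act χ (mapAlgHom M (iL R S) (e ((1 : S) ⊗ₜ a))) = mapAlgHom M (iR R S) (e ((1 : S) ⊗ₜ a)) := by
  have hP := hj.prod hj
  obtain ⟨Δ, hΔ⟩ := exists_algHom_of_invariant (isSemilin_rho _) (prodMap j j : _) hP.inv hP.bij
    ((rdmap R S (diagHom M)).comp j) fun a => rho_dmap χ (prodFam χ χ) _ (IsGL.diag hgl) (hj.inv a)
  have hbR : Function.Bijective ((Algebra.ofId R S).toLinearMap.liftBaseChange S) := by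
    have h : ∀ x, (Algebra.ofId R S).toLinearMap.liftBaseChange S x =
        TensorProduct.AlgebraTensorModule.rid R S S x := by
      intro x
      induction x using TensorProduct.induction_on with
      | zero => simp
      | add x y hx hy => simp only [map_add, hx, hy]
      | tmul s r => simp [Algebra.ofId_apply, Algebra.smul_def, mul_comm]
    rw [funext h]
    exact (TensorProduct.AlgebraTensorModule.rid R S S).bijective
  obtain ⟨ε, hε⟩ := exists_algHom_of_invariant (R := R) (S := S) (N := S) (ρ := iL R S) (fun _ => rfl)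
    (Algebra.ofId R S) (fun r => by
      show algebraMap R S r ⊗ₜ[R] (1 : S) = 1 ⊗ₜ algebraMap R S r
      rw [Algebra.algebraMap_eq_smul_one, TensorProduct.smul_tmul]) hbR
    (((aug S M).restrictScalars R).comp j) fun a => by
      have h := congrArg (aug _ M) ((rho_eq_iff χ (j a)).1 (hj.inv a))
      rw [aug_act hgl, aug_mapAlgHom, aug_mapAlgHom] at h
      exact h
  obtain ⟨σ, hσ⟩ := exists_algHom_of_invariant (isSemilin_rho χ) j hj.inv hj.bij
    ((rdmap R S (invMonoidHom : M →* M)).comp j) fun a => rho_dmap χ χ _ (fun m => dmap_inv hgl m) (hj.inv a)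
  change ∀ a, prodMap j j (Δ a) = dmap S (diagHom M) (j a) at hΔ
  change ∀ a, algebraMap R S (ε a) = aug S M (j a) at hε
  change ∀ a, j (σ a) = dmap S invMonoidHom (j a) at hσ
  letI : Bialgebra R A := Bialgebra.ofAlgHom Δ ε (AlgHom.ext (coassoc_of_form hj Δ hΔ))
    (AlgHom.ext fun a => ((Algebra.TensorProduct.lid R A).eq_symm_apply).2 (counit_of_form hj Δ ε hΔ hε a).1)
    (AlgHom.ext fun a => ((Algebra.TensorProduct.rid R R A).eq_symm_apply).2 (counit_of_form hj Δ ε hΔ hε a).2)
  letI : HopfAlgebra R A := HopfAlgebra.ofAlgHom σ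
    (AlgHom.ext fun a => (antipode_of_form hj Δ ε σ hΔ hε hσ a).1)
    (AlgHom.ext fun a => (antipode_of_form hj Δ ε σ hΔ hε hσ a).2)
  obtain ⟨e, he⟩ := exists_equiv_of_form (j := j) hj.bij hΔ hε
  exact ⟨A, inferInstance, inferInstance, e, fun a => by rw [he]; exact (rho_eq_iff χ (j a)).1 (hj.inv a)⟩

/-- Effective descent: the Hopf algebra of a cocycle. -/
theorem exists_hopf [Module.FaithfullyFlat R S] (χ : M →* MonoidAlgebra (S ⊗[R] S) M)
    (hgl : ∀ m, IsGL (χ m))
    (hcu : ∀ z, (LinearMap.id : MonoidAlgebra S M →ₗ[R] MonoidAlgebra S M).liftBaseChange S (rho χ z) = z)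
    (hco : ∀ z, LinearMap.lTensor S (rho χ).toLinearMap (rho χ z) =
      LinearMap.lTensor S (TensorProduct.mk R S (MonoidAlgebra S M) 1) (rho χ z)) :
    ∃ (A : Type u) (_ : CommRing A) (_ : HopfAlgebra R A) (e : (S ⊗[R] A) ≃ₐc[S] MonoidAlgebra S M),
      ∀ a, act χ (mapAlgHom M (iL R S) (e ((1 : S) ⊗ₜ a))) = mapAlgHom M (iR R S) (e ((1 : S) ⊗ₜ a)) :=
  exists_hopf_of_form χ hgl (invariants (rho χ)) (invariants (rho χ)).val
    ⟨fun b => b.2, bijective_invariants (isSemilin_rho χ) hcu hco⟩

end Groth.Agent.MultT
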