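import Groth.Agent.MultT.DiagStage
import Groth.Agent.MultT.BaseChange
import Groth.Agent.FFModel.Basic
import Mathlib

/-!
Isotrivial and quasi-isotrivial groups descend to finitely generated subrings.
-/

set_option autoImplicit false
set_option linter.unusedSectionVars false
set_option linter.style.haveILetI false
set_option backward.isDefEq.respectTransparency false
set_option synthInstance.maxHeartbeats 400000
set_option maxHeartbeats 2000000

universe u

open TensorProduct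

noncomputable section

namespace Groth.Agent.MultT

/-- The type of a diagonalisable group of finite type can be chosen finitely generated. -/
theorem exists_fg_diag {S : Type u} [CommRing S] {X : Type u} [CommRing X] [HopfAlgebra S X]
    [Algebra.FiniteType S X] (h : SGA3b.IsDiag S X) :
    ∃ (M : Type u) (_ : CommGroup M), Monoid.FG M ∧ Nonempty (X ≃ₐc[S] MonoidAlgebra S M) := by
  obtain ⟨M, _, ⟨e⟩⟩ := h
  rcases subsingleton_or_nontrivial S with hS | hS
  · haveI : Subsingleton (MonoidAlgebra S M) := Module.subsingleton S _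
    haveI : Subsingleton (MonoidAlgebra S PUnit.{u + 1}) := Module.subsingleton S _
    exact ⟨PUnit.{u + 1}, inferInstance, inferInstance, ⟨e.trans (BialgEquiv.ofBijective
      (MonoidAlgebra.mapDomainBialgHom S (1 : M →* PUnit.{u + 1}))
      ⟨fun a b _ => Subsingleton.elim _ _, fun b => ⟨0, Subsingleton.elim _ _⟩⟩)⟩⟩
  · haveI : Algebra.FiniteType S (MonoidAlgebra S M) :=
      Algebra.FiniteType.of_surjective (e : X →ₐ[S] MonoidAlgebra S M) (EquivLike.surjective e)
    exact ⟨M, inferInstance, (MonoidAlgebra.finiteType_iff_fg (R := S)).1 inferInstance, ⟨e⟩⟩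

variable {R₀ R : Type u} [CommRing R₀] [CommRing R] [Algebra R₀ R]
  {C₀ : Type u} [CommRing C₀] [HopfAlgebra R₀ C₀] [Algebra.FinitePresentation R₀ C₀]

/-- **An étale algebra splitting the group descends, with the splitting, to a finitely generated subring.** -/
theorem exists_etale_stage (S : Type u) [CommRing S] [Algebra R S] [Algebra R₀ S] [IsScalarTower R₀ R S]
    [Algebra.Etale R S] (hd : SGA3b.IsDiag S (S ⊗[R₀] C₀)) :
    ∃ (A : Subalgebra R₀ R) (_ : A.FG) (Z : Type u) (_ : CommRing Z) (_ : Algebra A Z) (_ : Algebra R₀ Z)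
      (_ : IsScalarTower R₀ A Z), Algebra.Etale A Z ∧ Nonempty (R ⊗[A] Z ≃ₐ[R] S) ∧
        SGA3b.IsDiag Z (Z ⊗[R₀] C₀) := by
  classical
  obtain ⟨A₁, Z₁, _, _, hA₁, het, ⟨eS⟩⟩ := Algebra.Etale.exists_subalgebra_fg R₀ R S
  haveI := het
  let fZ : Z₁ →+* S := eS.symm.toRingEquiv.toRingHom.comp
    (Algebra.TensorProduct.includeRight : Z₁ →ₐ[A₁] R ⊗[A₁] Z₁).toRingHom
  letI : Algebra Z₁ S := fZ.toAlgebra
  letI : Algebra R₀ Z₁ := Algebra.compHom Z₁ (algebraMap R₀ A₁)
  haveI : IsScalarTower R₀ A₁ Z₁ := .of_algebraMap_eq fun _ => rfl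
  have hA₁S : ∀ a : A₁, fZ (algebraMap A₁ Z₁ a) = algebraMap R S (a : R) := fun a => by
    show eS.symm ((Algebra.TensorProduct.includeRight : Z₁ →ₐ[A₁] R ⊗[A₁] Z₁) (algebraMap A₁ Z₁ a)) = _
    rw [AlgHom.commutes, IsScalarTower.algebraMap_apply A₁ R (R ⊗[A₁] Z₁), AlgEquiv.commutes]
    rfl
  haveI : IsScalarTower R₀ Z₁ S := .of_algebraMap_eq fun r => by
    refine Eq.trans ?_ (hA₁S (algebraMap R₀ A₁ r)).symm
    rw [IsScalarTower.algebraMap_apply R₀ R S]
    rfl
  obtain ⟨M, _, hM, ⟨e⟩⟩ := exists_fg_diag (isDiag_of_equiv (bcTrans R₀ Z₁ S C₀) hd)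
  obtain ⟨A', hA', hd'⟩ := exists_sub_diag (K := Z₁) (C₁ := Z₁ ⊗[R₀] C₀) e
  obtain ⟨g, hg⟩ := hA'
  choose F hF using fun y : g => TensorProduct.exists_finset (eS y.1)
  let A : Subalgebra R₀ R := A₁ ⊔ Algebra.adjoin R₀
    (((Finset.univ : Finset g).biUnion fun y => (F y).image Prod.fst : Finset R) : Set R)
  have hle : A₁ ≤ A := le_sup_left
  letI : Algebra A₁ A := (Subalgebra.inclusion hle).toRingHom.toAlgebra
  haveI : IsScalarTower A₁ A R := .of_algebraMap_eq fun _ => rfl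
  haveI : IsScalarTower R₀ A₁ A := .of_algebraMap_eq fun _ => rfl
  let Z := A ⊗[A₁] Z₁
  let eA : R ⊗[A] Z ≃ₐ[R] R ⊗[A₁] Z₁ := Algebra.TensorProduct.cancelBaseChange A₁ A R R Z₁
  letI : Algebra Z₁ Z := Algebra.TensorProduct.rightAlgebra
  haveI : IsScalarTower R₀ Z₁ Z := .of_algebraMap_eq fun r => by
    show (algebraMap R₀ A r) ⊗ₜ[A₁] (1 : Z₁) = (1 : A) ⊗ₜ[A₁] algebraMap R₀ Z₁ r
    rw [IsScalarTower.algebraMap_apply R₀ A₁ A, IsScalarTower.algebraMap_apply R₀ A₁ Z₁,
      Algebra.algebraMap_eq_smul_one (R := A₁), Algebra.algebraMap_eq_smul_one (R := A₁) (A := Z₁), smul_tmul]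
  let νr : Z →ₐ[A₁] R ⊗[A₁] Z₁ := Algebra.TensorProduct.map (IsScalarTower.toAlgHom A₁ A R) (AlgHom.id A₁ Z₁)
  have hνinj : Function.Injective νr :=
    Module.Flat.rTensor_preserves_injective_linearMap (IsScalarTower.toAlgHom A₁ A R).toLinearMap Subtype.val_injective
  let ν : Z →ₐ[Z₁] S :=
    { toRingHom := eS.symm.toRingEquiv.toRingHom.comp νr.toRingHom
      commutes' := fun z => by
        show eS.symm (νr ((1 : A) ⊗ₜ z)) = fZ z
        rfl }
  have hν : Function.Injective ν := eS.symm.injective.comp hνinj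
  have hrange : A' ≤ ν.range := by
    rw [← hg, Algebra.adjoin_le_iff]
    intro y hy
    have hmem : ∀ p ∈ F ⟨y, hy⟩, p.1 ∈ A := fun p hp => (le_sup_right : _ ≤ A) (Algebra.subset_adjoin
      (Finset.mem_coe.2 (Finset.mem_biUnion.2 ⟨⟨y, hy⟩, Finset.mem_univ _, Finset.mem_image.2 ⟨p, hp, rfl⟩⟩)))
    refine ⟨∑ p ∈ (F ⟨y, hy⟩).attach, (⟨p.1.1, hmem p.1 p.2⟩ : A) ⊗ₜ[A₁] p.1.2, ?_⟩
    apply eS.injective
    show eS (eS.symm (νr _)) = eS y
    rw [AlgEquiv.apply_symm_apply, hF ⟨y, hy⟩, map_sum, ← Finset.sum_attach (F ⟨y, hy⟩)]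
    exact Finset.sum_congr rfl fun p _ => rfl
  let ι : A' →ₐ[Z₁] Z := (AlgEquiv.ofInjective ν hν).symm.toAlgHom.comp (Subalgebra.inclusion hrange)
  refine ⟨A, hA₁.sup (Subalgebra.fg_adjoin_finset _), Z, inferInstance, inferInstance, inferInstance, inferInstance,
    inferInstance, ⟨eA.trans eS.symm⟩, ?_⟩
  letI : Algebra A' Z := ι.toRingHom.toAlgebra
  haveI : IsScalarTower Z₁ A' Z := .of_algebraMap_eq fun z => (ι.commutes z).symm
  exact isDiag_of_equiv (bcTrans R₀ Z₁ Z C₀).symm (isDiag_baseChange hd' Z)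

/-- A prime of a base change over a prime of the base in the image. -/
theorem mem_range_baseChange {A A' Z : Type u} [CommRing A] [CommRing A'] [CommRing Z] [Algebra A A'] [Algebra A Z]
    (P : PrimeSpectrum A') (h : PrimeSpectrum.comap (algebraMap A A') P ∈ Set.range (PrimeSpectrum.comap (algebraMap A Z))) :
    P ∈ Set.range (PrimeSpectrum.comap (algebraMap A' (A' ⊗[A] Z))) := by
  refine (PrimeSpectrum.nontrivial_iff_mem_rangeComap P).1 ?_
  haveI : Nontrivial (P.asIdeal.ResidueField ⊗[A] Z) := by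
    refine FFModel.nontrivial_tensor ?_
    convert h using 1
    refine PrimeSpectrum.ext ?_
    change RingHom.ker (algebraMap A P.asIdeal.ResidueField) = P.asIdeal.comap (algebraMap A A')
    rw [IsScalarTower.algebraMap_eq A A' P.asIdeal.ResidueField, ← RingHom.comap_ker,
      Ideal.ker_algebraMap_residueField]
  exact (Algebra.TensorProduct.cancelBaseChange A A' P.asIdeal.ResidueField P.asIdeal.ResidueField Z).toEquiv.nontrivial

/-- **Covering at a stage.** -/
theorem exists_stage_cover {ι : Type*} [Finite ι] (Ai : ι → Subalgebra R₀ R) (hAi : ∀ i, (Ai i).FG)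
    (Z : ι → Type u) [∀ i, CommRing (Z i)] [∀ i, Algebra (Ai i) (Z i)] [∀ i, Algebra.Etale (Ai i) (Z i)]
    (hcov : ∀ q : PrimeSpectrum R, ∃ i, q ∈ Set.range (PrimeSpectrum.comap (algebraMap R (R ⊗[Ai i] Z i)))) :
    ∃ A : Subalgebra R₀ R, A.FG ∧ ∃ h : ∀ i, Ai i ≤ A, ∀ (A' : Subalgebra R₀ R) (hA' : A ≤ A') (P : PrimeSpectrum A'),
      ∃ i, PrimeSpectrum.comap (Subalgebra.inclusion ((h i).trans hA')).toRingHom P ∈
        Set.range (PrimeSpectrum.comap (algebraMap (Ai i) (Z i))) := by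
  classical
  haveI := Fintype.ofFinite ι
  have hU : ∀ i, IsCompact (Set.range (PrimeSpectrum.comap (algebraMap (Ai i) (Z i)))) ∧
      IsOpen (Set.range (PrimeSpectrum.comap (algebraMap (Ai i) (Z i)))) := fun i => by
    refine ⟨isCompact_range (PrimeSpectrum.continuous_comap _), ?_⟩
    rw [← Set.image_univ]
    haveI : Module.Flat (Ai i) (Z i) := Algebra.Smooth.flat _ _
    exact PrimeSpectrum.isOpenMap_comap_of_hasGoingDown_of_finitePresentation _ isOpen_univ
  choose t ht using fun i => PrimeSpectrum.isCompact_isOpen_iff.1 (hU i)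
  let g : (Σ i, t i) → R := fun x => (x.2.1 : R)
  have htop : Ideal.span (Set.range g) = ⊤ := by
    by_contra hne
    obtain ⟨m, hm, hle⟩ := Ideal.exists_le_maximal _ hne
    obtain ⟨i, Q, hQ⟩ := hcov ⟨m, hm.isPrime⟩
    have hmem : PrimeSpectrum.comap (algebraMap (Ai i) R) ⟨m, hm.isPrime⟩ ∈
        Set.range (PrimeSpectrum.comap (algebraMap (Ai i) (Z i))) := by
      refine ⟨PrimeSpectrum.comap (Algebra.TensorProduct.includeRight : Z i →ₐ[Ai i] R ⊗[Ai i] Z i).toRingHom Q, ?_⟩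
      rw [← hQ, ← PrimeSpectrum.comap_comp_apply, ← PrimeSpectrum.comap_comp_apply,
        ← IsScalarTower.algebraMap_eq (Ai i) R (R ⊗[Ai i] Z i)]
      congr 1
      exact (Algebra.TensorProduct.includeRight : Z i →ₐ[Ai i] R ⊗[Ai i] Z i).comp_algebraMap
    rw [← ht] at hmem
    exact hmem fun x hx => hle (Ideal.subset_span ⟨⟨i, ⟨x, hx⟩⟩, rfl⟩)
  obtain ⟨c, hc⟩ := Ideal.mem_span_range_iff_exists_fun.1 (htop.ge (Submodule.mem_top (x := (1 : R))))
  let A : Subalgebra R₀ R := (Finset.univ.sup Ai) ⊔ Algebra.adjoin R₀ ((Finset.univ.image c : Finset R) : Set R)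
  have hle : ∀ i, Ai i ≤ A := fun i => (Finset.le_sup (f := Ai) (Finset.mem_univ i)).trans le_sup_left
  have hA : A.FG := by
    refine Subalgebra.FG.sup ?_ (Subalgebra.fg_adjoin_finset _)
    exact Finset.sup_induction (p := Subalgebra.FG) Subalgebra.fg_bot (fun a ha b hb => ha.sup hb) fun i _ => hAi i
  refine ⟨A, hA, hle, fun A' hA' P => ?_⟩
  by_contra hne
  push Not at hne
  refine P.isPrime.ne_top ((Ideal.eq_top_iff_one _).2 ?_)
  have hcA : ∀ x, c x ∈ A' := fun x => hA' ((le_sup_right : _ ≤ A) (Algebra.subset_adjoin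
    (Finset.mem_coe.2 (Finset.mem_image_of_mem c (Finset.mem_univ x)))))
  have h1 : (1 : A') = ∑ x, (⟨c x, hcA x⟩ : A') * Subalgebra.inclusion ((hle x.1).trans hA') x.2.1 := by
    apply Subtype.val_injective
    show (1 : R) = A'.val _
    rw [map_sum]
    simpa [g] using hc.symm
  rw [h1]
  refine Ideal.sum_mem _ fun x _ => Ideal.mul_mem_left _ _ ?_
  have := hne x.1
  rw [← ht] at this
  exact (Set.not_notMem.1 this) x.2.2

/-- An étale splitting at a stage gives one at every larger stage. -/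
theorem isDiag_stage {Ai A' : Subalgebra R₀ R} (h : Ai ≤ A') {Z : Type u} [CommRing Z] [Algebra Ai Z] [Algebra R₀ Z]
    [IsScalarTower R₀ Ai Z] (hd : SGA3b.IsDiag Z (Z ⊗[R₀] C₀)) :
    letI : Algebra Ai A' := (Subalgebra.inclusion h).toRingHom.toAlgebra
    SGA3b.IsDiag (A' ⊗[Ai] Z) ((A' ⊗[Ai] Z) ⊗[R₀] C₀) := by
  letI : Algebra Ai A' := (Subalgebra.inclusion h).toRingHom.toAlgebra
  haveI : IsScalarTower R₀ Ai A' := .of_algebraMap_eq fun _ => rfl
  letI : Algebra Z (A' ⊗[Ai] Z) := Algebra.TensorProduct.rightAlgebra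
  haveI : IsScalarTower R₀ Z (A' ⊗[Ai] Z) := .of_algebraMap_eq fun r => by
    show (algebraMap R₀ A' r) ⊗ₜ[Ai] (1 : Z) = (1 : A') ⊗ₜ[Ai] algebraMap R₀ Z r
    rw [IsScalarTower.algebraMap_apply R₀ Ai A', IsScalarTower.algebraMap_apply R₀ Ai Z,
      Algebra.algebraMap_eq_smul_one (R := Ai), Algebra.algebraMap_eq_smul_one (R := Ai) (A := Z), smul_tmul]
  exact isDiag_of_equiv (bcTrans R₀ Z (A' ⊗[Ai] Z) C₀).symm (isDiag_baseChange (T := Z)
    (isDiag_of_equiv (bcTrans R₀ Z Z C₀) hd) (A' ⊗[Ai] Z))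

/-- **Quasi-isotriviality descends to a finitely generated subring.** -/
theorem isQuasiIsotrivial_descend (h : SGA3b.IsQuasiIsotrivial R (R ⊗[R₀] C₀)) :
    ∃ A : Subalgebra R₀ R, A.FG ∧ ∀ A' : Subalgebra R₀ R, A ≤ A' → SGA3b.IsQuasiIsotrivial A' (A' ⊗[R₀] C₀) := by
  classical
  obtain ⟨s, hs, h⟩ := h
  obtain ⟨s₀, hs₀, h1⟩ := Submodule.mem_span_finite_of_mem_span (hs.ge (Submodule.mem_top (x := (1 : R))))
  have key : ∀ f : s₀, ∃ (A : Subalgebra R₀ R) (_ : A.FG) (Z : Type u) (_ : CommRing Z) (_ : Algebra A Z)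
      (_ : Algebra R₀ Z) (_ : IsScalarTower R₀ A Z), Algebra.Etale A Z ∧ SGA3b.IsDiag Z (Z ⊗[R₀] C₀) ∧
        ∀ q : PrimeSpectrum R, (f : R) ∉ q.asIdeal →
          q ∈ Set.range (PrimeSpectrum.comap (algebraMap R (R ⊗[A] Z))) := by
    intro f
    obtain ⟨S, _, _, het, hff, hd⟩ := h f (hs₀ f.2)
    haveI := het; haveI := hff
    let L := Localization.Away (f : R)
    letI : Algebra R S := Algebra.compHom S (algebraMap R L)
    haveI : IsScalarTower R L S := .of_algebraMap_eq fun _ => rfl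
    letI : Algebra R₀ S := Algebra.compHom S (algebraMap R₀ R)
    haveI : IsScalarTower R₀ R S := .of_algebraMap_eq fun _ => rfl
    haveI : Algebra.Etale R L := Algebra.Etale.of_isLocalizationAway (f : R)
    haveI : Algebra.Etale R S := Algebra.Etale.comp R L S
    obtain ⟨A, hA, Z, _, _, _, _, hZ, ⟨eZ⟩, hdZ⟩ := exists_etale_stage (R₀ := R₀) (R := R) (C₀ := C₀) S
      (isDiag_of_equiv ((bcTrans R L S (R ⊗[R₀] C₀)).trans (bcTrans R₀ R S C₀)).symm hd)
    refine ⟨A, hA, Z, inferInstance, inferInstance, inferInstance, inferInstance, hZ, hdZ, fun q hq => ?_⟩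
    obtain ⟨qL, hqL⟩ : q ∈ Set.range (PrimeSpectrum.comap (algebraMap R L)) := by
      rw [PrimeSpectrum.localization_away_comap_range L (f : R)]; exact hq
    obtain ⟨qS, hqS⟩ := PrimeSpectrum.comap_surjective_of_faithfullyFlat (B := S) qL
    refine ⟨PrimeSpectrum.comap eZ.toRingEquiv.toRingHom qS, ?_⟩
    rw [← hqL, ← hqS, ← PrimeSpectrum.comap_comp_apply, ← PrimeSpectrum.comap_comp_apply,
      ← IsScalarTower.algebraMap_eq R L S]
    congr 1
    exact eZ.toAlgHom.comp_algebraMap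
  choose Ai hAi Z iZ iA iR₀ iT hZ hdZ hq using key
  obtain ⟨A, hA, hle, hcov⟩ := exists_stage_cover Ai hAi Z fun q => by
    obtain ⟨f, hf, hfq⟩ : ∃ f ∈ s₀, f ∉ q.asIdeal := by
      by_contra hne
      push Not at hne
      exact q.isPrime.ne_top ((Ideal.eq_top_iff_one _).2 (Ideal.span_le.2 hne h1))
    exact ⟨⟨f, hf⟩, hq ⟨f, hf⟩ q hfq⟩
  refine ⟨A, hA, fun A' hA' => ?_⟩
  have key' : ∀ P : PrimeSpectrum A', ∃ t : A', t ∉ P.asIdeal ∧
      SGA3b.IsQuasiIsotrivialConst (Localization.Away t) (Localization.Away t ⊗[A'] (A' ⊗[R₀] C₀)) := by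
    intro P
    obtain ⟨i, hi⟩ := hcov A' hA' P
    letI : Algebra (Ai i) A' := (Subalgebra.inclusion ((hle i).trans hA')).toRingHom.toAlgebra
    haveI : IsScalarTower R₀ (Ai i) A' := .of_algebraMap_eq fun _ => rfl
    haveI := hZ i
    let Z' := A' ⊗[Ai i] Z i
    have hP : P ∈ Set.range (PrimeSpectrum.comap (algebraMap A' Z')) := mem_range_baseChange P hi
    haveI : Module.Flat A' Z' := Algebra.Smooth.flat _ _
    have hopen : IsOpen (Set.range (PrimeSpectrum.comap (algebraMap A' Z'))) := by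
      rw [← Set.image_univ]
      exact PrimeSpectrum.isOpenMap_comap_of_hasGoingDown_of_finitePresentation _ isOpen_univ
    obtain ⟨_, ⟨t, rfl⟩, hPt, hsub⟩ :=
      PrimeSpectrum.isTopologicalBasis_basic_opens.exists_subset_of_mem_open hP hopen
    refine ⟨t, hPt, ?_⟩
    let L := Localization.Away t
    let S := L ⊗[A'] Z'
    haveI : Module.FaithfullyFlat L S := FFModel.faithfullyFlat_baseChange fun Q => hsub (by
      show _ ∈ (PrimeSpectrum.basicOpen t : Set (PrimeSpectrum A'))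
      rw [← PrimeSpectrum.localization_away_comap_range L t]; exact ⟨Q, rfl⟩)
    letI : Algebra Z' S := Algebra.TensorProduct.rightAlgebra
    haveI : IsScalarTower R₀ Z' S := IsScalarTower.of_algebraMap_eq (R := R₀) (S := Z') (A := S) fun r => by
      show (algebraMap R₀ L r) ⊗ₜ[A'] (1 : Z') = (1 : L) ⊗ₜ[A'] algebraMap R₀ Z' r
      rw [IsScalarTower.algebraMap_apply R₀ A' L, IsScalarTower.algebraMap_apply R₀ A' Z',
        Algebra.algebraMap_eq_smul_one (R := A'), Algebra.algebraMap_eq_smul_one (R := A') (A := Z'), smul_tmul]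
    refine ⟨S, inferInstance, inferInstance, inferInstance, inferInstance, ?_⟩
    exact isDiag_of_equiv ((bcTrans A' L S (A' ⊗[R₀] C₀)).trans (bcTrans R₀ A' S C₀))
      (isDiag_baseChange (R := R₀) (T := Z') (isDiag_stage _ (hdZ i)) S)
  choose t ht ht' using key'
  refine ⟨Set.range t, ?_, by rintro _ ⟨P, rfl⟩; exact ht' P⟩
  by_contra hne
  obtain ⟨m, hm, hle'⟩ := Ideal.exists_le_maximal _ hne
  exact ht ⟨m, hm.isPrime⟩ (hle' (Ideal.subset_span ⟨_, rfl⟩))

/-- **Isotriviality descends to a finitely generated subring.** -/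
theorem isIsotrivial_descend (h : SGA3b.IsIsotrivial R (R ⊗[R₀] C₀)) :
    ∃ A : Subalgebra R₀ R, A.FG ∧ ∀ A' : Subalgebra R₀ R, A ≤ A' → SGA3b.IsIsotrivial A' (A' ⊗[R₀] C₀) := by
  classical
  obtain ⟨S, _, _, het, hfin, hff, hd⟩ := h
  haveI := het; haveI := hfin; haveI := hff
  letI : Algebra R₀ S := Algebra.compHom S (algebraMap R₀ R)
  haveI : IsScalarTower R₀ R S := .of_algebraMap_eq fun _ => rfl
  obtain ⟨A₁, hA₁, Z, _, _, _, _, hZ, ⟨eZ⟩, hdZ⟩ := exists_etale_stage (R₀ := R₀) (R := R) (C₀ := C₀) S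
    (isDiag_of_equiv (bcTrans R₀ R S C₀).symm hd)
  haveI := hZ
  obtain ⟨A₂, hA₂, hle, hcov⟩ := exists_stage_cover (ι := Unit) (fun _ => A₁) (fun _ => hA₁) (fun _ => Z) fun q => by
    obtain ⟨qS, hqS⟩ := PrimeSpectrum.comap_surjective_of_faithfullyFlat (B := S) q
    refine ⟨(), PrimeSpectrum.comap eZ.toRingEquiv.toRingHom qS, ?_⟩
    rw [← hqS, ← PrimeSpectrum.comap_comp_apply]
    congr 1
    exact eZ.toAlgHom.comp_algebraMap
  -- integral equations of the generators
  obtain ⟨g, hg⟩ := (inferInstance : Algebra.FiniteType A₁ Z).out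
  have hint : ∀ y : g, ∃ p : Polynomial R, p.Monic ∧ Polynomial.aeval ((1 : R) ⊗ₜ[A₁] (y.1 : Z)) p = 0 := fun y => by
    obtain ⟨p, hp, hp0⟩ := IsIntegral.of_finite R (eZ ((1 : R) ⊗ₜ[A₁] (y.1 : Z)))
    refine ⟨p, hp, eZ.injective ?_⟩
    rw [map_zero]
    exact (Polynomial.aeval_algHom_apply eZ.toAlgHom _ p).symm.trans hp0
  choose p hp hp0 using hint
  let A : Subalgebra R₀ R := A₂ ⊔ Algebra.adjoin R₀
    (((Finset.univ : Finset g).biUnion fun y => (p y).support.image (p y).coeff : Finset R) : Set R)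
  refine ⟨A, hA₂.sup (Subalgebra.fg_adjoin_finset _), fun A' hA' => ?_⟩
  have hcoeff : ∀ y i, (p y).coeff i ∈ A' := fun y i => by
    by_cases hi : i ∈ (p y).support
    · exact hA' ((le_sup_right : _ ≤ A) (Algebra.subset_adjoin (Finset.mem_coe.2
        (Finset.mem_biUnion.2 ⟨y, Finset.mem_univ y, Finset.mem_image_of_mem _ hi⟩))))
    · rw [Polynomial.notMem_support_iff.1 hi]; exact zero_mem _
  have h₁ : A₁ ≤ A' := ((hle ()).trans le_sup_left).trans hA'
  letI : Algebra A₁ A' := (Subalgebra.inclusion h₁).toRingHom.toAlgebra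
  haveI : IsScalarTower A₁ A' R := .of_algebraMap_eq fun _ => rfl
  haveI : IsScalarTower R₀ A₁ A' := .of_algebraMap_eq fun _ => rfl
  let Z' := A' ⊗[A₁] Z
  haveI : Module.Flat A₁ Z := Algebra.Smooth.flat _ _
  let ν : Z' →ₐ[A'] R ⊗[A₁] Z :=
    Algebra.TensorProduct.map (Algebra.ofId A' R) (AlgHom.id A₁ Z)
  have hν : Function.Injective ν :=
    Module.Flat.rTensor_preserves_injective_linearMap (IsScalarTower.toAlgHom A₁ A' R).toLinearMap Subtype.val_injective
  haveI : Algebra.IsIntegral A' Z' := by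
    refine ⟨fun z => ?_⟩
    induction z using TensorProduct.induction_on with
    | zero => exact isIntegral_zero
    | add a b ha hb => exact ha.add hb
    | tmul a b =>
      rw [show a ⊗ₜ[A₁] b = a • ((1 : A') ⊗ₜ[A₁] b) by rw [smul_tmul', smul_eq_mul, mul_one]]
      refine IsIntegral.smul a ?_
      have hb : b ∈ Algebra.adjoin A₁ (g : Set Z) := hg ▸ Algebra.mem_top
      induction hb using Algebra.adjoin_induction with
      | mem y hy =>
        have hl : p ⟨y, hy⟩ ∈ Polynomial.lifts (algebraMap A' R) :=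
          (Polynomial.lifts_iff_coeff_lifts _).2 fun i => ⟨⟨_, hcoeff ⟨y, hy⟩ i⟩, rfl⟩
        obtain ⟨q, hq, -, hqm⟩ := Polynomial.lifts_and_natDegree_eq_and_monic hl (hp ⟨y, hy⟩)
        refine ⟨q, hqm, hν ?_⟩
        show ν (Polynomial.aeval ((1 : A') ⊗ₜ[A₁] y) q) = ν 0
        rw [map_zero, ← Polynomial.aeval_algHom_apply, ← hp0 ⟨y, hy⟩, ← hq, Polynomial.aeval_map_algebraMap]
        rfl
      | algebraMap r =>
        rw [show (1 : A') ⊗ₜ[A₁] algebraMap A₁ Z r = algebraMap A' Z' (algebraMap A₁ A' r) by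
          rw [Algebra.algebraMap_eq_smul_one (A := Z), ← smul_tmul, Algebra.smul_def, mul_one]
          rfl]
        exact isIntegral_algebraMap
      | add u v _ _ hu hv => rw [tmul_add]; exact hu.add hv
      | mul u v _ _ hu hv =>
        rw [show (1 : A') ⊗ₜ[A₁] (u * v) = ((1 : A') ⊗ₜ[A₁] u) * ((1 : A') ⊗ₜ[A₁] v) by
          rw [Algebra.TensorProduct.tmul_mul_tmul, one_mul]]
        exact hu.mul hv
  haveI : Module.Finite A' Z' := Algebra.IsIntegral.finite
  haveI : Module.Flat A' Z' := Algebra.Smooth.flat _ _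
  haveI : Module.FaithfullyFlat A' Z' := Module.FaithfullyFlat.of_comap_surjective fun P => by
    obtain ⟨_, hi⟩ := hcov A' (le_sup_left.trans hA') P
    exact mem_range_baseChange P hi
  refine ⟨Z', inferInstance, inferInstance, inferInstance, inferInstance, inferInstance, ?_⟩
  exact isDiag_of_equiv (bcTrans R₀ A' Z' C₀) (isDiag_stage h₁ hdZ)

/-- Descent to a member of a directed family of subrings exhausting the ring. -/
theorem exists_subalgebra_le {ι : Type u} [Preorder ι] [IsDirected ι (· ≤ ·)] [Nonempty ι] (B : ι → Subring R)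
    (hmono : Monotone B) (hsup : ⨆ i, B i = ⊤) (hR₀ : (Int.castRingHom R₀).FiniteType) (A : Subalgebra R₀ R)
    (hA : A.FG) : ∃ (i : ι) (A' : Subalgebra R₀ R), A ≤ A' ∧ A'.toSubring = B i := by
  classical
  have hdir : Directed (· ≤ ·) B := fun a b => by
    obtain ⟨c, h1, h2⟩ := directed_of (· ≤ ·) a b
    exact ⟨c, hmono h1, hmono h2⟩
  have hall : ∀ T : Finset R, ∃ i, ∀ x ∈ T, x ∈ B i := by
    intro T
    induction T using Finset.induction with
    | empty => exact ⟨Classical.arbitrary ι, by simp⟩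
    | insert x T _ ih =>
      obtain ⟨i, hi⟩ := ih
      obtain ⟨j, hj⟩ := (Subring.mem_iSup_of_directed hdir).1 (hsup.ge (Subring.mem_top x))
      obtain ⟨k, hik, hjk⟩ := directed_of (· ≤ ·) i j
      refine ⟨k, fun y hy => ?_⟩
      rcases Finset.mem_insert.1 hy with rfl | hy
      · exact hmono hjk hj
      · exact hmono hik (hi y hy)
  letI : Algebra ℤ R₀ := Ring.toIntAlgebra R₀
  obtain ⟨t, ht⟩ : ∃ t : Finset R₀, Algebra.adjoin ℤ (t : Set R₀) = ⊤ := by
    have : Algebra.FiniteType ℤ R₀ := RingHom.finiteType_algebraMap.1 (by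
      rwa [show algebraMap ℤ R₀ = Int.castRingHom R₀ from Subsingleton.elim _ _])
    exact this.out
  obtain ⟨g, hg⟩ := hA
  obtain ⟨i, hi⟩ := hall (t.image (algebraMap R₀ R) ∪ g)
  have hmem : ∀ r : R₀, algebraMap R₀ R r ∈ B i := by
    intro r
    have hr : r ∈ Algebra.adjoin ℤ (t : Set R₀) := ht ▸ Algebra.mem_top
    induction hr using Algebra.adjoin_induction with
    | mem y hy => exact hi _ (Finset.mem_union_left _ (Finset.mem_image_of_mem _ hy))
    | algebraMap n => simpa using intCast_mem (B i) n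
    | add u v _ _ hu hv => rw [map_add]; exact add_mem hu hv
    | mul u v _ _ hu hv => rw [map_mul]; exact mul_mem hu hv
  refine ⟨i, { B i with algebraMap_mem' := hmem }, ?_, rfl⟩
  rw [← hg, Algebra.adjoin_le_iff]
  exact fun x hx => hi x (Finset.mem_union_right _ hx)

end Groth.Agent.MultT
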