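import Groth.Agent.HopfModel.Basic
import Groth.Agent.MultT.Quasi
import Mathlib

/-!
A diagonalisation over an algebra descends to a finitely generated subalgebra.
-/

set_option autoImplicit false
set_option linter.unusedSectionVars false
set_option synthInstance.maxHeartbeats 400000
set_option maxHeartbeats 1000000

universe u

open TensorProduct

noncomputable section

namespace Groth.Agent.MultT

variable {K R' : Type u} [CommRing K] [CommRing R'] [Algebra K R']

/-- Equalities of maps out of a finitely generated algebra descend to a stage. -/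
theorem exists_sub_eq {A : Subalgebra K R'} (hA : A.FG) {B C : Type u} [CommRing B] [Algebra K B]
    [Algebra.FiniteType K B] [CommRing C] [Algebra K C] (G G' : B →ₐ[K] A ⊗[K] C)
    (hG : (chStage A.val C).comp G = (chStage A.val C).comp G') :
    ∃ (A' : Subalgebra K R') (h : A ≤ A'), A'.FG ∧
      (chStage (Subalgebra.inclusion h) C).comp G = (chStage (Subalgebra.inclusion h) C).comp G' := by
  obtain ⟨g, hg⟩ := (‹Algebra.FiniteType K B›).out
  obtain ⟨A', h, hA', hv⟩ := HopfModel.exists_stage_vanish hA (fun y : g => G y.1 - G' y.1) fun y => by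
    rw [← HopfModel.map_val_eq, map_sub, sub_eq_zero]
    exact AlgHom.congr_fun hG y.1
  refine ⟨A', h, hA', AlgHom.ext_of_adjoin_eq_top hg fun y hy => ?_⟩
  have := hv ⟨y, hy⟩
  rwa [← HopfModel.map_incl_eq, map_sub, sub_eq_zero] at this

theorem chStage_incl_val {A A' : Subalgebra K R'} (h : A ≤ A') (C : Type u) [CommRing C] [Algebra K C]
    (z : A ⊗[K] C) : chStage A'.val C (chStage (Subalgebra.inclusion h) C z) = chStage A.val C z := by
  rw [chStage_chStage]
  rfl

/-- **A diagonalisation descends to a finitely generated subalgebra.** -/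
theorem exists_sub_diag {C₁ : Type u} [CommRing C₁] [HopfAlgebra K C₁] [Algebra.FinitePresentation K C₁]
    {M : Type u} [CommGroup M] [Monoid.FG M] (e : R' ⊗[K] C₁ ≃ₐc[R'] MonoidAlgebra R' M) :
    ∃ A : Subalgebra K R', A.FG ∧ SGA3b.IsDiag A (A ⊗[K] C₁) := by
  classical
  let B := MonoidAlgebra K M
  haveI : Algebra.FinitePresentation K B := finitePresentation_monoidAlgebra K M
  let sT : R' ⊗[K] B ≃ₐ[R'] MonoidAlgebra R' M := MonoidAlgebra.scalarTensorEquiv K R'
  let eT : R' ⊗[K] B ≃ₐ[R'] R' ⊗[K] C₁ := sT.trans (BialgEquiv.toAlgEquiv e).symm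
  let θ₁ : B →ₐ[K] R' ⊗[K] C₁ := (eT.toAlgHom.restrictScalars K).comp Algebra.TensorProduct.includeRight
  let θ₂ : C₁ →ₐ[K] R' ⊗[K] B := (eT.symm.toAlgHom.restrictScalars K).comp Algebra.TensorProduct.includeRight
  have h1 : extHom θ₁ = eT.toAlgHom :=
    Algebra.TensorProduct.ext (Subsingleton.elim _ _) (AlgHom.ext fun b => by simp [θ₁])
  have h2 : extHom θ₂ = eT.symm.toAlgHom :=
    Algebra.TensorProduct.ext (Subsingleton.elim _ _) (AlgHom.ext fun b => by simp [θ₂])
  obtain ⟨A₁, -, hA₁, φ₁, hφ₁⟩ := HopfModel.exists_stage_hom θ₁ (Subalgebra.fg_bot (R := K) (A := R'))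
  obtain ⟨A₂, h₁₂, hA₂, φ₂, hφ₂⟩ := HopfModel.exists_stage_hom θ₂ hA₁
  let ψ₁ : B →ₐ[K] A₂ ⊗[K] C₁ := (chStage (Subalgebra.inclusion h₁₂) C₁).comp φ₁
  have hψ₁ : (chStage A₂.val C₁).comp ψ₁ = θ₁ := AlgHom.ext fun b => by
    simp only [ψ₁, AlgHom.comp_apply, chStage_incl_val]
    exact hφ₁ b
  have hψ₂ : (chStage A₂.val B).comp φ₂ = θ₂ := AlgHom.ext hφ₂
  obtain ⟨A₃, h₂₃, hA₃, hG₃⟩ := exists_sub_eq hA₂
    (((extHom ψ₁).restrictScalars K).comp φ₂) Algebra.TensorProduct.includeRight (AlgHom.ext fun a => by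
      simp only [AlgHom.comp_apply, AlgHom.restrictScalars_apply]
      rw [chStage_extHom, hψ₁, h1, ← AlgHom.comp_apply (chStage A₂.val B), hψ₂]
      simp [θ₂])
  obtain ⟨A₄, h₂₄, hA₄, hG₄⟩ := exists_sub_eq hA₂
    (((extHom φ₂).restrictScalars K).comp ψ₁) Algebra.TensorProduct.includeRight (AlgHom.ext fun b => by
      simp only [AlgHom.comp_apply, AlgHom.restrictScalars_apply]
      rw [chStage_extHom, hψ₂, h2, ← AlgHom.comp_apply (chStage A₂.val C₁), hψ₁]
      simp [θ₁])
  obtain ⟨S, hS⟩ := Monoid.FG.fg_top (M := M)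
  have hgl : ∀ m, IsGroupLikeElem R' (chStage A₂.val C₁ (ψ₁ (MonoidAlgebra.single m 1))) := fun m => by
    rw [← AlgHom.comp_apply (chStage A₂.val C₁), hψ₁]
    show IsGroupLikeElem R' ((BialgEquiv.toAlgEquiv e).symm (sT ((1 : R') ⊗ₜ MonoidAlgebra.single m 1)))
    rw [show sT ((1 : R') ⊗ₜ[K] MonoidAlgebra.single m (1 : K)) = MonoidAlgebra.single m (1 : R') from
      sT.symm.injective (by rw [AlgEquiv.symm_apply_apply, MonoidAlgebra.scalarTensorEquiv_symm_single])]
    exact (MonoidAlgebra.isGroupLikeElem_single_one m).map e.symm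
  obtain ⟨A₅, h₂₅, hA₅, hv₅⟩ := HopfModel.exists_stage_vanish hA₂
    (fun m : S => glDefect A₂ (ψ₁ (MonoidAlgebra.single m.1 1))) fun m => by
      rw [glDefect_chStage]; exact ((isGroupLikeElem_iff_defect _).1 (hgl m.1)).2
  let A := A₃ ⊔ A₄ ⊔ A₅
  have h₃ : A₃ ≤ A := le_sup_left.trans le_sup_left
  have h₄ : A₄ ≤ A := le_sup_right.trans le_sup_left
  have h₅ : A₅ ≤ A := le_sup_right
  have hA : A.FG := (hA₃.sup hA₄).sup hA₅
  have h₂ : A₂ ≤ A := h₂₅.trans h₅
  let F : A₂ →ₐ[K] A := Subalgebra.inclusion h₂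
  let Φ : A ⊗[K] B →ₐ[A] A ⊗[K] C₁ := extHom ((chStage F C₁).comp ψ₁)
  let Ψ : A ⊗[K] C₁ →ₐ[A] A ⊗[K] B := extHom ((chStage F B).comp φ₂)
  have hΦΨ : Φ.comp Ψ = AlgHom.id A _ :=
    Algebra.TensorProduct.ext (Subsingleton.elim _ _) (AlgHom.ext fun a => by
      have := congrArg (chStage (Subalgebra.inclusion h₃) C₁) (AlgHom.congr_fun hG₃ a)
      simp only [AlgHom.comp_apply, AlgHom.restrictScalars_apply, chStage_chStage, chStage_extHom] at this
      simp only [AlgHom.comp_apply, AlgHom.restrictScalars_apply, Algebra.TensorProduct.includeRight_apply, Φ, Ψ,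
        extHom_includeRight, AlgHom.id_apply]
      simpa only [F, chStage_comp_comp, show (Subalgebra.inclusion h₃).comp (Subalgebra.inclusion h₂₃) = Subalgebra.inclusion h₂ from rfl, Algebra.TensorProduct.includeRight_apply, chStage, Algebra.TensorProduct.map_tmul, map_one, AlgHom.id_apply] using this)
  have hΨΦ : Ψ.comp Φ = AlgHom.id A _ :=
    Algebra.TensorProduct.ext (Subsingleton.elim _ _) (AlgHom.ext fun b => by
      have := congrArg (chStage (Subalgebra.inclusion h₄) B) (AlgHom.congr_fun hG₄ b)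
      simp only [AlgHom.comp_apply, AlgHom.restrictScalars_apply, chStage_chStage, chStage_extHom] at this
      simp only [AlgHom.comp_apply, AlgHom.restrictScalars_apply, Algebra.TensorProduct.includeRight_apply, Φ, Ψ,
        extHom_includeRight, AlgHom.id_apply]
      simpa only [F, chStage_comp_comp, show (Subalgebra.inclusion h₄).comp (Subalgebra.inclusion h₂₄) = Subalgebra.inclusion h₂ from rfl, Algebra.TensorProduct.includeRight_apply, chStage, Algebra.TensorProduct.map_tmul, map_one, AlgHom.id_apply] using this)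
  have hglA : ∀ m : M, IsGroupLikeElem A (Φ ((1 : A) ⊗ₜ MonoidAlgebra.single m 1)) := by
    intro m
    have hm : m ∈ Submonoid.closure (S : Set M) := hS ▸ Submonoid.mem_top m
    induction hm using Submonoid.closure_induction with
    | mem m hm =>
      rw [extHom_includeRight, AlgHom.comp_apply]
      refine (isGroupLikeElem_iff_defect _).2 ⟨?_, ?_⟩
      · apply (show Function.Injective A.val from Subtype.val_injective)
        rw [map_one, counit_chStage, chStage_incl_val, (hgl m).counit_eq_one]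
      · rw [← glDefect_chStage, show F = (Subalgebra.inclusion h₅).comp (Subalgebra.inclusion h₂₅) from rfl,
          show ((Subalgebra.inclusion h₅).comp (Subalgebra.inclusion h₂₅)).toLinearMap =
            (Subalgebra.inclusion h₅).toLinearMap ∘ₗ (Subalgebra.inclusion h₂₅).toLinearMap from rfl,
          LinearMap.rTensor_comp_apply]
        exact (congrArg _ (hv₅ ⟨m, hm⟩)).trans (map_zero _)
    | one =>
      rw [show ((1 : A) ⊗ₜ[K] MonoidAlgebra.single (1 : M) (1 : K)) = 1 from rfl, map_one]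
      exact IsGroupLikeElem.one
    | mul x y _ _ hx hy =>
      rw [show ((1 : A) ⊗ₜ[K] MonoidAlgebra.single (x * y) (1 : K)) =
        ((1 : A) ⊗ₜ[K] MonoidAlgebra.single x (1 : K)) * ((1 : A) ⊗ₜ[K] MonoidAlgebra.single y (1 : K)) by
          rw [Algebra.TensorProduct.tmul_mul_tmul, MonoidAlgebra.single_mul_single, one_mul, one_mul], map_mul]
      exact hx.mul hy
  let μ : M →* GroupLike A (A ⊗[K] C₁) :=
    { toFun := fun m => ⟨_, hglA m⟩
      map_one' := GroupLike.val_injective (by
        show Φ _ = 1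
        rw [show ((1 : A) ⊗ₜ[K] MonoidAlgebra.single (1 : M) (1 : K)) = 1 from rfl, map_one])
      map_mul' := fun x y => GroupLike.val_injective (by
        show Φ _ = Φ _ * Φ _
        rw [← map_mul, Algebra.TensorProduct.tmul_mul_tmul, MonoidAlgebra.single_mul_single, one_mul, one_mul]) }
  let L : MonoidAlgebra A M →ₐc[A] A ⊗[K] C₁ :=
    (MonoidAlgebra.liftGroupLikeBialgHom : MonoidAlgebra A (GroupLike A (A ⊗[K] C₁)) →ₐc[A] A ⊗[K] C₁).comp
      (MonoidAlgebra.mapDomainBialgHom A μ)
  have hL : ∀ z, L z = Φ ((MonoidAlgebra.scalarTensorEquiv (M := M) K A).symm z) := by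
    intro z
    induction z using MonoidAlgebra.induction_linear with
    | zero => simp
    | add u v hu hv => simp only [map_add, hu, hv]
    | single m s =>
      rw [show MonoidAlgebra.single m s = s • MonoidAlgebra.single m (1 : A) by
        rw [MonoidAlgebra.smul_single, smul_eq_mul, mul_one], map_smul, map_smul, map_smul,
        MonoidAlgebra.scalarTensorEquiv_symm_single]
      congr 1
      simp [L, μ]
  have hbij : Function.Bijective L := by
    rw [show (L : MonoidAlgebra A M → A ⊗[K] C₁) = Φ ∘ (MonoidAlgebra.scalarTensorEquiv (M := M) K A).symm from funext hL]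
    exact (Function.bijective_iff_has_inverse.2 ⟨Ψ, AlgHom.congr_fun hΨΦ, AlgHom.congr_fun hΦΨ⟩).comp
      (AlgEquiv.bijective _)
  exact ⟨A, hA, M, inferInstance, ⟨(BialgEquiv.ofBijective L hbij).symm⟩⟩

end Groth.Agent.MultT
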