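import Groth.Agent.MultT.HenselSplit
import Mathlib

/-! Homomorphisms of finite groups of multiplicative type lift from the residue field. -/

set_option autoImplicit false

open TensorProduct WithConv

universe u

namespace Groth.Agent.MultT

variable {R : Type u} [CommRing R] [HenselianLocalRing R]

/-- Algebra maps from an étale algebra to a finite algebra are determined by the reduction. -/
theorem algHom_eq_of_residue {D X : Type u} [CommRing D] [CommRing X] [Algebra R D] [Algebra R X]
    [Algebra.Etale R D] [Module.Finite R X] {G G' : D →ₐ[R] X}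
    (h : ∀ f, (1 : IsLocalRing.ResidueField R) ⊗ₜ[R] G f = (1 : IsLocalRing.ResidueField R) ⊗ₜ[R] G' f) :
    G = G' := by
  let κ := IsLocalRing.ResidueField R
  haveI : HenselianRing R (IsLocalRing.maximalIdeal R) := inferInstance
  apply (Hensel.bijective_baseChange _ κ IsLocalRing.residue_surjective
    (le_of_eq IsLocalRing.ker_residue) D X).1
  exact Algebra.TensorProduct.ext (Subsingleton.elim _ _) (AlgHom.ext fun f => by
    simp only [AlgHom.comp_apply, AlgHom.restrictScalars_apply, Algebra.TensorProduct.includeRight_apply,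
      Algebra.TensorProduct.map_tmul, map_one]
    exact h f)

variable {B C : Type u} [CommRing B] [HopfAlgebra R B] [CommRing C] [HopfAlgebra R C]
  [Coalgebra.IsCocomm R B] [Coalgebra.IsCocomm R C] [Module.Finite R B] [Module.Projective R B]
  [Module.Finite R C] [Module.Projective R C] [Algebra.Etale R (CartDual.D R B)]

/-- Homomorphisms lift from the closed fibre. -/
theorem exists_lift_bialgHom
    (φ₀ : (IsLocalRing.ResidueField R ⊗[R] C) →ₐc[IsLocalRing.ResidueField R]
      (IsLocalRing.ResidueField R ⊗[R] B)) :
    ∃ φ : C →ₐc[R] B, ∀ c : C, φ₀ ((1 : IsLocalRing.ResidueField R) ⊗ₜ[R] c) =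
      (1 : IsLocalRing.ResidueField R) ⊗ₜ[R] (φ c) := by
  classical
  let κ := IsLocalRing.ResidueField R
  haveI : HenselianRing R (IsLocalRing.maximalIdeal R) := inferInstance
  let _ : Semiring (κ ⊗[R] CartDual.D R C) := inferInstance
  let E : κ ⊗[R] CartDual.D R C ≃ₗ[κ] (C →ₗ[R] κ) :=
    ((CartDual.toDual R C).baseChange R κ).trans (LinearEquiv.ofBijective (dualT κ C) (dualT_bijective κ C))
  have hE : ∀ (s : κ) (f : CartDual.D R C) (c : C), E (s ⊗ₜ f) c = s * algebraMap R κ (f.ofConv c) :=
    fun s f c => dualT_tmul κ C s f.ofConv c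
  have hEmul : ∀ x y, toConv (E (x * y)) = toConv (E x) * toConv (E y) := by
    intro x y
    induction x using TensorProduct.induction_on with
    | zero => simp
    | add u v hu hv => simp only [add_mul, map_add, toConv_add, hu, hv]
    | tmul s f =>
      induction y using TensorProduct.induction_on with
      | zero => simp
      | add u v hu hv => simp only [mul_add, map_add, toConv_add, hu, hv]
      | tmul t h =>
        refine WithConv.ext (LinearMap.ext fun c => ?_)
        rw [Algebra.TensorProduct.tmul_mul_tmul]
        show E _ c = _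
        rw [hE, LinearMap.convMul_apply, LinearMap.convMul_apply]
        induction Coalgebra.comul (R := R) c using TensorProduct.induction_on with
        | zero => simp
        | tmul a b => simp [hE]; ring
        | add a b ha hb => simp only [map_add, mul_add, ha, hb]
  let F : CartDual.D R B →ₗ[R] (C →ₗ[R] κ) :=
    LinearMap.flip ((pairT κ B).restrictScalars R ∘ₗ
      (φ₀ : κ ⊗[R] C →ₗ[κ] κ ⊗[R] B).restrictScalars R ∘ₗ TensorProduct.mk R κ C 1) ∘ₗ
      (CartDual.toDual R B).toLinearMap
  have hF : ∀ f c, F f c = pairT κ B (φ₀ ((1 : κ) ⊗ₜ c)) f.ofConv := fun f c => rfl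
  have hFmul : ∀ f h, toConv (F (f * h)) = toConv (F f) * toConv (F h) := by
    intro f h
    refine WithConv.ext (LinearMap.ext fun c => ?_)
    show F (f * h) c = _
    rw [hF, ← pairT_comul, ← LinearEquiv.symm_apply_apply
      (TensorProduct.AlgebraTensorModule.distribBaseChange R κ B B)
      ((Coalgebra.comul (R := R)).baseChange κ (φ₀ ((1 : κ) ⊗ₜ c))), ← comul_eq_distrib,
      ← CoalgHomClass.map_comp_comul_apply φ₀, LinearMap.convMul_apply, TensorProduct.comul_tmul,
      CommSemiring.comul_apply]
    induction Coalgebra.comul (R := R) c using TensorProduct.induction_on with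
    | zero => simp
    | tmul a b =>
      simp only [TensorProduct.AlgebraTensorModule.tensorTensorTensorComm_tmul, TensorProduct.map_tmul,
        LinearMap.mul'_apply, hF]
      exact pairT_tmul₂ κ _ _ f h
    | add a b ha hb => simp only [TensorProduct.tmul_add, map_add, LinearMap.add_apply, ha, hb]
  let lam : CartDual.D R B →ₗ[R] κ ⊗[R] CartDual.D R C := (E.symm.restrictScalars R).toLinearMap ∘ₗ F
  have hlam : ∀ f, E (lam f) = F f := fun f => E.apply_symm_apply _
  let lamA : CartDual.D R B →ₐ[R] κ ⊗[R] CartDual.D R C := AlgHom.ofLinearMap lam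
    (E.injective (by
      refine LinearMap.ext fun c => ?_
      rw [hlam, hF, Algebra.TensorProduct.one_def, hE, ← counit_eq_pairT, CoalgHomClass.counit_comp_apply φ₀,
        LinearMap.convOne_apply]
      simp [Algebra.smul_def]
      rfl))
    (fun f h => E.injective (toConv_injective (by rw [hEmul, hlam, hlam, hlam, hFmul])))
  obtain ⟨ψ, hψ⟩ := (Hensel.bijective_baseChange _ κ IsLocalRing.residue_surjective
    (le_of_eq IsLocalRing.ker_residue) (CartDual.D R B) (CartDual.D R C)).2
      (Algebra.TensorProduct.lift (Algebra.ofId _ _) lamA fun _ _ => Commute.all _ _)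
  have hψc : ∀ f c, algebraMap R κ ((ψ f).ofConv c) = pairT κ B (φ₀ ((1 : κ) ⊗ₜ c)) f.ofConv := by
    intro f c
    have h1 := AlgHom.congr_fun hψ ((1 : κ) ⊗ₜ f)
    simp only [Algebra.TensorProduct.map_tmul, map_one, Algebra.TensorProduct.lift_tmul, one_mul] at h1
    have h2 := congrArg (fun z => E z c) h1
    simp only [hE, one_mul] at h2
    rw [h2]
    show E (lam f) c = _
    rw [hlam, hF]
  let φl : C →ₗ[R] B := (Module.evalEquiv R B).symm.toLinearMap ∘ₗ
    LinearMap.flip ((CartDual.toDual R C).toLinearMap ∘ₗ ψ.toLinearMap ∘ₗ (CartDual.toDual R B).symm.toLinearMap)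
  have hφl : ∀ (f : CartDual.D R B) c, f.ofConv (φl c) = (ψ f).ofConv c := fun f c => by
    simp [φl]
  have hsep : ∀ x y : B, (∀ f : CartDual.D R B, f.ofConv x = f.ofConv y) → x = y := fun x y h => by
    rw [← sub_eq_zero, ← Module.forall_dual_apply_eq_zero_iff R]
    intro θ
    rw [map_sub, sub_eq_zero]
    exact h (toConv θ)
  have hred : ∀ c, φ₀ ((1 : κ) ⊗ₜ c) = (1 : κ) ⊗ₜ φl c := fun c =>
    (pairT_bijective κ B).1 (LinearMap.ext fun θ => by
      rw [pairT_tmul, one_mul, show θ = (toConv θ : CartDual.D R B).ofConv from rfl, hφl, hψc])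
  have hmapψ : ∀ (y : CartDual.D R B ⊗[R] CartDual.D R B) (c c' : C),
      CartDual.ev₂ R C (Algebra.TensorProduct.map ψ ψ y) (c ⊗ₜ c') =
        CartDual.ev₂ R B y (φl c ⊗ₜ φl c') := by
    intro y c c'
    induction y using TensorProduct.induction_on with
    | zero => simp
    | tmul f h => simp [CartDual.coe_apply, hφl]
    | add u v hu hv => simp only [map_add, LinearMap.add_apply, hu, hv]
  have hone : φl 1 = 1 := by
    refine hsep _ _ fun f => ?_
    rw [hφl]
    have h := algHom_eq_of_residue (G := (Bialgebra.counitAlgHom R (CartDual.D R C)).comp ψ)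
      (G' := Bialgebra.counitAlgHom R (CartDual.D R B)) (fun g => by
        apply (Algebra.TensorProduct.rid R κ κ).injective
        simp only [Algebra.TensorProduct.rid_tmul, AlgHom.comp_apply, Bialgebra.counitAlgHom_apply,
          CartDual.coalgebra_counit_apply, CartDual.coe_apply, ← Algebra.algebraMap_eq_smul_one]
        rw [hψc, ← Algebra.TensorProduct.one_def, map_one, Algebra.TensorProduct.one_def, pairT_tmul, one_mul])
    exact AlgHom.congr_fun h f
  have hmul : ∀ c c', φl (c * c') = φl c * φl c' := by
    intro c c'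
    refine hsep _ _ fun f => ?_
    have h := algHom_eq_of_residue (G := (Algebra.TensorProduct.map ψ ψ).comp (Bialgebra.comulAlgHom R _))
      (G' := (Bialgebra.comulAlgHom R _).comp ψ) (fun g => by
        apply ((CartDual.ev₂ R C).baseChange R κ).injective
        apply (dualT_bijective κ (C ⊗[R] C)).1
        refine TensorProduct.ext' fun a b => ?_
        simp only [LinearEquiv.baseChange_tmul, dualT_tmul, AlgHom.comp_apply, Bialgebra.comulAlgHom_apply,
          hmapψ, CartDual.ev₂_coalgebra_comul_tmul, CartDual.coe_apply, one_mul, hψc]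
        rw [← mul_one (1 : κ), ← Algebra.TensorProduct.tmul_mul_tmul (1 : κ) (1 : κ) a b, map_mul φ₀, hred, hred,
          Algebra.TensorProduct.tmul_mul_tmul, mul_one, pairT_tmul, one_mul])
    have h1 := congrArg (fun z => CartDual.ev₂ R C z (c ⊗ₜ c')) (AlgHom.congr_fun h f)
    simp only [AlgHom.comp_apply, Bialgebra.comulAlgHom_apply, hmapψ, CartDual.ev₂_coalgebra_comul_tmul,
      CartDual.coe_apply] at h1
    rw [hφl]
    exact h1.symm
  let φA : C →ₐ[R] B := AlgHom.ofLinearMap φl hone hmul
  refine ⟨BialgHom.ofAlgHom φA ?_ ?_, fun c => hred c⟩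
  · refine AlgHom.ext fun c => ?_
    show Coalgebra.counit (R := R) (φl c) = Coalgebra.counit (R := R) c
    have := hφl 1 c
    rwa [map_one, LinearMap.convOne_apply, LinearMap.convOne_apply, Algebra.algebraMap_self,
      RingHom.id_apply, RingHom.id_apply] at this
  · refine AlgHom.ext fun c => ?_
    simp only [AlgHom.comp_apply, Bialgebra.comulAlgHom_apply]
    rw [← sub_eq_zero, ← Module.forall_dual_apply_eq_zero_iff R]
    intro θ
    obtain ⟨w, rfl⟩ := (CartDual.ev₂ R B).surjective θ
    induction w using TensorProduct.induction_on with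
    | zero => simp
    | add x y hx hy => simp only [map_add, LinearMap.add_apply, hx, hy, add_zero]
    | tmul f h =>
      rw [map_sub, sub_eq_zero, CartDual.ev₂_tmul_eq', LinearMap.comp_apply, LinearMap.comp_apply]
      show _ = LinearMap.mul' R R (TensorProduct.map f.ofConv h.ofConv (Coalgebra.comul (R := R) (φl c)))
      rw [← LinearMap.convMul_apply, hφl, map_mul, LinearMap.convMul_apply]
      generalize Coalgebra.comul (R := R) c = t
      induction t using TensorProduct.induction_on with
      | zero => simp
      | tmul a b => simp [φA, hφl]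
      | add a b ha hb => simp only [map_add, ha, hb]

end Groth.Agent.MultT
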