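import Groth.Agent.MultT.RedLift
import Groth.Prelude.Def_CartDual2
import Mathlib

/-! Lifting finite groups of multiplicative type from the residue field. -/

set_option autoImplicit false

open TensorProduct WithConv

universe u

namespace Groth.Agent.MultT

theorem preconnectedSpace_of_isLocalRing (R : Type u) [CommRing R] [IsLocalRing R] :
    PreconnectedSpace (PrimeSpectrum R) := by
  rw [preconnectedSpace_iff_clopen]
  intro s hs
  have hle : ∀ x : PrimeSpectrum R, x ⤳ IsLocalRing.closedPoint R := fun x =>
    (PrimeSpectrum.le_iff_specializes x _).1 (IsLocalRing.le_maximalIdeal x.2.ne_top)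
  by_cases h : IsLocalRing.closedPoint R ∈ s
  · exact Or.inr (Set.eq_univ_of_forall fun x => (hle x).mem_open hs.isOpen h)
  · exact Or.inl (Set.eq_empty_of_forall_notMem fun x hx => h ((hle x).mem_closed hs.isClosed hx))

/-- The double dual of a finite projective Hopf algebra. -/
theorem etale_doubleDual {R : Type u} [CommRing R] (E : Type u) [CommRing E] [HopfAlgebra R E]
    [Coalgebra.IsCocomm R E] [Module.Finite R E] [Module.Projective R E] [Algebra.Etale R E] :
    Algebra.Etale R (CartDual.D R (CartDual.D R E)) := by
  have h : Function.Bijective (CartDual.eval R E) := by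
    have : (CartDual.eval R E : E → CartDual.D R (CartDual.D R E)) =
        ((CartDual.toDual R (CartDual.D R E)).symm ∘ (CartDual.toDual R E).dualMap) ∘ Module.Dual.eval R E := rfl
    rw [this]
    exact ((LinearEquiv.bijective _).comp (LinearEquiv.bijective _)).comp (Module.bijective_dual_eval R E)
  exact Algebra.Etale.of_equiv (AlgEquiv.ofBijective (CartDual.eval R E : E →ₐ[R] _) h)

set_option maxHeartbeats 1600000 in
/-- Formation of the dual commutes with base change. -/
theorem exists_dual_equiv {R : Type u} [CommRing R] {k : Type u} [CommRing k] [Algebra R k] {E : Type u}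
    [CommRing E] [HopfAlgebra R E] [Module.Finite R E] [Module.Projective R E] [Coalgebra.IsCocomm R E]
    {E₀ : Type u} [CommRing E₀] [HopfAlgebra k E₀] [Module.Finite k E₀] [Module.Projective k E₀]
    [Coalgebra.IsCocomm k E₀] (e : k ⊗[R] E ≃ₐ[k] E₀) (p : E → E₀) (hp : ∀ a, e ((1 : k) ⊗ₜ a) = p a)
    (π : E ⊗[R] E → E₀ ⊗[k] E₀) (hπ : ∀ x y, π (x ⊗ₜ y) = p x ⊗ₜ p y)
    (hπa : ∀ x y, π (x + y) = π x + π y)
    (hΔ : ∀ a, Coalgebra.comul (R := k) (p a) = π (Coalgebra.comul (R := R) a))
    (hε : ∀ a, Coalgebra.counit (R := k) (p a) = algebraMap R k (Coalgebra.counit (R := R) a)) :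
    Nonempty (k ⊗[R] CartDual.D R E ≃ₐc[k] CartDual.D k E₀) := by
  let L : k ⊗[R] CartDual.D R E ≃ₗ[k] CartDual.D k E₀ :=
    ((CartDual.toDual R E).baseChange R k).trans <| (LinearEquiv.ofBijective (dualT k E) (dualT_bijective k E)).trans <|
      (LinearMap.liftBaseChangeEquiv k).trans <| (LinearEquiv.congrLeft k k e.toLinearEquiv).trans
        (CartDual.toDual k E₀).symm
  have hL : ∀ (s : k) (f : CartDual.D R E) (a : E),
      (L (s ⊗ₜ f)).ofConv (p a) = s * algebraMap R k (f.ofConv a) := by
    intro s f a
    show ((dualT k E (s ⊗ₜ f.ofConv)).liftBaseChange k) (e.symm (p a)) = _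
    rw [← hp, AlgEquiv.symm_apply_apply, LinearMap.liftBaseChange_tmul, one_smul, dualT_tmul]
  have hspan : ∀ θ θ' : CartDual.D k E₀, (∀ a, θ.ofConv (p a) = θ'.ofConv (p a)) → θ = θ' := by
    intro θ θ' h
    refine WithConv.ext (LinearMap.ext fun x => ?_)
    obtain ⟨z, rfl⟩ := e.surjective x
    induction z using TensorProduct.induction_on with
    | zero => simp
    | tmul s a =>
      rw [show s ⊗ₜ[R] a = s • ((1 : k) ⊗ₜ[R] a) by rw [TensorProduct.smul_tmul', smul_eq_mul, mul_one],
        map_smul, map_smul, map_smul, hp, h]
    | add u v hu hv => simp only [map_add, hu, hv]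
  have hπ0 : π 0 = 0 := by simpa using hπa 0 0
  have hmul : ∀ x y, L (x * y) = L x * L y := by
    let _ : Semiring (k ⊗[R] CartDual.D R E) := inferInstance
    intro x y
    induction x using TensorProduct.induction_on with
    | zero => simp
    | add u v hu hv => simp only [add_mul, map_add, hu, hv]
    | tmul s f =>
      induction y using TensorProduct.induction_on with
      | zero => simp
      | add u v hu hv => simp only [mul_add, map_add, hu, hv]
      | tmul t g =>
        refine hspan _ _ fun a => ?_
        rw [Algebra.TensorProduct.tmul_mul_tmul, hL, LinearMap.convMul_apply, LinearMap.convMul_apply, hΔ]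
        induction Coalgebra.comul (R := R) a using TensorProduct.induction_on with
        | zero => simp [hπ0]
        | tmul b c => simp [hπ, hL]; ring
        | add b c hb hc => simp only [hπa, map_add, mul_add, hb, hc]
  have hone : L 1 = 1 := hspan _ _ fun a => by
    rw [Algebra.TensorProduct.one_def, hL, LinearMap.convOne_apply, LinearMap.convOne_apply, hε, one_mul]
    rfl
  let LA : k ⊗[R] CartDual.D R E →ₐ[k] CartDual.D k E₀ := AlgHom.ofLinearMap L.toLinearMap hone hmul
  have h1 : (Bialgebra.counitAlgHom k (CartDual.D k E₀)).comp LA = Bialgebra.counitAlgHom k (k ⊗[R] CartDual.D R E) :=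
    AlgHom.ext fun z => by
      induction z using TensorProduct.induction_on with
      | zero => simp
      | add u v hu hv => simp only [map_add, hu, hv]
      | tmul s f => ?_
      rw [show s ⊗ₜ[R] f = s • ((1 : k) ⊗ₜ[R] f) by rw [TensorProduct.smul_tmul', smul_eq_mul, mul_one],
        map_smul, map_smul]
      congr 1
      show Coalgebra.counit (R := k) (L ((1 : k) ⊗ₜ f)) = Coalgebra.counit (R := k) ((1 : k) ⊗ₜ[R] f)
      rw [CartDual.coalgebra_counit_apply, TensorProduct.counit_tmul, CommSemiring.counit_apply,
        CartDual.coalgebra_counit_apply, CartDual.coe_apply, CartDual.coe_apply, ← map_one e,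
        Algebra.TensorProduct.one_def, hp, hL]
      simp [Algebra.smul_def]
  have h2 : (Algebra.TensorProduct.map LA LA).comp (Bialgebra.comulAlgHom k (k ⊗[R] CartDual.D R E)) =
      (Bialgebra.comulAlgHom k (CartDual.D k E₀)).comp LA :=
    AlgHom.ext fun z => by
      induction z using TensorProduct.induction_on with
      | zero => simp
      | add u v hu hv => simp only [map_add, hu, hv]
      | tmul s f => ?_
      rw [show s ⊗ₜ[R] f = s • ((1 : k) ⊗ₜ[R] f) by rw [TensorProduct.smul_tmul', smul_eq_mul, mul_one],
        map_smul, map_smul]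
      congr 1
      show Algebra.TensorProduct.map LA LA (Coalgebra.comul (R := k) ((1 : k) ⊗ₜ[R] f)) =
        Coalgebra.comul (R := k) (L ((1 : k) ⊗ₜ f))
      apply (CartDual.ev₂ k E₀).injective
      refine TensorProduct.ext' fun x y => ?_
      obtain ⟨z, rfl⟩ := e.surjective x
      induction z using TensorProduct.induction_on with
      | zero => simp
      | add u v hu hv => simp only [map_add, TensorProduct.add_tmul, hu, hv]
      | tmul s a =>
        obtain ⟨w, rfl⟩ := e.surjective y
        induction w using TensorProduct.induction_on with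
        | zero => simp
        | add u v hu hv => simp only [map_add, TensorProduct.tmul_add, hu, hv]
        | tmul t b =>
          rw [show s ⊗ₜ[R] a = s • ((1 : k) ⊗ₜ[R] a) by rw [TensorProduct.smul_tmul', smul_eq_mul, mul_one],
            show t ⊗ₜ[R] b = t • ((1 : k) ⊗ₜ[R] b) by rw [TensorProduct.smul_tmul', smul_eq_mul, mul_one],
            map_smul, map_smul, hp, hp, ← TensorProduct.smul_tmul', map_smul, map_smul, TensorProduct.tmul_smul,
            map_smul, map_smul]
          congr 2
          rw [CartDual.ev₂_coalgebra_comul_tmul, CartDual.coe_apply, ← hp a, ← hp b, ← map_mul,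
            Algebra.TensorProduct.tmul_mul_tmul, one_mul, hp (a * b), hp a, hp b, hL, one_mul, TensorProduct.comul_tmul,
            CommSemiring.comul_apply, ← CartDual.coe_apply, ← CartDual.ev₂_coalgebra_comul_tmul R E f a b]
          induction Coalgebra.comul (R := R) f using TensorProduct.induction_on with
          | zero => simp
          | add u v hu hv => simp only [TensorProduct.tmul_add, map_add, LinearMap.add_apply, hu, hv]
          | tmul g h => simp [LA, CartDual.coe_apply, hL]
  let Lc := BialgHom.ofAlgHom (R := k) (A := k ⊗[R] CartDual.D R E) (B := CartDual.D k E₀) LA h1 h2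
  exact ⟨BialgEquiv.ofBijective Lc L.bijective⟩

variable {R : Type u} [CommRing R] [HenselianLocalRing R]

/-- Finite groups of multiplicative type lift along henselian local rings. -/
theorem exists_lift_finite {C₀ : Type u} [CommRing C₀] [HopfAlgebra (IsLocalRing.ResidueField R) C₀]
    [Module.Finite (IsLocalRing.ResidueField R) C₀] (h₀ : SGA3b.IsMultType (IsLocalRing.ResidueField R) C₀) :
    ∃ (C : Type u) (_ : CommRing C) (_ : HopfAlgebra R C), Module.Finite R C ∧ SGA3b.IsIsotrivial R C ∧
      Nonempty ((IsLocalRing.ResidueField R ⊗[R] C) ≃ₐc[IsLocalRing.ResidueField R] C₀) := by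
  classical
  let k := IsLocalRing.ResidueField R
  haveI : Coalgebra.IsCocomm k C₀ := isCocomm h₀
  haveI : Algebra.Etale k (CartDual.D k C₀) := etale_dual h₀
  let E₀ := CartDual.D k C₀
  letI : Algebra R E₀ := Algebra.compHom E₀ (algebraMap R k)
  haveI : IsScalarTower R k E₀ := .of_algebraMap_eq fun _ => rfl
  obtain ⟨E, _, _, p, hfin, het, hcoc, hp, hΔ, hε⟩ := exists_lift_hopf (R := R) (E₀ := E₀)
  haveI := hfin
  haveI := het
  haveI := hcoc
  haveI : Module.FinitePresentation R E := Module.FinitePresentation.of_finite_of_finitePresentation R E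
  haveI : Module.Flat R E := Algebra.Smooth.flat R E
  haveI : Module.Projective R E := Module.Flat.projective_of_finitePresentation
  haveI := etale_doubleDual (R := R) E
  haveI := preconnectedSpace_of_isLocalRing R
  obtain ⟨L⟩ := exists_dual_equiv (AlgEquiv.ofBijective (redMap p) hp) p
    (fun a => (redMap_tmul p 1 a).trans (one_smul _ _))
    (redTensor p p) (redTensor_tmul p p) (map_add _) hΔ hε
  have hev : Function.Bijective (CartDual.eval k C₀) := by
    have : (CartDual.eval k C₀ : C₀ → CartDual.D k E₀) =
        ((CartDual.toDual k E₀).symm ∘ (CartDual.toDual k C₀).dualMap) ∘ Module.Dual.eval k C₀ := rfl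
    rw [this]
    exact ((LinearEquiv.bijective _).comp (LinearEquiv.bijective _)).comp (Module.bijective_dual_eval k C₀)
  exact ⟨CartDual.D R E, inferInstance, inferInstance, inferInstance, isIsotrivial_of_etale_dual,
    ⟨L.trans (BialgEquiv.ofBijective (CartDual.eval k C₀) hev).symm⟩⟩

end Groth.Agent.MultT
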