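import Groth.Agent.MultT.FiniteProj
import Groth.Agent.MultT.BaseChange
import Groth.Agent.MultT.Power
import Groth.Agent.HopfSmDim.Versch
import Groth.Prelude.Def_CartDual
import Mathlib

/-! The dual of a finite group of multiplicative type is étale; a split dual gives
diagonalisability. -/

set_option autoImplicit false

open TensorProduct WithConv Coalgebra

universe u

namespace Groth.Agent.MultT

section Pairing

variable {R : Type u} [CommRing R] (T : Type u) [CommRing T] [Algebra R T]
  (M : Type u) [AddCommGroup M] [Module R M]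

/-- Pairing of a base change with the dual. -/
noncomputable def pairT : T ⊗[R] M →ₗ[T] Module.Dual R M →ₗ[R] T :=
  TensorProduct.AlgebraTensorModule.lift
    (LinearMap.toSpanSingleton T _ ((Module.Dual.eval R M).compr₂ (Algebra.linearMap R T)))

theorem pairT_tmul (t : T) (x : M) (f : Module.Dual R M) :
    pairT T M (t ⊗ₜ x) f = t * algebraMap R T (f x) := by
  simp [pairT]

/-- Base change of the dual, as maps into the extension. -/
noncomputable def dualT : T ⊗[R] Module.Dual R M →ₗ[T] M →ₗ[R] T :=
  LinearMap.liftBaseChange T ((Algebra.linearMap R T).compRight R (M := M))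

theorem dualT_tmul (t : T) (f : Module.Dual R M) (x : M) :
    dualT T M (t ⊗ₜ f) x = t * algebraMap R T (f x) := by
  simp [dualT]

variable [Module.Finite R M] [Module.Projective R M]

theorem pairT_bijective : Function.Bijective (pairT (R := R) T M) := by
  obtain ⟨n, g, f, -, -, hgf⟩ := Module.Finite.exists_comp_eq_id_of_projective R M
  have hx : ∀ a : M, a = ∑ i, f a i • g (Pi.single i 1) := fun a => by
    conv_lhs => rw [← LinearMap.id_apply (R := R) a, ← hgf, LinearMap.comp_apply, pi_eq_sum_univ' (f a)]
    simp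
  let G : (Module.Dual R M →ₗ[R] T) → T ⊗[R] M := fun θ =>
    ∑ i, θ (LinearMap.proj i ∘ₗ f) ⊗ₜ[R] g (Pi.single i 1)
  have hleft : Function.LeftInverse G (pairT T M) := by
    intro z
    induction z using TensorProduct.induction_on with
    | zero => simp [G]
    | add y z hy hz =>
      simp only [G, map_add, LinearMap.add_apply, TensorProduct.add_tmul, Finset.sum_add_distrib] at hy hz ⊢
      rw [hy, hz]
    | tmul t a =>
      simp only [G, pairT_tmul]
      conv_rhs => rw [hx a, TensorProduct.tmul_sum]
      refine Finset.sum_congr rfl fun i _ => ?_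
      rw [TensorProduct.tmul_smul, TensorProduct.smul_tmul', Algebra.smul_def, mul_comm]
      rfl
  have hright : Function.RightInverse G (pairT T M) := by
    intro θ
    refine LinearMap.ext fun φ => ?_
    have hφ : φ = ∑ i, φ (g (Pi.single i 1)) • (LinearMap.proj i ∘ₗ f) := LinearMap.ext fun a => by
      conv_lhs => rw [hx a]
      simp [mul_comm]
    simp only [G, map_sum, LinearMap.sum_apply, pairT_tmul]
    conv_rhs => rw [hφ, map_sum]
    refine Finset.sum_congr rfl fun i _ => ?_
    rw [map_smul, Algebra.smul_def, mul_comm]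
  exact ⟨hleft.injective, hright.surjective⟩

theorem dualT_bijective : Function.Bijective (dualT (R := R) T M) := by
  obtain ⟨n, g, f, -, -, hgf⟩ := Module.Finite.exists_comp_eq_id_of_projective R M
  have hx : ∀ a : M, a = ∑ i, f a i • g (Pi.single i 1) := fun a => by
    conv_lhs => rw [← LinearMap.id_apply (R := R) a, ← hgf, LinearMap.comp_apply, pi_eq_sum_univ' (f a)]
    simp
  let G : (M →ₗ[R] T) → T ⊗[R] Module.Dual R M := fun θ =>
    ∑ i, θ (g (Pi.single i 1)) ⊗ₜ[R] (LinearMap.proj i ∘ₗ f)
  have hleft : Function.LeftInverse G (dualT T M) := by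
    intro z
    induction z using TensorProduct.induction_on with
    | zero => simp [G]
    | add y z hy hz =>
      simp only [G, map_add, LinearMap.add_apply, TensorProduct.add_tmul, Finset.sum_add_distrib] at hy hz ⊢
      rw [hy, hz]
    | tmul t φ =>
      have hφ : φ = ∑ i, φ (g (Pi.single i 1)) • (LinearMap.proj i ∘ₗ f) := LinearMap.ext fun a => by
        conv_lhs => rw [hx a]
        simp [mul_comm]
      simp only [G, dualT_tmul]
      conv_rhs => rw [hφ, TensorProduct.tmul_sum]
      refine Finset.sum_congr rfl fun i _ => ?_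
      rw [TensorProduct.tmul_smul, TensorProduct.smul_tmul', Algebra.smul_def, mul_comm]
  have hright : Function.RightInverse G (dualT T M) := by
    intro θ
    refine LinearMap.ext fun a => ?_
    simp only [G, map_sum, LinearMap.sum_apply, dualT_tmul]
    conv_rhs => rw [hx a, map_sum]
    refine Finset.sum_congr rfl fun i _ => ?_
    rw [map_smul, Algebra.smul_def, mul_comm]
    rfl
  exact ⟨hleft.injective, hright.surjective⟩

end Pairing

variable {R : Type u} [CommRing R] {A : Type u} [CommRing A] [HopfAlgebra R A]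

section Pair2

theorem pairT_comul (T : Type u) [CommRing T] [Algebra R T] (z : T ⊗[R] A) (f h : CartDual.D R A) :
    pairT T (A ⊗[R] A) ((comul (R := R)).baseChange T z)
      ((LinearMap.mul' R R) ∘ₗ TensorProduct.map f.ofConv h.ofConv) = pairT T A z (f * h).ofConv := by
  induction z using TensorProduct.induction_on with
  | zero => simp
  | tmul t a =>
    rw [LinearMap.baseChange_tmul, pairT_tmul, pairT_tmul, LinearMap.convMul_apply]
    rfl
  | add x y hx hy => simp only [map_add, LinearMap.add_apply, hx, hy]

theorem pairT_tmul₂ (T : Type u) [CommRing T] [Algebra R T] (x y : T ⊗[R] A) (f h : CartDual.D R A) :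
    pairT T (A ⊗[R] A)
      ((TensorProduct.AlgebraTensorModule.distribBaseChange R T A A).symm (x ⊗ₜ[T] y))
      ((LinearMap.mul' R R) ∘ₗ TensorProduct.map f.ofConv h.ofConv) =
      pairT T A x f.ofConv * pairT T A y h.ofConv := by
  induction x using TensorProduct.induction_on with
  | zero => simp
  | add u v hu hv => simp only [TensorProduct.add_tmul, map_add, LinearMap.add_apply, hu, hv, add_mul]
  | tmul s a =>
    induction y using TensorProduct.induction_on with
    | zero => simp
    | add u v hu hv => simp only [TensorProduct.tmul_add, map_add, LinearMap.add_apply, hu, hv, mul_add]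
    | tmul t b =>
      have h1 : (TensorProduct.AlgebraTensorModule.distribBaseChange R T A A).symm
          ((s ⊗ₜ[R] a) ⊗ₜ[T] (t ⊗ₜ[R] b)) = (s * t) ⊗ₜ[R] (a ⊗ₜ[R] b) := by
        rw [LinearEquiv.symm_apply_eq,
          show (s * t) ⊗ₜ[R] (a ⊗ₜ[R] b) = (s * t) • ((1 : T) ⊗ₜ[R] (a ⊗ₜ[R] b)) by
            rw [TensorProduct.smul_tmul', smul_eq_mul, mul_one], map_smul,
          TensorProduct.AlgebraTensorModule.distribBaseChange_tmul,
          show s ⊗ₜ[R] a = s • ((1 : T) ⊗ₜ[R] a) by rw [TensorProduct.smul_tmul', smul_eq_mul, mul_one],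
          show t ⊗ₜ[R] b = t • ((1 : T) ⊗ₜ[R] b) by rw [TensorProduct.smul_tmul', smul_eq_mul, mul_one],
          TensorProduct.tmul_smul, ← TensorProduct.smul_tmul', smul_smul, mul_comm]
      rw [h1, pairT_tmul, pairT_tmul, pairT_tmul]
      simp only [LinearMap.coe_comp, Function.comp_apply, TensorProduct.map_tmul, LinearMap.mul'_apply, map_mul]
      ring

theorem comul_eq_distrib (T : Type u) [CommRing T] [Algebra R T] (z : T ⊗[R] A) :
    (comul (R := T) z) =
      TensorProduct.AlgebraTensorModule.distribBaseChange R T A A ((comul (R := R)).baseChange T z) := by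
  induction z using TensorProduct.induction_on with
  | zero => simp
  | add x y hx hy => simp only [map_add, hx, hy]
  | tmul t a =>
    rw [show t ⊗ₜ[R] a = t • ((1 : T) ⊗ₜ[R] a) by rw [TensorProduct.smul_tmul', smul_eq_mul, mul_one],
      map_smul, map_smul, map_smul, LinearMap.baseChange_tmul, TensorProduct.comul_tmul, CommSemiring.comul_apply]
    congr 1
    induction comul (R := R) a using TensorProduct.induction_on with
    | zero => simp
    | tmul x y => simp [TensorProduct.AlgebraTensorModule.distribBaseChange_tmul]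
    | add x y hx hy => simp only [TensorProduct.tmul_add, map_add, hx, hy]

theorem counit_eq_pairT (T : Type u) [CommRing T] [Algebra R T] (z : T ⊗[R] A) :
    counit (R := T) z = pairT T A z (1 : CartDual.D R A).ofConv := by
  induction z using TensorProduct.induction_on with
  | zero => simp
  | add x y hx hy => simp only [map_add, LinearMap.add_apply, hx, hy]
  | tmul t a =>
    rw [pairT_tmul, TensorProduct.counit_tmul, LinearMap.convOne_apply]
    simp [Algebra.smul_def, mul_comm]

variable [Module.Finite R A] [Module.Projective R A]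

theorem isGroupLikeElem_of_pairT (T : Type u) [CommRing T] [Algebra R T] {g : T ⊗[R] A}
    (h1 : pairT T A g (1 : CartDual.D R A).ofConv = 1)
    (hmul : ∀ f h : CartDual.D R A,
      pairT T A g (f * h).ofConv = pairT T A g f.ofConv * pairT T A g h.ofConv) :
    IsGroupLikeElem T g := by
  refine ⟨by rw [counit_eq_pairT]; exact h1, ?_⟩
  rw [comul_eq_distrib, ← LinearEquiv.eq_symm_apply]
  refine (pairT_bijective T (A ⊗[R] A)).1 (LinearMap.ext fun φ => ?_)
  obtain ⟨w, rfl⟩ := (CartDual.ev₂ R A).surjective φ
  induction w using TensorProduct.induction_on with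
  | zero => simp
  | add x y hx hy => simp only [map_add, hx, hy]
  | tmul f h => rw [CartDual.ev₂_tmul_eq', pairT_comul, pairT_tmul₂, hmul]

end Pair2

section Etale

variable [Coalgebra.IsCocomm R A] [Module.Finite R A] [Module.Projective R A]

/-- In a chart with finite character group, the dual becomes the functions on the characters. -/
theorem Chart.exists_dualEquiv (c : Chart R A) [Fintype c.M] :
    Nonempty (c.S ⊗[R] CartDual.D R A ≃ₐ[c.S] (c.M → c.S)) := by
  classical
  let g : c.M → c.S ⊗[R] A := fun m => c.linEquiv.symm (MonoidAlgebra.single m 1)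
  let Θ : (c.M → c.S) → WithConv (A →ₗ[R] c.S) := fun v =>
    toConv (∑ m, v m • (c.cf m).ofConv)
  have hsum : ∀ a : A, ∑ m, c.cf m a • g m = (1 : c.S) ⊗ₜ a := by
    intro a
    apply c.linEquiv.injective
    simp only [map_sum, map_smul, g, LinearEquiv.apply_symm_apply, Chart.linEquiv_tmul, one_smul]
    refine cfM_ext fun l => ?_
    simp [map_sum, cfM_single, c.cf_apply, Finset.sum_ite_eq']
  have hΘinj : Function.Injective Θ := by
    intro v w h
    funext m
    let E : (A →ₗ[R] c.S) → c.S := fun F => F.liftBaseChange c.S (g m)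
    have hv : ∀ u : c.M → c.S, E (∑ l, u l • (c.cf l).ofConv) = u m := by
      intro u
      have hl : ∀ z : c.S ⊗[R] A, (∑ l, u l • (c.cf l).ofConv).liftBaseChange c.S z =
          ∑ l, u l * cfM c.S l (c.linEquiv z) := by
        intro z
        induction z using TensorProduct.induction_on with
        | zero => simp
        | add x y hx hy => simp only [map_add, hx, hy, mul_add, Finset.sum_add_distrib]
        | tmul s a =>
          simp only [LinearMap.liftBaseChange_tmul, LinearMap.sum_apply, LinearMap.smul_apply, Finset.mul_sum,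
            Chart.linEquiv_tmul, map_smul, smul_eq_mul]
          refine Finset.sum_congr rfl fun l _ => ?_
          rw [← c.cf_apply]
          ring
      show (∑ l, u l • (c.cf l).ofConv).liftBaseChange c.S (g m) = u m
      rw [hl]
      simp [g, cfM_single]
    rw [← hv v, ← hv w, show (∑ l, v l • (c.cf l).ofConv) = ∑ l, w l • (c.cf l).ofConv from
      congrArg WithConv.ofConv h]
  have hsm : ∀ (s t : c.S) (F G : WithConv (A →ₗ[R] c.S)),
      toConv (s • F.ofConv) * toConv (t • G.ofConv) = toConv ((s * t) • (F * G).ofConv) := by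
    intro s t F G
    refine WithConv.ext (LinearMap.ext fun a => ?_)
    simp only [LinearMap.convMul_apply, LinearMap.smul_apply, smul_eq_mul]
    induction comul (R := R) a using TensorProduct.induction_on with
    | zero => simp
    | tmul x y => simp; ring
    | add x y hx hy => simp only [map_add, mul_add, hx, hy]
  have hΘmul : ∀ v w, Θ (v * w) = Θ v * Θ w := by
    intro v w
    simp only [Θ, WithConv.toConv_sum, Finset.sum_mul, Finset.mul_sum, hsm, Pi.mul_apply]
    rw [Finset.sum_comm]
    refine Finset.sum_congr rfl fun m _ => ?_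
    rw [Finset.sum_eq_single m]
    · rw [c.cf_mul_self]
    · intro l _ hl
      rw [c.cf_mul_ne hl.symm]
      simp
    · simp
  let κ : c.S ⊗[R] CartDual.D R A →ₗ[c.S] (A →ₗ[R] c.S) :=
    (dualT c.S A) ∘ₗ ((CartDual.toDual R A).toLinearMap.baseChange c.S)
  let ψ : CartDual.D R A →ₗ[R] (c.M → c.S) :=
    LinearMap.pi fun m => (pairT c.S A (g m)) ∘ₗ (CartDual.toDual R A).toLinearMap
  have hψ : ∀ f, Θ (ψ f) = toConv (Algebra.linearMap R c.S ∘ₗ f.ofConv) := by
    intro f
    refine WithConv.ext (LinearMap.ext fun a => ?_)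
    simp only [Θ, ofConv_toConv, LinearMap.sum_apply, LinearMap.smul_apply, smul_eq_mul, LinearMap.comp_apply,
      Algebra.linearMap_apply]
    have h1 := congrArg (fun z => pairT c.S A z f.ofConv) (hsum a)
    simp only [map_sum, map_smul, LinearMap.sum_apply, LinearMap.smul_apply, pairT_tmul, one_mul,
      smul_eq_mul] at h1
    rw [← h1]
    exact Finset.sum_congr rfl fun m _ => mul_comm _ _
  have hι : ∀ f h : CartDual.D R A, toConv (Algebra.linearMap R c.S ∘ₗ (f * h).ofConv) =
      toConv (Algebra.linearMap R c.S ∘ₗ f.ofConv) * toConv (Algebra.linearMap R c.S ∘ₗ h.ofConv) :=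
    fun f h => WithConv.ext (LinearMap.algHom_comp_convMul_distrib (Algebra.ofId R c.S) f h)
  have hψ1 : ψ 1 = 1 := by
    funext m
    show pairT c.S A (g m) (1 : CartDual.D R A).ofConv = 1
    rw [← counit_eq_pairT]
    have hc : ∀ z : c.S ⊗[R] A, counit (R := c.S) z = (c.linEquiv z).coeff.sum fun _ s => s := by
      intro z
      induction z using TensorProduct.induction_on with
      | zero => simp
      | add x y hx hy =>
        rw [map_add, map_add, hx, hy, MonoidAlgebra.coeff_add,
          Finsupp.sum_add_index' (fun _ => rfl) (fun _ _ _ => rfl)]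
      | tmul s a =>
        rw [Chart.linEquiv_tmul, MonoidAlgebra.coeff_smul, Finsupp.sum_smul_index' (fun _ => rfl)]
        simp only [smul_eq_mul]
        rw [← Finsupp.mul_sum, c.total]
        simp [Algebra.smul_def, mul_comm]
    rw [hc]
    simp [g]
  let ψA : CartDual.D R A →ₐ[R] (c.M → c.S) := AlgHom.ofLinearMap ψ hψ1 fun f h => hΘinj (by
    rw [hΘmul, hψ, hψ, hψ, hι])
  let L : c.S ⊗[R] CartDual.D R A →ₐ[c.S] (c.M → c.S) :=
    Algebra.TensorProduct.lift (Algebra.ofId _ _) ψA fun _ _ => Commute.all _ _
  have hL : ∀ z, Θ (L z) = toConv (κ z) := by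
    intro z
    induction z using TensorProduct.induction_on with
    | zero => simp [Θ]
    | add x y hx hy =>
      rw [map_add, map_add, toConv_add, ← hx, ← hy]
      simp [Θ, add_smul, Finset.sum_add_distrib]
    | tmul s f =>
      have h1 : L (s ⊗ₜ f) = s • ψ f := by simp [L, ψA, Algebra.smul_def, Algebra.ofId_apply]
      rw [h1]
      have h2 : Θ (s • ψ f) = toConv (s • (Θ (ψ f)).ofConv) := by
        simp [Θ, Finset.smul_sum, smul_smul]
      rw [h2, hψ]
      refine WithConv.ext (LinearMap.ext fun a => ?_)
      simp [κ, dualT_tmul]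
  have hκ : Function.Bijective κ := by
    refine (dualT_bijective c.S A).comp ?_
    exact ((CartDual.toDual R A).baseChange R c.S).bijective
  refine ⟨AlgEquiv.ofBijective L ⟨fun x y h => hκ.1 (toConv_injective ?_), fun v => ?_⟩⟩
  · rw [← hL, ← hL, h]
  · obtain ⟨z, hz⟩ := hκ.2 (Θ v).ofConv
    exact ⟨z, hΘinj (by rw [hL, hz, toConv_ofConv])⟩

/-- The dual of a finite group of multiplicative type is étale. -/
theorem etale_dual (hA : SGA3b.IsMultType R A) : Algebra.Etale R (CartDual.D R A) := by
  classical
  obtain ⟨n, f, hf⟩ := Module.Finite.exists_fin' R A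
  suffices h : Subsingleton Ω[CartDual.D R A⁄R] by
    haveI : Algebra.FormallyUnramified R (CartDual.D R A) := ⟨h⟩
    haveI : Module.FinitePresentation R (CartDual.D R A) := Module.finitePresentation_of_projective _ _
    exact Algebra.Etale.of_formallyUnramified_of_flat
  refine subsingleton_of_forall_eq 0 fun x => ?_
  by_contra hne
  obtain ⟨m, hm, hle⟩ := Ideal.exists_le_maximal
    (Submodule.colon (⊥ : Submodule R Ω[CartDual.D R A⁄R]) ({x} : Set Ω[CartDual.D R A⁄R]))
    (fun ht => hne (by
      have h1 : (1 : R) ∈ Submodule.colon (⊥ : Submodule R Ω[CartDual.D R A⁄R])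
          ({x} : Set Ω[CartDual.D R A⁄R]) := ht ▸ Submodule.mem_top
      simpa [Submodule.mem_colon_singleton] using h1))
  obtain ⟨c, hflat, q, hq, hqm⟩ := exists_charts hA m hm.isPrime
  haveI := hflat
  haveI : Nontrivial c.S := ⟨⟨0, 1, fun h => hq.ne_top ((Ideal.eq_top_iff_one q).2 (h ▸ zero_mem q))⟩⟩
  haveI := Module.Finite.of_surjective f hf
  haveI := c.finite_group
  haveI : Fintype c.M := Fintype.ofFinite _
  obtain ⟨E⟩ := c.exists_dualEquiv
  haveI : Algebra.IsFiniteSplit c.S (c.S ⊗[R] CartDual.D R A) := .of_algEquiv E.symm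
  letI : Algebra (CartDual.D R A) (c.S ⊗[R] CartDual.D R A) := Algebra.TensorProduct.rightAlgebra
  haveI : Subsingleton (c.S ⊗[R] Ω[CartDual.D R A⁄R]) :=
    (KaehlerDifferential.tensorKaehlerEquivBase R c.S (CartDual.D R A) (c.S ⊗[R] CartDual.D R A)).subsingleton
  obtain ⟨r, hr, hr0⟩ := exists_smul_eq_zero_of_tmul (S := c.S)
    (Subsingleton.elim ((1 : c.S) ⊗ₜ[R] x) 0) q
  exact hr (hqm ▸ hle (Submodule.mem_colon_singleton.2 ((Submodule.mem_bot R).2 hr0)))

end Etale

section Split

variable [Coalgebra.IsCocomm R A] [Module.Finite R A] [Module.Projective R A]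
  {T : Type u} [CommRing T] [Algebra R T]

/-- A split dual over a connected base gives diagonalisability. -/
theorem isDiag_of_split [Nontrivial T] (hconn : ∀ e : T, IsIdempotentElem e → e = 0 ∨ e = 1)
    [hs : Algebra.IsFiniteSplit T (T ⊗[R] CartDual.D R A)] : SGA3b.IsDiag T (T ⊗[R] A) := by
  classical
  obtain ⟨n, ⟨E⟩⟩ := hs.nonempty_algEquiv_fun
  let P := LinearEquiv.ofBijective (pairT (R := R) T A) (pairT_bijective T A)
  let φ : Fin n → CartDual.D R A →ₐ[R] T := fun i =>
    (((Pi.evalAlgHom T (fun _ : Fin n => T) i).comp E.toAlgHom).restrictScalars R).comp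
      Algebra.TensorProduct.includeRight
  let Q : T ⊗[R] A ≃ₗ[T] (Fin n → T) :=
    P.trans <| (LinearEquiv.congrLeft T T (CartDual.toDual R A).symm).trans <|
      (LinearMap.liftBaseChangeEquiv T).trans <|
        (LinearEquiv.congrLeft T T E.toLinearEquiv).trans
          ((Module.piEquiv (Fin n) T T).symm)
  have hP : ∀ z f, P z f = pairT T A z f := fun _ _ => rfl
  let b : Module.Basis (Fin n) T (T ⊗[R] A) := (Pi.basisFun T (Fin n)).map Q.symm
  have hb : ∀ i (f : CartDual.D R A), pairT T A (b i) f.ofConv = φ i f := by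
    intro i f
    have hQ : ∀ (z : T ⊗[R] A), ∀ w : Fin n → T, (Module.piEquiv (Fin n) T T (Q z)) w =
        ((P z ∘ₗ (CartDual.toDual R A).toLinearMap).liftBaseChange T) (E.symm w) := by
      intro z w
      simp [Q]
    have h1 := hQ (b i) (E ((1 : T) ⊗ₜ f))
    rw [AlgEquiv.symm_apply_apply, LinearMap.liftBaseChange_tmul, one_smul] at h1
    refine (h1.symm.trans ?_)
    simp [b, φ, Module.piEquiv_apply_apply, Pi.single_apply]
  have hgl : ∀ i, IsGroupLikeElem T (b i) := fun i =>
    isGroupLikeElem_of_pairT T (by rw [hb]; exact map_one _) fun f h => by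
      rw [hb, hb, hb]; exact map_mul _ _ _
  have huniq : ∀ g : GroupLike T (T ⊗[R] A), ∃ i, g.val = b i := by
    intro g
    let χ : CartDual.D R A →ₐ[R] T := AlgHom.ofLinearMap
      ((pairT T A g.val) ∘ₗ (CartDual.toDual R A).toLinearMap)
      (by show pairT T A g.val (1 : CartDual.D R A).ofConv = 1
          rw [← counit_eq_pairT]; exact g.2.counit_eq_one)
      (fun f h => by
        show pairT T A g.val (f * h).ofConv = pairT T A g.val f.ofConv * pairT T A g.val h.ofConv
        rw [← pairT_comul, ← pairT_tmul₂, ← g.2.comul_eq_tmul_self, comul_eq_distrib, LinearEquiv.symm_apply_apply])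
    let X : (Fin n → T) →ₐ[T] T :=
      (Algebra.TensorProduct.lift (Algebra.ofId T T) χ fun _ _ => Commute.all _ _).comp E.symm.toAlgHom
    have hidem : ∀ i, IsIdempotentElem (X (Pi.single i 1)) := fun i => by
      rw [IsIdempotentElem, ← map_mul, ← Pi.single_mul, mul_one]
    have hsum : ∑ i, X (Pi.single i 1) = 1 := by
      rw [← map_sum, Finset.univ_sum_single (fun _ : Fin n => (1 : T))]
      exact map_one X
    obtain ⟨i, hi⟩ : ∃ i, X (Pi.single i 1) = 1 := by
      by_contra hc
      push Not at hc
      rw [Finset.sum_eq_zero fun i _ => (hconn _ (hidem i)).resolve_right (hc i)] at hsum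
      exact zero_ne_one hsum
    have hX : ∀ w, X w = w i := by
      intro w
      conv_lhs => rw [← Finset.univ_sum_single w]
      rw [map_sum, Finset.sum_eq_single i]
      · rw [show Pi.single i (w i) = w i • (Pi.single i (1 : T) : Fin n → T) by
          rw [← Pi.single_smul', smul_eq_mul, mul_one], map_smul, hi, smul_eq_mul, mul_one]
      · intro j _ hj
        have h0 : X (Pi.single j 1) = 0 := by
          have := congrArg X (show (Pi.single j 1 : Fin n → T) * Pi.single i 1 = 0 by
            funext k; rcases eq_or_ne k j with rfl | hk <;> simp [*])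
          rwa [map_mul, hi, mul_one, map_zero] at this
        rw [show Pi.single j (w j) = w j • (Pi.single j (1 : T) : Fin n → T) by
          rw [← Pi.single_smul', smul_eq_mul, mul_one], map_smul, h0, smul_zero]
      · simp
    refine ⟨i, (pairT_bijective T A).1 (LinearMap.ext fun f => ?_)⟩
    have h1 := hX (E ((1 : T) ⊗ₜ toConv f))
    rw [show pairT T A (b i) f = _ from hb i (toConv f)]
    simpa [X, χ, φ] using h1
  let L : MonoidAlgebra T (GroupLike T (T ⊗[R] A)) →ₐc[T] T ⊗[R] A := MonoidAlgebra.liftGroupLikeBialgHom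
  have hL : ∀ g, L (MonoidAlgebra.single g 1) = g.val := fun g => by simp [L]
  let idx : GroupLike T (T ⊗[R] A) → Fin n := fun g => (huniq g).choose
  have hidx : ∀ g, g.val = b (idx g) := fun g => (huniq g).choose_spec
  have hinjI : Function.Injective idx := fun g g' h => GroupLike.val_injective (by rw [hidx g, hidx g', h])
  let σ : Fin n → GroupLike T (T ⊗[R] A) := fun i => ⟨b i, hgl i⟩
  have hσ : Function.Bijective σ := ⟨fun i j h => b.injective (congrArg GroupLike.val h),
    fun g => ⟨idx g, GroupLike.val_injective (hidx g).symm⟩⟩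
  let bL := (MonoidAlgebra.basis (GroupLike T (T ⊗[R] A)) T).equiv b (Equiv.ofBijective σ hσ).symm
  have hLb : (L : MonoidAlgebra T (GroupLike T (T ⊗[R] A)) → T ⊗[R] A) = bL := by
    have : (L : MonoidAlgebra T (GroupLike T (T ⊗[R] A)) →ₗ[T] T ⊗[R] A) = bL.toLinearMap :=
      (MonoidAlgebra.basis _ T).ext fun g => by
        simp only [bL, LinearEquiv.coe_coe, Module.Basis.equiv_apply]
        rw [MonoidAlgebra.basis_apply]
        show L _ = _
        rw [hL]
        conv_lhs => rw [← (Equiv.ofBijective σ hσ).apply_symm_apply g]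
        rfl
    funext x
    exact LinearMap.congr_fun this x
  exact ⟨_, inferInstance, ⟨(BialgEquiv.ofBijective L (hLb ▸ bL.bijective)).symm⟩⟩

end Split

end Groth.Agent.MultT
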