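import Groth.Agent.Hensel.EnvelopeNoeth
import Groth.Agent.Hensel.Henselization
import Mathlib

/-! A strictly henselian algebra at a prime, presented as a colimit of étale algebras, and descent of
finite data to an étale algebra. -/

set_option autoImplicit false

open TensorProduct

universe u

namespace Groth.Agent.MultT

/-- `T` is a colimit of étale `R`-algebras: finitely many elements come from one étale algebra and
finitely many vanishing conditions hold at a further one. -/
def IsEtColim (R T : Type u) [CommRing R] [CommRing T] [Algebra R T] : Prop :=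
  (∀ (n : ℕ) (z : Fin n → T), ∃ (E : Type u) (_ : CommRing E) (_ : Algebra R E) (χ : E →ₐ[R] T),
    Algebra.Etale R E ∧ ∀ k, ∃ e, χ e = z k) ∧
  ∀ (E : Type u) [CommRing E] [Algebra R E] [Algebra.Etale R E] (χ : E →ₐ[R] T) (n : ℕ) (e : Fin n → E),
    (∀ k, χ (e k) = 0) → ∃ (E' : Type u) (_ : CommRing E') (_ : Algebra R E') (χ' : E' →ₐ[R] T)
      (f : E →ₐ[R] E'), Algebra.Etale R E' ∧ χ'.comp f = χ ∧ ∀ k, f (e k) = 0

namespace IsEtColim

variable {R T : Type u} [CommRing R] [CommRing T] [Algebra R T]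

/-- Lift finitely many elements above a given stage. -/
theorem exists_lift (h : IsEtColim R T) (E : Type u) [CommRing E] [Algebra R E] [Algebra.Etale R E]
    (χ : E →ₐ[R] T) {ι : Type*} [Finite ι] (z : ι → T) :
    ∃ (E' : Type u) (_ : CommRing E') (_ : Algebra R E') (χ' : E' →ₐ[R] T) (f : E →ₐ[R] E'),
      Algebra.Etale R E' ∧ χ'.comp f = χ ∧ ∀ k, ∃ e, χ' e = z k := by
  obtain ⟨m, ⟨ei⟩⟩ := Finite.exists_equiv_fin ι
  obtain ⟨E₁, _, _, χ₁, het, hz⟩ := h.1 m (z ∘ ei.symm)
  haveI := het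
  refine ⟨E ⊗[R] E₁, inferInstance, inferInstance,
    Algebra.TensorProduct.lift χ χ₁ fun _ _ => Commute.all _ _, Algebra.TensorProduct.includeLeft,
    Algebra.Etale.comp R E (E ⊗[R] E₁), AlgHom.ext fun x => by simp, fun k => ?_⟩
  obtain ⟨e, he⟩ := hz (ei k)
  exact ⟨1 ⊗ₜ e, by simp [he]⟩

/-- Finitely many vanishing conditions. -/
theorem exists_vanish (h : IsEtColim R T) (E : Type u) [CommRing E] [Algebra R E] [Algebra.Etale R E]
    (χ : E →ₐ[R] T) {ι : Type*} [Finite ι] (e : ι → E) (he : ∀ k, χ (e k) = 0) :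
    ∃ (E' : Type u) (_ : CommRing E') (_ : Algebra R E') (χ' : E' →ₐ[R] T) (f : E →ₐ[R] E'),
      Algebra.Etale R E' ∧ χ'.comp f = χ ∧ ∀ k, f (e k) = 0 := by
  obtain ⟨m, ⟨ei⟩⟩ := Finite.exists_equiv_fin ι
  obtain ⟨E', a, b, χ', f, het, hc, hv⟩ := h.2 E χ m (e ∘ ei.symm) fun k => he _
  exact ⟨E', a, b, χ', f, het, hc, fun k => by simpa using hv (ei k)⟩

/-- An element of a base change vanishing in the colimit vanishes at a further stage. -/
theorem exists_rTensor_vanish (h : IsEtColim R T) (E : Type u) [CommRing E] [Algebra R E] [Algebra.Etale R E]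
    (χ : E →ₐ[R] T) {V : Type u} [AddCommGroup V] [Module R V] (z : E ⊗[R] V)
    (hz : χ.toLinearMap.rTensor V z = 0) :
    ∃ (E' : Type u) (_ : CommRing E') (_ : Algebra R E') (χ' : E' →ₐ[R] T) (f : E →ₐ[R] E'),
      Algebra.Etale R E' ∧ χ'.comp f = χ ∧ f.toLinearMap.rTensor V z = 0 := by
  classical
  let π : (V →₀ R) →ₗ[R] V := Finsupp.linearCombination R id
  have hπ : Function.Surjective π := fun v => ⟨Finsupp.single v 1, by simp [π]⟩
  let N := LinearMap.ker π
  have hex : Function.Exact N.subtype π := LinearMap.exact_subtype_ker_map π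
  obtain ⟨w, rfl⟩ := LinearMap.lTensor_surjective E hπ z
  have hnat : ∀ {A B : Type u} [CommRing A] [CommRing B] [Algebra R A] [Algebra R B] (g : A →ₐ[R] B) {P Q : Type u}
      [AddCommMonoid P] [AddCommMonoid Q] [Module R P] [Module R Q] (l : P →ₗ[R] Q) (y : A ⊗[R] P),
      g.toLinearMap.rTensor Q (l.lTensor A y) = l.lTensor B (g.toLinearMap.rTensor P y) := by
    intro A B _ _ _ _ g P Q _ _ _ _ l y
    rw [← LinearMap.comp_apply, ← LinearMap.comp_apply, LinearMap.rTensor_comp_lTensor,
      LinearMap.lTensor_comp_rTensor]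
  rw [hnat] at hz
  obtain ⟨u, hu⟩ := ((lTensor_exact (M := N) T (by exact hex) hπ) _).1 hz
  obtain ⟨S, hS⟩ := TensorProduct.exists_finset u
  obtain ⟨E₁, _, _, χ₁, f₁, het₁, hc₁, hl⟩ := h.exists_lift E χ (fun i : S => i.1.1)
  choose t ht using hl
  haveI := het₁
  let u₁ : E₁ ⊗[R] N := ∑ i : S, t i ⊗ₜ i.1.2
  have hu₁ : χ₁.toLinearMap.rTensor N u₁ = u := by
    rw [hS, ← Finset.sum_coe_sort S]
    simp [u₁, ht]
  let d : E₁ ⊗[R] (V →₀ R) := f₁.toLinearMap.rTensor _ w - N.subtype.lTensor E₁ u₁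
  have hd : χ₁.toLinearMap.rTensor _ d = 0 := by
    rw [map_sub, hnat, hu₁, hu, ← LinearMap.rTensor_comp_apply,
      show χ₁.toLinearMap ∘ₗ f₁.toLinearMap = χ.toLinearMap from congrArg AlgHom.toLinearMap hc₁, sub_self]
  let c := TensorProduct.finsuppScalarRight R R E₁ V d
  have hcz : ∀ v : c.support, χ₁ (c v) = 0 := by
    intro v
    have key : ∀ y : E₁ ⊗[R] (V →₀ R), TensorProduct.finsuppScalarRight R R T V (χ₁.toLinearMap.rTensor _ y) v.1 =
        χ₁ (TensorProduct.finsuppScalarRight R R E₁ V y v.1) := by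
      intro y
      induction y using TensorProduct.induction_on with
      | zero => simp
      | tmul s g => simp
      | add a b ha hb => simp only [map_add, Finsupp.add_apply, ha, hb]
    exact (key d).symm.trans (by rw [hd]; simp)
  obtain ⟨E₂, _, _, χ₂, f₂, het₂, hc₂, hv⟩ := h.exists_vanish E₁ χ₁ (fun v : c.support => c v.1) hcz
  refine ⟨E₂, inferInstance, inferInstance, χ₂, f₂.comp f₁, het₂, by rw [← AlgHom.comp_assoc, hc₂, hc₁], ?_⟩
  have hd2 : f₂.toLinearMap.rTensor _ d = 0 := by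
    apply (TensorProduct.finsuppScalarRight R R E₂ V).injective
    rw [map_zero]
    refine Finsupp.ext fun v => ?_
    have key : ∀ y : E₁ ⊗[R] (V →₀ R), TensorProduct.finsuppScalarRight R R E₂ V (f₂.toLinearMap.rTensor _ y) v =
        f₂ (TensorProduct.finsuppScalarRight R R E₁ V y v) := by
      intro y
      induction y using TensorProduct.induction_on with
      | zero => simp
      | tmul s g => simp
      | add a b ha hb => simp only [map_add, Finsupp.add_apply, ha, hb]
    rw [key, Finsupp.zero_apply]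
    by_cases hs : v ∈ c.support
    · exact hv ⟨v, hs⟩
    · rw [show TensorProduct.finsuppScalarRight R R E₁ V d v = 0 from Finsupp.notMem_support_iff.1 hs, map_zero]
  rw [map_sub, hnat, sub_eq_zero] at hd2
  show (f₂.toLinearMap ∘ₗ f₁.toLinearMap).rTensor V (π.lTensor E w) = 0
  rw [LinearMap.rTensor_comp_apply, hnat, hnat, hd2, ← LinearMap.comp_apply, ← LinearMap.lTensor_comp,
    hex.linearMap_comp_eq_zero, LinearMap.lTensor_zero, LinearMap.zero_apply]

end IsEtColim

section Fractions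

open _root_.Groth.Agent.Hensel

variable (R : Type u) [CommRing R] (K : Type u) [Field K] [Algebra R K] {S : Type u} [CommRing S] [Algebra R S]

/-- The map from a finite stage. -/
noncomputable abbrev stageInc (F : Finset (EnvIdx R K)) : EnvStage R K F →ₐ[R] EnvTop R K :=
  etMap (P := envPairs R K) ((↑) : F → EnvIdx R K)

/-- The transition map of finite stages. -/
noncomputable abbrev stageTr {F F' : Finset (EnvIdx R K)} (h : F ⊆ F') :
    EnvStage R K F →ₐ[R] EnvStage R K F' :=
  etMap (P := envPairs R K ∘ ((↑) : F' → EnvIdx R K)) fun k : F => (⟨k.1, h k.2⟩ : F')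

theorem stageInc_tr {F F' : Finset (EnvIdx R K)} (h : F ⊆ F') (z : EnvStage R K F) :
    stageInc R K F' (stageTr R K h z) = stageInc R K F z :=
  AlgHom.congr_fun (etMap_comp (P := envPairs R K) ((↑) : F' → EnvIdx R K)
    fun k : F => (⟨k.1, h k.2⟩ : F')) z

theorem stageTr_tr {F F' F'' : Finset (EnvIdx R K)} (h : F ⊆ F') (h' : F' ⊆ F'') (z : EnvStage R K F) :
    stageTr R K h' (stageTr R K h z) = stageTr R K (h.trans h') z :=
  AlgHom.congr_fun (etMap_comp (P := envPairs R K ∘ ((↑) : F'' → EnvIdx R K))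
    (fun k : F' => (⟨k.1, h' k.2⟩ : F'')) fun k : F => (⟨k.1, h k.2⟩ : F')) z

theorem exists_stage_vanish {F : Finset (EnvIdx R K)} (z : EnvStage R K F) (hz : stageInc R K F z = 0) :
    ∃ (F' : Finset (EnvIdx R K)) (h : F ⊆ F'), stageTr R K h z = 0 :=
  exists_finset_map_eq_zero (P := envPairs R K) z hz

theorem exists_stage_mem (C : EnvTop R K) : ∃ (F : Finset (EnvIdx R K)) (C' : EnvStage R K F), stageInc R K F C' = C :=
  exists_etMap_eq (P := envPairs R K) C

theorem etale_stage (F : Finset (EnvIdx R K)) : Algebra.Etale R (EnvStage R K F) := etale_etProd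

theorem exists_fractions_stage {ι : EnvTop R K →ₐ[R] S} (hloc : ∀ z, ∃ x t, IsUnit (ι t) ∧ z * ι t = ι x)
    {n : ℕ} (z : Fin n → S) : ∃ (F : Finset (EnvIdx R K)) (T₀ : EnvStage R K F) (b : Fin n → EnvStage R K F),
      IsUnit (ι (stageInc R K F T₀)) ∧ ∀ i, z i * ι (stageInc R K F T₀) = ι (stageInc R K F (b i)) := by
  classical
  choose x t ht hxt using fun i => hloc (z i)
  obtain ⟨F, y, hy⟩ := exists_stage R K (Fin.append x t)
  refine ⟨F, ∏ i, y (Fin.natAdd n i),
    fun i => y (Fin.castAdd n i) * ∏ l ∈ Finset.univ.erase i, y (Fin.natAdd n l), ?_, fun i => ?_⟩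
  · rw [map_prod, map_prod]
    exact IsUnit.prod_univ_iff.2 fun i => by rw [hy, Fin.append_right]; exact ht i
  · rw [← Finset.mul_prod_erase _ _ (Finset.mem_univ i), map_mul, map_mul, map_mul, map_mul, hy, hy,
      Fin.append_right, Fin.append_left, ← mul_assoc, hxt]

theorem exists_kill {ι : EnvTop R K →ₐ[R] S} (hzero : ∀ x, ι x = 0 → ∃ c, IsUnit (ι c) ∧ c * x = 0)
    {F : Finset (EnvIdx R K)} (T₀ : EnvStage R K F) (hT₀ : IsUnit (ι (stageInc R K F T₀)))
    {n : ℕ} (a : Fin n → EnvStage R K F) (ha : ∀ w, ι (stageInc R K F (a w)) = 0) :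
    ∃ (F₂ : Finset (EnvIdx R K)) (h : F ⊆ F₂) (C : EnvStage R K F₂),
      IsUnit (ι (stageInc R K F₂ (stageTr R K h T₀ * C))) ∧ ∀ w, C * stageTr R K h (a w) = 0 := by
  classical
  choose c hcu hc0 using fun w => hzero _ (ha w)
  obtain ⟨F', C', hC'⟩ := exists_stage_mem R K (∏ w, c w)
  have h₁ : F ⊆ F ∪ F' := Finset.subset_union_left
  have h₁' : F' ⊆ F ∪ F' := Finset.subset_union_right
  have hkill : ∀ w, stageInc R K (F ∪ F') (stageTr R K h₁' C' * stageTr R K h₁ (a w)) = 0 := by
    intro w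
    obtain ⟨d, hd⟩ := Finset.dvd_prod_of_mem c (Finset.mem_univ w)
    rw [map_mul, stageInc_tr, stageInc_tr, hC', hd, mul_right_comm, hc0, zero_mul]
  choose G hG hGz using fun w => exists_stage_vanish R K _ (hkill w)
  let F₂ := (F ∪ F') ∪ Finset.univ.biUnion G
  have hG₂ : ∀ w, G w ⊆ F₂ := fun w =>
    (Finset.subset_biUnion_of_mem G (Finset.mem_univ w)).trans Finset.subset_union_right
  have h₂ : F ∪ F' ⊆ F₂ := Finset.subset_union_left
  refine ⟨F₂, h₁.trans h₂, stageTr R K h₂ (stageTr R K h₁' C'), ?_, fun w => ?_⟩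
  · rw [map_mul, map_mul, stageInc_tr, stageInc_tr, stageInc_tr, hC']
    exact hT₀.mul (by rw [map_prod]; exact IsUnit.prod_univ_iff.2 hcu)
  · rw [← stageTr_tr R K h₁ h₂, ← map_mul, ← stageTr_tr R K (hG w) (hG₂ w), hGz, map_zero]

/-- Killable kernel elements. -/
def Killable {E : Type u} [CommRing E] [Algebra R E] (χ : E →ₐ[R] S) : Prop :=
  ∀ (n : ℕ) (e : Fin n → E), (∀ k, χ (e k) = 0) → ∃ (E' : Type u) (_ : CommRing E') (_ : Algebra R E')
    (χ' : E' →ₐ[R] S) (f : E →ₐ[R] E'), Algebra.Etale R E' ∧ χ'.comp f = χ ∧ ∀ k, f (e k) = 0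

theorem exists_model {ι : EnvTop R K →ₐ[R] S} (hloc : ∀ z, ∃ x t, IsUnit (ι t) ∧ z * ι t = ι x)
    (hzero : ∀ x, ι x = 0 → ∃ c, IsUnit (ι c) ∧ c * x = 0) {m : ℕ} (z : Fin m → S) :
    ∃ (E : Type u) (_ : CommRing E) (_ : Algebra R E) (χ : E →ₐ[R] S),
      Algebra.Etale R E ∧ (∀ k, ∃ e, χ e = z k) ∧ Killable R χ := by
  classical
  obtain ⟨F, T₀, b, hT₀, hb⟩ := exists_fractions_stage R K hloc z
  haveI := etale_stage R K F
  let χ : Localization.Away T₀ →ₐ[R] S := IsLocalization.Away.liftAlgHom T₀ (f := ι.comp (stageInc R K F)) hT₀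
  have hχ : ∀ y, χ (algebraMap _ (Localization.Away T₀) y) = ι (stageInc R K F y) := fun y =>
    IsLocalization.Away.lift_eq T₀ hT₀ y
  refine ⟨Localization.Away T₀, inferInstance, inferInstance, χ, inferInstance, fun k =>
    ⟨IsLocalization.mk' _ (b k) (⟨T₀, Submonoid.mem_powers T₀⟩ : Submonoid.powers T₀), ?_⟩, ?_⟩
  · refine hT₀.mul_left_injective ?_
    show _ * _ = z k * _
    rw [hb, ← hχ, ← hχ, ← map_mul, IsLocalization.mk'_spec]
  · intro n e he
    choose as has using fun w => IsLocalization.surj (Submonoid.powers T₀) (e w)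
    let a := fun w => (as w).1
    let s := fun w => (as w).2
    have ha : ∀ w, ι (stageInc R K F (a w)) = 0 := fun w => by rw [← hχ, ← has, map_mul, he, zero_mul]
    obtain ⟨F₂, h, C, hu, hkill⟩ := exists_kill R K hzero T₀ hT₀ a ha
    haveI := etale_stage R K F₂
    let T₂ := stageTr R K h T₀ * C
    let χ₂ : Localization.Away T₂ →ₐ[R] S := IsLocalization.Away.liftAlgHom T₂ (f := ι.comp (stageInc R K F₂)) hu
    have hu₂ : IsUnit (algebraMap _ (Localization.Away T₂) (stageTr R K h T₀)) ∧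
        IsUnit (algebraMap _ (Localization.Away T₂) C) := by
      rw [← IsUnit.mul_iff, ← map_mul]
      exact IsLocalization.Away.algebraMap_isUnit T₂
    let J : Localization.Away T₀ →ₐ[R] Localization.Away T₂ := IsLocalization.Away.liftAlgHom T₀
      (f := (IsScalarTower.toAlgHom R (EnvStage R K F₂) (Localization.Away T₂)).comp (stageTr R K h)) hu₂.1
    have hJ : ∀ y, J (algebraMap _ _ y) = algebraMap _ (Localization.Away T₂) (stageTr R K h y) := fun y =>
      IsLocalization.Away.lift_eq T₀ hu₂.1 y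
    refine ⟨Localization.Away T₂, inferInstance, inferInstance, χ₂, J, inferInstance, ?_, fun w => ?_⟩
    · refine IsLocalization.algHom_ext (Submonoid.powers T₀) (AlgHom.ext fun y => ?_)
      show χ₂ (J (algebraMap _ _ y)) = χ (algebraMap _ _ y)
      rw [hJ, hχ, show χ₂ (algebraMap _ _ (stageTr R K h y)) = ι (stageInc R K F₂ (stageTr R K h y)) from
        IsLocalization.Away.lift_eq T₂ hu _, stageInc_tr]
    · have h1 := congrArg J (has w)
      rw [map_mul, hJ, hJ] at h1
      have h2 : algebraMap _ (Localization.Away T₂) (stageTr R K h (a w)) = 0 := by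
        refine hu₂.2.mul_right_eq_zero.1 ?_
        rw [← map_mul, hkill, map_zero]
      rw [h2] at h1
      obtain ⟨i, hi⟩ := (s w).2
      refine (IsUnit.mul_left_eq_zero ?_).1 h1
      rw [← hi, map_pow, map_pow]
      exact hu₂.1.pow i

theorem isEtColim_of_fractions (ι : EnvTop R K →ₐ[R] S) (hloc : ∀ z, ∃ x t, IsUnit (ι t) ∧ z * ι t = ι x)
    (hzero : ∀ x, ι x = 0 → ∃ c, IsUnit (ι c) ∧ c * x = 0) : IsEtColim R S := by
  classical
  refine ⟨fun n z => ?_, fun E _ _ _ χ n e he => ?_⟩
  · obtain ⟨E, a, b, χ, het, hl, -⟩ := exists_model R K hloc hzero z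
    exact ⟨E, a, b, χ, het, hl⟩
  obtain ⟨m, q, hq, hker⟩ := (inferInstance : Algebra.FinitePresentation R E).out
  obtain ⟨g, hg⟩ := hker
  choose e' he' using fun i => hq (e i)
  obtain ⟨E₁, _, _, χ₁, -, hl, hk⟩ := exists_model R K hloc hzero fun i : Fin m => χ (q (MvPolynomial.X i))
  choose v hv using hl
  let φ : MvPolynomial (Fin m) R →ₐ[R] E₁ := MvPolynomial.aeval v
  have hφ : χ₁.comp φ = χ.comp q := MvPolynomial.algHom_ext fun i => by simp [φ, hv]
  let bad : Finset E₁ := g.image φ ∪ Finset.univ.image fun i => φ (e' i)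
  have hbad : ∀ w ∈ bad, χ₁ w = 0 := by
    intro w hw
    rcases Finset.mem_union.1 hw with hw | hw
    · obtain ⟨y, hy, rfl⟩ := Finset.mem_image.1 hw
      rw [← AlgHom.comp_apply, hφ, AlgHom.comp_apply,
        show q y = 0 from RingHom.mem_ker.1 (hg ▸ Ideal.subset_span hy), map_zero]
    · obtain ⟨i, -, rfl⟩ := Finset.mem_image.1 hw
      rw [← AlgHom.comp_apply, hφ, AlgHom.comp_apply, he', he]
  obtain ⟨E₂, _, _, χ₂, J, het₂, hc₂, hJ⟩ := hk bad.card (fun i => (bad.equivFin.symm i).1)
    (fun i => hbad _ (bad.equivFin.symm i).2)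
  have hJ0 : ∀ w ∈ bad, J w = 0 := fun w hw => by simpa using hJ (bad.equivFin ⟨w, hw⟩)
  let f : E →ₐ[R] E₂ :=
    (Ideal.Quotient.liftₐ _ (J.comp φ) (fun y hy => by
      have hle : RingHom.ker q.toRingHom ≤ RingHom.ker (J.comp φ).toRingHom := by
        rw [← hg, Ideal.span_le]
        intro y' hy'
        exact hJ0 _ (Finset.mem_union_left _ (Finset.mem_image_of_mem φ hy'))
      exact hle hy)).comp (Ideal.quotientKerAlgEquivOfSurjective hq).symm.toAlgHom
  have hf : ∀ y, f (q y) = J (φ y) := fun y => by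
    simp only [f, AlgHom.comp_apply, AlgEquiv.coe_toAlgHom]
    rw [show (Ideal.quotientKerAlgEquivOfSurjective hq).symm (q y) = Ideal.Quotient.mk _ y from
      (Ideal.quotientKerAlgEquivOfSurjective hq).symm_apply_eq.2 rfl]
    rfl
  refine ⟨E₂, inferInstance, inferInstance, χ₂, f, het₂, AlgHom.ext fun z => ?_, fun i => ?_⟩
  · obtain ⟨y, rfl⟩ := hq z
    rw [AlgHom.comp_apply, hf, ← AlgHom.comp_apply, hc₂, ← AlgHom.comp_apply, hφ]
    rfl
  · rw [← he', hf]
    exact hJ0 _ (Finset.mem_union_right _ (Finset.mem_image.2 ⟨i, Finset.mem_univ i, rfl⟩))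

end Fractions

open _root_.Groth.Agent.Hensel in
/-- Above every prime there is a strictly henselian colimit of étale algebras. -/
theorem exists_strict_colim (R : Type u) [CommRing R] (p : Ideal R) [p.IsPrime] :
    ∃ (T : Type u) (_ : CommRing T) (_ : HenselianLocalRing T) (_ : Algebra R T),
      IsSepClosed (IsLocalRing.ResidueField T) ∧
      (IsLocalRing.maximalIdeal T).comap (algebraMap R T) = p ∧ IsEtColim R T := by
  classical
  let k := p.ResidueField
  let K := SeparableClosure k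
  letI : Algebra R K := Algebra.compHom K (algebraMap R k)
  haveI : IsScalarTower R k K := .of_algebraMap_eq fun _ => rfl
  have hKker : ∀ r, algebraMap R K r = 0 ↔ r ∈ p := fun r => by
    rw [IsScalarTower.algebraMap_apply R k K, map_eq_zero_iff _ (algebraMap k K).injective]
    exact Ideal.algebraMap_residueField_eq_zero
  have hrange : ∀ c : k, ∃ z, envRes R K z = algebraMap k K c := by
    intro c
    obtain ⟨a, b, hb, rfl⟩ := IsFractionRing.div_surjective (R ⧸ p) c
    obtain ⟨a, rfl⟩ := Ideal.Quotient.mk_surjective a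
    obtain ⟨b, rfl⟩ := Ideal.Quotient.mk_surjective b
    have hbp : b ∉ p := fun h => nonZeroDivisors.ne_zero hb (Ideal.Quotient.eq_zero_iff_mem.2 h)
    have hu : IsUnit (algebraMap R (Env R K) b) := by
      rw [IsScalarTower.algebraMap_apply R (EnvTop R K) (Env R K)]
      exact IsLocalization.map_units (Env R K) (⟨_, fun h => hbp ((hKker b).1 (by
        rw [← (envEv R K).commutes]; exact h))⟩ : (envPrime R K).primeCompl)
    refine ⟨algebraMap R _ a * ↑hu.unit⁻¹, ?_⟩
    have h1 : envRes R K ↑hu.unit⁻¹ * algebraMap R K b = 1 := by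
      rw [← (envRes R K).commutes b, ← map_mul, IsUnit.val_inv_mul, map_one]
    rw [map_mul, AlgHom.commutes, map_div₀]
    have hb0 : algebraMap R K b ≠ 0 := fun h => hbp ((hKker b).1 h)
    rw [show algebraMap k K (algebraMap (R ⧸ p) k (Ideal.Quotient.mk p a)) = algebraMap R K a from
        (congrArg (algebraMap k K) (IsScalarTower.algebraMap_apply R (R ⧸ p) k a).symm).trans rfl,
      show algebraMap k K (algebraMap (R ⧸ p) k (Ideal.Quotient.mk p b)) = algebraMap R K b from
        (congrArg (algebraMap k K) (IsScalarTower.algebraMap_apply R (R ⧸ p) k b).symm).trans rfl,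
      eq_div_iff hb0, mul_assoc, h1, mul_one]
  have hsurj : Function.Surjective (envRes R K) := by
    intro a
    have hint : IsIntegral k a := Algebra.IsSeparable.isIntegral k a
    let μ := minpoly k a
    obtain ⟨⟨c₀, hc₀⟩, hc⟩ := IsLocalization.exist_integer_multiples (M := nonZeroDivisors (R ⧸ p)) (S := k)
      μ.support μ.coeff
    obtain ⟨r, rfl⟩ := Ideal.Quotient.mk_surjective c₀
    let c : k := algebraMap R k r
    have hc0 : c ≠ 0 := fun h => nonZeroDivisors.ne_zero hc₀
      (Ideal.Quotient.eq_zero_iff_mem.2 (Ideal.algebraMap_residueField_eq_zero.1 h))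
    have hcμ : ∀ i, c * μ.coeff i ∈ (algebraMap R k).range := by
      intro i
      by_cases hi : i ∈ μ.support
      · obtain ⟨x, hx⟩ := hc i hi
        obtain ⟨x, rfl⟩ := Ideal.Quotient.mk_surjective x
        refine ⟨x, ?_⟩
        rw [IsScalarTower.algebraMap_apply R (R ⧸ p) k, show algebraMap R (R ⧸ p) x = Ideal.Quotient.mk p x from rfl,
          hx, Algebra.smul_def]
        rw [show c = algebraMap (R ⧸ p) k (Ideal.Quotient.mk p r) from IsScalarTower.algebraMap_apply R (R ⧸ p) k r]
      · rw [Polynomial.notMem_support_iff.1 hi, mul_zero]; exact zero_mem _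
    let n := μ.natDegree
    let ν : Polynomial k := Polynomial.C (c ^ n) * μ.comp (Polynomial.C c⁻¹ * Polynomial.X)
    have hνc : ∀ i, ν.coeff i = c ^ n * (μ.coeff i * c⁻¹ ^ i) := fun i => by
      simp only [ν, Polynomial.coeff_C_mul, Polynomial.comp_C_mul_X_coeff]
    have hdeg : ν.natDegree = n ∧ ν.Monic := by
      have h1 : ν.coeff n = 1 := by
        rw [hνc, show μ.coeff n = 1 from (minpoly.monic hint).coeff_natDegree, one_mul, inv_pow,
          mul_inv_cancel₀ (pow_ne_zero _ hc0)]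
      have h2 : ν.natDegree ≤ n := Polynomial.natDegree_le_iff_coeff_eq_zero.2 fun i hi => by
        rw [hνc, Polynomial.coeff_eq_zero_of_natDegree_lt hi, zero_mul, mul_zero]
      have h3 : ν.natDegree = n := le_antisymm h2 (Polynomial.le_natDegree_of_ne_zero (by rw [h1]; exact one_ne_zero))
      exact ⟨h3, by rw [Polynomial.Monic, Polynomial.leadingCoeff, h3, h1]⟩
    have hlift : ν ∈ Polynomial.lifts (algebraMap R k) := by
      rw [Polynomial.lifts_iff_coeff_lifts]
      intro i
      rcases lt_trichotomy i n with hi | rfl | hi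
      · obtain ⟨x, hx⟩ := hcμ i
        refine ⟨r ^ (n - i - 1) * x, ?_⟩
        rw [map_mul, map_pow, hx, hνc, inv_pow,
          show c ^ n = c ^ (n - i - 1) * c * c ^ i by rw [← pow_succ, ← pow_add]; congr 1; omega,
          show algebraMap R k r = c from rfl]
        rw [mul_assoc _ (c ^ i), mul_comm (μ.coeff i) _, ← mul_assoc (c ^ i), mul_inv_cancel₀ (pow_ne_zero _ hc0), one_mul, mul_assoc]
      · exact ⟨1, by rw [map_one]; exact (hdeg.1 ▸ hdeg.2.coeff_natDegree).symm⟩
      · exact ⟨0, by rw [map_zero, hνc, Polynomial.coeff_eq_zero_of_natDegree_lt hi, zero_mul, mul_zero]⟩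
    obtain ⟨F, hF, -, hFm⟩ := Polynomial.lifts_and_degree_eq_and_monic hlift hdeg.2
    let b : K := algebraMap k K c * a
    have hca : algebraMap k K c⁻¹ * b = a := by
      simp only [b]
      rw [← mul_assoc, ← map_mul, inv_mul_cancel₀ hc0, map_one, one_mul]
    have hca' : (algebraMap k K c)⁻¹ * b = a := by rw [← map_inv₀]; exact hca
    let P : StandardEtalePair R := ⟨F, hFm, Polynomial.derivative F, 1, 0, 1, by ring⟩
    have hP : P.HasMap b := by
      refine ⟨?_, ?_⟩
      · change Polynomial.aeval b F = 0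
        rw [← Polynomial.aeval_map_algebraMap k, hF, map_mul, Polynomial.aeval_comp]
        simp [hca', μ, minpoly.aeval]
      · change IsUnit (Polynomial.aeval b (Polynomial.derivative F))
        rw [← Polynomial.aeval_map_algebraMap k, ← Polynomial.derivative_map, hF, isUnit_iff_ne_zero,
          Polynomial.derivative_C_mul, Polynomial.derivative_comp]
        have := (Algebra.IsSeparable.isSeparable k a).aeval_derivative_ne_zero (minpoly.aeval _ a)
        simp [hca', μ, Polynomial.aeval_comp, hc0, this]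
    obtain ⟨zc, hzc⟩ := hrange c⁻¹
    exact ⟨zc * envPt R K ⟨P, b, hP⟩, by rw [map_mul, hzc, envRes_envPt]; exact hca⟩
  let π := envRes R K
  have hπ : ∀ z, π z = 0 ↔ z ∈ IsLocalRing.maximalIdeal (Env R K) := fun z => by
    rw [← IsLocalRing.eq_maximalIdeal (RingHom.ker_isMaximal_of_surjective _ hsurj)]
    rfl
  have hloc : ∀ z : Env R K, ∃ x t, IsUnit (IsScalarTower.toAlgHom R (EnvTop R K) (Env R K) t) ∧
      z * IsScalarTower.toAlgHom R (EnvTop R K) (Env R K) t = IsScalarTower.toAlgHom R (EnvTop R K) (Env R K) x := by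
    intro z
    obtain ⟨x, s, rfl⟩ := IsLocalization.exists_mk'_eq (envPrime R K).primeCompl z
    exact ⟨x, s.1, IsLocalization.map_units _ s, IsLocalization.mk'_spec (Env R K) x s⟩
  haveI hhens : HenselianLocalRing (Env R K) :=
    henselian_of_points (S := Env R K) R K π hπ (IsScalarTower.toAlgHom R (EnvTop R K) (Env R K))
      (envRes_algebraMap R K) hloc
  refine ⟨Env R K, inferInstance, hhens, inferInstance, ?_, ?_, ?_, ?_⟩
  · let φ : IsLocalRing.ResidueField (Env R K) →+* K :=
      Ideal.Quotient.lift _ π.toRingHom fun z hz => (hπ z).2 hz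
    exact isSepClosed_of_ringEquiv (RingEquiv.ofBijective φ ⟨φ.injective, fun a => by
      obtain ⟨z, hz⟩ := hsurj a
      exact ⟨Ideal.Quotient.mk _ z, hz⟩⟩).symm
  · ext r
    rw [Ideal.mem_comap, ← hπ, AlgHom.commutes, hKker]
  · exact (isEtColim_of_fractions R K (IsScalarTower.toAlgHom R (EnvTop R K) (Env R K)) hloc fun x hx => by
      obtain ⟨c, hc⟩ := (IsLocalization.map_eq_zero_iff (envPrime R K).primeCompl (Env R K) x).1 hx
      exact ⟨c.1, IsLocalization.map_units _ c, hc⟩).1
  · exact (isEtColim_of_fractions R K (IsScalarTower.toAlgHom R (EnvTop R K) (Env R K)) hloc fun x hx => by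
      obtain ⟨c, hc⟩ := (IsLocalization.map_eq_zero_iff (envPrime R K).primeCompl (Env R K) x).1 hx
      exact ⟨c.1, IsLocalization.map_units _ c, hc⟩).2

end Groth.Agent.MultT
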