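import Groth.Agent.MultT.NilLift
import Mathlib

/-! A flat deformation of a diagonalisable group along a nilpotent ideal is diagonalisable. -/

set_option autoImplicit false

open TensorProduct

universe u

namespace Groth.Agent.MultT

variable {R : Type u} [CommRing R] (I : Ideal R)

/-- Multiplication of a square-zero ideal by residues. -/
noncomputable def sqAct (hI : I * I = ⊥) : I →ₗ[R] (R ⧸ I) →ₗ[R] R where
  toFun i := Submodule.liftQ I ((LinearMap.mulRight R (i : R))) fun r hr => by
    rw [LinearMap.mem_ker, LinearMap.mulRight_apply]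
    exact (Submodule.mem_bot R).1 (hI ▸ Ideal.mul_mem_mul hr i.2)
  map_add' i j := Submodule.linearMap_qext _ (LinearMap.ext fun r => mul_add r (i : R) (j : R))
  map_smul' a i := Submodule.linearMap_qext _ (LinearMap.ext fun r => mul_left_comm r a (i : R))

variable {I}

theorem sqAct_mk (hI : I * I = ⊥) (i : I) (r : R) : sqAct I hI i (Ideal.Quotient.mk I r) = r * i := rfl

/-- Inclusion of `I ⊗ V` in `V`. -/
noncomputable abbrev idealIncl (I : Ideal R) (V : Type u) [AddCommGroup V] [Module R V] : I ⊗[R] V →ₗ[R] V :=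
  (TensorProduct.lid R V).toLinearMap ∘ₗ (Submodule.subtype I).rTensor V

theorem idealIncl_lTensor {V W : Type u} [AddCommGroup V] [Module R V] [AddCommGroup W] [Module R W] (f : V →ₗ[R] W)
    (t : I ⊗[R] V) : idealIncl I W (f.lTensor I t) = f (idealIncl I V t) := by
  induction t using TensorProduct.induction_on with
  | zero => simp
  | add a b ha hb => simp only [map_add, ha, hb]
  | tmul i v => simp

theorem idealIncl_injective (V : Type u) [AddCommGroup V] [Module R V] [Module.Flat R V] :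
    Function.Injective (idealIncl I V) :=
  (TensorProduct.lid R V).injective.comp
    (Module.Flat.rTensor_preserves_injective_linearMap _ (Submodule.injective_subtype I))

theorem exists_idealIncl {V : Type u} [AddCommGroup V] [Module R V] {v : V} (h : Red I v) :
    ∃ t, idealIncl I V t = v := by
  have hv := congrArg (TensorProduct.quotTensorEquivQuotSMul V I) h
  rw [map_zero, TensorProduct.quotTensorEquivQuotSMul_mk_one_tmul, Submodule.Quotient.mk_eq_zero] at hv
  refine Submodule.smul_induction_on hv (fun r hr x _ => ⟨(⟨r, hr⟩ : I) ⊗ₜ x, by simp⟩) ?_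
  rintro x y ⟨s, rfl⟩ ⟨t, rfl⟩
  exact ⟨s + t, map_add _ _ _⟩

theorem red_iff_mem_smul {V : Type u} [AddCommGroup V] [Module R V] {v : V} :
    Red I v ↔ v ∈ I • (⊤ : Submodule R V) := by
  rw [Red, ← (TensorProduct.quotTensorEquivQuotSMul V I).map_eq_zero_iff,
    TensorProduct.quotTensorEquivQuotSMul_mk_one_tmul, Submodule.Quotient.mk_eq_zero]

theorem red_mul_eq_zero (hI : I * I = ⊥) {T : Type u} [CommRing T] [Algebra R T] {u v : T} (hu : Red I u)
    (hv : Red I v) : u * v = 0 := by
  have := Ideal.mul_mem_mul (Red.iff_mem.1 hu) (Red.iff_mem.1 hv)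
  rwa [← Ideal.map_mul, hI, Ideal.map_bot, Ideal.mem_bot] at this

variable {A : Type u} [CommRing A] [HopfAlgebra R A]

/-- An integral with values in residues, applied to a first-order deformation. -/
noncomputable abbrev intAct (hI : I * I = ⊥) (lam : A →ₗ[R] R ⧸ I) (W : Type u) [AddCommGroup W] [Module R W] :
    I ⊗[R] (A ⊗[R] W) →ₗ[R] W :=
  (TensorProduct.lid R W).toLinearMap ∘ₗ (TensorProduct.lift ((sqAct I hI).compl₂ lam)).rTensor W ∘ₗ
    (TensorProduct.assoc R I A W).symm.toLinearMap

theorem intAct_tmul (hI : I * I = ⊥) (lam : A →ₗ[R] R ⧸ I) (W : Type u) [AddCommGroup W] [Module R W]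
    (i : I) (x : A) (w : W) : intAct hI lam W (i ⊗ₜ (x ⊗ₜ w)) = sqAct I hI i (lam x) • w := by
  simp

theorem intAct_comul (hI : I * I = ⊥) (lam : A →ₗ[R] R ⧸ I)
    (hinv : ∀ x : A, lam.rTensor A (Coalgebra.comul (R := R) x) = lam x ⊗ₜ[R] (1 : A)) (i : I) (x : A) :
    intAct hI lam A (i ⊗ₜ Coalgebra.comul (R := R) x) = sqAct I hI i (lam x) • (1 : A) := by
  have h : ∀ t : A ⊗[R] A, intAct hI lam A (i ⊗ₜ t) =
      TensorProduct.lid R A ((sqAct I hI i).rTensor A (lam.rTensor A t)) := by
    intro t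
    induction t using TensorProduct.induction_on with
    | zero => simp
    | add a b ha hb => simp only [TensorProduct.tmul_add, map_add, ha, hb]
    | tmul a b => simp
  rw [h, hinv, LinearMap.rTensor_tmul, TensorProduct.lid_tmul]

section Sq

variable [Module.Flat R A] (hI : I * I = ⊥) (lam : A →ₗ[R] R ⧸ I) (h1 : lam 1 = 1)
  (hinv : ∀ x : A, lam.rTensor A (Coalgebra.comul (R := R) x) = lam x ⊗ₜ[R] (1 : A))

include hI lam h1 hinv

/-- A first-order deformation with no primitive elements. -/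
theorem eq_zero_of_primitive {b : A} (hb : Red I b)
    (hprim : Coalgebra.comul (R := R) b = b ⊗ₜ[R] 1 + (1 : A) ⊗ₜ[R] b) : b = 0 := by
  obtain ⟨t, rfl⟩ := exists_idealIncl hb
  have heq : (Coalgebra.comul (R := R) (A := A)).lTensor I t =
      ((TensorProduct.mk R A A).flip 1).lTensor I t + (TensorProduct.mk R A A 1).lTensor I t := by
    apply idealIncl_injective (A ⊗[R] A)
    rw [map_add, idealIncl_lTensor, idealIncl_lTensor, idealIncl_lTensor]
    exact hprim
  have := congrArg (intAct hI lam A) heq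
  rw [map_add] at this
  have e1 : ∀ s : I ⊗[R] A, intAct hI lam A ((Coalgebra.comul (R := R) (A := A)).lTensor I s) =
      intAct hI lam A (((TensorProduct.mk R A A).flip 1).lTensor I s) := by
    intro s
    induction s using TensorProduct.induction_on with
    | zero => simp
    | add a b ha hb => simp only [map_add, ha, hb]
    | tmul i x =>
      rw [LinearMap.lTensor_tmul, LinearMap.lTensor_tmul, intAct_comul hI lam hinv, LinearMap.flip_apply,
        TensorProduct.mk_apply, intAct_tmul]
  have e2 : ∀ s : I ⊗[R] A, intAct hI lam A ((TensorProduct.mk R A A 1).lTensor I s) = idealIncl I A s := by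
    intro s
    induction s using TensorProduct.induction_on with
    | zero => simp
    | add a b ha hb => simp only [map_add, ha, hb]
    | tmul i x =>
      rw [LinearMap.lTensor_tmul, TensorProduct.mk_apply, intAct_tmul, h1, ← map_one (Ideal.Quotient.mk I), sqAct_mk]
      simp
  rw [e1, e2] at this
  simpa using this

/-- Group-like elements lift along a square-zero ideal in a flat Hopf algebra with reductive reduction. -/
theorem exists_groupLike_sq {z : A} (hz : IsGroupLikeElem (R ⧸ I) ((1 : R ⧸ I) ⊗ₜ[R] z)) :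
    ∃ g, IsGroupLikeElem R g ∧ (1 : R ⧸ I) ⊗ₜ[R] g = (1 : R ⧸ I) ⊗ₜ[R] z := by
  have hnil : ∀ x ∈ I, IsNilpotent x := fun x hx =>
    ⟨2, by rw [sq]; exact (Submodule.mem_bot R).1 (hI ▸ Ideal.mul_mem_mul hx hx)⟩
  obtain ⟨w, hw⟩ : ∃ w, z * w = 1 := by
    obtain ⟨w₀, hw₀⟩ := (IsGroupLikeElem.isUnit hz).exists_right_inv
    obtain ⟨w', rfl⟩ := TensorProduct.mk_surjective R A (R ⧸ I) Ideal.Quotient.mk_surjective w₀
    have hn : Red I (z * w' - 1) := by
      rw [Red, TensorProduct.tmul_sub, sub_eq_zero]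
      rw [TensorProduct.mk_apply, Algebra.TensorProduct.tmul_mul_tmul, one_mul] at hw₀
      exact hw₀
    have hu : IsUnit (z * w') := by
      rw [← add_sub_cancel (1 : A) (z * w')]
      exact (Red.isNilpotent hnil hn).isUnit_one_add
    exact (isUnit_of_mul_isUnit_left hu).exists_right_inv
  let D := Coalgebra.comul (R := R) z
  let c : A ⊗[R] A := D * (w ⊗ₜ w) - 1
  have hD : Red I (D - z ⊗ₜ[R] z) := by
    have h2 := ((isGroupLikeElem_iff_defect _).1 hz).2
    rwa [glDefect, LinearMap.baseChange_tmul, distrib_symm_tmul, one_mul, ← TensorProduct.tmul_sub] at h2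
  have hzw : (z ⊗ₜ[R] z) * (w ⊗ₜ[R] w) = 1 := by
    rw [Algebra.TensorProduct.tmul_mul_tmul, hw, Algebra.TensorProduct.one_def]
  have hc : Red I c := by
    rw [show c = LinearMap.mulRight R (w ⊗ₜ[R] w) (D - z ⊗ₜ[R] z) by
      rw [LinearMap.mulRight_apply, sub_mul, hzw]]
    exact hD.map _
  have hDc : D = (z ⊗ₜ[R] z) * (1 + c) := by
    rw [show 1 + c = (w ⊗ₜ[R] w) * D by simp only [c]; ring, ← mul_assoc, hzw, one_mul]
  let f₁ : A ⊗[R] A →ₐ[R] A ⊗[R] (A ⊗[R] A) := (Algebra.TensorProduct.assoc R R R A A A).toAlgHom.comp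
    (Algebra.TensorProduct.map (Bialgebra.comulAlgHom R A) (AlgHom.id R A))
  let f₂ : A ⊗[R] A →ₐ[R] A ⊗[R] (A ⊗[R] A) :=
    Algebra.TensorProduct.map (AlgHom.id R A) (Bialgebra.comulAlgHom R A)
  let j₁ : A ⊗[R] A →ₐ[R] A ⊗[R] (A ⊗[R] A) :=
    Algebra.TensorProduct.map (AlgHom.id R A) Algebra.TensorProduct.includeLeft
  let j₂ : A ⊗[R] A →ₐ[R] A ⊗[R] (A ⊗[R] A) := Algebra.TensorProduct.includeRight
  let Z := z ⊗ₜ[R] (z ⊗ₜ[R] z)
  have hf₁ : f₁ (z ⊗ₜ[R] z) = Z * (1 + j₁ c) := by
    have h : ∀ t : A ⊗[R] A, Algebra.TensorProduct.assoc R R R A A A (t ⊗ₜ[R] z) =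
        j₁ t * ((1 : A) ⊗ₜ[R] ((1 : A) ⊗ₜ[R] z)) := by
      intro t
      induction t using TensorProduct.induction_on with
      | zero => simp
      | add a b ha hb => simp only [TensorProduct.add_tmul, map_add, add_mul, ha, hb]
      | tmul a b => simp [j₁]
    show Algebra.TensorProduct.assoc R R R A A A (D ⊗ₜ[R] z) = _
    rw [h, hDc, map_mul, map_add, map_one, show j₁ (z ⊗ₜ[R] z) = z ⊗ₜ[R] (z ⊗ₜ[R] (1 : A)) by simp [j₁],
      mul_right_comm]
    simp [Z]
  have hf₂ : f₂ (z ⊗ₜ[R] z) = Z * (1 + j₂ c) := by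
    show z ⊗ₜ[R] D = _
    rw [show z ⊗ₜ[R] D = (z ⊗ₜ[R] (1 : A ⊗[R] A)) * j₂ D by simp [j₂], hDc, map_mul, map_add, map_one, ← mul_assoc]
    congr 1
    simp [j₂, Z]
  have hcoassoc : f₁ D = f₂ D := by
    have e1 : ∀ t : A ⊗[R] A, f₁ t = TensorProduct.assoc R A A A ((Coalgebra.comul (R := R) (A := A)).rTensor A t) := by
      intro t
      induction t using TensorProduct.induction_on with
      | zero => simp
      | add a b ha hb => simp only [map_add, ha, hb]
      | tmul a b => rfl
    have e2 : ∀ t : A ⊗[R] A, f₂ t = (Coalgebra.comul (R := R) (A := A)).lTensor A t := by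
      intro t
      induction t using TensorProduct.induction_on with
      | zero => simp
      | add a b ha hb => simp only [map_add, ha, hb]
      | tmul a b => rfl
    rw [e1, e2]
    exact Coalgebra.coassoc_apply z
  have hZ : IsUnit Z := by
    refine IsUnit.of_mul_eq_one (w ⊗ₜ[R] (w ⊗ₜ[R] w)) ?_
    rw [Algebra.TensorProduct.tmul_mul_tmul, hzw, hw, ← Algebra.TensorProduct.one_def]
  have hcoc : j₁ c + f₁ c = j₂ c + f₂ c := by
    rw [hDc, map_mul, map_mul, map_add, map_add, map_one, map_one, hf₁, hf₂, mul_assoc, mul_assoc] at hcoassoc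
    have := hZ.mul_left_cancel hcoassoc
    have p1 : j₁ c * f₁ c = 0 := red_mul_eq_zero hI (hc.map j₁.toLinearMap) (hc.map f₁.toLinearMap)
    have p2 : j₂ c * f₂ c = 0 := red_mul_eq_zero hI (hc.map j₂.toLinearMap) (hc.map f₂.toLinearMap)
    linear_combination this - p1 + p2
  obtain ⟨t, ht⟩ := exists_idealIncl hc
  let b := intAct hI lam A t
  have hlin : j₁.toLinearMap.lTensor I t + f₁.toLinearMap.lTensor I t =
      j₂.toLinearMap.lTensor I t + f₂.toLinearMap.lTensor I t := by
    apply idealIncl_injective (A ⊗[R] (A ⊗[R] A))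
    simp only [map_add, idealIncl_lTensor, ht, AlgHom.toLinearMap_apply, hcoc]
  have key := congrArg (intAct hI lam (A ⊗[R] A)) hlin
  have E : ∀ s : I ⊗[R] (A ⊗[R] A),
      intAct hI lam (A ⊗[R] A) (j₁.toLinearMap.lTensor I s) = intAct hI lam A s ⊗ₜ[R] (1 : A) ∧
      intAct hI lam (A ⊗[R] A) (f₁.toLinearMap.lTensor I s) = (1 : A) ⊗ₜ[R] intAct hI lam A s ∧
      intAct hI lam (A ⊗[R] A) (j₂.toLinearMap.lTensor I s) = idealIncl I (A ⊗[R] A) s ∧
      intAct hI lam (A ⊗[R] A) (f₂.toLinearMap.lTensor I s) = Coalgebra.comul (R := R) (intAct hI lam A s) := by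
    intro s
    induction s using TensorProduct.induction_on with
    | zero => simp
    | add p q hp hq =>
      simp only [map_add, hp.1, hp.2.1, hp.2.2.1, hp.2.2.2, hq.1, hq.2.1, hq.2.2.1, hq.2.2.2, TensorProduct.add_tmul,
        TensorProduct.tmul_add, and_self]
    | tmul i v =>
      induction v using TensorProduct.induction_on with
      | zero => simp
      | add p q hp hq =>
        simp only [TensorProduct.tmul_add, map_add, hp.1, hp.2.1, hp.2.2.1, hp.2.2.2, hq.1, hq.2.1, hq.2.2.1,
          hq.2.2.2, TensorProduct.add_tmul, and_self]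
      | tmul x y =>
        refine ⟨?_, ?_, ?_, ?_⟩
        · simp [j₁, intAct_tmul, TensorProduct.smul_tmul']
        · have h : ∀ p : A ⊗[R] A, intAct hI lam (A ⊗[R] A)
              (i ⊗ₜ[R] Algebra.TensorProduct.assoc R R R A A A (p ⊗ₜ[R] y)) = intAct hI lam A (i ⊗ₜ[R] p) ⊗ₜ[R] y := by
            intro p
            induction p using TensorProduct.induction_on with
            | zero => simp
            | add a b ha hb => simp only [TensorProduct.tmul_add, TensorProduct.add_tmul, map_add, ha, hb]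
            | tmul a b => simp [TensorProduct.smul_tmul']
          rw [LinearMap.lTensor_tmul]
          show intAct hI lam (A ⊗[R] A) (i ⊗ₜ[R] Algebra.TensorProduct.assoc R R R A A A (Coalgebra.comul (R := R) x ⊗ₜ[R] y)) = _
          rw [h, intAct_comul hI lam hinv, intAct_tmul, TensorProduct.smul_tmul]
        · rw [LinearMap.lTensor_tmul]
          show intAct hI lam (A ⊗[R] A) (i ⊗ₜ[R] ((1 : A) ⊗ₜ[R] (x ⊗ₜ[R] y))) = _
          rw [intAct_tmul, h1, ← map_one (Ideal.Quotient.mk I), sqAct_mk]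
          simp
        · rw [LinearMap.lTensor_tmul]
          show intAct hI lam (A ⊗[R] A) (i ⊗ₜ[R] (x ⊗ₜ[R] Coalgebra.comul (R := R) y)) = _
          rw [intAct_tmul, intAct_tmul, map_smul]
  rw [map_add, map_add, (E t).1, (E t).2.1, (E t).2.2.1, (E t).2.2.2, ht] at key
  have hb : Red I b := by
    have hr : ∀ s : I ⊗[R] (A ⊗[R] A), Red I (intAct hI lam A s) := by
      intro s
      induction s using TensorProduct.induction_on with
      | zero => rw [map_zero]; exact Red.zero
      | add p q hp hq => rw [map_add]; exact hp.add hq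
      | tmul i v =>
        induction v using TensorProduct.induction_on with
        | zero => rw [TensorProduct.tmul_zero, map_zero]; exact Red.zero
        | add p q hp hq => rw [TensorProduct.tmul_add, map_add]; exact hp.add hq
        | tmul x y =>
          rw [intAct_tmul, red_iff_mem_smul]
          obtain ⟨r, hr⟩ := Ideal.Quotient.mk_surjective (lam x)
          rw [← hr, sqAct_mk]
          exact Submodule.smul_mem_smul (Ideal.mul_mem_left _ _ i.2) Submodule.mem_top
    exact hr t
  refine ⟨z * (1 + b), ?_, ?_⟩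
  · have hcm : Coalgebra.comul (R := R) (z * (1 + b)) = (z * (1 + b)) ⊗ₜ[R] (z * (1 + b)) := by
      have hbc : Coalgebra.comul (R := R) b * c = 0 :=
        red_mul_eq_zero hI (hb.map (Coalgebra.comul (R := R))) hc
      have hbb : (b ⊗ₜ[R] (1 : A)) * ((1 : A) ⊗ₜ[R] b) = 0 :=
        red_mul_eq_zero hI (hb.map ((TensorProduct.mk R A A).flip 1)) (hb.map (TensorProduct.mk R A A 1))
      rw [show (z * (1 + b)) ⊗ₜ[R] (z * (1 + b)) = (z ⊗ₜ[R] z) * ((1 + b ⊗ₜ[R] 1) * (1 + (1 : A) ⊗ₜ[R] b)) by
        rw [show (1 : A ⊗[R] A) + b ⊗ₜ[R] 1 = (1 + b) ⊗ₜ[R] 1 by rw [TensorProduct.add_tmul, Algebra.TensorProduct.one_def],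
          show (1 : A ⊗[R] A) + (1 : A) ⊗ₜ[R] b = (1 : A) ⊗ₜ[R] (1 + b) by rw [TensorProduct.tmul_add, Algebra.TensorProduct.one_def],
          Algebra.TensorProduct.tmul_mul_tmul, Algebra.TensorProduct.tmul_mul_tmul, one_mul, mul_one],
        Bialgebra.comul_mul, show Coalgebra.comul (R := R) z = D from rfl, hDc, mul_assoc, map_add, Bialgebra.comul_one]
      congr 1
      linear_combination hbc - hbb - key
    refine ⟨?_, hcm⟩
    have hu : IsUnit (z * (1 + b)) :=
      (IsUnit.of_mul_eq_one w hw).mul (Red.isNilpotent hnil hb).isUnit_one_add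
    have h := Coalgebra.rTensor_counit_comul (R := R) (z * (1 + b))
    rw [hcm, LinearMap.rTensor_tmul] at h
    have h' := congrArg (TensorProduct.lid R A) h
    rw [TensorProduct.lid_tmul, TensorProduct.lid_tmul, one_smul, Algebra.smul_def] at h'
    have h'' := congrArg (Coalgebra.counit (R := R)) (hu.mul_right_cancel (h'.trans (one_mul _).symm))
    simpa using h''
  · rw [← sub_eq_zero, ← TensorProduct.tmul_sub, show z * (1 + b) - z = LinearMap.mulLeft R z b by simp; ring]
    exact hb.map _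

/-- Uniqueness of such lifts. -/
theorem eq_of_red_sq {x y : A} (hx : IsGroupLikeElem R x) (hy : IsGroupLikeElem R y) (h : Red I (x - y)) : x = y := by
  obtain ⟨y', hy'⟩ := (IsGroupLikeElem.isUnit hy).exists_right_inv
  have hy'g : IsGroupLikeElem R y' := by
    rw [show y' = HopfAlgebra.antipode R y from
      (IsGroupLikeElem.isUnit hy).mul_left_cancel (by rw [hy', mul_comm, hy.antipode_mul_cancel])]
    exact hy.antipode
  let b := x * y' - 1
  have hb : Red I b := by
    rw [show b = LinearMap.mulRight R y' (x - y) by simp [b, sub_mul, hy']]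
    exact h.map _
  have hbb : (b ⊗ₜ[R] (1 : A)) * ((1 : A) ⊗ₜ[R] b) = 0 :=
    red_mul_eq_zero hI (hb.map ((TensorProduct.mk R A A).flip 1)) (hb.map (TensorProduct.mk R A A 1))
  rw [Algebra.TensorProduct.tmul_mul_tmul, one_mul, mul_one] at hbb
  have hprim : Coalgebra.comul (R := R) b = b ⊗ₜ[R] 1 + (1 : A) ⊗ₜ[R] b := by
    rw [show b = x * y' - 1 from rfl] at hbb ⊢
    rw [map_sub, Bialgebra.comul_one, (hx.mul hy'g).comul_eq_tmul_self]
    simp only [TensorProduct.sub_tmul, TensorProduct.tmul_sub, Algebra.TensorProduct.one_def] at hbb ⊢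
    linear_combination hbb
  have h0 : b = 0 := eq_zero_of_primitive hI lam h1 hinv hb hprim
  have := congrArg (· * y) h0
  simpa [b, sub_mul, mul_assoc, mul_comm y' y, hy', sub_eq_zero] using this

end Sq

/-- A bialgebra map onto a flat algebra bijective modulo a nilpotent ideal is bijective. -/
theorem bijective_of_nilpotent {V W : Type u} [AddCommGroup V] [Module R V] [AddCommGroup W] [Module R W]
    [Module.Flat R W] (hI : IsNilpotent I) (f : V →ₗ[R] W) (h : RedBij I f) : Function.Bijective f := by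
  obtain ⟨n, hn⟩ := hI
  have hpow : ∀ (X : Type u) [AddCommGroup X] [Module R X] (N : Submodule R X),
      (⊤ : Submodule R X) ≤ N ⊔ I • ⊤ → N = ⊤ := by
    intro X _ _ N hN
    have h : ∀ k : ℕ, (⊤ : Submodule R X) ≤ N ⊔ I ^ k • ⊤ := by
      intro k
      induction k with
      | zero => rw [pow_zero, one_smul]; exact le_sup_right
      | succ k ih =>
        refine ih.trans (sup_le le_sup_left ?_)
        refine (Submodule.smul_mono le_rfl hN).trans ?_
        rw [Submodule.smul_sup, ← Submodule.mul_smul, ← pow_succ]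
        exact sup_le (le_sup_of_le_left Submodule.smul_le_right) le_sup_right
    have := h n
    rwa [hn, Ideal.zero_eq_bot, Submodule.bot_smul, sup_bot_eq, top_le_iff] at this
  have hsurj : Function.Surjective f := by
    rw [← LinearMap.range_eq_top]
    refine hpow W _ fun w _ => ?_
    obtain ⟨v, hv⟩ := h.exists_red w
    rw [show w = f v - (f v - w) by abel]
    exact sub_mem (Submodule.mem_sup_left ⟨v, rfl⟩) (Submodule.mem_sup_right (red_iff_mem_smul.1 hv))
  refine ⟨?_, hsurj⟩
  rw [← LinearMap.ker_eq_bot]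
  have hker : (⊤ : Submodule R (LinearMap.ker f)) ≤ ⊥ ⊔ I • ⊤ := by
    intro k _
    rw [bot_sup_eq, ← red_iff_mem_smul]
    obtain ⟨t, ht⟩ := exists_idealIncl (h.red_of_map (x := (k : V)) (by rw [LinearMap.mem_ker.1 k.2]; exact Red.zero))
    have h0 : f.lTensor I t = 0 := by
      apply idealIncl_injective W
      rw [idealIncl_lTensor, ht, map_zero]; exact k.2
    obtain ⟨s, hs⟩ := (lTensor_exact I (LinearMap.exact_subtype_ker_map f) hsurj t).1 h0
    have hk : idealIncl I (LinearMap.ker f) s = k := Subtype.ext (by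
      rw [← ht, ← hs, idealIncl_lTensor]; rfl)
    rw [← hk, red_iff_mem_smul]
    clear hk hs
    induction s using TensorProduct.induction_on with
    | zero => rw [map_zero]; exact zero_mem _
    | add a b ha hb => rw [map_add]; exact add_mem ha hb
    | tmul i x => simpa using Submodule.smul_mem_smul i.2 (Submodule.mem_top (x := x))
  exact Submodule.eq_bot_iff _ |>.2 fun x hx => by
    have hbot := hpow _ ⊥ hker
    exact congrArg Subtype.val ((Submodule.eq_bot_iff _).1 hbot.symm ⟨x, hx⟩ Submodule.mem_top)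

theorem isDiag_of_flat_sq [Module.Flat R A] (hI : I * I = ⊥)
    (h0 : SGA3b.IsDiag (R ⧸ I) ((R ⧸ I) ⊗[R] A)) : SGA3b.IsDiag R A := by
  classical
  obtain ⟨M, _, ⟨e⟩⟩ := h0
  let Q := R ⧸ I
  let lam₀ : Q ⊗[R] A →ₗ[Q] Q := (cfM Q (1 : M)).comp (BialgEquiv.toAlgEquiv e).toLinearMap
  let lam : A →ₗ[R] Q := (lam₀.restrictScalars R) ∘ₗ TensorProduct.mk R Q A 1
  have hl : ∀ w : MonoidAlgebra Q M, lam₀ (e.symm w) = cfM Q 1 w := fun w =>
    congrArg (cfM Q (1 : M)) (e.apply_symm_apply w)
  have h1 : lam 1 = 1 := by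
    show lam₀ 1 = 1
    rw [← map_one e.symm, hl, MonoidAlgebra.one_def, cfM_single, if_pos rfl]
  let Ψ : (Q ⊗[R] A) ⊗[Q] (Q ⊗[R] A) →ₗ[Q] Q ⊗[R] A := TensorProduct.lift ((LinearMap.lsmul Q _).comp lam₀)
  have hΨ : ∀ z : Q ⊗[R] A, Ψ (Coalgebra.comul (R := Q) z) = lam₀ z • 1 := by
    intro z
    obtain ⟨w, rfl⟩ := EquivLike.surjective e.symm z
    induction w using MonoidAlgebra.induction_linear with
    | zero => simp
    | add u v hu hv => simp only [map_add, hu, hv, add_smul]
    | single m s =>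
      rw [show MonoidAlgebra.single m s = s • MonoidAlgebra.single m (1 : Q) by
        rw [MonoidAlgebra.smul_single, smul_eq_mul, mul_one]]
      simp only [map_smul]
      rw [((MonoidAlgebra.isGroupLikeElem_single_one m).map e.symm).comul_eq_tmul_self, smul_assoc]
      congr 1
      rw [TensorProduct.lift.tmul, LinearMap.comp_apply, LinearMap.lsmul_apply, hl, cfM_single]
      split_ifs with hm
      · rw [hm, ← MonoidAlgebra.one_def, map_one]
      · rw [zero_smul, zero_smul]
  have hinv : ∀ x : A, lam.rTensor A (Coalgebra.comul (R := R) x) = lam x ⊗ₜ[R] (1 : A) := by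
    intro x
    have h := hΨ ((1 : Q) ⊗ₜ[R] x)
    rw [comul_eq_distrib, LinearMap.baseChange_tmul] at h
    have h2 : ∀ t : A ⊗[R] A, Ψ (TensorProduct.AlgebraTensorModule.distribBaseChange R Q A A ((1 : Q) ⊗ₜ[R] t)) =
        lam.rTensor A t := by
      intro t
      induction t using TensorProduct.induction_on with
      | zero => simp
      | add u v hu hv => simp only [TensorProduct.tmul_add, map_add, hu, hv]
      | tmul u v => simp [Ψ, lam, TensorProduct.smul_tmul']
    rw [← h2, h, Algebra.TensorProduct.one_def, TensorProduct.smul_tmul', smul_eq_mul, mul_one]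
    rfl
  have hex : ∀ m, ∃ g, IsGroupLikeElem R g ∧ (1 : Q) ⊗ₜ[R] g = e.symm (MonoidAlgebra.single m (1 : Q)) := by
    intro m
    obtain ⟨z, hz⟩ := TensorProduct.mk_surjective R A Q Ideal.Quotient.mk_surjective
      (e.symm (MonoidAlgebra.single m (1 : Q)))
    rw [TensorProduct.mk_apply] at hz
    obtain ⟨g, hg, hgz⟩ := exists_groupLike_sq hI lam h1 hinv (z := z)
      (by rw [hz]; exact (MonoidAlgebra.isGroupLikeElem_single_one m).map e.symm)
    exact ⟨g, hg, hgz.trans hz⟩
  choose g hg hge using hex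
  have huniq : ∀ {x y : A}, IsGroupLikeElem R x → IsGroupLikeElem R y →
      (1 : Q) ⊗ₜ[R] x = (1 : Q) ⊗ₜ[R] y → x = y := fun hx hy h =>
    eq_of_red_sq hI lam h1 hinv hx hy (by rw [Red, TensorProduct.tmul_sub, h, sub_self])
  let μ : M →* GroupLike R A :=
    { toFun := fun m => ⟨g m, hg m⟩
      map_one' := GroupLike.val_injective (huniq (hg 1) IsGroupLikeElem.one
        (by rw [hge, ← MonoidAlgebra.one_def, map_one]; rfl))
      map_mul' := fun a b => GroupLike.val_injective (huniq (hg _) ((hg a).mul (hg b))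
        (by
          show (1 : Q) ⊗ₜ[R] g (a * b) = (1 : Q) ⊗ₜ[R] (g a * g b)
          rw [← one_mul (1 : Q), ← Algebra.TensorProduct.tmul_mul_tmul, one_mul, hge, hge, hge, ← map_mul,
            MonoidAlgebra.single_mul_single, one_mul])) }
  let L : MonoidAlgebra R M →ₐc[R] A :=
    (MonoidAlgebra.liftGroupLikeBialgHom : MonoidAlgebra R (GroupLike R A) →ₐc[R] A).comp
      (MonoidAlgebra.mapDomainBialgHom R μ)
  refine ⟨M, inferInstance, ⟨(BialgEquiv.ofBijective L
    (bijective_of_nilpotent (I := I) ⟨2, by rw [sq]; exact hI⟩ (L : MonoidAlgebra R M →ₐ[R] A).toLinearMap ?_)).symm⟩⟩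
  let sT := MonoidAlgebra.scalarTensorEquiv (M := M) R Q
  have h : ∀ w, (L : MonoidAlgebra R M →ₐ[R] A).toLinearMap.lTensor Q (sT.symm w) = e.symm w := by
    intro w
    induction w using MonoidAlgebra.induction_linear with
    | zero => simp
    | add a b ha hb => simp only [map_add, ha, hb]
    | single m a =>
      rw [MonoidAlgebra.scalarTensorEquiv_symm_single, LinearMap.lTensor_tmul]
      rw [show MonoidAlgebra.single m a = a • MonoidAlgebra.single m (1 : Q) by
        rw [MonoidAlgebra.smul_single, smul_eq_mul, mul_one], map_smul, ← hge,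
        TensorProduct.smul_tmul', smul_eq_mul, mul_one]
      congr 1
      simp [L, μ]
  rw [RedBij, show ⇑((L : MonoidAlgebra R M →ₐ[R] A).toLinearMap.lTensor Q) = e.symm ∘ sT from
    funext fun w => by rw [Function.comp_apply, ← h, AlgEquiv.symm_apply_apply]]
  exact (EquivLike.bijective e.symm).comp sT.bijective

theorem isDiag_of_flat_pow : ∀ (n : ℕ) {S : Type u} [CommRing S] (K : Ideal S) (X : Type u) [CommRing X]
    [HopfAlgebra S X] [Module.Flat S X], K ^ (n + 1) = ⊥ → SGA3b.IsDiag (S ⧸ K) ((S ⧸ K) ⊗[S] X) →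
      SGA3b.IsDiag S X := by
  intro n
  induction n with
  | zero =>
    intro S _ K X _ _ _ hK h0
    rw [pow_one] at hK
    exact isDiag_of_flat_sq (by rw [hK, Submodule.bot_mul]) h0
  | succ n ih =>
    intro S _ K X _ _ _ hK h0
    let J := K ^ (n + 1)
    refine isDiag_of_flat_sq (I := J) ?_ ?_
    · rw [← pow_add, eq_bot_iff, ← hK]
      exact Ideal.pow_le_pow_right (by omega)
    let T := S ⧸ J
    let K' := K.map (algebraMap S T)
    let φ : (S ⧸ K) →ₐ[S] T ⧸ K' := Ideal.Quotient.liftₐ K (Algebra.ofId S (T ⧸ K')) fun x hx => by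
      show algebraMap S (T ⧸ K') x = 0
      rw [IsScalarTower.algebraMap_apply S T (T ⧸ K'), Ideal.Quotient.algebraMap_eq (K')]
      exact Ideal.Quotient.eq_zero_iff_mem.2 (Ideal.mem_map_of_mem _ hx)
    letI : Algebra (S ⧸ K) (T ⧸ K') := φ.toRingHom.toAlgebra
    haveI : IsScalarTower S (S ⧸ K) (T ⧸ K') := .of_algebraMap_eq fun r => (φ.commutes r).symm
    refine ih K' (T ⊗[S] X) ?_ (isDiag_of_equiv (bcTrans S T (T ⧸ K') X) (isDiag_baseChange h0 (T ⧸ K')))
    rw [← Ideal.map_pow]
    exact (Ideal.map_eq_bot_iff_le_ker _).2 (by rw [Ideal.Quotient.algebraMap_eq, Ideal.mk_ker])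

/-- A flat deformation of a diagonalisable group along a nilpotent ideal is diagonalisable. -/
theorem isDiag_of_flat_nilpotent [Module.Flat R A] (hI : IsNilpotent I)
    (h0 : SGA3b.IsDiag (R ⧸ I) ((R ⧸ I) ⊗[R] A)) : SGA3b.IsDiag R A := by
  obtain ⟨n, hn⟩ := hI
  exact isDiag_of_flat_pow n I A (by rw [pow_succ, hn, Ideal.zero_eq_bot, Submodule.bot_mul]) h0

end Groth.Agent.MultT
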