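import Groth.Agent.MultT.HochLift
import Groth.Agent.MultT.FlatLift
import Mathlib

/-! Lifting of base-changed homomorphisms along nilpotent ideals. -/

set_option autoImplicit false

open TensorProduct WithConv Coalgebra

universe u

namespace Groth.Agent.MultT

variable {R : Type u} [CommRing R] {A : Type u} [CommRing A] [HopfAlgebra R A]
  {C : Type u} [CommRing C] [HopfAlgebra R C] (I : Ideal R)

theorem mem_map_iff_tmul {V : Type u} [CommRing V] [Algebra R V] {v : V} :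
    v ∈ I.map (algebraMap R V) ↔ (1 : R ⧸ I) ⊗ₜ[R] v = 0 := by
  rw [show ((1 : R ⧸ I) ⊗ₜ[R] v = 0) ↔ Red I v from Iff.rfl, red_iff_mem_smul, Ideal.smul_top_eq_map,
    Submodule.restrictScalars_mem]

theorem sub_mem_map_iff_tmul {V : Type u} [CommRing V] [Algebra R V] {v w : V} :
    v - w ∈ I.map (algebraMap R V) ↔ (1 : R ⧸ I) ⊗ₜ[R] v = (1 : R ⧸ I) ⊗ₜ[R] w := by
  rw [mem_map_iff_tmul, TensorProduct.tmul_sub, sub_eq_zero]

/-- A map reducing to a homomorphism is a homomorphism modulo the ideal. -/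
theorem good_of_reduction (φ : C →ₐ[R] A) (φ₀ : ((R ⧸ I) ⊗[R] C) →ₐc[R ⧸ I] ((R ⧸ I) ⊗[R] A))
    (h : ∀ c, φ₀ ((1 : R ⧸ I) ⊗ₜ[R] c) = (1 : R ⧸ I) ⊗ₜ[R] (φ c)) : Good I φ := by
  intro x
  show lawQ φ x - lawP φ x ∈ _
  rw [sub_mem_map_iff_tmul, lawP_apply]
  apply (TensorProduct.AlgebraTensorModule.distribBaseChange R (R ⧸ I) A A).injective
  have hQ : TensorProduct.AlgebraTensorModule.distribBaseChange R (R ⧸ I) A A ((1 : R ⧸ I) ⊗ₜ lawQ φ x) =
      comul (R := R ⧸ I) (φ₀ ((1 : R ⧸ I) ⊗ₜ[R] x)) := by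
    rw [h, comul_eq_distrib]; rfl
  rw [hQ, ← CoalgHomClass.map_comp_comul_apply φ₀, comul_eq_distrib, LinearMap.baseChange_tmul]
  induction comul (R := R) x using TensorProduct.induction_on with
  | zero => simp
  | tmul a b => simp [h, TensorProduct.AlgebraTensorModule.distribBaseChange_tmul]
  | add a b ha hb => simp only [TensorProduct.tmul_add, map_add, ha, hb]

/-- Homomorphisms of reductions modulo a nilpotent ideal lift. -/
theorem exists_lift_reduction (hA : SGA3b.IsMultType R A) [Algebra.FormallySmooth R C] (hI : IsNilpotent I)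
    (φ₀ : ((R ⧸ I) ⊗[R] C) →ₐc[R ⧸ I] ((R ⧸ I) ⊗[R] A)) :
    ∃ φ : C →ₐc[R] A, ∀ c, φ₀ ((1 : R ⧸ I) ⊗ₜ[R] c) = (1 : R ⧸ I) ⊗ₜ[R] (φ c) := by
  let q : A →ₐ[R] (R ⧸ I) ⊗[R] A := Algebra.TensorProduct.includeRight
  have hq : Function.Surjective q := fun z => by
    induction z using TensorProduct.induction_on with
    | zero => exact ⟨0, map_zero _⟩
    | add a b ha hb =>
      obtain ⟨x, rfl⟩ := ha
      obtain ⟨y, rfl⟩ := hb
      exact ⟨x + y, map_add _ x y⟩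
    | tmul r a =>
      obtain ⟨r, rfl⟩ := Ideal.Quotient.mk_surjective r
      exact ⟨r • a, by
        show (1 : R ⧸ I) ⊗ₜ[R] (r • a) = _
        rw [TensorProduct.tmul_smul, TensorProduct.smul_tmul', Algebra.smul_def, mul_one]; rfl⟩
  have hker : IsNilpotent (RingHom.ker (q : A →+* (R ⧸ I) ⊗[R] A)) := by
    obtain ⟨n, hn⟩ := hI
    refine ⟨n, le_bot_iff.1 ?_⟩
    calc RingHom.ker (q : A →+* (R ⧸ I) ⊗[R] A) ^ n ≤ (I.map (algebraMap R A)) ^ n :=
          Ideal.pow_right_mono (fun v hv => (mem_map_iff_tmul I).2 hv) n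
      _ = ⊥ := by rw [← Ideal.map_pow, hn, Ideal.zero_eq_bot, Ideal.map_bot]
  let g : C →ₐ[R] (R ⧸ I) ⊗[R] A :=
    ((φ₀ : ((R ⧸ I) ⊗[R] C) →ₐ[R ⧸ I] ((R ⧸ I) ⊗[R] A)).restrictScalars R).comp
      Algebra.TensorProduct.includeRight
  let ψ := Algebra.FormallySmooth.liftOfSurjective g q hq hker
  have hψ : ∀ c, φ₀ ((1 : R ⧸ I) ⊗ₜ[R] c) = (1 : R ⧸ I) ⊗ₜ[R] (ψ c) := fun c =>
    (Algebra.FormallySmooth.liftOfSurjective_apply g q hq hker c).symm
  obtain ⟨φ, hφ⟩ := exists_lift_of_good hA I hI ψ (good_of_reduction I ψ φ₀ hψ)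
  exact ⟨φ, fun c => by rw [hψ, ((sub_mem_map_iff_tmul I).1 (hφ c))]⟩

end Groth.Agent.MultT
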