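import Groth.Agent.MultT.Integral
import Mathlib

/-! Lifting homomorphisms from groups of multiplicative type to smooth groups: averaging two-cocycles. -/

set_option autoImplicit false
set_option synthInstance.maxHeartbeats 400000
set_option synthInstance.maxSize 1024

open TensorProduct WithConv Coalgebra

universe u

namespace Groth.Agent.MultT

variable {R : Type u} [CommRing R] {A : Type u} [CommRing A] [HopfAlgebra R A]
  {C : Type u} [CommRing C] [HopfAlgebra R C]

section conv

variable {T T' : Type u} [CommRing T] [Algebra R T] [CommRing T'] [Algebra R T']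

theorem conv_inv_mul (f : WithConv (C →ₐ[R] T)) :
    toConv (f.ofConv.comp (HopfAlgebra.antipodeAlgHom R C)) * f = 1 := by
  have h := congrArg (fun g : WithConv (C →ₐ[R] C) => toConv (f.ofConv.comp g.ofConv))
    (AlgHom.antipode_id_cancel (R := R) (A := C))
  simp only [AlgHom.comp_convMul_distrib] at h
  refine h.trans (WithConv.ext (AlgHom.ext fun x => ?_))
  show f.ofConv ((1 : WithConv (C →ₐ[R] C)) x) = (1 : WithConv (C →ₐ[R] T)) x
  rw [AlgHom.convOne_apply, AlgHom.convOne_apply, AlgHom.commutes]

/-- Points of a group with values in any algebra form a group. -/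
noncomputable scoped instance convGroupPoints : Group (WithConv (C →ₐ[R] T)) where
  inv f := toConv (f.ofConv.comp (HopfAlgebra.antipodeAlgHom R C))
  inv_mul_cancel := conv_inv_mul

/-- An algebra map as a linear map for convolution. -/
def lin (f : WithConv (C →ₐ[R] T)) : WithConv (C →ₗ[R] T) := toConv f.ofConv.toLinearMap

@[simp] theorem lin_apply (f : WithConv (C →ₐ[R] T)) (x : C) : lin f x = f x := rfl

theorem lin_mul (f g : WithConv (C →ₐ[R] T)) : lin (f * g) = lin f * lin g := rfl

theorem lin_one : lin (1 : WithConv (C →ₐ[R] T)) = 1 :=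
  WithConv.ext (LinearMap.ext fun x => by
    show (1 : WithConv (C →ₐ[R] T)) x = (1 : WithConv (C →ₗ[R] T)) x
    rw [AlgHom.convOne_apply, LinearMap.convOne_apply])

theorem lin_mul_inv (f : WithConv (C →ₐ[R] T)) : lin f * lin f⁻¹ = 1 := by
  rw [← lin_mul, mul_inv_cancel, lin_one]

theorem lin_inv_mul (f : WithConv (C →ₐ[R] T)) : lin f⁻¹ * lin f = 1 := by
  rw [← lin_mul, inv_mul_cancel, lin_one]

theorem conv_cancel (a l b p r q s : WithConv (C →ₐ[R] T))
    (h : a * (l * (p * q) * s) = b * (p * (r * (q * s)))) : a * l = b * (p * r * p⁻¹) := by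
  have h2 : a * l * p * q * s = b * p * r * q * s := by simpa only [mul_assoc] using h
  have h3 := mul_right_cancel (mul_right_cancel h2)
  rw [eq_mul_inv_of_mul_eq h3]
  simp only [mul_assoc]

theorem conv_expand (x y z w : WithConv (C →ₗ[R] T)) (h : (1 + x) * (1 + y) = (1 + z) * (1 + w)) :
    x + y + x * y = z + w + z * w := by
  rw [show (1 + x) * (1 + y) = 1 + (x + y + x * y) by noncomm_ring,
    show (1 + z) * (1 + w) = 1 + (z + w + z * w) by noncomm_ring] at h
  exact add_left_cancel h

/-- Composition with a map of values. -/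
def post (g : T →ₗ[R] T') (f : WithConv (C →ₗ[R] T)) : WithConv (C →ₗ[R] T') := toConv (g ∘ₗ f.ofConv)

@[simp] theorem post_apply (g : T →ₗ[R] T') (f : WithConv (C →ₗ[R] T)) (x : C) : post g f x = g (f x) := rfl

theorem post_add (g : T →ₗ[R] T') (f f' : WithConv (C →ₗ[R] T)) : post g (f + f') = post g f + post g f' :=
  WithConv.ext (LinearMap.ext fun x => g.map_add _ _)

theorem post_sub (g : T →ₗ[R] T') (f f' : WithConv (C →ₗ[R] T)) : post g (f - f') = post g f - post g f' :=
  WithConv.ext (LinearMap.ext fun x => g.map_sub _ _)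

theorem post_mul (g : T →ₐ[R] T') (f f' : WithConv (C →ₗ[R] T)) :
    post g.toLinearMap (f * f') = post g.toLinearMap f * post g.toLinearMap f' :=
  WithConv.ext (LinearMap.algHom_comp_convMul_distrib g f f')

theorem post_one (g : T →ₐ[R] T') : post g.toLinearMap (1 : WithConv (C →ₗ[R] T)) = 1 :=
  WithConv.ext (LinearMap.ext fun x => by
    show g ((1 : WithConv (C →ₗ[R] T)) x) = (1 : WithConv (C →ₗ[R] T')) x
    rw [LinearMap.convOne_apply, LinearMap.convOne_apply, AlgHom.commutes])

theorem post_lin (g : T →ₐ[R] T') (f : WithConv (C →ₐ[R] T)) :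
    post g.toLinearMap (lin f) = lin (toConv (g.comp f.ofConv)) := rfl

theorem post_comp {T'' : Type u} [CommRing T''] [Algebra R T''] (h : T' →ₗ[R] T'') (g : T →ₗ[R] T')
    (f : WithConv (C →ₗ[R] T)) : post h (post g f) = post (h ∘ₗ g) f := rfl

/-- Linear maps preserve the multiples of an ideal of the base. -/
theorem map_mem_map (g : T →ₗ[R] T') {K : Ideal R} {x : T} (hx : x ∈ K.map (algebraMap R T)) :
    g x ∈ K.map (algebraMap R T') := by
  have h1 : x ∈ K • (⊤ : Submodule R T) := by
    rw [Ideal.smul_top_eq_map, Submodule.restrictScalars_mem]; exact hx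
  have h2 : g x ∈ Submodule.map g (K • ⊤ : Submodule R T) := Submodule.mem_map_of_mem h1
  rw [Submodule.map_smul''] at h2
  have h3 := (Submodule.smul_mono (le_refl K) (le_top : Submodule.map g ⊤ ≤ ⊤)) h2
  rwa [Ideal.smul_top_eq_map, Submodule.restrictScalars_mem] at h3

/-- Congruence of functionals modulo an ideal of the base. -/
def Cong (K : Ideal R) (x y : WithConv (C →ₗ[R] T)) : Prop :=
  InIdeal (K.map (algebraMap R T)) (x - y)

theorem Cong.refl (K : Ideal R) (x : WithConv (C →ₗ[R] T)) : Cong K x x := fun a => by simp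

theorem Cong.symm {K : Ideal R} {x y : WithConv (C →ₗ[R] T)} (h : Cong K x y) : Cong K y x := fun a => by
  have h1 := h a
  simp only [WithConv.ofConv_sub, LinearMap.sub_apply] at h1 ⊢
  exact (Ideal.neg_mem_iff _).1 (by rwa [neg_sub])

theorem Cong.trans {K : Ideal R} {x y z : WithConv (C →ₗ[R] T)} (h : Cong K x y) (h' : Cong K y z) :
    Cong K x z := fun a => by
  have h1 := h a
  have h2 := h' a
  simp only [WithConv.ofConv_sub, LinearMap.sub_apply] at h1 h2 ⊢
  simpa using Ideal.add_mem _ h1 h2

theorem InIdeal.mul_left {K : Ideal T} {x : WithConv (C →ₗ[R] T)} (hx : InIdeal K x)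
    (y : WithConv (C →ₗ[R] T)) : InIdeal K (y * x) := fun a => by
  rw [LinearMap.convMul_apply]
  induction comul (R := R) a using TensorProduct.induction_on with
  | zero => simp
  | tmul u v =>
    rw [TensorProduct.map_tmul, LinearMap.mul'_apply]
    exact K.mul_mem_left _ (hx v)
  | add u v hu hv => simp only [map_add]; exact add_mem hu hv

theorem InIdeal.mul_right {K : Ideal T} {x : WithConv (C →ₗ[R] T)} (hx : InIdeal K x)
    (y : WithConv (C →ₗ[R] T)) : InIdeal K (x * y) := fun a => by
  rw [LinearMap.convMul_apply]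
  induction comul (R := R) a using TensorProduct.induction_on with
  | zero => simp
  | tmul u v =>
    rw [TensorProduct.map_tmul, LinearMap.mul'_apply]
    exact K.mul_mem_right _ (hx u)
  | add u v hu hv => simp only [map_add]; exact add_mem hu hv

/-- Multiples of an ideal of the base after composition. -/
theorem InIdeal.post' {K : Ideal R} {x : WithConv (C →ₗ[R] T)}
    (hx : InIdeal (K.map (algebraMap R T)) x) (g : T →ₗ[R] T') :
    InIdeal (K.map (algebraMap R T')) (post g x) := fun a => map_mem_map g (hx a)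

theorem InIdeal.add' {K : Ideal T} {x y : WithConv (C →ₗ[R] T)} (hx : InIdeal K x) (hy : InIdeal K y) :
    InIdeal K (x + y) := fun a => by simpa using K.add_mem (hx a) (hy a)

theorem InIdeal.sub' {K : Ideal T} {x y : WithConv (C →ₗ[R] T)} (hx : InIdeal K x) (hy : InIdeal K y) :
    InIdeal K (x - y) := fun a => by simpa using K.sub_mem (hx a) (hy a)

theorem Cong.mul {K : Ideal R} {x x' y y' : WithConv (C →ₗ[R] T)} (h : Cong K x x') (h' : Cong K y y') :
    Cong K (x * y) (x' * y') := by
  show InIdeal _ _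
  rw [show x * y - x' * y' = (x - x') * y + x' * (y - y') by noncomm_ring]
  exact (h.mul_right y).add' (h'.mul_left x')

theorem Cong.post {K : Ideal R} {x y : WithConv (C →ₗ[R] T)} (h : Cong K x y) (g : T →ₗ[R] T') :
    Cong K (post g x) (post g y) := fun a => by
  show (MultT.post g x - MultT.post g y : WithConv (C →ₗ[R] T')) a ∈ _
  rw [← post_sub]
  exact map_mem_map g (h a)

theorem Cong.mono {K K' : Ideal R} (hK : K ≤ K') {x y : WithConv (C →ₗ[R] T)} (h : Cong K x y) :
    Cong K' x y := fun a => Ideal.map_mono hK (h a)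

theorem cong_bot {x y : WithConv (C →ₗ[R] T)} : Cong ⊥ x y ↔ x = y := by
  refine ⟨fun h => sub_eq_zero.1 (InIdeal.eq_zero fun a => ?_), fun h => h ▸ Cong.refl _ _⟩
  simpa [Ideal.map_bot] using h a

/-- The product of two multiples of an ideal. -/
theorem inIdeal_mul_sq {K : Ideal R} {x y : WithConv (C →ₗ[R] T)}
    (hx : InIdeal (K.map (algebraMap R T)) x) (hy : InIdeal (K.map (algebraMap R T)) y) :
    InIdeal ((K * K).map (algebraMap R T)) (x * y) := by
  rw [Ideal.map_mul]; exact hx.mul hy

end conv

/-- The law of the source pulled back along a map. -/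
noncomputable def lawQ (φ : C →ₐ[R] A) : WithConv (C →ₐ[R] A ⊗[R] A) :=
  toConv ((Bialgebra.comulAlgHom R A).comp φ)

/-- The law of the target along a map. -/
noncomputable def lawP (φ : C →ₐ[R] A) : WithConv (C →ₐ[R] A ⊗[R] A) :=
  toConv ((Algebra.TensorProduct.includeLeft : A →ₐ[R] A ⊗[R] A).comp φ) *
    toConv ((Algebra.TensorProduct.includeRight : A →ₐ[R] A ⊗[R] A).comp φ)

theorem lawP_apply (φ : C →ₐ[R] A) (x : C) :
    lawP φ x = Algebra.TensorProduct.map φ φ (comul (R := R) x) := by
  rw [lawP, AlgHom.convMul_apply]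
  induction comul (R := R) x using TensorProduct.induction_on with
  | zero => simp
  | tmul a b => simp
  | add a b ha hb => simp only [map_add, ha, hb]

/-- A homomorphism modulo an ideal. -/
def Good (K : Ideal R) (φ : C →ₐ[R] A) : Prop := Cong K (lin (lawQ φ)) (lin (lawP φ))

/-- One averaging step. -/
theorem exists_good_step [Coalgebra.IsCocomm R A] [Algebra.FormallySmooth R C] {l : A →ₗ[R] R}
    (hl : IsHaar l) (K : Ideal R) (hK : IsNilpotent K) (φ : C →ₐ[R] A) (hφ : Good K φ) :
    ∃ φ' : C →ₐ[R] A, Good (K * K) φ' ∧ Cong K (lin (toConv φ')) (lin (toConv φ)) := by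
  let i₁ : A →ₐ[R] A ⊗[R] A := Algebra.TensorProduct.includeLeft
  let i₂ : A →ₐ[R] A ⊗[R] A := Algebra.TensorProduct.includeRight
  let Δ : A →ₐ[R] A ⊗[R] A := Bialgebra.comulAlgHom R A
  let as := (Algebra.TensorProduct.assoc R R R A A A).toAlgHom
  let a : A ⊗[R] A →ₐ[R] A ⊗[R] (A ⊗[R] A) := as.comp (Algebra.TensorProduct.map Δ (AlgHom.id R A))
  let b : A ⊗[R] A →ₐ[R] A ⊗[R] (A ⊗[R] A) := Algebra.TensorProduct.map (AlgHom.id R A) Δ
  let il : A ⊗[R] A →ₐ[R] A ⊗[R] (A ⊗[R] A) := Algebra.TensorProduct.map (AlgHom.id R A) i₁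
  let ir : A ⊗[R] A →ₐ[R] A ⊗[R] (A ⊗[R] A) := Algebra.TensorProduct.includeRight
  have haΔ : a.comp Δ = b.comp Δ := AlgHom.ext fun x => Coalgebra.coassoc_apply x
  have hai₁ : a.comp i₁ = il.comp Δ := by
    refine AlgHom.ext fun x => ?_
    show as ((Algebra.TensorProduct.map Δ (AlgHom.id R A)) (x ⊗ₜ 1)) = il (Δ x)
    rw [Algebra.TensorProduct.map_tmul, map_one]
    induction Δ x using TensorProduct.induction_on with
    | zero => simp
    | tmul y z => simp [as, il, i₁]
    | add y z hy hz => simp only [TensorProduct.add_tmul, map_add, hy, hz]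
  have hai₂ : a.comp i₂ = ir.comp i₂ := AlgHom.ext fun x => by
    simp [a, as, ir, i₂, Δ, Algebra.TensorProduct.one_def]
  have hbi₁ : b.comp i₁ = il.comp i₁ := AlgHom.ext fun x => by
    simp [b, il, i₁, Δ, Algebra.TensorProduct.one_def]
  have hbi₂ : b.comp i₂ = ir.comp Δ := AlgHom.ext fun x => by simp [b, ir, i₂]
  have hli₂ : il.comp i₂ = ir.comp i₁ := AlgHom.ext fun x => by simp [il, ir, i₁, i₂]
  let p₁ := toConv (i₁.comp φ)
  let p₂ := toConv (i₂.comp φ)
  obtain ⟨e, hQ⟩ : ∃ e : WithConv (C →ₐ[R] A ⊗[R] A), lawQ φ = e * (p₁ * p₂) :=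
    ⟨lawQ φ * (lawP φ)⁻¹, (inv_mul_cancel_right _ (lawP φ)).symm⟩
  -- the cocycle identity
  have hco : ∀ g : A ⊗[R] A →ₐ[R] A ⊗[R] (A ⊗[R] A), ∀ f f' : WithConv (C →ₐ[R] A ⊗[R] A),
      toConv (g.comp (f * f').ofConv) = toConv (g.comp f.ofConv) * toConv (g.comp f'.ofConv) :=
    fun g f f' => congrArg toConv (AlgHom.comp_convMul_distrib g f f')
  let π₁ := toConv (il.comp p₁.ofConv)
  have hid : toConv (a.comp e.ofConv) * toConv (il.comp e.ofConv) =
      toConv (b.comp e.ofConv) * (π₁ * toConv (ir.comp e.ofConv) * π₁⁻¹) := by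
    have h1 : toConv (a.comp (lawQ φ).ofConv) = toConv (b.comp (lawQ φ).ofConv) :=
      congrArg (fun f => toConv (AlgHom.comp f φ)) haΔ
    rw [hQ, hco, hco, hco, hco,
      show toConv (a.comp p₁.ofConv) = toConv (il.comp (lawQ φ).ofConv) from
        congrArg (fun f => toConv (AlgHom.comp f φ)) hai₁,
      show toConv (a.comp p₂.ofConv) = toConv (ir.comp p₂.ofConv) from
        congrArg (fun f => toConv (AlgHom.comp f φ)) hai₂,
      show toConv (b.comp p₁.ofConv) = π₁ from congrArg (fun f => toConv (AlgHom.comp f φ)) hbi₁,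
      show toConv (b.comp p₂.ofConv) = toConv (ir.comp (lawQ φ).ofConv) from
        congrArg (fun f => toConv (AlgHom.comp f φ)) hbi₂,
      hQ, hco, hco, hco, hco,
      show toConv (il.comp p₂.ofConv) = toConv (ir.comp p₁.ofConv) from
        congrArg (fun f => toConv (AlgHom.comp f φ)) hli₂] at h1
    exact conv_cancel _ _ _ _ _ _ _ h1
  -- its linear form
  let δ : WithConv (C →ₗ[R] A ⊗[R] A) := lin e - 1
  have hδ : InIdeal (K.map (algebraMap R _)) δ := by
    have hδ' : δ = (lin (lawQ φ) - lin (lawP φ)) * lin (lawP φ)⁻¹ := by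
      rw [sub_mul, lin_mul_inv, ← lin_mul, hQ, show p₁ * p₂ = lawP φ from rfl, mul_inv_cancel_right]
    rw [hδ']
    exact hφ.mul_right _
  have hge : ∀ g : A ⊗[R] A →ₐ[R] A ⊗[R] (A ⊗[R] A),
      lin (toConv (g.comp e.ofConv)) = 1 + post g.toLinearMap δ := fun g => by
    rw [show δ = lin e - 1 from rfl, post_sub, post_one, post_lin, add_sub_cancel]
  let p := lin p₁
  let p' := lin p₁⁻¹
  let W := post il.toLinearMap p * post ir.toLinearMap δ * post il.toLinearMap p'
  have hπ : lin π₁⁻¹ = post il.toLinearMap p' := by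
    have h1 : post il.toLinearMap p' * lin π₁ = 1 := by
      rw [show lin π₁ = post il.toLinearMap p from rfl, ← post_mul, lin_inv_mul, post_one]
    exact (left_inv_eq_right_inv h1 (lin_mul_inv π₁)).symm
  have hlin : post a.toLinearMap δ + post il.toLinearMap δ +
      post a.toLinearMap δ * post il.toLinearMap δ =
      post b.toLinearMap δ + W + post b.toLinearMap δ * W := by
    have h1 := congrArg lin hid
    rw [lin_mul, lin_mul, lin_mul, lin_mul, hge, hge, hge, hge, hπ,
      show lin π₁ = post il.toLinearMap p from rfl] at h1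
    have hpp : post il.toLinearMap p * post il.toLinearMap p' = 1 := by
      rw [← post_mul, lin_mul_inv, post_one]
    have h2 : post il.toLinearMap p * (1 + post ir.toLinearMap δ) * post il.toLinearMap p' = 1 + W := by
      rw [mul_add, add_mul, mul_one, hpp]
    rw [h2] at h1
    exact conv_expand _ _ _ _ h1
  -- averaging
  let μ : A ⊗[R] A →ₗ[R] A := (TensorProduct.rid R A).toLinearMap ∘ₗ l.lTensor A
  have hμt : ∀ x y, μ (x ⊗ₜ y) = l y • x := fun x y => by simp [μ]
  let Lam : A ⊗[R] (A ⊗[R] A) →ₗ[R] A ⊗[R] A := μ.lTensor A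
  have hμΔ : ∀ x, μ (Δ x) = algebraMap R A (l x) := by
    intro x
    have h1 := congrArg (TensorProduct.lid R A) (hl.2 x)
    rw [TensorProduct.lid_tmul, ← Algebra.algebraMap_eq_smul_one, ← Coalgebra.comm_comul R x] at h1
    show μ (comul x) = _
    rw [← h1]
    induction comul (R := R) x using TensorProduct.induction_on with
    | zero => simp
    | tmul y z => simp [hμt]
    | add y z hy hz => simp only [map_add, hy, hz]
  have hLa : Lam ∘ₗ a.toLinearMap = Δ.toLinearMap ∘ₗ μ := by
    refine TensorProduct.ext' fun x y => ?_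
    show Lam (as ((Algebra.TensorProduct.map Δ (AlgHom.id R A)) (x ⊗ₜ y))) = Δ (μ (x ⊗ₜ y))
    rw [Algebra.TensorProduct.map_tmul, hμt, map_smul]
    induction Δ x using TensorProduct.induction_on with
    | zero => simp
    | tmul u v => simp [as, Lam, hμt, TensorProduct.tmul_smul]
    | add u v hu hv => simp only [TensorProduct.add_tmul, map_add, smul_add, hu, hv]
  have hLb : Lam ∘ₗ b.toLinearMap = i₁.toLinearMap ∘ₗ μ := by
    refine TensorProduct.ext' fun x y => ?_
    simp only [LinearMap.comp_apply, AlgHom.toLinearMap_apply, b, Lam, Algebra.TensorProduct.map_tmul,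
      AlgHom.id_apply, LinearMap.lTensor_tmul, hμΔ, hμt, i₁, Algebra.TensorProduct.includeLeft_apply]
    rw [Algebra.algebraMap_eq_smul_one, TensorProduct.tmul_smul, TensorProduct.smul_tmul']
  have hLl : Lam ∘ₗ il.toLinearMap = LinearMap.id :=
    TensorProduct.ext' fun x y => by simp [il, i₁, Lam, hμt, hl.1]
  have hLr : Lam ∘ₗ ir.toLinearMap = i₂.toLinearMap ∘ₗ μ :=
    TensorProduct.ext' fun x y => by simp [ir, i₂, Lam, hμt]
  have hLlin : ∀ (u : A ⊗[R] A) (z : A ⊗[R] (A ⊗[R] A)), Lam (il u * z) = u * Lam z := by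
    intro u z
    induction u using TensorProduct.induction_on with
    | zero => simp
    | add x y hx hy => simp only [map_add, add_mul, hx, hy]
    | tmul x y =>
      induction z using TensorProduct.induction_on with
      | zero => simp
      | add z w hz hw => simp only [mul_add, map_add, hz, hw]
      | tmul v w =>
        induction w using TensorProduct.induction_on with
        | zero => simp
        | add z w hz hw => simp only [TensorProduct.tmul_add, mul_add, map_add, hz, hw]
        | tmul v' w' => simp [il, i₁, Lam, hμt, TensorProduct.tmul_smul]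
  have hLmul : ∀ (f : WithConv (C →ₗ[R] A ⊗[R] A)) (g : WithConv (C →ₗ[R] A ⊗[R] (A ⊗[R] A))),
      post Lam (post il.toLinearMap f * g) = f * post Lam g ∧
        post Lam (g * post il.toLinearMap f) = post Lam g * f := by
    intro f g
    constructor <;> refine WithConv.ext (LinearMap.ext fun x => ?_) <;>
      rw [post_apply, LinearMap.convMul_apply, LinearMap.convMul_apply] <;>
      induction comul (R := R) x using TensorProduct.induction_on with
      | zero => simp
      | tmul u v =>
        simp only [TensorProduct.map_tmul, LinearMap.mul'_apply]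
        first
          | exact hLlin _ _
          | (rw [mul_comm]; exact (hLlin _ _).trans (mul_comm _ _))
      | add u v hu hv => simp only [map_add, hu, hv]
  let η : WithConv (C →ₗ[R] A) := post μ δ
  have hη : InIdeal (K.map (algebraMap R A)) η := fun x => map_mem_map μ (hδ x)
  have hW : post Lam W = p * post i₂.toLinearMap η * p' := by
    rw [(hLmul p' _).2, (hLmul p _).1, post_comp, hLr]
    rfl
  have hmain : Cong (K * K) (post Δ.toLinearMap η + δ)
      (post i₁.toLinearMap η + p * post i₂.toLinearMap η * p') := by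
    have h1 := congrArg (post Lam) hlin
    simp only [post_add] at h1
    rw [hW, post_comp, post_comp, post_comp, hLa, hLb, hLl] at h1
    have hq1 : InIdeal ((K * K).map (algebraMap R _))
        (post Lam (post a.toLinearMap δ * post il.toLinearMap δ)) := fun x =>
      map_mem_map Lam (inIdeal_mul_sq (hδ.post' _) (hδ.post' _) x)
    have hq2 : InIdeal ((K * K).map (algebraMap R _)) (post Lam (post b.toLinearMap δ * W)) := fun x =>
      map_mem_map Lam (inIdeal_mul_sq (hδ.post' _)
        (InIdeal.mul_right (InIdeal.mul_left (hδ.post' _) _) _) x)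
    show InIdeal _ _
    rw [show post Δ.toLinearMap η + δ - (post i₁.toLinearMap η + p * post i₂.toLinearMap η * p') =
      post Lam (post b.toLinearMap δ * W) - post Lam (post a.toLinearMap δ * post il.toLinearMap δ) by
        rw [eq_sub_iff_add_eq, sub_add_eq_add_sub, sub_eq_iff_eq_add]
        exact h1.trans (add_comm _ _)]
    exact hq2.sub' hq1
  -- the corrected map
  let mk := Ideal.Quotient.mkₐ R ((K * K).map (algebraMap R A))
  have hδ1 : δ 1 = 0 := by
    show (lin e) 1 - (1 : WithConv (C →ₗ[R] A ⊗[R] A)) 1 = 0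
    rw [lin_apply, LinearMap.convOne_apply, Bialgebra.counit_one, map_one]
    rw [map_one]; exact sub_self _
  have hδmul : ∀ x y, δ (x * y) = δ x * δ y + counit (R := R) y • δ x + counit (R := R) x • δ y := by
    intro x y
    have he : ∀ z, lin e z = δ z + algebraMap R _ (counit (R := R) z) := fun z => by
      show _ = (lin e - 1 : WithConv (C →ₗ[R] A ⊗[R] A)) z + _
      simp
    have h1 := he (x * y)
    rw [lin_apply, show e (x * y) = e x * e y from map_mul e.ofConv x y, ← lin_apply, ← lin_apply, he, he,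
      Bialgebra.counit_mul, map_mul (algebraMap R (A ⊗[R] A))] at h1
    rw [Algebra.smul_def, Algebra.smul_def]
    linear_combination -h1
  have hsub : ∀ z, z ∈ (K * K).map (algebraMap R A) → mk z = 0 := fun z hz =>
    Ideal.Quotient.eq_zero_iff_mem.2 hz
  let d₀ : C →ₗ[R] A ⧸ (K * K).map (algebraMap R A) :=
    mk.toLinearMap ∘ₗ (1 + η : WithConv (C →ₗ[R] A)).ofConv
  have hd₀ : ∀ x, d₀ x = mk (algebraMap R A (counit (R := R) x) + η x) := fun x => by simp [d₀]
  let d : C →ₐ[R] A ⧸ (K * K).map (algebraMap R A) := AlgHom.ofLinearMap d₀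
    (by rw [hd₀, Bialgebra.counit_one, map_one, show η 1 = μ (δ 1) from rfl, hδ1, map_zero, add_zero, map_one])
    (fun x y => by
      rw [hd₀, hd₀, hd₀, ← map_mul, Bialgebra.counit_mul, map_mul]
      have h1 : η (x * y) = μ (δ x * δ y) + counit (R := R) y • η x + counit (R := R) x • η y := by
        show μ (δ (x * y)) = _
        rw [hδmul, map_add, map_add, map_smul, map_smul]
        rfl
      have h2 : μ (δ x * δ y) ∈ (K * K).map (algebraMap R A) := map_mem_map μ (by
        rw [Ideal.map_mul]; exact Ideal.mul_mem_mul (hδ x) (hδ y))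
      have h3 : η x * η y ∈ (K * K).map (algebraMap R A) := by
        rw [Ideal.map_mul]; exact Ideal.mul_mem_mul (hη x) (hη y)
      rw [← sub_eq_zero, ← map_sub]
      refine hsub _ ?_
      rw [h1, Algebra.smul_def, Algebra.smul_def]
      convert Ideal.sub_mem _ h2 h3 using 1
      ring)
  let g := (toConv d * toConv (mk.comp φ)).ofConv
  have hnil : IsNilpotent ((K * K).map (algebraMap R A)) := by
    obtain ⟨n, hn⟩ := hK
    refine ⟨n, ?_⟩
    rw [← Ideal.map_pow, mul_pow, hn, zero_mul, Ideal.zero_eq_bot, Ideal.map_bot]; rfl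
  let φ' := Algebra.FormallySmooth.lift _ hnil g
  let F : WithConv (C →ₗ[R] A) := lin (toConv φ)
  have hφ' : Cong (K * K) (lin (toConv φ')) ((1 + η) * F) := by
    intro x
    rw [← Ideal.Quotient.eq_zero_iff_mem]
    have h1 : post mk.toLinearMap (lin (toConv φ')) = post mk.toLinearMap ((1 + η) * F) := by
      rw [post_mul]
      refine WithConv.ext (LinearMap.ext fun y => ?_)
      show mk (φ' y) = _
      exact Algebra.FormallySmooth.mk_lift _ hnil g y
    have h2 : (post mk.toLinearMap (lin (toConv φ') - (1 + η) * F)) x = 0 := by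
      rw [post_sub, h1, sub_self]; rfl
    exact h2
  refine ⟨φ', ?_, ?_⟩
  · have hQ' : Cong (K * K) (lin (lawQ φ'))
        ((1 + (post Δ.toLinearMap η + δ)) * lin (lawP φ)) := by
      refine (hφ'.post Δ.toLinearMap).trans ?_
      rw [post_mul, post_add, post_one,
        show post Δ.toLinearMap F = lin (lawQ φ) from rfl,
        show lin (lawQ φ) = (1 + δ) * lin (lawP φ) by
          rw [show δ = lin e - 1 from rfl, add_sub_cancel, ← lin_mul, hQ]; rfl]
      show InIdeal _ _
      rw [show (1 + post Δ.toLinearMap η) * ((1 + δ) * lin (lawP φ)) -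
        (1 + (post Δ.toLinearMap η + δ)) * lin (lawP φ) =
        post Δ.toLinearMap η * δ * lin (lawP φ) by noncomm_ring]
      exact (inIdeal_mul_sq (hη.post' _) hδ).mul_right _
    have hP' : Cong (K * K) (lin (lawP φ'))
        ((1 + (post i₁.toLinearMap η + p * post i₂.toLinearMap η * p')) * lin (lawP φ)) := by
      have h1 : Cong (K * K) (lin (lawP φ'))
          ((post i₁.toLinearMap ((1 + η) * F)) * (post i₂.toLinearMap ((1 + η) * F))) :=
        (hφ'.post i₁.toLinearMap).mul (hφ'.post i₂.toLinearMap)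
      refine h1.trans ?_
      rw [post_mul, post_mul, post_add, post_add, post_one, post_one,
        show post i₁.toLinearMap F = p from rfl, show post i₂.toLinearMap F = lin p₂ from rfl,
        show lin (lawP φ) = p * lin p₂ from rfl]
      show InIdeal _ _
      have hpp : p' * p = 1 := lin_inv_mul p₁
      have key : ∀ x y q P P' : WithConv (C →ₗ[R] A ⊗[R] A), P' * P = 1 →
          (1 + x) * P * ((1 + y) * q) - (1 + (x + P * y * P')) * (P * q) = x * (P * y) * q := by
        intro x y q P P' h
        have e1 : P * y * P' * (P * q) = P * y * q := by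
          rw [← mul_assoc, mul_assoc (P * y) P' P, h, mul_one]
        rw [show (1 + (x + P * y * P')) * (P * q) = (1 + x) * (P * q) + P * y * P' * (P * q) by noncomm_ring,
          e1]
        noncomm_ring
      rw [key _ _ _ p p' hpp]
      exact (inIdeal_mul_sq (hη.post' _)
        (InIdeal.mul_left (hη.post' _) _)).mul_right _
    refine hQ'.trans (Cong.trans ?_ hP'.symm)
    refine Cong.mul (fun x => ?_) (Cong.refl _ _)
    simpa only [add_sub_add_left_eq_sub] using! hmain x
  · refine (hφ'.mono Ideal.mul_le_left).trans ?_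
    show InIdeal _ _
    rw [show (1 + η) * F - lin (toConv φ) = η * F by rw [add_mul, one_mul, add_sub_cancel_left]]
    exact hη.mul_right _

/-- Homomorphisms modulo a nilpotent ideal lift. -/
theorem exists_lift_of_good (hA : SGA3b.IsMultType R A) [Algebra.FormallySmooth R C] (I : Ideal R)
    (hI : IsNilpotent I) (φ₀ : C →ₐ[R] A) (h₀ : Good I φ₀) :
    ∃ φ : C →ₐc[R] A, ∀ x, (φ x) - φ₀ x ∈ I.map (algebraMap R A) := by
  haveI := isCocomm hA
  obtain ⟨l, hl⟩ := exists_isHaar hA
  obtain ⟨N, hN⟩ := hI
  have main : ∀ j : ℕ, ∃ φ : C →ₐ[R] A, Good (I ^ 2 ^ j) φ ∧ Cong I (lin (toConv φ)) (lin (toConv φ₀)) := by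
    intro j
    induction j with
    | zero => exact ⟨φ₀, by rw [pow_zero, pow_one]; exact h₀, Cong.refl _ _⟩
    | succ j ih =>
      obtain ⟨φ, hg, hc⟩ := ih
      obtain ⟨φ', hg', hc'⟩ := exists_good_step hl (I ^ 2 ^ j)
        ⟨N, by rw [← pow_mul, mul_comm, pow_mul, hN, zero_pow (by positivity)]⟩ φ hg
      refine ⟨φ', by rwa [pow_succ, pow_mul, pow_two], (hc'.mono ?_).trans hc⟩
      exact Ideal.pow_le_self (by positivity)
  obtain ⟨φ, hg, hc⟩ := main N
  have hQP : lawQ φ = lawP φ := by
    have h0 : I ^ 2 ^ N = ⊥ := le_bot_iff.1 ((Ideal.pow_le_pow_right Nat.lt_two_pow_self.le).trans hN.le)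
    rw [Good, h0, cong_bot] at hg
    exact WithConv.ext (AlgHom.ext fun x => congrArg (fun f : WithConv (C →ₗ[R] A ⊗[R] A) => f x) hg)
  have hc2 : (Bialgebra.counitAlgHom R A).comp φ = Bialgebra.counitAlgHom R C := by
    let ε := Bialgebra.counitAlgHom R A
    let u : WithConv (C →ₐ[R] R) := toConv (ε.comp φ)
    let m : A ⊗[R] A →ₐ[R] R := Algebra.TensorProduct.lift ε ε fun _ _ => Commute.all _ _
    have hm : m.comp (Bialgebra.comulAlgHom R A) = ε := by
      refine AlgHom.ext fun x => ?_
      show m (comul x) = ε x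
      have key : ∀ t : A ⊗[R] A, m t = ε (TensorProduct.rid R A ((counit (R := R)).lTensor A t)) := by
        intro t
        induction t using TensorProduct.induction_on with
        | zero => simp
        | tmul y z => simp [m, ε, mul_comm]
        | add y z hy hz => simp only [map_add, hy, hz]
      rw [key, Coalgebra.lTensor_counit_comul, TensorProduct.rid_tmul, one_smul]
    have h1 : u = u * u := by
      have h2 := congrArg (fun f : WithConv (C →ₐ[R] A ⊗[R] A) => toConv (m.comp f.ofConv)) hQP
      simp only [lawP, AlgHom.comp_convMul_distrib] at h2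
      rw [lawQ, ofConv_toConv, ← AlgHom.comp_assoc, hm, ofConv_toConv, ofConv_toConv,
        ← AlgHom.comp_assoc, ← AlgHom.comp_assoc] at h2
      rw [show m.comp Algebra.TensorProduct.includeLeft = ε from AlgHom.ext fun y => by simp [m],
        show m.comp Algebra.TensorProduct.includeRight = ε from AlgHom.ext fun y => by simp [m]] at h2
      exact h2
    have h3 : u = 1 := (left_eq_mul.1 h1)
    exact congrArg WithConv.ofConv h3 |>.trans (AlgHom.ext fun x => by simp [AlgHom.convOne_apply])
  refine ⟨BialgHom.ofAlgHom φ hc2 (AlgHom.ext fun x => ?_), fun x => by simpa using! hc x⟩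
  show Algebra.TensorProduct.map φ φ (comul x) = comul (φ x)
  rw [← lawP_apply, ← hQP]
  rfl

end Groth.Agent.MultT
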