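import Groth.Agent.MultT.HochApply
import Mathlib

/-! Relative lifting: adjusting a homomorphism by conjugation. -/

set_option autoImplicit false
set_option synthInstance.maxHeartbeats 400000

open TensorProduct WithConv Coalgebra

universe u

namespace Groth.Agent.MultT

variable {R : Type u} [CommRing R] {A₁ : Type u} [CommRing A₁] [HopfAlgebra R A₁]
  {A : Type u} [CommRing A] [HopfAlgebra R A]
  {C : Type u} [CommRing C] [HopfAlgebra R C]

theorem conv_conj_mul {T : Type u} [CommRing T] [Algebra R T] (p a b : WithConv (C →ₐ[R] T)) :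
    p * (a * b) * p⁻¹ = p * a * p⁻¹ * (p * b * p⁻¹) := by group

theorem conv_cancel_two {T : Type u} [CommRing T] [Algebra R T] (x e e' p q : WithConv (C →ₐ[R] T))
    (h : x * (p * q) = e * p * (e' * q)) : x = e * p * e' * p⁻¹ := by
  have h2 : x * p * q = e * p * e' * q := by simpa only [mul_assoc] using h
  exact eq_mul_inv_of_mul_eq (mul_right_cancel h2)

theorem comp_inv {T T' : Type u} [CommRing T] [Algebra R T] [CommRing T'] [Algebra R T']
    (g : T →ₐ[R] T') (f : WithConv (C →ₐ[R] T)) :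
    (toConv (g.comp f.ofConv))⁻¹ = toConv (g.comp (f⁻¹).ofConv) := rfl

/-- The conjugate of a homomorphism by a rational point. -/
theorem exists_conj (γ : C →ₐc[R] A) (u : WithConv (C →ₐ[R] R)) :
    ∃ γ' : C →ₐc[R] A, toConv (γ' : C →ₐ[R] A) =
      toConv ((Algebra.ofId R A).comp u.ofConv) * toConv (γ : C →ₐ[R] A) *
        (toConv ((Algebra.ofId R A).comp u.ofConv))⁻¹ := by
  let p := toConv ((Algebra.ofId R A).comp u.ofConv)
  let f := (p * toConv (γ : C →ₐ[R] A) * p⁻¹).ofConv
  have hp : ∀ {T : Type u} [CommRing T] [Algebra R T] (g : A →ₐ[R] T),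
      toConv (g.comp f) = toConv ((Algebra.ofId R T).comp u.ofConv) * toConv (g.comp (γ : C →ₐ[R] A)) *
        (toConv ((Algebra.ofId R T).comp u.ofConv))⁻¹ := by
    intro T _ _ g
    simp only [f, AlgHom.comp_convMul_distrib]
    rw [show g.comp p.ofConv = (Algebra.ofId R T).comp u.ofConv from AlgHom.ext fun x => g.commutes _,
      show g.comp (p⁻¹).ofConv = ((toConv ((Algebra.ofId R T).comp u.ofConv))⁻¹).ofConv from
        AlgHom.ext fun x => g.commutes _]

  have hε : toConv ((Bialgebra.counitAlgHom R A).comp f) = 1 := by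
    rw [hp, show toConv ((Bialgebra.counitAlgHom R A).comp (γ : C →ₐ[R] A)) = 1 from
      WithConv.ext (AlgHom.ext fun x => by
        show counit (γ x) = (1 : WithConv (C →ₐ[R] R)) x
        rw [AlgHom.convOne_apply, CoalgHomClass.counit_comp_apply]; rfl), mul_one, mul_inv_cancel]
  have hP : lawQ f = lawP f := by
    rw [lawP, hp, hp, lawQ, hp, show toConv ((Bialgebra.comulAlgHom R A).comp (γ : C →ₐ[R] A)) =
      lawP (γ : C →ₐ[R] A) from WithConv.ext (AlgHom.ext fun x => by
        show comul (γ x) = lawP (γ : C →ₐ[R] A) x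
        rw [lawP_apply]
        exact (CoalgHomClass.map_comp_comul_apply γ x).symm)]
    exact conv_conj_mul _ _ _
  refine ⟨BialgHom.ofAlgHom f ?_ (AlgHom.ext fun x => ?_), rfl⟩
  · exact (congrArg WithConv.ofConv hε).trans (AlgHom.ext fun x => by simp [AlgHom.convOne_apply])
  · show Algebra.TensorProduct.map f f (comul x) = comul (f x)
    rw [← lawP_apply, ← hP]
    rfl

/-- One step of the adjustment. -/
theorem exists_conj_step [Coalgebra.IsCocomm R A₁] [Algebra.FormallySmooth R C] {l : A₁ →ₗ[R] R}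
    (hl : IsHaar l) (K : Ideal R) (hK : IsNilpotent K) (α : A →ₐc[R] A₁) (β : C →ₐc[R] A₁)
    (γ : C →ₐc[R] A)
    (h : Cong K (lin (toConv ((α : A →ₐ[R] A₁).comp (γ : C →ₐ[R] A)))) (lin (toConv (β : C →ₐ[R] A₁)))) :
    ∃ γ' : C →ₐc[R] A,
      Cong (K * K) (lin (toConv ((α : A →ₐ[R] A₁).comp (γ' : C →ₐ[R] A))))
        (lin (toConv (β : C →ₐ[R] A₁))) ∧
      Cong K (lin (toConv (γ' : C →ₐ[R] A))) (lin (toConv (γ : C →ₐ[R] A))) := by
  let i₁ : A₁ →ₐ[R] A₁ ⊗[R] A₁ := Algebra.TensorProduct.includeLeft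
  let i₂ : A₁ →ₐ[R] A₁ ⊗[R] A₁ := Algebra.TensorProduct.includeRight
  let Δ : A₁ →ₐ[R] A₁ ⊗[R] A₁ := Bialgebra.comulAlgHom R A₁
  let ι : R →ₐ[R] A₁ := Algebra.ofId R A₁
  let b := toConv (β : C →ₐ[R] A₁)
  let w := toConv ((α : A →ₐ[R] A₁).comp (γ : C →ₐ[R] A))
  obtain ⟨e, hw⟩ : ∃ e, w = e * b := ⟨w * b⁻¹, (inv_mul_cancel_right w b).symm⟩
  have hhom : ∀ δ : C →ₐc[R] A₁, toConv (Δ.comp (δ : C →ₐ[R] A₁)) =
      toConv (i₁.comp (δ : C →ₐ[R] A₁)) * toConv (i₂.comp (δ : C →ₐ[R] A₁)) := fun δ =>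
    WithConv.ext (AlgHom.ext fun x => by
      show comul (δ x) = lawP (δ : C →ₐ[R] A₁) x
      rw [lawP_apply]
      exact (CoalgHomClass.map_comp_comul_apply δ x).symm)
  let ζ : WithConv (C →ₗ[R] A₁) := lin e - 1
  have hζ : InIdeal (K.map (algebraMap R A₁)) ζ := by
    have h1 : ζ = (lin w - lin b) * lin b⁻¹ := by
      rw [sub_mul, lin_mul_inv, ← lin_mul, hw, mul_inv_cancel_right]
    rw [h1]
    exact h.mul_right _
  have hge : ∀ g : A₁ →ₐ[R] A₁ ⊗[R] A₁, lin (toConv (g.comp e.ofConv)) = 1 + post g.toLinearMap ζ :=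
    fun g => by rw [show ζ = lin e - 1 from rfl, post_sub, post_one, post_lin, add_sub_cancel]
  have hid : toConv (Δ.comp e.ofConv) =
      toConv (i₁.comp e.ofConv) * toConv (i₁.comp b.ofConv) * toConv (i₂.comp e.ofConv) *
        (toConv (i₁.comp b.ofConv))⁻¹ := by
    have h1 : toConv (Δ.comp w.ofConv) = toConv (i₁.comp w.ofConv) * toConv (i₂.comp w.ofConv) :=
      hhom (α.comp γ)
    rw [hw, show toConv (Δ.comp (e * b).ofConv) = toConv (Δ.comp e.ofConv) * toConv (Δ.comp b.ofConv) from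
        congrArg toConv (AlgHom.comp_convMul_distrib _ _ _),
      show toConv (i₁.comp (e * b).ofConv) = toConv (i₁.comp e.ofConv) * toConv (i₁.comp b.ofConv) from
        congrArg toConv (AlgHom.comp_convMul_distrib _ _ _),
      show toConv (i₂.comp (e * b).ofConv) = toConv (i₂.comp e.ofConv) * toConv (i₂.comp b.ofConv) from
        congrArg toConv (AlgHom.comp_convMul_distrib _ _ _),
      show toConv (Δ.comp b.ofConv) = toConv (i₁.comp b.ofConv) * toConv (i₂.comp b.ofConv) from hhom β] at h1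
    exact conv_cancel_two _ _ _ _ _ h1
  let μ : A₁ ⊗[R] A₁ →ₗ[R] A₁ := (TensorProduct.rid R A₁).toLinearMap ∘ₗ l.lTensor A₁
  have hμt : ∀ x y, μ (x ⊗ₜ y) = l y • x := fun x y => by simp [μ]
  have hμΔ : μ ∘ₗ Δ.toLinearMap = ι.toLinearMap ∘ₗ l := by
    refine LinearMap.ext fun x => ?_
    have h1 := congrArg (TensorProduct.lid R A₁) (hl.2 x)
    rw [TensorProduct.lid_tmul, ← Algebra.algebraMap_eq_smul_one, ← Coalgebra.comm_comul R x] at h1
    show μ (comul x) = algebraMap R A₁ (l x)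
    rw [← h1]
    induction comul (R := R) x using TensorProduct.induction_on with
    | zero => simp
    | tmul y z => simp [hμt]
    | add y z hy hz => simp only [map_add, hy, hz]
  have hμ₁ : μ ∘ₗ i₁.toLinearMap = LinearMap.id := LinearMap.ext fun x => by simp [hμt, i₁, hl.1]
  have hμ₂ : μ ∘ₗ i₂.toLinearMap = ι.toLinearMap ∘ₗ l :=
    LinearMap.ext fun x => by simp [hμt, i₂, ι, Algebra.algebraMap_eq_smul_one, Algebra.ofId_apply]
  have hμlin : ∀ (x : A₁) (z : A₁ ⊗[R] A₁), μ (i₁ x * z) = x * μ z := by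
    intro x z
    induction z using TensorProduct.induction_on with
    | zero => simp
    | add z w hz hw => simp only [mul_add, map_add, hz, hw]
    | tmul v v' => simp [i₁, hμt]
  have hμmul : ∀ (f : WithConv (C →ₗ[R] A₁)) (g : WithConv (C →ₗ[R] A₁ ⊗[R] A₁)),
      post μ (post i₁.toLinearMap f * g) = f * post μ g ∧
        post μ (g * post i₁.toLinearMap f) = post μ g * f := by
    intro f g
    constructor <;> refine WithConv.ext (LinearMap.ext fun x => ?_) <;>
      rw [post_apply, LinearMap.convMul_apply, LinearMap.convMul_apply] <;>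
      induction comul (R := R) x using TensorProduct.induction_on with
      | zero => simp
      | tmul u v =>
        simp only [TensorProduct.map_tmul, LinearMap.mul'_apply]
        first
          | exact hμlin _ _
          | (rw [mul_comm]; exact (hμlin _ _).trans (mul_comm _ _))
      | add u v hu hv => simp only [map_add, hu, hv]
  let c : WithConv (C →ₗ[R] R) := post l ζ
  have hc : InIdeal (K.map (algebraMap R R)) c := hζ.post' _
  let c₁ := post ι.toLinearMap c
  have hc₁ : InIdeal (K.map (algebraMap R A₁)) c₁ := hc.post' _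
  let p := lin b
  let p' := lin b⁻¹
  have hmain : Cong (K * K) c₁ (ζ + p * c₁ * p') := by
    have h1 := congrArg lin hid
    rw [lin_mul, lin_mul, lin_mul, hge, hge, hge,
      show lin (toConv (i₁.comp b.ofConv)) = post i₁.toLinearMap p from rfl,
      show lin (toConv (i₁.comp b.ofConv))⁻¹ = post i₁.toLinearMap p' from rfl] at h1
    have hpp : post i₁.toLinearMap p * post i₁.toLinearMap p' = 1 := by
      rw [← post_mul, lin_mul_inv, post_one]
    have h2 : ∀ (P P' X Y : WithConv (C →ₗ[R] A₁ ⊗[R] A₁)), P * P' = 1 →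
        (1 + X) * P * (1 + Y) * P' = 1 + (X + P * Y * P' + X * (P * Y * P')) := by
      intro P P' X Y h
      have e1 : (1 + X) * P * (1 + Y) * P' = (1 + X) * (P * P' + P * Y * P') := by noncomm_ring
      rw [e1, h]
      noncomm_ring
    rw [h2 _ _ _ _ hpp] at h1
    have h3 := congrArg (post μ) (add_left_cancel h1)
    rw [post_add, post_add, (hμmul p' _).2, (hμmul p _).1, post_comp, post_comp, post_comp, hμΔ, hμ₁, hμ₂]
      at h3
    show InIdeal _ _
    have hq : InIdeal ((K * K).map (algebraMap R A₁)) (post μ (post i₁.toLinearMap ζ *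
        (post i₁.toLinearMap p * post i₂.toLinearMap ζ * post i₁.toLinearMap p'))) :=
      (inIdeal_mul_sq (hζ.post' _) (((hζ.post' _).mul_left _).mul_right _)).post' _
    rw [show c₁ - (ζ + p * c₁ * p') = post μ (post i₁.toLinearMap ζ *
        (post i₁.toLinearMap p * post i₂.toLinearMap ζ * post i₁.toLinearMap p')) by
      rw [sub_eq_iff_eq_add]
      exact h3.trans (add_comm _ _)]
    exact hq
  have he : ∀ z, lin e z = ζ z + algebraMap R A₁ (counit (R := R) z) := fun z => by
    show _ = (lin e - 1 : WithConv (C →ₗ[R] A₁)) z + _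
    simp
  have hζ1 : ζ 1 = 0 := by
    show (lin e) 1 - (1 : WithConv (C →ₗ[R] A₁)) 1 = 0
    rw [lin_apply, LinearMap.convOne_apply, Bialgebra.counit_one, map_one]
    rw [map_one]; exact sub_self _
  have hζmul : ∀ x y, ζ (x * y) = ζ x * ζ y + counit (R := R) y • ζ x + counit (R := R) x • ζ y := by
    intro x y
    have h1 := he (x * y)
    rw [lin_apply, show e (x * y) = e x * e y from map_mul e.ofConv x y, ← lin_apply, ← lin_apply, he, he,
      Bialgebra.counit_mul, map_mul (algebraMap R A₁)] at h1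
    rw [Algebra.smul_def, Algebra.smul_def]
    linear_combination -h1
  let mk := Ideal.Quotient.mkₐ R ((K * K).map (algebraMap R R))
  let d₀ : C →ₗ[R] R ⧸ (K * K).map (algebraMap R R) :=
    mk.toLinearMap ∘ₗ (1 - c : WithConv (C →ₗ[R] R)).ofConv
  have hd₀ : ∀ x, d₀ x = mk (counit (R := R) x - c x) := fun x => by simp [d₀]
  let d : C →ₐ[R] R ⧸ (K * K).map (algebraMap R R) := AlgHom.ofLinearMap d₀
    (by rw [hd₀, Bialgebra.counit_one, show c 1 = l (ζ 1) from rfl, hζ1, map_zero, sub_zero, map_one])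
    (fun x y => by
      rw [hd₀, hd₀, hd₀, ← map_mul, Bialgebra.counit_mul]
      have h1 : c (x * y) = l (ζ x * ζ y) + counit (R := R) y * c x + counit (R := R) x * c y := by
        show l (ζ (x * y)) = _
        rw [hζmul, map_add, map_add, map_smul, map_smul]
        rfl
      have h2 : l (ζ x * ζ y) ∈ (K * K).map (algebraMap R R) := map_mem_map l (by
        rw [Ideal.map_mul]; exact Ideal.mul_mem_mul (hζ x) (hζ y))
      have h3 : c x * c y ∈ (K * K).map (algebraMap R R) := by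
        rw [Ideal.map_mul]; exact Ideal.mul_mem_mul (hc x) (hc y)
      rw [← sub_eq_zero, ← map_sub]
      refine Ideal.Quotient.eq_zero_iff_mem.2 ?_
      rw [h1]
      convert Ideal.neg_mem_iff _ |>.2 (Ideal.add_mem _ h2 h3) using 1
      ring)
  have hnil : IsNilpotent ((K * K).map (algebraMap R R)) := by
    obtain ⟨n, hn⟩ := hK
    refine ⟨n, ?_⟩
    rw [← Ideal.map_pow, mul_pow, hn, zero_mul, Ideal.zero_eq_bot, Ideal.map_bot]
  let u := toConv (Algebra.FormallySmooth.lift _ hnil d)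
  have hu : Cong (K * K) (lin u) (1 - c) := by
    intro x
    rw [← Ideal.Quotient.eq_zero_iff_mem]
    have h1 : post mk.toLinearMap (lin u) = post mk.toLinearMap (1 - c) :=
      WithConv.ext (LinearMap.ext fun y => Algebra.FormallySmooth.mk_lift _ hnil d y)
    have h2 : (post mk.toLinearMap (lin u - (1 - c))) x = 0 := by
      rw [post_sub, h1, sub_self]; rfl
    exact h2
  obtain ⟨γ', hγ'⟩ := exists_conj γ u
  let v := lin (toConv (ι.comp u.ofConv))
  let v' := lin (toConv (ι.comp u.ofConv))⁻¹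
  have hv : Cong (K * K) v (1 - c₁) := by
    have := hu.post ι.toLinearMap
    rwa [post_sub, post_one] at this
  have hv' : Cong (K * K) v' (1 + c₁) := by
    have h1 : Cong (K * K) (v * (1 + c₁)) 1 := by
      refine (hv.mul (Cong.refl _ _)).trans ?_
      show InIdeal _ _
      rw [show (1 - c₁) * (1 + c₁) - 1 = -c₁ * c₁ by noncomm_ring]
      refine inIdeal_mul_sq (fun x => ?_) hc₁
      simpa using (Ideal.neg_mem_iff _).2 (hc₁ x)
    have h2 := (Cong.refl (K * K) v').mul h1
    rw [mul_one, ← mul_assoc, lin_inv_mul, one_mul] at h2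
    exact h2.symm
  have hlinγ' : lin (toConv ((α : A →ₐ[R] A₁).comp (γ' : C →ₐ[R] A))) = v * lin w * v' := by
    have h1 : toConv ((α : A →ₐ[R] A₁).comp (γ' : C →ₐ[R] A)) =
        toConv (ι.comp u.ofConv) * w * (toConv (ι.comp u.ofConv))⁻¹ := by
      rw [show (γ' : C →ₐ[R] A) = (toConv (γ' : C →ₐ[R] A)).ofConv from rfl, hγ']
      simp only [AlgHom.comp_convMul_distrib]
      rw [show (α : A →ₐ[R] A₁).comp ((Algebra.ofId R A).comp u.ofConv) = ι.comp u.ofConv from
          AlgHom.ext fun x => AlgHomClass.commutes α _,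
        show (α : A →ₐ[R] A₁).comp ((toConv ((Algebra.ofId R A).comp u.ofConv))⁻¹).ofConv =
          ((toConv (ι.comp u.ofConv))⁻¹).ofConv from AlgHom.ext fun x => AlgHomClass.commutes α _]

    rw [h1, lin_mul, lin_mul]
  refine ⟨γ', ?_, ?_⟩
  · rw [hlinγ']
    refine ((hv.mul (Cong.refl _ _)).mul hv').trans ?_
    rw [show lin w = (1 + ζ) * p by rw [show ζ = lin e - 1 from rfl, add_sub_cancel, ← lin_mul, hw]]
    show InIdeal _ _
    have key : ∀ P P' Z c : WithConv (C →ₗ[R] A₁), P' * P = 1 →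
        (1 - c) * ((1 + Z) * P) * (1 + c) - P =
          -(c - (Z + P * c * P')) * P + (-c * Z * P * (1 + c) + -c * P * c + Z * P * c) := by
      intro P P' Z c h
      have e1 : P * c * P' * P = P * c := by rw [mul_assoc, h, mul_one]
      rw [show -(c - (Z + P * c * P')) * P = -(c * P) + Z * P + P * c * P' * P by noncomm_ring, e1]
      noncomm_ring
    rw [key p p' ζ c₁ (lin_inv_mul b)]
    have hn : InIdeal (K.map (algebraMap R A₁)) (-c₁) := fun x => by
      simpa using (Ideal.neg_mem_iff _).2 (hc₁ x)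
    refine (InIdeal.mul_right (fun x => ?_) _).add' ((((inIdeal_mul_sq hn hζ).mul_right _).mul_right _).add'
      (inIdeal_mul_sq (hn.mul_right _) hc₁) |>.add' (inIdeal_mul_sq (hζ.mul_right _) hc₁))
    simpa using (Ideal.neg_mem_iff _).2 (hmain x)
  · rw [hγ', lin_mul, lin_mul]
    have hnc : Cong K (lin u) 1 := (hu.mono Ideal.mul_le_left).trans (fun x => by
      simpa using (Ideal.neg_mem_iff _).2 (hc x))
    have h1 := hnc.post (Algebra.ofId R A).toLinearMap
    rw [post_one] at h1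
    set V := lin (toConv ((Algebra.ofId R A).comp u.ofConv))
    set V' := lin (toConv ((Algebra.ofId R A).comp u.ofConv))⁻¹
    have h2 : Cong K V' 1 := by
      have := ((Cong.refl K V').mul (show Cong K V 1 from h1))
      rw [mul_one, lin_inv_mul] at this
      exact this.symm
    have h3 := ((show Cong K V 1 from h1).mul (Cong.refl K (lin (toConv (γ : C →ₐ[R] A))))).mul h2
    rwa [one_mul, mul_one] at h3

/-- Relative lifting. -/
theorem exists_lift_relative (h₁ : SGA3b.IsMultType R A₁) (hA : SGA3b.IsMultType R A)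
    [Algebra.FormallySmooth R C] (I : Ideal R) (hI : IsNilpotent I) (α : A →ₐc[R] A₁) (β : C →ₐc[R] A₁)
    (γ₀ : ((R ⧸ I) ⊗[R] C) →ₐc[R ⧸ I] ((R ⧸ I) ⊗[R] A))
    (h0 : ∀ c : C, Algebra.TensorProduct.map (AlgHom.id (R ⧸ I) (R ⧸ I)) (α : A →ₐ[R] A₁)
      (γ₀ ((1 : R ⧸ I) ⊗ₜ[R] c)) = (1 : R ⧸ I) ⊗ₜ[R] (β c)) :
    ∃ γ : C →ₐc[R] A, (∀ c, γ₀ ((1 : R ⧸ I) ⊗ₜ[R] c) = (1 : R ⧸ I) ⊗ₜ[R] (γ c)) ∧
      ∀ c, α (γ c) = β c := by
  haveI := isCocomm h₁
  obtain ⟨γ, hγ⟩ := exists_lift_reduction I hA hI γ₀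
  obtain ⟨l, hl⟩ := exists_isHaar h₁
  obtain ⟨N, hN⟩ := hI
  have main : ∀ j : ℕ, ∃ γ' : C →ₐc[R] A,
      Cong (I ^ 2 ^ j) (lin (toConv ((α : A →ₐ[R] A₁).comp (γ' : C →ₐ[R] A))))
        (lin (toConv (β : C →ₐ[R] A₁))) ∧
      Cong I (lin (toConv (γ' : C →ₐ[R] A))) (lin (toConv (γ : C →ₐ[R] A))) := by
    intro j
    induction j with
    | zero =>
      refine ⟨γ, fun x => ?_, Cong.refl _ _⟩
      rw [pow_zero, pow_one]
      show α (γ x) - β x ∈ _
      rw [sub_mem_map_iff_tmul, ← h0, hγ]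
      rfl
    | succ j ih =>
      obtain ⟨γ', h1, h2⟩ := ih
      obtain ⟨γ'', h1', h2'⟩ := exists_conj_step hl (I ^ 2 ^ j)
        ⟨N, by rw [← pow_mul, mul_comm, pow_mul, hN, zero_pow (by positivity)]⟩ α β γ' h1
      refine ⟨γ'', by rwa [pow_succ, pow_mul, pow_two], (h2'.mono ?_).trans h2⟩
      exact Ideal.pow_le_self (by positivity)
  obtain ⟨γ', h1, h2⟩ := main N
  have h0' : I ^ 2 ^ N = ⊥ := le_bot_iff.1 ((Ideal.pow_le_pow_right Nat.lt_two_pow_self.le).trans hN.le)
  rw [h0', cong_bot] at h1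
  refine ⟨γ', fun c => ?_, fun c => congrArg (fun f : WithConv (C →ₗ[R] A₁) => f c) h1⟩
  rw [hγ]
  exact ((sub_mem_map_iff_tmul I).1 (by simpa using! h2 c)).symm

end Groth.Agent.MultT
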