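import Groth.Agent.FlatSpread.Sys
import Groth.Agent.AdicBasics.Dimension
import Mathlib

/-!
A flat spreading of an algebra flat along the closed fibre to a finitely generated stage, and complete
local rings over a stage.
-/

set_option autoImplicit false
set_option linter.unusedSectionVars false
set_option linter.style.haveILetI false
set_option backward.isDefEq.respectTransparency false
set_option synthInstance.maxHeartbeats 400000
set_option maxHeartbeats 2000000

universe u

open TensorProduct MvPolynomial IsLocalRing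

noncomputable section

namespace Groth.Agent.MultT

open Groth.Agent.FlatSpread

/-- The kernel of a presentation as relations. -/
abbrev relK {R : Type u} [CommRing R] {n : ℕ} (K : Ideal (MvPolynomial (Fin n) R)) :
    Submodule (MvPolynomial (Fin n) R) (Fin 1 → MvPolynomial (Fin n) R) :=
  Submodule.comap (LinearEquiv.funUnique (Fin 1) (MvPolynomial (Fin n) R) (MvPolynomial (Fin n) R)).toLinearMap K

theorem relK_fg {R : Type u} [CommRing R] {n : ℕ} {K : Ideal (MvPolynomial (Fin n) R)} (hK : K.FG) :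
    (relK K).FG := by
  classical
  obtain ⟨F, hF⟩ := hK
  refine ⟨F.image fun q => (fun _ => q : Fin 1 → MvPolynomial (Fin n) R), ?_⟩
  rw [Finset.coe_image]
  refine le_antisymm (Submodule.span_le.2 ?_) fun y hy => ?_
  · rintro _ ⟨q, hq, rfl⟩
    exact hF ▸ Ideal.subset_span hq
  · have hmem : ∀ q ∈ Ideal.span (F : Set _), (fun _ => q : Fin 1 → MvPolynomial (Fin n) R) ∈
        Submodule.span (MvPolynomial (Fin n) R) ((fun q => (fun _ => q : Fin 1 → MvPolynomial (Fin n) R)) '' (F : Set _)) := by
      intro q hq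
      induction hq using Submodule.span_induction with
      | mem q hq => exact Submodule.subset_span ⟨q, hq, rfl⟩
      | zero => exact zero_mem _
      | add a b _ _ ha hb => exact add_mem ha hb
      | smul c a _ ha => exact Submodule.smul_mem _ c ha
    refine (congrArg (· ∈ Submodule.span _ _) (_root_.funext fun i => ?_)).mp (hmem (y 0) (hF.symm ▸ hy))
    fin_cases i
    rfl

/-- Flatness of a localisation of a presented algebra as the criterion. -/
theorem flat_away_iff_fl {R S : Type u} [CommRing R] [CommRing S] [Algebra R S] {n : ℕ}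
    (π : MvPolynomial (Fin n) R →ₐ[R] S) (hπ : Function.Surjective π) (G : Submonoid (MvPolynomial (Fin n) R)) :
    Module.Flat R (Localization (G.map π.toRingHom)) ↔ Fl (⊥ : Ideal R) G (relK (RingHom.ker π.toRingHom)) := by
  letI : Module (MvPolynomial (Fin n) R) S := Module.compHom S π.toRingHom
  let g : (Fin 1 → MvPolynomial (Fin n) R) →ₗ[MvPolynomial (Fin n) R] S :=
    { toFun := fun x => π (x 0)
      map_add' := fun a b => map_add π _ _
      map_smul' := fun p x => map_mul π _ _ }
  have hgW : LinearMap.ker g = relK (RingHom.ker π.toRingHom) := rfl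
  let e : ((Fin 1 → MvPolynomial (Fin n) R) ⧸ relK (RingHom.ker π.toRingHom)) ≃ₗ[MvPolynomial (Fin n) R] S :=
    (Submodule.quotEquivOfEq _ _ hgW.symm).trans (g.quotKerEquivOfSurjective fun s =>
      let ⟨p, hp⟩ := hπ s; ⟨fun _ => p, hp⟩)
  refine Iff.trans ?_ (flat_localized_iff π _ e G)
  let i := (IsLocalizedModule.iso (G.map π.toRingHom)
    (Algebra.linearMap S (Localization (G.map π.toRingHom)))).restrictScalars R
  exact ⟨fun _ => Module.Flat.of_linearEquiv i, fun _ => Module.Flat.of_linearEquiv i.symm⟩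

/-- Away from a closed fibre, localising at the elements invertible on it. -/
theorem flat_of_flat_at_closed {R C : Type u} [CommRing R] [CommRing C] [Algebra R C] (J : Ideal C)
    (hfl : ∀ (q : Ideal C) [q.IsPrime], J ≤ q → Module.Flat R (Localization.AtPrime q))
    (G : Submonoid C) (hG : ∀ c, c ∈ G ↔ IsUnit (Ideal.Quotient.mk J c)) : Module.Flat R (Localization G) := by
  refine Module.flat_of_isLocalized_maximal (R := R) (Localization G) (Localization G)
    (fun P _ => Localization.AtPrime P) (fun P _ => Algebra.linearMap _ _) fun P hP => ?_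
  let q := P.comap (algebraMap C (Localization G))
  haveI : IsLocalization.AtPrime (Localization.AtPrime P) q :=
    IsLocalization.isLocalization_isLocalization_atPrime_isLocalization G (Localization.AtPrime P) P
  have hJ : J ≤ q := Ideal.map_le_iff_le_comap.1 (by
    by_contra hne
    have htop : J.map (algebraMap C (Localization G)) ⊔ P = ⊤ :=
      hP.1.2 _ (lt_of_le_of_ne le_sup_right fun h => hne (sup_eq_right.1 h.symm))
    obtain ⟨x, hx, y, hy, hxy⟩ := Submodule.mem_sup.1 (htop ▸ Submodule.mem_top : (1 : Localization G) ∈ _)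
    obtain ⟨⟨j, s⟩, hjs⟩ := (IsLocalization.mem_map_algebraMap_iff G (Localization G)).1 hx
    have hyu : y * algebraMap C (Localization G) s = algebraMap C _ ((s : C) - (j : C)) := by
      rw [map_sub, ← hjs, eq_sub_iff_add_eq, ← add_mul, add_comm, hxy, one_mul]
    have hG' : (s : C) - (j : C) ∈ G := by
      rw [hG, map_sub, Ideal.Quotient.eq_zero_iff_mem.2 j.2, sub_zero]
      exact (hG _).1 s.2
    refine hP.ne_top (Ideal.eq_top_of_isUnit_mem _ (P.mul_mem_right (algebraMap C (Localization G) (s : C)) hy) ?_)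
    rw [hyu]
    exact IsLocalization.map_units (Localization G) (⟨_, hG'⟩ : G))
  haveI := hfl q hJ
  exact Module.Flat.of_linearEquiv
    ((IsLocalization.algEquiv q.primeCompl (Localization.AtPrime P) (Localization.AtPrime q)).restrictScalars R).toLinearEquiv

variable {R₀ : Type u} [CommRing R₀] {C₀ : Type u} [CommRing C₀] [Algebra R₀ C₀]

/-- The induced presentation. -/
def piT {n : ℕ} (π₀ : MvPolynomial (Fin n) R₀ →ₐ[R₀] C₀) (T : Type u) [CommRing T] [Algebra R₀ T] :
    MvPolynomial (Fin n) T →ₐ[T] T ⊗[R₀] C₀ :=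
  (Algebra.TensorProduct.map (AlgHom.id T T) π₀).comp (MvPolynomial.algebraTensorAlgEquiv R₀ T).symm.toAlgHom

theorem piT_map {n : ℕ} (π₀ : MvPolynomial (Fin n) R₀ →ₐ[R₀] C₀) (T : Type u) [CommRing T] [Algebra R₀ T]
    (p : MvPolynomial (Fin n) R₀) : piT π₀ T (MvPolynomial.map (algebraMap R₀ T) p) = (1 : T) ⊗ₜ π₀ p := by
  rw [piT, AlgHom.comp_apply, AlgEquiv.toAlgHom_apply, algebraTensorAlgEquiv_symm_map,
    Algebra.TensorProduct.map_tmul, AlgHom.id_apply]

theorem piT_surjective {n : ℕ} {π₀ : MvPolynomial (Fin n) R₀ →ₐ[R₀] C₀} (h : Function.Surjective π₀) (T : Type u)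
    [CommRing T] [Algebra R₀ T] : Function.Surjective (piT π₀ T) := by
  exact (Algebra.TensorProduct.map_surjective (AlgHom.id T T) π₀ Function.surjective_id h).comp
    (MvPolynomial.algebraTensorAlgEquiv (σ := Fin n) R₀ T).symm.surjective

theorem piT_ker {n : ℕ} {π₀ : MvPolynomial (Fin n) R₀ →ₐ[R₀] C₀} (h : Function.Surjective π₀) (T : Type u)
    [CommRing T] [Algebra R₀ T] :
    RingHom.ker (piT π₀ T).toRingHom = (RingHom.ker π₀.toRingHom).map (MvPolynomial.map (algebraMap R₀ T)) := by
  let e := MvPolynomial.algebraTensorAlgEquiv (σ := Fin n) R₀ T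
  have h2 : e.toRingEquiv.toRingHom.comp
      (Algebra.TensorProduct.includeRight (R := R₀) (A := T) (B := MvPolynomial (Fin n) R₀)).toRingHom =
      MvPolynomial.map (algebraMap R₀ T) :=
    RingHom.ext fun p => show e ((1 : T) ⊗ₜ p) = _ by rw [algebraTensorAlgEquiv_tmul, one_smul]
  have hpi : ∀ x, piT π₀ T x = Algebra.TensorProduct.map (AlgHom.id R₀ T) π₀ (e.symm x) := fun x => rfl
  refine le_antisymm (fun x hx => ?_) (Ideal.map_le_iff_le_comap.2 fun p hp => ?_)
  · have hk : e.symm x ∈ RingHom.ker (Algebra.TensorProduct.map (AlgHom.id R₀ T) π₀) := (hpi x).symm.trans hx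
    have hle := congrArg (fun I => e.symm x ∈ I) (Algebra.TensorProduct.lTensor_ker (A := T) π₀ h)
    have hm := Ideal.mem_map_of_mem e.toRingEquiv.toRingHom (hle.mp hk)
    erw [Ideal.map_map] at hm
    erw [h2] at hm
    have he : e.toRingEquiv.toRingHom (e.symm x) = x := e.apply_symm_apply x
    rwa [he] at hm
  · show piT π₀ T _ = 0
    have hp' : π₀ p = 0 := hp
    rw [piT_map, hp', TensorProduct.tmul_zero]

variable (R : Type u) [CommRing R] [Algebra R₀ R]

/-- The finitely generated stages. -/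
def stageSys : Sys.{u, u} (algebraMap R₀ R) where
  J := {A : Subalgebra R₀ R // A.FG}
  G A := A.1
  a A := algebraMap R₀ A.1
  ψ A := A.1.val.toRingHom
  fac A := rfl
  nonempty := ⟨⟨⊥, Subalgebra.fg_bot⟩⟩
  lift A x := by
    classical
    refine ⟨⟨A.1 ⊔ Algebra.adjoin R₀ {x}, A.2.sup ⟨{x}, by simp⟩⟩,
      (Subalgebra.inclusion le_sup_left).toRingHom, rfl, RingHom.ext fun r => rfl, ?_⟩
    exact ⟨⟨x, (le_sup_right : Algebra.adjoin R₀ {x} ≤ A.1 ⊔ _) (Algebra.subset_adjoin rfl)⟩, rfl⟩
  eq A y hy := ⟨A, RingHom.id _, RingHom.comp_id _, RingHom.id_comp _, Subtype.ext hy⟩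

variable {R} [IsLocalRing R] {C : Type u} [CommRing C] [Algebra R C]

/-- **An algebra flat along the closed fibre is so over a finitely generated stage, and over everything above
it with the same closed point.** -/
theorem exists_stage_flat [Algebra.FinitePresentation R₀ C₀] (E : R ⊗[R₀] C₀ ≃ₐ[R] C)
    (hfl : ∀ (q : Ideal C) [q.IsPrime], (maximalIdeal R).map (algebraMap R C) ≤ q →
      Module.Flat R (Localization.AtPrime q)) :
    ∃ A : Subalgebra R₀ R, A.FG ∧ ∀ (T : Type u) [CommRing T] [Algebra A T] [Algebra R₀ T] [IsScalarTower R₀ A T]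
      (ρ : T →ₐ[A] ResidueField R) (I : Ideal T), I.IsMaximal → I ≤ RingHom.ker ρ →
      ∀ (q : Ideal (T ⊗[R₀] C₀)) [q.IsPrime], I.map (algebraMap T (T ⊗[R₀] C₀)) ≤ q →
        Module.Flat T (Localization.AtPrime q) := by
  classical
  obtain ⟨n, π₀, hπ₀, hker⟩ := (inferInstance : Algebra.FinitePresentation R₀ C₀).out
  let πR : MvPolynomial (Fin n) R →ₐ[R] C := E.toAlgHom.comp (piT π₀ R)
  have hπR : Function.Surjective πR := E.surjective.comp (piT_surjective hπ₀ R)
  have hkR : RingHom.ker πR.toRingHom = (RingHom.ker π₀.toRingHom).map (MvPolynomial.map (algebraMap R₀ R)) := by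
    rw [← piT_ker hπ₀ R]
    ext x
    simp [πR, RingHom.mem_ker]
  let J := (maximalIdeal R).map (algebraMap R C)
  let GC : Submonoid C := (IsUnit.submonoid (C ⧸ J)).comap (Ideal.Quotient.mk J)
  let GA : Submonoid (MvPolynomial (Fin n) R) := GC.comap πR.toRingHom
  have hmap : GA.map πR.toRingHom = GC := Submonoid.map_comap_eq_of_surjective hπR GC
  have hA : Fl (⊥ : Ideal R) GA (FlatSpread.ext (algebraMap R₀ R) (relK (RingHom.ker π₀.toRingHom))) := by
    rw [ext_comap_funUnique, ← hkR]
    refine (flat_away_iff_fl πR hπR GA).1 ?_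
    rw [hmap]
    exact flat_of_flat_at_closed J hfl GC fun c => Iff.rfl
  obtain ⟨⟨A, hAfg⟩, g, hg, hgfl⟩ := (stageSys (R₀ := R₀) R).exists_fl (relK_fg hker) hA
  refine ⟨A, hAfg, fun T _ _ _ _ ρ I hI hIρ q _ hq => ?_⟩
  let gT : MvPolynomial (Fin n) T := MvPolynomial.map (algebraMap A T) g
  have hflT : Fl (⊥ : Ideal T) (Submonoid.powers gT) (relK (RingHom.ker (piT π₀ T).toRingHom)) := by
    have := Fl.baseChange (algebraMap A T) hgfl (G' := Submonoid.powers gT)
      (by rintro _ ⟨k, rfl⟩; exact ⟨k, (map_pow _ _ _).symm⟩)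
    rw [Ideal.map_bot, ext_ext] at this
    erw [ext_comap_funUnique] at this
    rw [piT_ker hπ₀ T, IsScalarTower.algebraMap_eq R₀ A T]
    exact this
  -- the element survives in the prime
  have hgq : piT π₀ T gT ∉ q := by
    intro hmem
    -- a point over the closed points
    have hker : RingHom.ker ρ = I := (hI.eq_of_le (RingHom.ker_ne_top _) hIρ).symm
    let κ' := q.ResidueField
    letI : Field (T ⧸ I) := Ideal.Quotient.field I
    let σ : T ⧸ I →+* ResidueField R := Ideal.Quotient.lift I ρ.toRingHom fun a ha => hIρ ha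
    let τ : T ⧸ I →+* κ' := Ideal.Quotient.lift I (algebraMap T κ') fun a ha => by
      rw [IsScalarTower.algebraMap_apply T (T ⊗[R₀] C₀) κ', Ideal.algebraMap_residueField_eq_zero]
      exact hq (Ideal.mem_map_of_mem _ ha)
    letI : Algebra (T ⧸ I) (ResidueField R) := σ.toAlgebra
    letI : Algebra (T ⧸ I) κ' := τ.toAlgebra
    haveI : Nontrivial (ResidueField R ⊗[T ⧸ I] κ') :=
      TensorProduct.nontrivial_of_linearMap_injective_of_flat_right (T ⧸ I) (ResidueField R) κ'
        (Algebra.linearMap (T ⧸ I) (ResidueField R)) σ.injective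
    obtain ⟨w, hw⟩ := Ideal.exists_maximal (ResidueField R ⊗[T ⧸ I] κ')
    letI : Field ((ResidueField R ⊗[T ⧸ I] κ') ⧸ w) := Ideal.Quotient.field w
    let Ω := (ResidueField R ⊗[T ⧸ I] κ') ⧸ w
    let f₁ : ResidueField R →+* Ω := (Ideal.Quotient.mk w).comp Algebra.TensorProduct.includeLeftRingHom
    let f₂ : κ' →+* Ω := (Ideal.Quotient.mk w).comp
      (Algebra.TensorProduct.includeRight : κ' →ₐ[T ⧸ I] ResidueField R ⊗[T ⧸ I] κ').toRingHom
    have hf : ∀ a : T, f₁ (ρ a) = f₂ (algebraMap T κ' a) := fun a => by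
      show Ideal.Quotient.mk w ((σ (Ideal.Quotient.mk I a)) ⊗ₜ 1) = Ideal.Quotient.mk w (1 ⊗ₜ τ (Ideal.Quotient.mk I a))
      rw [show σ (Ideal.Quotient.mk I a) = (Ideal.Quotient.mk I a) • (1 : ResidueField R) from (mul_one _).symm,
        show τ (Ideal.Quotient.mk I a) = (Ideal.Quotient.mk I a) • (1 : κ') from (mul_one _).symm,
        TensorProduct.smul_tmul]
    haveI : IsScalarTower R₀ R Ω := .of_algebraMap_eq fun r => by
      show Ideal.Quotient.mk w (algebraMap R₀ (ResidueField R) r ⊗ₜ 1) = _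
      rw [IsScalarTower.algebraMap_apply R₀ R (ResidueField R)]
      rfl
    have hR₀ : ∀ r : R₀, algebraMap R₀ Ω r = f₂ (algebraMap T κ' (algebraMap R₀ T r)) := fun r => by
      rw [← hf, IsScalarTower.algebraMap_apply R₀ A T, ρ.commutes]
      rfl
    let z : C₀ →ₐ[R₀] Ω :=
      { toRingHom := f₂.comp ((algebraMap (T ⊗[R₀] C₀) κ').comp
          (Algebra.TensorProduct.includeRight : C₀ →ₐ[R₀] T ⊗[R₀] C₀).toRingHom)
        commutes' := fun r => by
          show f₂ (algebraMap (T ⊗[R₀] C₀) κ' ((Algebra.TensorProduct.includeRight : C₀ →ₐ[R₀] _) (algebraMap R₀ C₀ r))) = _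
          rw [AlgHom.commutes, hR₀, ← IsScalarTower.algebraMap_apply R₀ T κ', ← IsScalarTower.algebraMap_apply] }
    let Z : C →ₐ[R] Ω := (Algebra.TensorProduct.lift (Algebra.ofId R Ω) z fun _ _ => Commute.all _ _).comp E.symm.toAlgHom
    have hZπ : (Z.toRingHom.comp πR.toRingHom).comp (MvPolynomial.map A.val.toRingHom) =
        ((f₂.comp (algebraMap (T ⊗[R₀] C₀) κ')).comp (piT π₀ T).toRingHom).comp (MvPolynomial.map (algebraMap A T)) := by
      refine MvPolynomial.ringHom_ext (fun a => ?_) fun i => ?_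
      · simp only [RingHom.comp_apply, MvPolynomial.map_C, AlgHom.toRingHom_eq_coe, RingHom.coe_coe]
        show Z (πR (algebraMap R (MvPolynomial (Fin n) R) (a : R))) =
          f₂ (algebraMap (T ⊗[R₀] C₀) κ' (piT π₀ T (algebraMap T (MvPolynomial (Fin n) T) (algebraMap A T a))))
        rw [
          AlgHom.commutes, AlgHom.commutes, AlgHom.commutes, ← IsScalarTower.algebraMap_apply T (T ⊗[R₀] C₀) κ',
          ← hf, ρ.commutes]
        rfl
      · have hX : ∀ (T' : Type u) [CommRing T'] [Algebra R₀ T'], piT π₀ T' (X i) = (1 : T') ⊗ₜ π₀ (X i) := by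
          intro T' _ _
          rw [← piT_map, MvPolynomial.map_X]
        simp only [RingHom.comp_apply, MvPolynomial.map_X, AlgHom.toRingHom_eq_coe, RingHom.coe_coe, πR, Z,
          AlgHom.comp_apply, AlgEquiv.toAlgHom_apply, AlgEquiv.symm_apply_apply, hX,
          Algebra.TensorProduct.lift_tmul, map_one, one_mul]
        rfl
    have h0 : Z (πR (MvPolynomial.map A.val.toRingHom g)) = 0 := by
      refine (RingHom.congr_fun hZπ g).trans ?_
      show f₂ (algebraMap (T ⊗[R₀] C₀) κ' (piT π₀ T gT)) = 0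
      rw [Ideal.algebraMap_residueField_eq_zero.2 hmem, map_zero]
    have hJ : J ≤ RingHom.ker Z := Ideal.map_le_iff_le_comap.2 fun r hr => by
      show Z (algebraMap R C r) = 0
      rw [Z.commutes]
      show f₁ (residue R r) = 0
      rw [(residue_eq_zero_iff r).2 hr, map_zero]
    have hu : IsUnit (Ideal.Quotient.mk J (πR (MvPolynomial.map A.val.toRingHom g))) := hg
    have hu' := hu.map (Ideal.Quotient.lift J Z.toRingHom fun a ha => hJ ha)
    rw [Ideal.Quotient.lift_mk] at hu'
    exact not_isUnit_zero ((h0 : Z.toRingHom _ = 0) ▸ hu')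
  have hflq : Fl (⊥ : Ideal T) (q.comap (piT π₀ T).toRingHom).primeCompl (relK (RingHom.ker (piT π₀ T).toRingHom)) :=
    hflT.mono_monoid fun s hs => ⟨s, (Submonoid.powers_le.2 (show gT ∈ (q.comap _).primeCompl from hgq)) hs, dvd_rfl⟩
  have hcomap : (q.comap (piT π₀ T).toRingHom).primeCompl.map (piT π₀ T).toRingHom = q.primeCompl := by
    ext s
    constructor
    · rintro ⟨p, hp, rfl⟩; exact hp
    · intro hs
      obtain ⟨p, rfl⟩ := piT_surjective hπ₀ T s
      exact ⟨p, hs, rfl⟩
  have := (flat_away_iff_fl (piT π₀ T) (piT_surjective hπ₀ T) _).2 hflq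
  rw [hcomap] at this
  exact this

/-- A complete local ring over a stage with the same closed point. -/
theorem exists_complete (A : Type u) [CommRing A] [IsNoetherianRing A] (K : Type u) [Field K] [Algebra A K] :
    ∃ (T : Type u) (_ : CommRing T) (_ : Algebra A T) (_ : IsNoetherianRing T) (_ : Module.Flat A T) (I : Ideal T)
      (_ : IsAdicComplete I T) (ρ : T →ₐ[A] K), I.IsMaximal ∧ I ≤ RingHom.ker ρ := by
  let p := RingHom.ker (algebraMap A K)
  haveI : p.IsPrime := RingHom.ker_isPrime _
  let L := Localization.AtPrime p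
  let T := AdicCompletion (maximalIdeal L) L
  haveI : IsNoetherianRing L := IsLocalization.isNoetherianRing p.primeCompl L inferInstance
  haveI : Module.Flat A L := IsLocalization.flat L p.primeCompl
  haveI : Module.Flat A T := Module.Flat.trans A L T
  haveI : IsNoetherianRing T := Groth.Agent.AdicBasics.isNoetherianRing_completion L
  have hu : ∀ y : p.primeCompl, IsUnit (algebraMap A K y) := fun y => isUnit_iff_ne_zero.2 y.2
  let f : L →ₐ[A] K := IsLocalization.liftAlgHom (M := p.primeCompl) (f := Algebra.ofId A K) hu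
  have hf : ∀ x ∈ maximalIdeal L, f x = 0 := fun x hx => by
    by_contra hne
    obtain ⟨⟨a, s⟩, hs⟩ := IsLocalization.surj p.primeCompl x
    have ha : a ∈ p.primeCompl := fun hap => by
      have := congrArg f hs
      rw [map_mul, AlgHom.commutes, AlgHom.commutes, RingHom.mem_ker.1 hap] at this
      exact mul_ne_zero hne (hu s).ne_zero this
    have : IsUnit x := isUnit_of_mul_isUnit_left (hs ▸ IsLocalization.map_units L (⟨a, ha⟩ : p.primeCompl))
    exact (mem_maximalIdeal x).1 hx this
  let ev : T →ₐ[A] L ⧸ maximalIdeal L := (AdicCompletion.evalOneₐ (maximalIdeal L)).restrictScalars A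
  let ρ : T →ₐ[A] K := (Ideal.Quotient.liftₐ (maximalIdeal L) f hf).comp ev
  refine ⟨T, inferInstance, inferInstance, inferInstance, inferInstance, maximalIdeal T, inferInstance, ρ,
    maximalIdeal.isMaximal T, ?_⟩
  rw [AdicCompletion.maximalIdeal_eq_map]
  refine Ideal.map_le_iff_le_comap.2 fun x hx => ?_
  show ρ (algebraMap L T x) = 0
  rw [show ρ (algebraMap L T x) = Ideal.Quotient.liftₐ (maximalIdeal L) f hf
    (AdicCompletion.evalOneₐ (maximalIdeal L) (algebraMap L T x)) from rfl, AlgHom.commutes]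
  exact hf x hx

end Groth.Agent.MultT
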