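import Groth.Agent.MultT.TorsionFinite
import Groth.Agent.MultT.TorsionDiag
import Groth.Agent.MultT.SplitConn
import Groth.Agent.MultT.LocalStage
import Groth.Agent.HopfModel.Main
import Groth.Agent.GRingCpl.ConnFibre
import Groth.Agent.OneDim.Field
import Mathlib

/-!
Groups flat along the closed fibre over a local ring, with special fibre of multiplicative type and either
connected fibres or finite torsion subgroups, are of multiplicative type.
-/

set_option autoImplicit false
set_option linter.unusedSectionVars false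
set_option linter.style.haveILetI false
set_option backward.isDefEq.respectTransparency false
set_option synthInstance.maxHeartbeats 400000
set_option maxHeartbeats 2000000

universe u

open TensorProduct WithConv Coalgebra IsLocalRing

noncomputable section

namespace Groth.Agent.MultT

section Points

variable {R₀ T C₀ K : Type u} [CommRing R₀] [CommRing T] [Algebra R₀ T] [CommRing C₀] [HopfAlgebra R₀ C₀]
  [CommRing K] [Algebra T K] [Algebra R₀ K] [IsScalarTower R₀ T K]

/-- The point of the model underlying a point of a base change. -/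
def restrPt (f : WithConv (T ⊗[R₀] C₀ →ₐ[T] K)) : WithConv (C₀ →ₐ[R₀] K) :=
  toConv ((f.ofConv.restrictScalars R₀).comp Algebra.TensorProduct.includeRight)

theorem restrPt_injective : Function.Injective (restrPt (R₀ := R₀) (T := T) (C₀ := C₀) (K := K)) := fun f g h =>
  WithConv.ext (Algebra.TensorProduct.ext (Subsingleton.elim _ _) (congrArg WithConv.ofConv h))

theorem restrPt_mul (f g : WithConv (T ⊗[R₀] C₀ →ₐ[T] K)) : restrPt (f * g) = restrPt f * restrPt g := by
  refine WithConv.ext (AlgHom.ext fun c => ?_)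
  show (f * g) ((1 : T) ⊗ₜ c) = (restrPt f * restrPt g) c
  rw [AlgHom.convMul_apply, AlgHom.convMul_apply, TensorProduct.comul_tmul, CommSemiring.comul_apply]
  induction comul (R := R₀) c using TensorProduct.induction_on with
  | zero => simp
  | tmul a b => simp [restrPt]
  | add a b ha hb => simp only [TensorProduct.tmul_add, map_add, ha, hb]

theorem restrPt_one : restrPt (1 : WithConv (T ⊗[R₀] C₀ →ₐ[T] K)) = 1 := by
  refine WithConv.ext (AlgHom.ext fun c => ?_)
  show (1 : WithConv (T ⊗[R₀] C₀ →ₐ[T] K)) ((1 : T) ⊗ₜ c) = (1 : WithConv (C₀ →ₐ[R₀] K)) c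
  rw [AlgHom.convOne_apply, AlgHom.convOne_apply, TensorProduct.counit_tmul, CommSemiring.counit_apply,
    Algebra.smul_def, mul_one, IsScalarTower.algebraMap_apply R₀ T K]

theorem restrPt_pow (f : WithConv (T ⊗[R₀] C₀ →ₐ[T] K)) (n : ℕ) : restrPt (f ^ n) = restrPt f ^ n := by
  induction n with
  | zero => rw [pow_zero, pow_zero, restrPt_one]
  | succ n ih => rw [pow_succ, pow_succ, restrPt_mul, ih]

end Points

section Kill

variable {R : Type u} [CommRing R] {C : Type u} [CommRing C] [HopfAlgebra R C]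
  {R₀ : Type u} [CommRing R₀] [Algebra R₀ R] {C₀ : Type u} [CommRing C₀] [HopfAlgebra R₀ C₀]
  {T : Type u} [CommRing T] [Algebra R₀ T]

/-- Connected fibres have no idempotents after any extension of the residue field. -/
theorem idem_trivial_fibre
    (hconn : ∀ (p : Ideal R) [p.IsPrime], ConnectedSpace (PrimeSpectrum (p.ResidueField ⊗[R] C)))
    (K : Type u) [Field K] [Algebra R K] (w : K ⊗[R] C) (hw : IsIdempotentElem w) : w = 0 ∨ w = 1 := by
  let p := RingHom.ker (algebraMap R K)
  haveI : p.IsPrime := RingHom.ker_isPrime _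
  haveI := hconn p
  let ι : p.ResidueField →ₐ[R] K := Ideal.ResidueField.liftₐ p (Algebra.ofId R K) le_rfl
    (fun x hx => isUnit_iff_ne_zero.2 hx)
  letI : Algebra p.ResidueField K := ι.toRingHom.toAlgebra
  haveI : IsScalarTower R p.ResidueField K := .of_algebraMap_eq fun r => (ι.commutes r).symm
  let F := p.ResidueField ⊗[R] C
  haveI : Nontrivial F := PrimeSpectrum.nonempty_iff_nontrivial.1 inferInstance
  haveI := Groth.Agent.GRingCpl.connectedSpace_tensor_field (k := p.ResidueField) (F := F)
    (fun L _ _ _ e he => Groth.Agent.OneDim.idem_trivial_finite (Bialgebra.counitAlgHom p.ResidueField F)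
      (fun _ h => idempotent_trivial_of_connected h) L e he) K
  let c := Algebra.TensorProduct.cancelBaseChange R p.ResidueField K K C
  rcases idempotent_trivial_of_connected (hw.map c.symm) with h | h
  · exact Or.inl (c.symm.injective (h.trans (map_zero c.symm).symm))
  · exact Or.inr (c.symm.injective (h.trans (map_one c.symm).symm))

variable (E : (R ⊗[R₀] C₀) ≃ₐc[R] C) (K : Type u) [Field K] [Algebra R K] [Algebra T K] [Algebra R₀ K]
  [IsScalarTower R₀ R K] [IsScalarTower R₀ T K]

include E in
/-- An idempotent killed by the counit vanishes at points over a base with connected fibres. -/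
theorem kill_connected
    (hconn : ∀ (p : Ideal R) [p.IsPrime], ConnectedSpace (PrimeSpectrum (p.ResidueField ⊗[R] C)))
    {e : T ⊗[R₀] C₀} (he : IsIdempotentElem e) (hε : counit (R := T) e = 0) (z : T ⊗[R₀] C₀ →ₐ[T] K) : z e = 0 := by
  let ES : R ⊗[R₀] C₀ ≃ₐ[R] C := BialgEquiv.toAlgEquiv E
  let g : C₀ →ₐ[R₀] K ⊗[R] C := (((Algebra.TensorProduct.includeRight : C →ₐ[R] K ⊗[R] C).comp
    ES.toAlgHom).restrictScalars R₀).comp Algebra.TensorProduct.includeRight
  let w : T ⊗[R₀] C₀ →ₐ[R₀] K ⊗[R] C := Algebra.TensorProduct.lift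
    (((Algebra.TensorProduct.includeLeft : K →ₐ[R₀] K ⊗[R] C)).comp (IsScalarTower.toAlgHom R₀ T K)) g
    fun _ _ => Commute.all _ _
  have hcw : ∀ x, counit (R := K) (w x) = algebraMap T K (counit (R := T) x) := by
    intro x
    induction x using TensorProduct.induction_on with
    | zero => simp
    | add x y hx hy => simp only [map_add, hx, hy]
    | tmul t c =>
      have hEc : counit (R := R) (ES ((1 : R) ⊗ₜ c)) = algebraMap R₀ R (counit (R := R₀) c) := by
        show counit (R := R) (E ((1 : R) ⊗ₜ c)) = _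
        rw [CoalgHomClass.counit_comp_apply E, TensorProduct.counit_tmul, CommSemiring.counit_apply,
          Algebra.smul_def, mul_one]
      simp only [w, g, Algebra.TensorProduct.lift_tmul, AlgHom.comp_apply, AlgHom.restrictScalars_apply,
        Algebra.TensorProduct.includeLeft_apply, Algebra.TensorProduct.includeRight_apply,
        Algebra.TensorProduct.tmul_mul_tmul, one_mul, mul_one, IsScalarTower.coe_toAlgHom', AlgEquiv.toAlgHom_apply]
      rw [TensorProduct.counit_tmul, TensorProduct.counit_tmul, hEc, CommSemiring.counit_apply,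
        CommSemiring.counit_apply, Algebra.smul_def, Algebra.smul_def, map_mul,
        ← IsScalarTower.algebraMap_apply, ← IsScalarTower.algebraMap_apply]
  have hwe : w e = 0 := by
    rcases idem_trivial_fibre hconn K (w e) (he.map w) with h | h
    · exact h
    · have h1 := congrArg (counit (R := K)) h
      rw [hcw, hε, map_zero, Bialgebra.counit_one] at h1
      exact absurd h1 zero_ne_one
  let zC : C →ₐ[R] K := (Algebra.TensorProduct.lift (Algebra.ofId R K)
    ((z.restrictScalars R₀).comp Algebra.TensorProduct.includeRight) fun _ _ => Commute.all _ _).comp ES.symm.toAlgHom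
  let ev : K ⊗[R] C →ₐ[K] K := Algebra.TensorProduct.lift (AlgHom.id K K) zC fun _ _ => Commute.all _ _
  have hev : (ev.restrictScalars R₀).comp w = z.restrictScalars R₀ :=
    Algebra.TensorProduct.ext
      (AlgHom.ext fun t => by
        show ev (w (t ⊗ₜ 1)) = z (t ⊗ₜ 1)
        rw [show (t ⊗ₜ[R₀] (1 : C₀)) = algebraMap T (T ⊗[R₀] C₀) t from rfl, AlgHom.commutes]
        show ev (w (t ⊗ₜ 1)) = _
        simp [w, g, ev, ← Algebra.TensorProduct.one_def])
      (AlgHom.ext fun c => by
        show ev (w ((1 : T) ⊗ₜ c)) = z ((1 : T) ⊗ₜ c)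
        simp [w, g, ev, zC])
  have := AlgHom.congr_fun hev e
  rw [AlgHom.comp_apply, hwe, map_zero] at this
  exact this.symm

include E in
/-- An idempotent near the closed fibre kills points of finite order when the torsion subgroups are finite. -/
theorem kill_torsion_point {n : ℕ} (hfin : Module.Finite R (C ⧸ SGA3b.torsionIdeal R C n))
    (R' : Type u) [CommRing R'] [IsLocalRing R'] [Algebra R R'] [Algebra T R'] [Algebra R₀ R']
    [IsScalarTower R₀ R R'] [IsScalarTower R₀ T R'] [Algebra R' K] [IsScalarTower R R' K] [IsScalarTower T R' K]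
    (I : Ideal T) (hI : I.map (algebraMap T R') ≤ maximalIdeal R') {e : T ⊗[R₀] C₀} (he : IsIdempotentElem e)
    (heI : e ∈ I.map (algebraMap T (T ⊗[R₀] C₀))) (y : WithConv (T ⊗[R₀] C₀ →ₐ[T] K)) (hy : y ^ n = 1) : y e = 0 := by
  haveI : IsScalarTower R₀ R' K := .of_algebraMap_eq fun r => by
    rw [IsScalarTower.algebraMap_apply R₀ R R', ← IsScalarTower.algebraMap_apply R R' K,
      ← IsScalarTower.algebraMap_apply]
  let x₀ := restrPt y
  let xR : WithConv (R ⊗[R₀] C₀ →ₐ[R] K) :=
    toConv (Algebra.TensorProduct.lift (Algebra.ofId R K) x₀.ofConv fun _ _ => Commute.all _ _)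
  have hxR₀ : restrPt xR = x₀ := WithConv.ext (AlgHom.ext fun c => by simp [xR, restrPt])
  have hxR : xR ^ n = 1 := restrPt_injective (by rw [restrPt_pow, hxR₀, ← restrPt_pow, hy, restrPt_one, restrPt_one])
  let xC : WithConv (C →ₐ[R] K) := toConv (xR.ofConv.comp ((E.symm : C →ₐc[R] R ⊗[R₀] C₀) : C →ₐ[R] R ⊗[R₀] C₀))
  have hxCpow : ∀ k : ℕ, xC ^ k =
      toConv ((xR ^ k).ofConv.comp ((E.symm : C →ₐc[R] R ⊗[R₀] C₀) : C →ₐ[R] R ⊗[R₀] C₀)) := by
    intro k
    induction k with
    | zero =>
      refine WithConv.ext (AlgHom.ext fun c => ?_)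
      rw [pow_zero, pow_zero, AlgHom.convOne_apply]
      show _ = (1 : WithConv (R ⊗[R₀] C₀ →ₐ[R] K)) (E.symm c)
      rw [AlgHom.convOne_apply, CoalgHomClass.counit_comp_apply E.symm]
    | succ k ih => rw [pow_succ, pow_succ, ih, AlgHom.convMul_comp_bialgHom_distrib]
  have hxC : xC ^ n = 1 := by
    rw [hxCpow, hxR]
    refine WithConv.ext (AlgHom.ext fun c => ?_)
    show (1 : WithConv (R ⊗[R₀] C₀ →ₐ[R] K)) (E.symm c) = _
    rw [AlgHom.convOne_apply, AlgHom.convOne_apply, CoalgHomClass.counit_comp_apply E.symm]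
  let J := SGA3b.torsionIdeal R C n
  let F := C ⧸ J
  let xF : F →ₐ[R] K := Ideal.Quotient.liftₐ J xC.ofConv (torsionIdeal_le_ker hxC)
  haveI := hfin
  let F' := R' ⊗[R] F
  let ψ : T ⊗[R₀] C₀ →ₐ[R₀] F' := Algebra.TensorProduct.lift
    ((Algebra.TensorProduct.includeLeft : R' →ₐ[R₀] F').comp (IsScalarTower.toAlgHom R₀ T R'))
    (((((Algebra.TensorProduct.includeRight : F →ₐ[R] F').comp (Ideal.Quotient.mkₐ R J)).comp
      (BialgEquiv.toAlgEquiv E).toAlgHom)).restrictScalars R₀ |>.comp Algebra.TensorProduct.includeRight)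
    fun _ _ => Commute.all _ _
  haveI : Algebra.IsIntegral R' F' := Algebra.IsIntegral.of_finite R' F'
  have hψT : ∀ t : T, ψ (algebraMap T (T ⊗[R₀] C₀) t) = algebraMap R' F' (algebraMap T R' t) := fun t => by
    show ψ (t ⊗ₜ 1) = _
    rw [Algebra.TensorProduct.lift_tmul, map_one, mul_one]
    rfl
  have hψI : ψ e ∈ (I.map (algebraMap T R')).map (algebraMap R' F') := by
    have h1 := Ideal.mem_map_of_mem ψ.toRingHom heI
    rw [Ideal.map_map, show ψ.toRingHom.comp (algebraMap T (T ⊗[R₀] C₀)) =
      (algebraMap R' F').comp (algebraMap T R') from RingHom.ext hψT, ← Ideal.map_map] at h1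
    exact h1
  have hψ0 : ψ e = 0 := Hensel.eq_of_idempotent (J := (I.map (algebraMap T R')).map (algebraMap R' F'))
    (Hensel.map_le_jacobson (hI.trans (IsLocalRing.maximalIdeal_le_jacobson _))) (he.map ψ) IsIdempotentElem.zero
    (by simpa using hψI)
  let ev : F' →ₐ[R'] K := Algebra.TensorProduct.lift (Algebra.ofId R' K) xF fun _ _ => Commute.all _ _
  have hev : (ev.restrictScalars R₀).comp ψ = y.ofConv.restrictScalars R₀ :=
    Algebra.TensorProduct.ext
      (AlgHom.ext fun t => by
        show ev (ψ (t ⊗ₜ 1)) = y.ofConv (t ⊗ₜ 1)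
        rw [show (t ⊗ₜ[R₀] (1 : C₀)) = algebraMap T (T ⊗[R₀] C₀) t from rfl, AlgHom.commutes, hψT, AlgHom.commutes,
          ← IsScalarTower.algebraMap_apply])
      (AlgHom.ext fun c => by
        show ev (ψ ((1 : T) ⊗ₜ c)) = y.ofConv ((1 : T) ⊗ₜ c)
        rw [Algebra.TensorProduct.lift_tmul, map_one, one_mul]
        show ev ((1 : R') ⊗ₜ Ideal.Quotient.mk J (E ((1 : R) ⊗ₜ c))) = _
        rw [Algebra.TensorProduct.lift_tmul, map_one, one_mul]
        show xR.ofConv (E.symm (E ((1 : R) ⊗ₜ c))) = _
        rw [BialgEquiv.symm_apply_apply]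
        simp [xR, x₀, restrPt])
  have := AlgHom.congr_fun hev e
  rw [AlgHom.comp_apply, hψ0, map_zero] at this
  exact this.symm

end Kill

/-- A faithfully flat local extension receiving a complete ring over a stage. -/
theorem exists_over (R : Type u) [CommRing R] [IsLocalRing R] (A : Type u) [CommRing A] [Algebra A R]
    (T : Type u) [CommRing T] [Algebra A T] [Module.Flat A T] (ρ : T →ₐ[A] ResidueField R) (I : Ideal T)
    (hI : I ≤ RingHom.ker ρ) :
    ∃ (R' : Type u) (_ : CommRing R') (_ : IsLocalRing R') (_ : Algebra R R') (_ : Algebra T R'),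
      (∀ a, algebraMap R R' (algebraMap A R a) = algebraMap T R' (algebraMap A T a)) ∧
        Module.FaithfullyFlat R R' ∧ I.map (algebraMap T R') ≤ maximalIdeal R' := by
  let θ : R ⊗[A] T →ₐ[A] ResidueField R :=
    Algebra.TensorProduct.lift (IsScalarTower.toAlgHom A R (ResidueField R)) ρ fun _ _ => Commute.all _ _
  let P := RingHom.ker θ
  haveI : P.IsPrime := RingHom.ker_isPrime _
  let R' := Localization.AtPrime P
  letI : Algebra T (R ⊗[A] T) := Algebra.TensorProduct.rightAlgebra
  let iT : T →+* R' := (algebraMap (R ⊗[A] T) R').comp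
    (Algebra.TensorProduct.includeRight : T →ₐ[A] R ⊗[A] T).toRingHom
  haveI : Module.Flat R R' := by
    haveI : Module.Flat (R ⊗[A] T) R' := IsLocalization.flat R' P.primeCompl
    exact Module.Flat.trans R (R ⊗[A] T) R'
  haveI : IsLocalHom (algebraMap R R') := ⟨fun r hr => by
    by_contra hne
    rw [IsScalarTower.algebraMap_apply R (R ⊗[A] T) R', IsLocalization.AtPrime.isUnit_to_map_iff R' P] at hr
    apply hr
    show θ (r ⊗ₜ 1) = 0
    simp only [θ, Algebra.TensorProduct.lift_tmul, map_one, mul_one, IsScalarTower.coe_toAlgHom',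
      ResidueField.algebraMap_eq]
    exact (residue_eq_zero_iff r).2 hne⟩
  refine ⟨R', inferInstance, inferInstance, inferInstance, iT.toAlgebra, fun a => ?_,
    Module.FaithfullyFlat.of_flat_of_isLocalHom, ?_⟩
  · show algebraMap R R' _ = algebraMap (R ⊗[A] T) R' ((1 : R) ⊗ₜ algebraMap A T a)
    rw [IsScalarTower.algebraMap_apply R (R ⊗[A] T) R', Algebra.algebraMap_eq_smul_one (R := A) (A := T),
      TensorProduct.tmul_smul, TensorProduct.smul_tmul', Algebra.smul_def, mul_one]
    rfl
  · refine Ideal.map_le_iff_le_comap.2 fun x hx => ?_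
    show algebraMap (R ⊗[A] T) R' ((1 : R) ⊗ₜ x) ∈ maximalIdeal R'
    refine (IsLocalization.AtPrime.to_map_mem_maximal_iff (R := R ⊗[A] T) R' P _ inferInstance).2 ?_
    show θ ((1 : R) ⊗ₜ x) = 0
    simpa [θ] using hI hx

variable {R : Type u} [CommRing R] {C : Type u} [CommRing C] [HopfAlgebra R C]

/-- A group of multiplicative type over a field is diagonalised by some nontrivial algebra. -/
theorem exists_nontrivial_split {k : Type u} [Field k] {X : Type u} [CommRing X] [HopfAlgebra k X]
    (h : SGA3b.IsMultType k X) :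
    ∃ (S : Type u) (_ : CommRing S) (_ : Algebra k S), Nontrivial S ∧ SGA3b.IsDiag S (S ⊗[k] X) := by
  obtain ⟨s, hs, h⟩ := h
  obtain ⟨f, hf, hf0⟩ : ∃ f ∈ s, f ≠ 0 := by
    by_contra hne
    push Not at hne
    have : Ideal.span s = ⊥ := Ideal.span_eq_bot.2 hne
    exact bot_ne_top (this ▸ hs)
  let L := Localization.Away f
  haveI : Nontrivial L := (IsLocalization.atUnit k L f hf0.isUnit).injective.nontrivial
  obtain ⟨S, _, _, hff, hd⟩ := h f hf
  haveI := hff
  letI : Algebra k S := Algebra.compHom S (algebraMap k L)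
  haveI : IsScalarTower k L S := .of_algebraMap_eq fun _ => rfl
  exact ⟨S, inferInstance, inferInstance, (FaithfulSMul.algebraMap_injective L S).nontrivial,
    isDiag_of_equiv (bcTrans k L S X).symm hd⟩

/-- Over a field a group of finite type diagonalised by a nontrivial algebra is isotrivial. -/
theorem isIsotrivial_of_split {k : Type u} [Field k] {X : Type u} [CommRing X] [HopfAlgebra k X]
    [Algebra.FiniteType k X] (S : Type u) [CommRing S] [Algebra k S] [Nontrivial S]
    (hd : SGA3b.IsDiag S (S ⊗[k] X)) : SGA3b.IsIsotrivial k X := by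
  obtain ⟨k', _, _, hfin, hsep, M, _, -, he⟩ :=
    exists_finite_separable_split (isMultType_of_const ⟨S, inferInstance, inferInstance, inferInstance, hd⟩ :
      SGA3b.IsMultType k X)
  haveI := hfin; haveI := hsep
  haveI : Algebra.FormallyEtale k k' := Algebra.FormallyEtale.of_isSeparable k k'
  haveI : Algebra.FinitePresentation k k' := Algebra.FinitePresentation.of_finiteType.1 inferInstance
  exact ⟨k', inferInstance, inferInstance, ⟨inferInstance, inferInstance⟩, inferInstance, inferInstance,
    M, inferInstance, he⟩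

/-- A map with kernel generated by an element vanishing after base change becomes bijective. -/
theorem bijective_bc_of_tmul_eq_zero {T U X : Type u} [CommRing T] [CommRing U] [Algebra T U] [CommRing X]
    [Algebra T X] (e : X) (h : (1 : U) ⊗ₜ[T] e = 0) :
    Function.Bijective (Algebra.TensorProduct.map (AlgHom.id U U) (Ideal.Quotient.mkₐ T (Ideal.span {e}))) := by
  refine ⟨?_, Algebra.TensorProduct.map_surjective _ _ Function.surjective_id Ideal.Quotient.mk_surjective⟩
  rw [injective_iff_map_eq_zero]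
  intro x hx
  have h1 : x ∈ RingHom.ker (Algebra.TensorProduct.map (AlgHom.id T U) (Ideal.Quotient.mkₐ T (Ideal.span {e}))) := hx
  have h2 := (congrArg (fun J => x ∈ J) (Algebra.TensorProduct.lTensor_ker (A := U)
    (Ideal.Quotient.mkₐ T (Ideal.span {e})) Ideal.Quotient.mk_surjective)).mp h1
  rw [show RingHom.ker (Ideal.Quotient.mkₐ T (Ideal.span {e})) = Ideal.span {e} from Ideal.mk_ker,
    Ideal.map_span, Set.image_singleton, Algebra.TensorProduct.includeRight_apply, h] at h2
  simpa using h2

theorem isDiag_of_bijective {U A B : Type u} [CommRing U] [CommRing A] [CommRing B] [HopfAlgebra U A]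
    [HopfAlgebra U B] (f : A →ₐc[U] B) (hf : Function.Bijective f) (h : SGA3b.IsDiag U B) : SGA3b.IsDiag U A :=
  isDiag_of_equiv (BialgEquiv.ofBijective f hf) h

/-- **The local fibre criterion for groups of multiplicative type.** -/
theorem isMultTypeConst_of_local [IsLocalRing R] (hfp : Algebra.FinitePresentation R C)
    (hfl : ∀ (q : Ideal C) [q.IsPrime], Ideal.map (algebraMap R C) (maximalIdeal R) ≤ q →
      Module.Flat R (Localization.AtPrime q))
    (hs : SGA3b.IsMultType (ResidueField R) (ResidueField R ⊗[R] C))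
    (hh : (∀ (p : Ideal R) [p.IsPrime], ConnectedSpace (PrimeSpectrum (p.ResidueField ⊗[R] C))) ∨
      (IsCocomm R C ∧ ∀ n : ℕ, 0 < n → Module.Finite R (C ⧸ SGA3b.torsionIdeal R C n))) :
    SGA3b.IsMultTypeConst R C := by
  obtain ⟨R₀, _, _, hft, -, C₀, _, _, hfp₀, hcc, ⟨E⟩⟩ := Groth.Agent.HopfModel.exists_model R C hfp
  haveI := hft; haveI := hfp₀
  haveI : IsNoetherianRing R₀ := Algebra.FiniteType.isNoetherianRing ℤ R₀
  obtain ⟨A, hA, hflat⟩ := exists_stage_flat (BialgEquiv.toAlgEquiv E) hfl
  haveI : Algebra.FiniteType R₀ A := ⟨(Subalgebra.fg_top A).2 hA⟩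
  haveI : IsNoetherianRing A := Algebra.FiniteType.isNoetherianRing R₀ A
  obtain ⟨T, _, _, hTn, hTfl, I, hTc, ρ, hImax, hIρ⟩ := exists_complete A (ResidueField R)
  haveI := hTn; haveI := hTfl; haveI := hTc; haveI := hImax
  letI : Algebra R₀ T := Algebra.compHom T (algebraMap R₀ A)
  haveI : IsScalarTower R₀ A T := .of_algebraMap_eq fun _ => rfl
  obtain ⟨R', _, _, _, _, hcomp, hff', hIR'⟩ := exists_over R A T ρ I hIρ
  haveI := hff'
  letI : Algebra R₀ R' := Algebra.compHom R' (algebraMap R₀ R)
  haveI : IsScalarTower R₀ R R' := .of_algebraMap_eq fun _ => rfl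
  haveI : IsScalarTower R₀ T R' := .of_algebraMap_eq fun r => hcomp (algebraMap R₀ A r)
  let X := T ⊗[R₀] C₀
  haveI : Algebra.FiniteType T X := inferInstance
  -- the special fibre
  letI : Field (T ⧸ I) := Ideal.Quotient.field I
  obtain ⟨S₁, _, _, hS₁, hd₁⟩ := exists_nontrivial_split hs
  haveI := hS₁
  have h0 : SGA3b.IsIsotrivial (T ⧸ I) ((T ⧸ I) ⊗[T] X) := by
    let gT : T →+* S₁ := (algebraMap (ResidueField R) S₁).comp ρ.toRingHom
    letI : Algebra T S₁ := gT.toAlgebra
    letI : Algebra R S₁ := Algebra.compHom S₁ (residue R)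
    haveI : IsScalarTower R (ResidueField R) S₁ := .of_algebraMap_eq fun _ => rfl
    letI : Algebra R₀ S₁ := Algebra.compHom S₁ (algebraMap R₀ R)
    haveI : IsScalarTower R₀ R S₁ := .of_algebraMap_eq fun _ => rfl
    haveI : IsScalarTower R₀ T S₁ := .of_algebraMap_eq fun r => by
      show algebraMap (ResidueField R) S₁ (residue R (algebraMap R₀ R r)) =
        algebraMap (ResidueField R) S₁ (ρ (algebraMap A T (algebraMap R₀ A r)))
      rw [ρ.commutes]
      rfl
    letI : Algebra (T ⧸ I) S₁ := (Ideal.Quotient.lift I gT fun a ha => by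
      show algebraMap (ResidueField R) S₁ (ρ a) = 0
      rw [show ρ a = 0 from hIρ ha, map_zero]).toAlgebra
    haveI : IsScalarTower T (T ⧸ I) S₁ := .of_algebraMap_eq fun _ => rfl
    haveI : Algebra.FiniteType (T ⧸ I) ((T ⧸ I) ⊗[T] X) := inferInstance
    refine isIsotrivial_of_split S₁ (isDiag_of_equiv ?_ hd₁)
    exact (bcTrans T (T ⧸ I) S₁ X).trans ((bcTrans R₀ T S₁ C₀).trans ((bcTrans R₀ R S₁ C₀).symm.trans
      ((exists_bcCongr E S₁).some.trans (bcTrans R (ResidueField R) S₁ C).symm)))
  obtain ⟨e, he, heI, hK, hiso⟩ := exists_open_subgroup I (hflat T ρ I hImax hIρ) h0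
  haveI := hK
  haveI : HenselianRing T I := IsAdicComplete.henselianRing T I
  have hε : counit (R := T) e = 0 := by
    have h1 : counit (R := T) e ∈ I := map_self_mem (counit (R := T) (A := X)) heI
    exact Hensel.eq_of_idempotent HenselianRing.jac (he.map (Bialgebra.counitAlgHom T X))
      IsIdempotentElem.zero (by simpa using h1)
  -- it dies over the local extension
  have hzero : (1 : R') ⊗ₜ[T] e = 0 := by
    suffices h : ∀ Q : Ideal (R' ⊗[T] X), Q.IsPrime → (1 : R') ⊗ₜ[T] e ∈ Q by
      obtain ⟨n, hn⟩ := nilpotent_iff_mem_prime.2 h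
      have hi : IsIdempotentElem ((1 : R') ⊗ₜ[T] e) := he.map (Algebra.TensorProduct.includeRight : X →ₐ[T] R' ⊗[T] X)
      rw [← hi.pow_succ_eq n, pow_succ, hn, zero_mul]
    intro Q hQ
    let K := AlgebraicClosure Q.ResidueField
    let iK : R' ⊗[T] X →+* K := (algebraMap Q.ResidueField K).comp (algebraMap (R' ⊗[T] X) Q.ResidueField)
    have hR : ∀ r, algebraMap R K r = algebraMap R' K (algebraMap R R' r) := fun r => by
      rw [IsScalarTower.algebraMap_apply R (R' ⊗[T] X) K, IsScalarTower.algebraMap_apply R R' (R' ⊗[T] X),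
        ← IsScalarTower.algebraMap_apply R' (R' ⊗[T] X) K]
    have hT : ∀ r, algebraMap T K r = algebraMap R' K (algebraMap T R' r) := fun r => by
      rw [IsScalarTower.algebraMap_apply T (R' ⊗[T] X) K, IsScalarTower.algebraMap_apply T R' (R' ⊗[T] X),
        ← IsScalarTower.algebraMap_apply R' (R' ⊗[T] X) K]
    haveI : IsScalarTower R R' K := .of_algebraMap_eq hR
    haveI : IsScalarTower T R' K := .of_algebraMap_eq hT
    have hR₀ : ∀ r, algebraMap R₀ K r = algebraMap R' K (algebraMap R₀ R' r) := fun r => by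
      rw [IsScalarTower.algebraMap_apply R₀ (R' ⊗[T] X) K, IsScalarTower.algebraMap_apply R₀ R' (R' ⊗[T] X),
        ← IsScalarTower.algebraMap_apply R' (R' ⊗[T] X) K]
    haveI : IsScalarTower R₀ R K := IsScalarTower.of_algebraMap_eq (R := R₀) (S := R) (A := K) fun r => by
      rw [hR, ← IsScalarTower.algebraMap_apply R₀ R R', hR₀]
    haveI : IsScalarTower R₀ T K := IsScalarTower.of_algebraMap_eq (R := R₀) (S := T) (A := K) fun r => by
      rw [hT, ← IsScalarTower.algebraMap_apply R₀ T R', hR₀]
    let z : X →ₐ[T] K :=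
      { toRingHom := iK.comp (Algebra.TensorProduct.includeRight : X →ₐ[T] R' ⊗[T] X).toRingHom
        commutes' := fun t => congrArg iK (((Algebra.TensorProduct.includeRight : X →ₐ[T] R' ⊗[T] X).commutes t).trans
          (IsScalarTower.algebraMap_apply T R' (R' ⊗[T] X) t)) }
    have hz : z e = 0 := by
      rcases hh with hconn | ⟨hco, hfin⟩
      · exact kill_connected E K hconn he hε z
      · haveI := hcc hco
        haveI : IsCocomm T X := inferInstance
        exact eq_zero_of_torsion_points he hε hiso K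
          (fun n y hn hy => kill_torsion_point E K (hfin n hn) R' I hIR' he heI y hy) z
    have hz' : algebraMap Q.ResidueField K (algebraMap (R' ⊗[T] X) Q.ResidueField ((1 : R') ⊗ₜ e)) = 0 := hz
    exact Ideal.algebraMap_residueField_eq_zero.1 ((map_eq_zero _).1 hz')
  -- splitting
  obtain ⟨S, _, _, het, hfinS, hffS, hdS⟩ := hiso
  haveI := hffS
  let U := R' ⊗[T] S
  letI : Algebra S U := Algebra.TensorProduct.rightAlgebra
  haveI : IsScalarTower T S U := .of_algebraMap_eq fun t =>
    (((Algebra.TensorProduct.includeRight : S →ₐ[T] U).commutes t)).symm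
  haveI : Module.FaithfullyFlat R U := Module.FaithfullyFlat.trans R R' U
  refine ⟨U, inferInstance, inferInstance, inferInstance, ?_⟩
  have hU : (1 : U) ⊗ₜ[T] e = 0 := by
    have := congrArg (Algebra.TensorProduct.map (IsScalarTower.toAlgHom T R' U) (AlgHom.id T X)) hzero
    simpa using this
  let q : U ⊗[T] X →ₐc[U] U ⊗[T] (X ⧸ Ideal.span {e}) := Bialgebra.TensorProduct.map (BialgHom.id U U)
    (Bialgebra.Quotient.mkBialgHom (Ideal.span {e}))
  have hqb : Function.Bijective q := by
    have hq : ∀ v, q v = Algebra.TensorProduct.map (AlgHom.id U U) (Ideal.Quotient.mkₐ T (Ideal.span {e})) v := by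
      intro v
      induction v using TensorProduct.induction_on with
      | zero => simp
      | tmul a b => rfl
      | add a b ha hb => simp only [map_add, ha, hb]
    rw [funext hq]
    exact bijective_bc_of_tmul_eq_zero e hU
  haveI : IsScalarTower R₀ R U := TensorProduct.isScalarTower_left
  haveI : IsScalarTower R₀ T U := .of_algebraMap_eq fun r => by
    show algebraMap R₀ R' r ⊗ₜ[T] (1 : S) = algebraMap T R' (algebraMap R₀ T r) ⊗ₜ[T] (1 : S)
    rw [← IsScalarTower.algebraMap_apply]
  let e₂ : U ⊗[R₀] C₀ ≃ₐc[U] U ⊗[T] X := (bcTrans R₀ T U C₀).symm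
  refine isDiag_of_equiv ((exists_bcCongr E U).some.symm.trans ((bcTrans R₀ R U C₀).trans e₂)) ?_
  exact isDiag_of_bijective (A := U ⊗[T] X) (B := U ⊗[T] (X ⧸ Ideal.span {e})) q hqb (isDiag_baseChange hdS U)

end Groth.Agent.MultT
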