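import Mathlib

/-! Minkowski's lemma: an endomorphism of finite order congruent to the identity modulo a multiple of three. -/

namespace Groth.Agent.MultT

variable {V : Type*} [AddCommGroup V]

section Prime

variable (φ : Module.End ℤ V)

theorem pow_apply_mod {k : ℕ} (h : ∀ x, ∃ y, φ x - x = (3 ^ k : ℤ) • y) (p : ℕ) (x : V) :
    ∃ y, (φ ^ p) x = x + (p : ℤ) • (φ x - x) + (3 ^ (2 * k) : ℤ) • y := by
  induction p with
  | zero => exact ⟨0, by simp⟩
  | succ p ih =>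
    obtain ⟨y, hy⟩ := ih
    obtain ⟨z, hz⟩ := h x
    obtain ⟨w, hw⟩ := h z
    refine ⟨(p : ℤ) • w + φ y, ?_⟩
    have e1 : φ (φ x - x) = (φ x - x) + (3 ^ (2 * k) : ℤ) • w := by
      rw [hz, map_smul, show φ z = z + (3 ^ k : ℤ) • w by rw [← hw]; abel, smul_add, smul_smul]
      congr 2
      ring
    rw [pow_succ', Module.End.mul_apply, hy, map_add, map_add, map_smul, map_smul, e1]
    push_cast
    module

variable [Module.IsTorsionFree ℤ V]

theorem mod_step_ne {k : ℕ} (hk : 1 ≤ k) (h : ∀ x, ∃ y, φ x - x = (3 ^ k : ℤ) • y) {p : ℕ}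
    (hp : p.Prime) (hp3 : p ≠ 3) (hord : φ ^ p = 1) (x : V) :
    ∃ y, φ x - x = (3 ^ (k + 1) : ℤ) • y := by
  obtain ⟨y, hy⟩ := pow_apply_mod φ h p x
  rw [hord, Module.End.one_apply] at hy
  have hc : IsCoprime (p : ℤ) (3 ^ (k + 1) : ℤ) :=
    IsCoprime.pow_right (Nat.isCoprime_iff_coprime.2 ((Nat.coprime_primes hp Nat.prime_three).2 hp3))
  obtain ⟨a, b, hab⟩ := hc
  refine ⟨b • (φ x - x) - (a * 3 ^ (k - 1)) • y, ?_⟩
  have hpow : (3 ^ (2 * k) : ℤ) = 3 ^ (k + 1) * 3 ^ (k - 1) := by rw [← pow_add]; congr 1; omega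
  have h0 : (p : ℤ) • (φ x - x) = -((3 ^ (2 * k) : ℤ) • y) := by
    linear_combination (norm := module) -hy
  calc φ x - x = (a * p + b * 3 ^ (k + 1)) • (φ x - x) := by rw [hab, one_smul]
    _ = a • ((p : ℤ) • (φ x - x)) + (3 ^ (k + 1) : ℤ) • (b • (φ x - x)) := by module
    _ = _ := by
      rw [h0, hpow]
      module

theorem mod_step_three {k : ℕ} (hk : 1 ≤ k) (h : ∀ x, ∃ y, φ x - x = (3 ^ k : ℤ) • y)
    (hord : φ ^ 3 = 1) (x : V) : ∃ y, φ x - x = (3 ^ (k + 1) : ℤ) • y := by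
  obtain ⟨y₁, h₁⟩ := h x
  obtain ⟨y₂, h₂⟩ := h y₁
  obtain ⟨y₃, h₃⟩ := h y₂
  have e3 : (φ ^ 3) x = φ (φ (φ x)) := rfl
  rw [hord, Module.End.one_apply] at e3
  have f1 : φ x = x + (3 ^ k : ℤ) • y₁ := by rw [← h₁]; abel
  have f2 : φ y₁ = y₁ + (3 ^ k : ℤ) • y₂ := by rw [← h₂]; abel
  have f3 : φ y₂ = y₂ + (3 ^ k : ℤ) • y₃ := by rw [← h₃]; abel
  simp only [f1, f2, f3, map_add, map_smul] at e3
  refine ⟨-((3 ^ (k - 1) : ℤ) • y₂ + (3 ^ (2 * k - 2) : ℤ) • y₃), ?_⟩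
  refine smul_right_injective V (show (3 : ℤ) ≠ 0 by norm_num) ?_
  show (3 : ℤ) • (φ x - x) = (3 : ℤ) • ((3 ^ (k + 1) : ℤ) • _)
  rw [h₁]
  obtain ⟨j, rfl⟩ : ∃ j, k = j + 1 := ⟨k - 1, by omega⟩
  rw [show j + 1 - 1 = j by omega, show 2 * (j + 1) - 2 = j + j by omega]
  linear_combination (norm := module) -e3

end Prime

variable [Module.IsTorsionFree ℤ V] [Module.Finite ℤ V]

theorem eq_zero_of_forall_dvd {x : V} (h : ∀ k : ℕ, ∃ y, x = (3 ^ k : ℤ) • y) : x = 0 := by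
  haveI : Module.Free ℤ V := Module.free_of_finite_type_torsion_free'
  let b := Module.Free.chooseBasis ℤ V
  refine b.repr.injective (Finsupp.ext fun i => ?_)
  rw [map_zero, Finsupp.zero_apply]
  by_contra hne
  obtain ⟨y, hy⟩ := h ((b.repr x i).natAbs)
  have hd : (3 : ℤ) ^ (b.repr x i).natAbs ∣ b.repr x i := ⟨b.repr y i, by
    conv_lhs => rw [hy]
    simp⟩
  have hd' : 3 ^ (b.repr x i).natAbs ∣ (b.repr x i).natAbs := by
    have := Int.natAbs_dvd_natAbs.2 hd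
    rwa [Int.natAbs_pow] at this
  exact absurd (Nat.le_of_dvd (Int.natAbs_pos.2 hne) hd') (not_le.2 (Nat.lt_pow_self (by norm_num)))

theorem minkowski_prime (φ : Module.End ℤ V) (h : ∀ x, ∃ y, φ x - x = (3 : ℤ) • y) {p : ℕ} (hp : p.Prime)
    (hord : φ ^ p = 1) : φ = 1 := by
  have hall : ∀ k, 1 ≤ k → ∀ x, ∃ y, φ x - x = (3 ^ k : ℤ) • y := by
    intro k hk
    induction k, hk using Nat.le_induction with
    | base => simpa using h
    | succ k hk ih =>
      rcases eq_or_ne p 3 with h3 | h3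
      · exact mod_step_three φ hk ih (h3 ▸ hord)
      · exact mod_step_ne φ hk ih hp h3 hord
  refine LinearMap.ext fun x => ?_
  rw [Module.End.one_apply, ← sub_eq_zero]
  refine eq_zero_of_forall_dvd fun k => ?_
  cases k with
  | zero => exact ⟨φ x - x, by simp⟩
  | succ k => exact hall (k + 1) (by omega) x

theorem minkowski_free (φ : Module.End ℤ V) (h : ∀ x, ∃ y, φ x - x = (3 : ℤ) • y) {d : ℕ} (hd : 0 < d)
    (hord : φ ^ d = 1) : φ = 1 := by
  induction d using Nat.strong_induction_on generalizing φ with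
  | _ d ih =>
    rcases eq_or_ne d 1 with rfl | h1
    · simpa using hord
    obtain ⟨p, hp, e, rfl⟩ := Nat.exists_prime_and_dvd h1
    have he : 0 < e := Nat.pos_of_ne_zero fun h0 => by simp [h0] at hd
    refine ih e (lt_mul_of_one_lt_left he hp.one_lt) φ h he ?_
    refine minkowski_prime (φ ^ e) ?_ hp (by rw [← pow_mul, mul_comm, hord])
    intro x
    have h' : ∀ x, ∃ y, φ x - x = (3 ^ 1 : ℤ) • y := by simpa using h
    obtain ⟨y, hy⟩ := pow_apply_mod φ h' e x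
    obtain ⟨z, hz⟩ := h x
    refine ⟨(e : ℤ) • z + (3 : ℤ) • y, ?_⟩
    rw [hy, hz]
    module

omit [Module.IsTorsionFree ℤ V] in
/-- Minkowski's lemma for finitely generated abelian groups with torsion killed by `q`. -/
theorem minkowski {q : ℕ} (hq : 0 < q) (htor : ∀ x : V, ∀ m : ℤ, m ≠ 0 → m • x = 0 → (q : ℤ) • x = 0)
    (φ : Module.End ℤ V) (h : ∀ x, ∃ y, φ x - x = (3 * q : ℤ) • y) {d : ℕ} (hd : 0 < d)
    (hord : φ ^ d = 1) : φ = 1 := by
  let n : ℤ := 3 * q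
  have hn : n ≠ 0 := by positivity
  let W : Submodule ℤ V := LinearMap.range (n • (LinearMap.id : V →ₗ[ℤ] V))
  have memW : ∀ y, n • y ∈ W := fun y => ⟨y, rfl⟩
  haveI : Module.Finite ℤ W := inferInstance
  have tf : ∀ (m : ℤ) (w : W), m • w = 0 → m = 0 ∨ w = 0 := by
    rintro m ⟨_, y, rfl⟩ hw
    refine or_iff_not_imp_left.2 fun hm => Subtype.ext ?_
    have hw' : (m * n) • y = 0 := by
      have := congrArg Subtype.val hw
      simpa [mul_smul] using this
    have := htor y (m * n) (mul_ne_zero hm hn) hw'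
    show n • y = 0
    rw [show n • y = (3 : ℤ) • ((q : ℤ) • y) by rw [smul_smul], this, smul_zero]
  haveI : NoZeroSMulDivisors ℤ W := ⟨fun {c x} hx => tf c x hx⟩
  haveI : Module.IsTorsionFree ℤ W := inferInstance
  have hW : ∀ x ∈ W, φ x ∈ W := by
    rintro _ ⟨y, rfl⟩
    exact ⟨φ y, (map_smul φ n y).symm⟩
  let ψ : Module.End ℤ W := φ.restrict hW
  have hψpow : ∀ (j : ℕ) (w : W), ((ψ ^ j) w : V) = (φ ^ j) w := by
    intro j
    induction j with
    | zero => intro w; rfl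
    | succ j ih =>
      intro w
      rw [pow_succ', pow_succ', Module.End.mul_apply, Module.End.mul_apply, ← ih]
      rfl
  have hψ : ψ = 1 := by
    refine minkowski_free ψ ?_ hd (LinearMap.ext fun w => Subtype.ext ?_)
    · rintro ⟨_, y, rfl⟩
      obtain ⟨z, hz⟩ := h y
      refine ⟨(q : ℤ) • ⟨n • z, memW z⟩, Subtype.ext ?_⟩
      show φ (n • y) - n • y = (3 : ℤ) • ((q : ℤ) • (n • z))
      rw [map_smul, ← smul_sub, hz, smul_smul, smul_smul, smul_smul]
    · rw [hψpow, hord]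
      rfl
  refine LinearMap.ext fun x => ?_
  rw [Module.End.one_apply]
  obtain ⟨z, hz⟩ := h x
  have h0 : n • (φ x - x) = 0 := by
    have := congrArg Subtype.val (LinearMap.congr_fun hψ ⟨n • x, memW x⟩)
    rw [Module.End.one_apply] at this
    rw [smul_sub, sub_eq_zero, ← map_smul]
    exact this
  have hq0 : (q : ℤ) • z = 0 := htor z (n * n) (mul_ne_zero hn hn) (by rw [mul_smul, ← hz]; exact h0)
  rw [← sub_eq_zero, hz, mul_smul, hq0, smul_zero]

end Groth.Agent.MultT
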