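import Groth.Agent.MultT.GaloisDiag
import Groth.Agent.MultT.FiniteProj
import Groth.Agent.MultT.SplitConn
import Mathlib

/-!
# Over an integrally closed domain groups of multiplicative type of finite type are isotrivial
-/

set_option autoImplicit false
set_option linter.style.haveILetI false

universe u

open TensorProduct

noncomputable section

namespace Groth.Agent.MultT

/-- Étale extensions keep integrally closed subrings integrally closed. -/
theorem exists_tmul_one_of_isIntegral {R B T : Type u} [CommRing R] [CommRing B] [Algebra R B] [CommRing T]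
    [Algebra R T] [Algebra.Smooth R T] (hB : integralClosure R B = ⊥) {x : T ⊗[R] B}
    (hx : IsIntegral T x) : ∃ t : T, x = t ⊗ₜ[R] (1 : B) := by
  obtain ⟨z, hz⟩ := (TensorProduct.toIntegralClosure_bijective_of_smooth (R := R) (S := T) (B := B)).2 ⟨x, hx⟩
  have key : ∀ w, ∃ t : T, ((TensorProduct.toIntegralClosure R T B w : integralClosure T (T ⊗[R] B)) : T ⊗[R] B) =
      t ⊗ₜ[R] (1 : B) := by
    intro w
    induction w using TensorProduct.induction_on with
    | zero => exact ⟨0, by simp⟩
    | add u v hu hv =>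
      obtain ⟨a, ha⟩ := hu
      obtain ⟨b, hb⟩ := hv
      exact ⟨a + b, by simp [ha, hb, TensorProduct.add_tmul]⟩
    | tmul t y =>
      obtain ⟨r, hr⟩ := Algebra.mem_bot.1 ((SetLike.ext_iff.1 hB (y : B)).1 y.2)
      refine ⟨r • t, ?_⟩
      rw [TensorProduct.smul_tmul, ← Algebra.algebraMap_eq_smul_one, hr]
      rfl
  obtain ⟨t, ht⟩ := key z
  exact ⟨t, by rw [← ht, hz]⟩

theorem isIntegral_of_idempotent {R B : Type u} [CommRing R] [CommRing B] [Algebra R B] {e : B}
    (he : IsIdempotentElem e) : IsIntegral R e :=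
  ⟨Polynomial.X ^ 2 - Polynomial.X,
    Polynomial.monic_X_pow_sub (lt_of_le_of_lt Polynomial.degree_X_le (by norm_num)),
    by simp [pow_two, he.eq]⟩

/-- A submodule containing an element locally for faithfully flat extensions of a Zariski cover contains it. -/
theorem mem_of_locally {S P : Type u} [CommRing S] [AddCommGroup P] [Module S P] (U : Submodule S P) {x : P}
    {s : Set S} (hs : Ideal.span s = ⊤)
    (h : ∀ f ∈ s, ∃ (T : Type u) (_ : CommRing T) (_ : Algebra S T) (_ : Algebra (Localization.Away f) T)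
      (_ : IsScalarTower S (Localization.Away f) T), Module.FaithfullyFlat (Localization.Away f) T ∧
      (1 : T) ⊗ₜ[S] U.mkQ x = 0) : x ∈ U := by
  let q := U.mkQ x
  let I : Ideal S := LinearMap.ker (LinearMap.toSpanSingleton S (P ⧸ U) q)
  suffices hI : I = ⊤ by
    have : (1 : S) ∈ I := hI ▸ Submodule.mem_top
    rw [LinearMap.mem_ker, LinearMap.toSpanSingleton_apply, one_smul] at this
    exact (Submodule.Quotient.mk_eq_zero U).1 this
  have hpow : ∀ f ∈ s, f ∈ Ideal.radical I := by
    intro f hf
    obtain ⟨T, _, _, _, _, hff, h0⟩ := h f hf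
    have h1 : (1 : Localization.Away f) ⊗ₜ[S] q = 0 := by
      apply Module.FaithfullyFlat.tensorProduct_mk_injective (A := Localization.Away f) (B := T)
      rw [map_zero]
      apply (AlgebraTensorModule.cancelBaseChange S (Localization.Away f) T T (P ⧸ U)).injective
      rw [map_zero, TensorProduct.mk_apply, AlgebraTensorModule.cancelBaseChange_tmul, one_smul]
      exact h0
    have hl : IsLocalizedModule (.powers f) (TensorProduct.mk S (Localization.Away f) (P ⧸ U) 1) :=
      (isLocalizedModule_iff_isBaseChange (.powers f) (Localization.Away f) _).2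
        (TensorProduct.isBaseChange S (P ⧸ U) (Localization.Away f))
    obtain ⟨⟨_, k, rfl⟩, hk⟩ := (IsLocalizedModule.eq_zero_iff (.powers f)
      (TensorProduct.mk S (Localization.Away f) (P ⧸ U) 1)).1 h1
    exact ⟨k, hk⟩
  rw [← Ideal.radical_eq_top, eq_top_iff, ← hs, Ideal.span_le]
  exact hpow

/-- Diagonalisable at the generic point, hence diagonalisable. -/
theorem isDiag_of_generic {R : Type u} [CommRing R] {A : Type u} [CommRing A] [HopfAlgebra R A]
    (hA : SGA3b.IsMultType R A) [Algebra.FiniteType R A]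
    {K : Type u} [Field K] [Algebra R K] (hinj : Function.Injective (algebraMap R K))
    (hint : integralClosure R K = ⊥) (hK : SGA3b.IsDiag K (K ⊗[R] A)) : SGA3b.IsDiag R A := by
  classical
  haveI : Module.Flat R A := flat hA
  haveI : IsDomain R := hinj.isDomain
  haveI : Module.IsTorsionFree R A := inferInstance
  obtain ⟨M, _, ⟨eK⟩⟩ := hK
  let ι : A →ₗ[R] K ⊗[R] A := TensorProduct.mk R K A 1
  have hιinj : Function.Injective ι := fun a b h => by
    have h' : chStage (Algebra.ofId R K) A ((1 : R) ⊗ₜ a) = chStage (Algebra.ofId R K) A ((1 : R) ⊗ₜ b) := by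
      simpa [ι] using h
    simpa using congrArg (TensorProduct.lid R A) (chStage_injective (Algebra.ofId R K) hinj h')
  obtain ⟨s, hs, hq⟩ := isQuasiIsotrivial hA
  -- étale covers
  have hcov : ∀ f ∈ s, ∃ (T : Type u) (_ : CommRing T) (_ : Algebra R T) (_ : Algebra (Localization.Away f) T)
      (_ : IsScalarTower R (Localization.Away f) T), Algebra.Etale R T ∧
      Module.FaithfullyFlat (Localization.Away f) T ∧ SGA3b.IsDiag T (T ⊗[R] A) := by
    intro f hf
    obtain ⟨T, _, _, het, hff, hd⟩ := hq f hf
    letI : Algebra R T := Algebra.compHom T (algebraMap R (Localization.Away f))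
    haveI : IsScalarTower R (Localization.Away f) T := .of_algebraMap_eq fun _ => rfl
    haveI : Algebra.Etale R (Localization.Away f) := Algebra.Etale.of_isLocalizationAway f
    exact ⟨T, inferInstance, inferInstance, inferInstance, inferInstance,
      Algebra.Etale.comp R (Localization.Away f) T, hff,
      isDiag_of_equiv (bcTrans R (Localization.Away f) T A).symm hd⟩
  -- comparison over a cover
  have hloc : ∀ (T : Type u) [CommRing T] [Algebra R T] [Algebra.Etale R T],
      Function.Injective (chStage (Algebra.TensorProduct.includeLeft : T →ₐ[R] T ⊗[R] K) A) ∧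
      ∀ x : T ⊗[R] K, IsIdempotentElem x →
        ∃ t, (Algebra.TensorProduct.includeLeft : T →ₐ[R] T ⊗[R] K) t = x := by
    intro T _ _ _
    refine ⟨chStage_injective _ ?_, fun x hx => ?_⟩
    · intro a b h
      have : Function.Injective ((Algebra.linearMap R K).lTensor T) :=
        Module.Flat.lTensor_preserves_injective_linearMap _ hinj
      simpa using congrArg (TensorProduct.rid R T) (this
        (a₁ := a ⊗ₜ (1 : R)) (a₂ := b ⊗ₜ (1 : R)) (by simpa using h))
    · obtain ⟨t, ht⟩ := exists_tmul_one_of_isIntegral hint (isIntegral_of_idempotent (R := T) hx)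
      exact ⟨t, ht.symm⟩
  -- generic group-like elements are defined over the base
  have hdef : ∀ m : M, ∃ a : A, ι a = eK.symm (MonoidAlgebra.single m 1) := by
    intro m
    refine mem_of_locally (LinearMap.range ι) hs fun f hf => ?_
    obtain ⟨T, _, _, _, _, het, hff, N, _, ⟨eT⟩⟩ := hcov f hf
    refine ⟨T, inferInstance, inferInstance, inferInstance, inferInstance, hff, ?_⟩
    haveI := het
    obtain ⟨hinjT, hid⟩ := hloc T
    obtain ⟨e', -, he'⟩ := exists_bialgEquiv_stage eT
      (Algebra.TensorProduct.includeLeft : T →ₐ[R] T ⊗[R] K)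
    obtain ⟨σ, c, hc, hu⟩ := exists_idem_expansion e'
      (isGroupLikeElem_chStage (Algebra.TensorProduct.includeRight : K →ₐ[R] T ⊗[R] K)
        ((MonoidAlgebra.isGroupLikeElem_single_one m).map eK.symm))
    choose t ht using fun n => hid (c n) (hc n)
    have hu' : chStage (Algebra.TensorProduct.includeRight : K →ₐ[R] T ⊗[R] K) A
        (eK.symm (MonoidAlgebra.single m 1)) = chStage (Algebra.TensorProduct.includeLeft : T →ₐ[R] T ⊗[R] K) A
          (∑ n ∈ σ, t n • eT.symm (MonoidAlgebra.single n 1)) := by
      rw [hu, map_sum]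
      refine Finset.sum_congr rfl fun n _ => ?_
      rw [chStage_smul, ht, he']
    let z := ∑ n ∈ σ, t n • eT.symm (MonoidAlgebra.single n 1)
    let sh : (T ⊗[R] K) ⊗[R] A →ₗ[R] T ⊗[R] (K ⊗[R] A) := (TensorProduct.assoc R T K A).toLinearMap
    have h1 : ∀ w : K ⊗[R] A,
        sh (chStage (Algebra.TensorProduct.includeRight : K →ₐ[R] T ⊗[R] K) A w) = (1 : T) ⊗ₜ[R] w := by
      intro w
      induction w using TensorProduct.induction_on with
      | zero => simp
      | add u v hu hv => simp only [map_add, TensorProduct.tmul_add, hu, hv]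
      | tmul k a => simp [sh]
    have h2 : ∀ w : T ⊗[R] A, (LinearMap.range ι).mkQ.lTensor T
        (sh (chStage (Algebra.TensorProduct.includeLeft : T →ₐ[R] T ⊗[R] K) A w)) = 0 := by
      intro w
      induction w using TensorProduct.induction_on with
      | zero => simp
      | add u v hu hv => simp only [map_add, hu, hv, add_zero]
      | tmul t' a =>
        have : (LinearMap.range ι).mkQ ((1 : K) ⊗ₜ[R] a) = 0 := (Submodule.Quotient.mk_eq_zero _).2 ⟨a, rfl⟩
        simp [sh, this]
    rw [← LinearMap.lTensor_tmul, ← h1, hu', h2]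
  choose b hb using hdef
  have hbgl : ∀ m, IsGroupLikeElem R (b m) := by
    intro m
    have h : IsGroupLikeElem R ((1 : R) ⊗ₜ[R] b m) := by
      apply isGroupLikeElem_of_chStage (Algebra.ofId R K) hinj
      rw [show chStage (Algebra.ofId R K) A ((1 : R) ⊗ₜ[R] b m) = ι (b m) by simp [ι], hb]
      exact (MonoidAlgebra.isGroupLikeElem_single_one m).map eK.symm
    simpa using h.map (Bialgebra.TensorProduct.lid R A)
  refine isDiag_of_span (eq_top_iff.2 fun a _ => ?_)
  suffices ha : a ∈ Submodule.span R (Set.range b) from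
    Submodule.span_mono (Set.range_subset_iff.2 hbgl) ha
  let U : Submodule R A := Submodule.span R (Set.range b)
  refine mem_of_locally U hs fun f hf => ?_
  obtain ⟨T, _, _, _, _, het, hff, N, _, ⟨eT⟩⟩ := hcov f hf
  refine ⟨T, inferInstance, inferInstance, inferInstance, inferInstance, hff, ?_⟩
  haveI := het
  obtain ⟨hinjT, hid⟩ := hloc T
  obtain ⟨e', -, he'⟩ := exists_bialgEquiv_stage eK
    (Algebra.TensorProduct.includeRight : K →ₐ[R] T ⊗[R] K)
  have hgen : ∀ n : N, U.mkQ.baseChange T (eT.symm (MonoidAlgebra.single n 1)) = 0 := by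
    intro n
    obtain ⟨σ, c, hc, hu⟩ := exists_idem_expansion e'
      (isGroupLikeElem_chStage (Algebra.TensorProduct.includeLeft : T →ₐ[R] T ⊗[R] K)
        ((MonoidAlgebra.isGroupLikeElem_single_one n).map eT.symm))
    choose t ht using fun m => hid (c m) (hc m)
    have hu' : eT.symm (MonoidAlgebra.single n 1) = ∑ m ∈ σ, t m • ((1 : T) ⊗ₜ[R] b m) := by
      apply hinjT
      rw [hu, map_sum]
      refine Finset.sum_congr rfl fun m _ => ?_
      rw [chStage_smul, ht, he', ← hb]
      simp [ι]
    rw [hu', map_sum]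
    refine Finset.sum_eq_zero fun m _ => ?_
    rw [map_smul, LinearMap.baseChange_tmul,
      show U.mkQ (b m) = 0 from (Submodule.Quotient.mk_eq_zero U).2 (Submodule.subset_span ⟨m, rfl⟩),
      TensorProduct.tmul_zero, smul_zero]
  have hall : ∀ z, U.mkQ.baseChange T (eT.symm z) = 0 := by
    intro z
    induction z using MonoidAlgebra.induction_linear with
    | zero => simp
    | add u v hu hv => rw [map_add, map_add, hu, hv, add_zero]
    | single n r =>
      rw [show MonoidAlgebra.single n r = r • MonoidAlgebra.single n (1 : T) by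
        rw [MonoidAlgebra.smul_single, smul_eq_mul, mul_one], map_smul, map_smul, hgen, smul_zero]
  have := hall (eT ((1 : T) ⊗ₜ a))
  rwa [eT.symm_apply_apply, LinearMap.baseChange_tmul] at this

/-- Ideals of reduced artinian rings are generated by idempotents. -/
theorem exists_idempotent_span {B : Type u} [CommRing B] [IsArtinianRing B] [IsReduced B] (m : Ideal B) :
    ∃ e : B, IsIdempotentElem e ∧ m = Ideal.span {e} := by
  obtain ⟨n, hn⟩ := IsArtinian.monotone_stabilizes (R := B) (M := B)
    ⟨fun k => OrderDual.toDual (m ^ k), fun a b h => Ideal.pow_le_pow_right h⟩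
  have h2 : IsIdempotentElem (m ^ (n + 1)) := by
    show m ^ (n + 1) * m ^ (n + 1) = m ^ (n + 1)
    rw [← pow_add]
    exact ((hn (n + 1 + (n + 1)) (by omega)).symm.trans (hn (n + 1) (by omega)))
  obtain ⟨e, he, hme⟩ := (Ideal.isIdempotentElem_iff_of_fg _ (IsNoetherian.noetherian (m ^ (n + 1)))).1 h2
  have hme' : m ^ (n + 1) = Ideal.span {e} := hme
  refine ⟨e, he, le_antisymm (fun x hx => ?_) (hme' ▸ Ideal.pow_le_self (Nat.succ_ne_zero n))⟩
  rw [Ideal.mem_span_singleton]
  have h0 : x * (1 - e) = 0 := by
    obtain ⟨y, hy⟩ := Ideal.mem_span_singleton.1 (hme' ▸ Ideal.pow_mem_pow hx (n + 1))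
    refine IsReduced.eq_zero _ ⟨n + 1, ?_⟩
    rw [mul_pow, he.one_sub.pow_succ_eq, hy]
    linear_combination (-y) * he.eq
  exact ⟨x, by linear_combination h0⟩

/-- A field-valued component of a finite étale algebra over an integrally closed domain. -/
theorem exists_component {R : Type u} [CommRing R] {K : Type u} [Field K] [Algebra R K]
    (hinj : Function.Injective (algebraMap R K)) (hint : integralClosure R K = ⊥)
    (S₀ : Type u) [CommRing S₀] [Algebra R S₀] [Algebra.Etale R S₀] [Module.Finite R S₀]
    [Module.FaithfullyFlat R S₀] :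
    ∃ (S : Type u) (_ : CommRing S) (_ : Algebra R S) (_ : S₀ →ₐ[R] S), Algebra.Etale R S ∧
      Module.Finite R S ∧ Module.FaithfullyFlat R S ∧ IsField (S ⊗[R] K) := by
  haveI : Nontrivial (S₀ ⊗[R] K) :=
    Module.FaithfullyFlat.lTensor_nontrivial (R := R) (M := S₀) K
  let B := K ⊗[R] S₀
  haveI : IsArtinianRing B := IsArtinianRing.of_finite K B
  haveI : IsReduced B := Algebra.FormallyUnramified.isReduced_of_field K B
  let c : S₀ ⊗[R] K ≃ₐ[R] B := Algebra.TensorProduct.comm R S₀ K
  haveI : IsArtinianRing (S₀ ⊗[R] K) :=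
    Function.Surjective.isArtinianRing (f := c.symm.toAlgHom.toRingHom) c.symm.surjective
  haveI : IsReduced (S₀ ⊗[R] K) := isReduced_of_injective c c.injective
  obtain ⟨m, hm⟩ := Ideal.exists_maximal (S₀ ⊗[R] K)
  obtain ⟨e, he, hme⟩ := exists_idempotent_span m
  obtain ⟨e₀, he₀⟩ := exists_tmul_one_of_isIntegral hint (isIntegral_of_idempotent (R := S₀) he)
  have hincl : Function.Injective (fun x : S₀ => x ⊗ₜ[R] (1 : K)) := by
    intro a b h
    have : Function.Injective ((Algebra.linearMap R K).lTensor S₀) :=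
      Module.Flat.lTensor_preserves_injective_linearMap _ hinj
    simpa using congrArg (TensorProduct.rid R S₀) (this
      (a₁ := a ⊗ₜ (1 : R)) (a₂ := b ⊗ₜ (1 : R)) (by simpa using h))
  have he₀i : IsIdempotentElem e₀ := hincl (by
    show (e₀ * e₀) ⊗ₜ[R] (1 : K) = e₀ ⊗ₜ[R] 1
    rw [← he₀]
    conv_rhs => rw [← he.eq, he₀, Algebra.TensorProduct.tmul_mul_tmul, one_mul])
  let S := S₀ ⧸ Ideal.span {e₀}
  haveI : IsLocalization.Away (1 - e₀) S :=
    IsLocalization.away_of_isIdempotentElem he₀i.one_sub (by simp [S]) Ideal.Quotient.mk_surjective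
  haveI : Algebra.Etale S₀ S := Algebra.Etale.of_isLocalizationAway (1 - e₀)
  haveI hetS : Algebra.Etale R S := Algebra.Etale.comp R S₀ S
  haveI : Module.Finite R S :=
    Module.Finite.of_surjective (Ideal.Quotient.mkₐ R _).toLinearMap (Ideal.Quotient.mkₐ_surjective R _)
  let π : S₀ ⊗[R] K →ₐ[R] S ⊗[R] K := Algebra.TensorProduct.map (Ideal.Quotient.mkₐ R _) (AlgHom.id R K)
  have hπ : Function.Surjective π :=
    TensorProduct.map_surjective (Ideal.Quotient.mkₐ_surjective R _) Function.surjective_id
  have hker : RingHom.ker π = m := by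
    rw [Algebra.TensorProduct.map_ker _ _ (Ideal.Quotient.mkₐ_surjective R _) Function.surjective_id]
    rw [show RingHom.ker (AlgHom.id R K) = ⊥ from (RingHom.injective_iff_ker_eq_bot _).1 fun _ _ h => h,
      Ideal.map_bot, sup_bot_eq, show RingHom.ker (Ideal.Quotient.mkₐ R (Ideal.span {e₀})) = Ideal.span {e₀} from
        Ideal.Quotient.mkₐ_ker R _, Ideal.map_span, Set.image_singleton]
    simp only [Algebra.TensorProduct.includeLeft_apply, ← he₀]
    exact hme.symm
  have hfield : IsField (S ⊗[R] K) := by
    haveI := hm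
    exact MulEquiv.isField (Ideal.Quotient.maximal_ideal_iff_isField_quotient m |>.1 hm)
      ((Ideal.quotEquivOfEq hker.symm).trans (RingHom.quotientKerEquivOfSurjective hπ)).symm.toMulEquiv
  refine ⟨S, inferInstance, inferInstance, Ideal.Quotient.mkₐ R _, hetS, inferInstance, ?_, hfield⟩
  haveI : Nontrivial (S ⊗[R] K) := hfield.nontrivial
  have hRS : Function.Injective (algebraMap R S) := by
    intro a b h
    apply hinj
    apply (Algebra.TensorProduct.includeRight : K →ₐ[R] S ⊗[R] K).toRingHom.injective
    show (Algebra.TensorProduct.includeRight : K →ₐ[R] S ⊗[R] K) _ = Algebra.TensorProduct.includeRight _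
    rw [AlgHom.commutes, AlgHom.commutes, Algebra.TensorProduct.algebraMap_apply,
      Algebra.TensorProduct.algebraMap_apply, h]
  exact Module.FaithfullyFlat.of_comap_surjective
    (PrimeSpectrum.comap_surjective_iff_injective_of_finite.2 hRS)

/-- **Isotriviality over an integrally closed domain.** -/
theorem isIsotrivial_of_isIntegrallyClosed {R : Type u} [CommRing R] [IsDomain R] [IsIntegrallyClosed R]
    {A : Type u} [CommRing A] [HopfAlgebra R A] [Algebra.FiniteType R A] (hA : SGA3b.IsMultType R A) :
    SGA3b.IsIsotrivial R A := by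
  classical
  let K := FractionRing R
  have hinj : Function.Injective (algebraMap R K) := IsFractionRing.injective R K
  have hint : integralClosure R K = ⊥ := IsIntegrallyClosed.integralClosure_eq_bot R K
  obtain ⟨L, _, _, hLfin, hLsep, M, _, hMfg, ⟨eL₀⟩⟩ := exists_finite_separable_split (isMultType_baseChange hA K)
  haveI := hLfin
  haveI := hLsep
  haveI := hMfg
  letI : Algebra R L := Algebra.compHom L (algebraMap R K)
  haveI : IsScalarTower R K L := .of_algebraMap_eq fun _ => rfl
  let eL := (bcTrans R K L A).symm.trans eL₀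
  haveI : Module.Finite ℤ (Additive M) := Module.Finite.iff_addGroup_fg.2 inferInstance
  let T := Submodule.torsion ℤ (Additive M)
  haveI : Finite T := Module.finite_of_fg_torsion T (Submodule.torsion_isTorsion)
  let q := Nat.card T
  have hq : 0 < q := Nat.card_pos
  have htor : ∀ m : M, IsOfFinOrder m → m ^ q = 1 := by
    intro m hm
    obtain ⟨k, hk, hk1⟩ := isOfFinOrder_iff_pow_eq_one.1 hm
    have hmem : Additive.ofMul m ∈ T := ⟨⟨(k : ℤ), mem_nonZeroDivisors_of_ne_zero (by omega)⟩, by
      show (k : ℤ) • Additive.ofMul m = 0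
      rw [natCast_zsmul, ← ofMul_pow, hk1]
      rfl⟩
    exact congrArg (fun t : T => Additive.toMul (t : Additive M))
      (card_nsmul_eq_zero' (x := (⟨_, hmem⟩ : T)))
  haveI := isCocomm hA
  haveI : (SGA3b.torsionIdeal R A (3 * q)).IsHopfIdeal R := isHopfIdeal_torsion (R := R) (A := A) (3 * q)
  let J := SGA3b.torsionIdeal R A (3 * q)
  have hJm : SGA3b.IsMultType R (A ⧸ J) := isMultType_torsion hA _ J rfl
  haveI : Module.Finite R (A ⧸ J) :=
    finite_of_torsion hJm (by omega : 0 < 3 * q) (torsionIdeal_quotient _ J rfl)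
  haveI := isCocomm hJm
  haveI := projective hJm
  haveI := etale_dual hJm
  obtain ⟨S₀, _, _, het₀, hfin₀, hff₀, hd₀⟩ := (isIsotrivial_of_etale_dual : SGA3b.IsIsotrivial R (A ⧸ J))
  haveI := het₀
  haveI := hfin₀
  haveI := hff₀
  obtain ⟨S, _, _, φ, het, hfin, hff, hfld⟩ := exists_component hinj hint S₀
  haveI := het
  haveI := hfin
  haveI := hff
  letI : Algebra S₀ S := φ.toRingHom.toAlgebra
  haveI : IsScalarTower R S₀ S := .of_algebraMap_eq fun r => (φ.commutes r).symm
  have hdS : SGA3b.IsDiag S (S ⊗[R] (A ⧸ J)) := isDiag_baseChange hd₀ S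
  letI : Field (S ⊗[R] K) := hfld.toField
  let F := S ⊗[R] K
  letI : Algebra K F := (Algebra.TensorProduct.includeRight : K →ₐ[R] F).toRingHom.toAlgebra
  haveI : IsScalarTower R K F :=
    .of_algebraMap_eq fun r => ((Algebra.TensorProduct.includeRight : K →ₐ[R] F).commutes r).symm
  have hdF : SGA3b.IsDiag F (F ⊗[R] (A ⧸ J)) := isDiag_baseChange hdS F
  let Ω := SeparableClosure F
  haveI : IsScalarTower R K Ω := .of_algebraMap_eq fun r => by
    rw [IsScalarTower.algebraMap_apply R F Ω, IsScalarTower.algebraMap_apply R K F,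
      ← IsScalarTower.algebraMap_apply K F Ω]
  let j : L →ₐ[K] Ω := IsSepClosed.lift
  let bL := Module.finBasis K L
  let Nf : FiniteGaloisIntermediateField F Ω := FiniteGaloisIntermediateField.adjoin F (Set.range fun i => j (bL i))
  have hjN : ∀ x : L, j x ∈ Nf.toIntermediateField := by
    intro x
    rw [← bL.sum_repr x, map_sum]
    refine sum_mem fun i _ => ?_
    rw [map_smul, Algebra.smul_def, IsScalarTower.algebraMap_apply K F Ω]
    exact mul_mem (Nf.toIntermediateField.algebraMap_mem _)
      (FiniteGaloisIntermediateField.subset_adjoin F _ ⟨i, rfl⟩)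
  haveI : IsScalarTower R F Nf.toIntermediateField := .of_algebraMap_eq fun r =>
    Subtype.ext (IsScalarTower.algebraMap_apply R F Ω r)
  let jN : L →ₐ[R] Nf.toIntermediateField :=
    { toFun := fun x => ⟨j x, hjN x⟩
      map_one' := Subtype.ext (map_one j)
      map_mul' := fun x y => Subtype.ext (map_mul j x y)
      map_zero' := Subtype.ext (map_zero j)
      map_add' := fun x y => Subtype.ext (map_add j x y)
      commutes' := fun r => Subtype.ext (by
        show j (algebraMap R L r) = algebraMap R Ω r
        exact (j.restrictScalars R).commutes r) }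
  obtain ⟨eN, -⟩ := exists_bialgEquiv_stage eL jN
  haveI := flat hA
  have hF : SGA3b.IsDiag F (F ⊗[R] A) :=
    isDiag_of_galois (N := Nf.toIntermediateField) eN hq htor J rfl hdF
  have hintS : integralClosure S F = ⊥ := by
    refine eq_bot_iff.2 fun x hx => ?_
    obtain ⟨t, rfl⟩ := exists_tmul_one_of_isIntegral hint hx
    exact Algebra.mem_bot.2 ⟨t, rfl⟩
  have hSinj : Function.Injective (algebraMap S F) := by
    intro a b h
    have : Function.Injective ((Algebra.linearMap R K).lTensor S) :=
      Module.Flat.lTensor_preserves_injective_linearMap _ hinj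
    simpa using congrArg (TensorProduct.rid R S) (this
      (a₁ := a ⊗ₜ (1 : R)) (a₂ := b ⊗ₜ (1 : R))
      (by simpa using (show a ⊗ₜ[R] (1 : K) = b ⊗ₜ[R] (1 : K) from h)))
  exact ⟨S, inferInstance, inferInstance, het, hfin, hff,
    isDiag_of_generic (isMultType_baseChange hA S) hSinj hintS (isDiag_of_equiv (bcTrans R S F A) hF)⟩

end Groth.Agent.MultT
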