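import Groth.Agent.MultT.NilLift
import Groth.Agent.MultT.HenselSplit
import Groth.Agent.HopfSmDim.Versch
import Groth.Agent.Hensel.Etale
import Mathlib

/-! Diagonalisability lifts along a Noetherian henselian pair. -/

set_option autoImplicit false

open TensorProduct

universe u

namespace Groth.Agent.MultT

section Stage

variable {R : Type u} [CommRing R] {A : Type u} [CommRing A] [HopfAlgebra R A]
  {E : Type u} [CommRing E] [Algebra R E] {M : Type u} [CommGroup M]

/-- The images of the characters form a basis at a further stage. -/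
theorem exists_basis_stage (e : E ⊗[R] A ≃ₐc[E] MonoidAlgebra E M) {E' : Type u} [CommRing E'] [Algebra R E']
    (f : E →ₐ[R] E') :
    ∃ b : Module.Basis M E' (E' ⊗[R] A), ∀ l, b l = chStage f A (e.symm (MonoidAlgebra.single l (1 : E))) := by
  letI : Algebra E E' := f.toRingHom.toAlgebra
  haveI : IsScalarTower R E E' := .of_algebraMap_eq fun r => (f.commutes r).symm
  let b := (MonoidAlgebra.basis M E).map (BialgEquiv.toAlgEquiv e).symm.toLinearEquiv
  refine ⟨(Algebra.TensorProduct.basis E' b).map (TensorProduct.AlgebraTensorModule.cancelBaseChange R E E' E' A),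
    fun l => ?_⟩
  have hb : b l = e.symm (MonoidAlgebra.single l (1 : E)) := by simp [b, MonoidAlgebra.basis_apply]; rfl
  rw [Module.Basis.map_apply, Algebra.TensorProduct.basis_apply, hb]
  generalize e.symm (MonoidAlgebra.single l (1 : E)) = z
  induction z using TensorProduct.induction_on with
  | zero => simp
  | add u v hu hv => simp only [TensorProduct.tmul_add, map_add, hu, hv]
  | tmul t a =>
    rw [TensorProduct.AlgebraTensorModule.cancelBaseChange_tmul, Algebra.TensorProduct.map_tmul, AlgHom.id_apply,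
      Algebra.smul_def, mul_one]
    rfl

theorem exists_single_diag [IsLocalRing E] (e : E ⊗[R] A ≃ₐc[E] MonoidAlgebra E M) {x : E ⊗[R] A}
    (hx : IsGroupLikeElem E x) : ∃ l, x = e.symm (MonoidAlgebra.single l 1) := by
  obtain ⟨l, hl⟩ := exists_single_of_groupLike (hx.map e)
  exact ⟨l, by rw [← hl, BialgEquiv.symm_apply_apply]⟩

theorem injective_chStage_diag [IsLocalRing E] (e : E ⊗[R] A ≃ₐc[E] MonoidAlgebra E M) {E' : Type u} [CommRing E']
    [Algebra R E'] [Nontrivial E'] (f : E →ₐ[R] E') {x y : E ⊗[R] A} (hx : IsGroupLikeElem E x)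
    (hy : IsGroupLikeElem E y) (h : chStage f A x = chStage f A y) : x = y := by
  obtain ⟨l, rfl⟩ := exists_single_diag e hx
  obtain ⟨l', rfl⟩ := exists_single_diag e hy
  obtain ⟨b, hb⟩ := exists_basis_stage e f
  rw [← hb, ← hb] at h
  rw [b.injective h]

end Stage

/-- Over a field a group-like element lies in any basis of group-like elements. -/
theorem mem_range_basis {k : Type u} [Field k] {X : Type u} [CommRing X] [HopfAlgebra k X] {M : Type u}
    (b : Module.Basis M k X) (hb : ∀ l, IsGroupLikeElem k (b l)) {x : X} (hx : IsGroupLikeElem k x) :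
    ∃ l, b l = x := by
  by_contra hne
  have hns : x ∉ Set.range b := fun ⟨l, hl⟩ => hne ⟨l, hl⟩
  have hli : LinearIndepOn k id (insert x (Set.range b)) :=
    (linearIndepOn_isGroupLikeElem (R := k) (A := X)).mono (Set.insert_subset hx (by rintro _ ⟨l, rfl⟩; exact hb l))
  exact ((linearIndepOn_id_insert hns).1 hli).2 (b.mem_span x)

variable {R : Type u} [CommRing R]

/-- Reduction to the residue field separates the group-like elements. -/
theorem eq_of_residue {B : Type u} [CommRing B] [HopfAlgebra R B] (hB : SGA3b.IsMultType R B)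
    {E : Type u} [CommRing E] [Algebra R E] [IsLocalRing E] {x y : E ⊗[R] B} (hx : IsGroupLikeElem E x)
    (hy : IsGroupLikeElem E y)
    (h : chStage (IsScalarTower.toAlgHom R E (IsLocalRing.ResidueField E)) B x =
      chStage (IsScalarTower.toAlgHom R E (IsLocalRing.ResidueField E)) B y) : x = y := by
  obtain ⟨c, hff, hloc⟩ := exists_chart_localRing (isMultType_baseChange hB E)
  haveI := hff
  haveI := hloc
  letI : Algebra R c.S := Algebra.compHom c.S (algebraMap R E)
  haveI : IsScalarTower R E c.S := .of_algebraMap_eq fun _ => rfl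
  obtain ⟨e'⟩ := c.exists_bialgEquiv c.S
  let e := (bcTrans R E c.S B).symm.trans e'
  let i : E →ₐ[R] c.S := IsScalarTower.toAlgHom R E c.S
  haveI : IsLocalHom (algebraMap E c.S) := ⟨fun a ha => by
    by_contra hu
    obtain ⟨p, hp⟩ := PrimeSpectrum.comap_surjective_of_faithfullyFlat (B := c.S)
      (IsLocalRing.closedPoint E)
    have h1 : a ∈ (PrimeSpectrum.comap (algebraMap E c.S) p).asIdeal := by
      rw [hp]; exact (IsLocalRing.mem_maximalIdeal a).2 hu
    exact p.2.ne_top (Ideal.eq_top_of_isUnit_mem _ h1 ha)⟩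
  let κ := IsLocalRing.ResidueField c.S
  let π : c.S →ₐ[R] κ := IsScalarTower.toAlgHom R c.S κ
  let ρ : IsLocalRing.ResidueField E →ₐ[R] κ :=
    { IsLocalRing.ResidueField.map (algebraMap E c.S) with
      commutes' := fun r => by
        rw [IsScalarTower.algebraMap_apply R E (IsLocalRing.ResidueField E)]
        show IsLocalRing.ResidueField.map (algebraMap E c.S) (IsLocalRing.residue E (algebraMap R E r)) = _
        rw [IsLocalRing.ResidueField.map_residue, ← IsScalarTower.algebraMap_apply,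
          IsScalarTower.algebraMap_apply R c.S κ]
        rfl }
  have hcomp : ρ.comp (IsScalarTower.toAlgHom R E (IsLocalRing.ResidueField E)) = π.comp i :=
    AlgHom.ext fun a => IsLocalRing.ResidueField.map_residue _ a
  have hinj : ∀ z z' : E ⊗[R] B, chStage i B z = chStage i B z' → z = z' := by
    intro z z' hzz
    apply Module.FaithfullyFlat.tensorProduct_mk_injective (A := E) (B := c.S) (E ⊗[R] B)
    have hm : ∀ w : E ⊗[R] B, Algebra.TensorProduct.cancelBaseChange R E c.S c.S B ((1 : c.S) ⊗ₜ[E] w) = chStage i B w := by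
      intro w
      induction w using TensorProduct.induction_on with
      | zero => simp
      | add u v hu hv => simp only [TensorProduct.tmul_add, map_add, hu, hv]
      | tmul t a =>
        rw [Algebra.TensorProduct.cancelBaseChange_tmul, Algebra.TensorProduct.map_tmul, AlgHom.id_apply,
          Algebra.smul_def, mul_one]
        rfl
    apply (Algebra.TensorProduct.cancelBaseChange R E c.S c.S B).injective
    rw [TensorProduct.mk_apply, TensorProduct.mk_apply, hm, hm, hzz]
  refine hinj _ _ (injective_chStage_diag e π (isGroupLikeElem_chStage i hx) (isGroupLikeElem_chStage i hy) ?_)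
  rw [chStage_chStage, chStage_chStage, ← hcomp, ← chStage_chStage, ← chStage_chStage, h]

variable {T : Type u} [CommRing T]

/-- Group-like elements of a finite group of multiplicative type lift along a henselian pair. -/
theorem exists_groupLike_lift_finite (J : Ideal T) [HenselianRing T J] {B : Type u} [CommRing B] [HopfAlgebra T B]
    [Module.Finite T B] (hB : SGA3b.IsMultType T B) {z : B}
    (hz : IsGroupLikeElem (T ⧸ J) ((1 : T ⧸ J) ⊗ₜ[T] z)) :
    ∃ g, IsGroupLikeElem T g ∧ (1 : T ⧸ J) ⊗ₜ[T] g = (1 : T ⧸ J) ⊗ₜ[T] z := by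
  haveI := isCocomm hB
  haveI := projective hB
  haveI := etale_dual hB
  let Q := T ⧸ J
  have hmul : ∀ f h : CartDual.D T B, algebraMap T Q ((f * h).ofConv z) =
      algebraMap T Q (f.ofConv z) * algebraMap T Q (h.ofConv z) := by
    intro f h
    have h1 := pairT_comul (A := B) Q ((1 : Q) ⊗ₜ[T] z) f h
    have h2 := pairT_tmul₂ (A := B) Q ((1 : Q) ⊗ₜ[T] z) ((1 : Q) ⊗ₜ[T] z) f h
    rw [← hz.comul_eq_tmul_self, comul_eq_distrib, LinearEquiv.symm_apply_apply] at h2
    rw [h2] at h1
    simpa [pairT_tmul] using h1.symm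
  have hone : algebraMap T Q ((1 : CartDual.D T B).ofConv z) = 1 := by
    have := counit_eq_pairT Q ((1 : Q) ⊗ₜ[T] z)
    rw [hz.counit_eq_one, pairT_tmul, one_mul] at this
    exact this.symm
  let σ : CartDual.D T B →ₐ[T] Q :=
    AlgHom.ofLinearMap ((Algebra.linearMap T Q).comp
      ((Module.Dual.eval T B z).comp (CartDual.toDual T B).toLinearMap)) hone hmul
  obtain ⟨τ, hτ, -⟩ := Groth.Agent.Hensel.existsUnique_algHom_lift (I := J) σ
  let θ : Module.Dual T B →ₗ[T] T := τ.toLinearMap ∘ₗ (CartDual.toDual T B).symm.toLinearMap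
  obtain ⟨w, hw⟩ := (pairT_bijective T B).2 θ
  have hwg : IsGroupLikeElem T w := by
    refine isGroupLikeElem_of_pairT T ?_ fun f h => ?_
    · rw [hw]; show τ _ = 1; exact map_one τ
    · rw [hw]; show τ _ = τ _ * τ _; exact map_mul τ f h
  refine ⟨Bialgebra.TensorProduct.lid T B w, hwg.map (Bialgebra.TensorProduct.lid T B), ?_⟩
  refine (pairT_bijective Q B).1 (LinearMap.ext fun φ => ?_)
  have hev : ∀ v : T ⊗[T] B, φ (Bialgebra.TensorProduct.lid T B v) = pairT T B v φ := by
    intro v
    induction v using TensorProduct.induction_on with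
    | zero => simp
    | add a b ha hb => simp only [map_add, LinearMap.add_apply, ha, hb]
    | tmul t b =>
      rw [pairT_tmul, Algebra.algebraMap_self_apply]
      show φ (t • b) = _
      rw [map_smul, smul_eq_mul]
  rw [pairT_tmul, pairT_tmul, one_mul, one_mul, hev, hw]
  exact hτ ((CartDual.toDual T B).symm φ)

variable {A : Type u} [CommRing A] [HopfAlgebra T A]

theorem isGroupLikeMod_baseChange {n : ℕ} {a : A} (ha : IsGroupLikeMod (R := T) (SGA3b.torsionIdeal T A n) a)
    (E : Type u) [CommRing E] [Algebra T E] :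
    IsGroupLikeMod (R := E) (SGA3b.torsionIdeal E (E ⊗[T] A) n) ((1 : E) ⊗ₜ[T] a) := by
  let J₀ := SGA3b.torsionIdeal T A n
  let J' := SGA3b.torsionIdeal E (E ⊗[T] A) n
  refine ⟨by rw [TensorProduct.counit_tmul, ha.1]; simp, ?_⟩
  have hle : J₀ ≤ Ideal.comap (Algebra.TensorProduct.includeRight : A →ₐ[T] E ⊗[T] A) J' := by
    refine Ideal.map_le_iff_le_comap.2 fun v hv => ?_
    rw [Ideal.mem_comap, Ideal.mem_comap]
    show (1 : E) ⊗ₜ[T] SGA3b.powConv T A n v ∈ J'
    rw [← Groth.Agent.VerschComp.powConv_one_tmul]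
    refine Ideal.mem_map_of_mem _ (RingHom.mem_ker.2 ?_)
    have : Coalgebra.counit (R := T) v = 0 := hv
    simp [this]
  let ψ : (A ⧸ J₀) →ₐ[T] (E ⊗[T] A) ⧸ J' :=
    Ideal.Quotient.liftₐ J₀ ((Ideal.Quotient.mkₐ T J').comp Algebra.TensorProduct.includeRight)
      fun v hv => Ideal.Quotient.eq_zero_iff_mem.2 (hle hv)
  let Λ : (A ⧸ J₀) ⊗[T] (A ⧸ J₀) →ₗ[T] ((E ⊗[T] A) ⧸ J') ⊗[E] ((E ⊗[T] A) ⧸ J') :=
    TensorProduct.lift (((TensorProduct.mk E ((E ⊗[T] A) ⧸ J') ((E ⊗[T] A) ⧸ J')).restrictScalars₁₂ T T).compl₁₂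
      ψ.toLinearMap ψ.toLinearMap)
  have h1 : ∀ t : A ⊗[T] A, Algebra.TensorProduct.map (Ideal.Quotient.mkₐ E J') (Ideal.Quotient.mkₐ E J')
      (TensorProduct.AlgebraTensorModule.distribBaseChange T E A A ((1 : E) ⊗ₜ[T] t)) =
      Λ (Algebra.TensorProduct.map (Ideal.Quotient.mkₐ T J₀) (Ideal.Quotient.mkₐ T J₀) t) := by
    intro t
    induction t using TensorProduct.induction_on with
    | zero => simp
    | add u v hu hv => simp only [TensorProduct.tmul_add, map_add, hu, hv]
    | tmul u v => rw [TensorProduct.AlgebraTensorModule.distribBaseChange_tmul]; rfl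
  rw [comul_eq_distrib, LinearMap.baseChange_tmul, h1, ha.2]
  rfl

theorem span_mod_baseChange {n : ℕ}
    (h : ∀ b : A, ∃ y ∈ Submodule.span T {a : A | IsGroupLikeMod (R := T) (SGA3b.torsionIdeal T A n) a},
      b - y ∈ SGA3b.torsionIdeal T A n)
    (E : Type u) [CommRing E] [Algebra T E] (b : E ⊗[T] A) :
    ∃ y ∈ Submodule.span E {a : E ⊗[T] A | IsGroupLikeMod (R := E) (SGA3b.torsionIdeal E (E ⊗[T] A) n) a},
      b - y ∈ SGA3b.torsionIdeal E (E ⊗[T] A) n := by
  induction b using TensorProduct.induction_on with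
  | zero => exact ⟨0, zero_mem _, by simp⟩
  | add u v hu hv =>
    obtain ⟨y, hy, hyu⟩ := hu
    obtain ⟨z, hz, hzv⟩ := hv
    exact ⟨y + z, add_mem hy hz, by rw [add_sub_add_comm]; exact add_mem hyu hzv⟩
  | tmul t a =>
    obtain ⟨y, hy, hay⟩ := h a
    refine ⟨t • ((1 : E) ⊗ₜ[T] y), Submodule.smul_mem _ _ ?_, ?_⟩
    · clear hay
      induction hy using Submodule.span_induction with
      | mem x hx => exact Submodule.subset_span (isGroupLikeMod_baseChange hx E)
      | zero => simp
      | add x z _ _ hx hz => rw [TensorProduct.tmul_add]; exact add_mem hx hz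
      | smul r x _ hx => rw [TensorProduct.tmul_smul, ← algebraMap_smul E r ((1 : E) ⊗ₜ[T] x)]; exact Submodule.smul_mem _ _ hx
    · have h1 : (1 : E) ⊗ₜ[T] (a - y) ∈ SGA3b.torsionIdeal E (E ⊗[T] A) n := by
        have hle : Ideal.map (Algebra.TensorProduct.includeRight : A →ₐ[T] E ⊗[T] A) (SGA3b.torsionIdeal T A n) ≤
            SGA3b.torsionIdeal E (E ⊗[T] A) n := by
          refine Ideal.map_le_iff_le_comap.2 (Ideal.map_le_iff_le_comap.2 fun v hv => ?_)
          rw [Ideal.mem_comap, Ideal.mem_comap]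
          show (1 : E) ⊗ₜ[T] SGA3b.powConv T A n v ∈ _
          rw [← Groth.Agent.VerschComp.powConv_one_tmul]
          refine Ideal.mem_map_of_mem _ (RingHom.mem_ker.2 ?_)
          have : Coalgebra.counit (R := T) v = 0 := hv
          simp [this]
        exact hle (Ideal.mem_map_of_mem _ hay)
      rw [show t ⊗ₜ[T] a - t • ((1 : E) ⊗ₜ[T] y) = t • ((1 : E) ⊗ₜ[T] (a - y)) by
        rw [TensorProduct.tmul_sub, smul_sub]; simp [TensorProduct.smul_tmul']]
      rw [Algebra.smul_def]
      exact Ideal.mul_mem_left _ _ h1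

/-- Elements of a module vanishing at every maximal ideal vanish. -/
theorem eq_zero_of_localizations {V : Type u} [AddCommGroup V] [Module T V] (z : V)
    (h : ∀ (m : Ideal T) [m.IsMaximal], (1 : Localization.AtPrime m) ⊗ₜ[T] z = 0) : z = 0 := by
  by_contra hne
  obtain ⟨m, hm, hle⟩ := Ideal.exists_le_maximal (Submodule.colon (⊥ : Submodule T V) ({z} : Set V))
    (fun ht => hne (by
      have h1 : (1 : T) ∈ Submodule.colon (⊥ : Submodule T V) ({z} : Set V) := ht ▸ Submodule.mem_top
      simpa [Submodule.mem_colon_singleton] using h1))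
  haveI := hm
  obtain ⟨c, hc⟩ := (IsLocalizedModule.eq_zero_iff m.primeCompl
    (TensorProduct.mk T (Localization.AtPrime m) V 1)).1 (h m)
  exact c.2 (hle (Submodule.mem_colon_singleton.2 ((Submodule.mem_bot T).2 hc)))

/-- Characters are separated by the torsion subgroups. -/
theorem eq_of_forall_torsion [Algebra.FiniteType T A] {E : Type u} [CommRing E] [Algebra T E] [IsLocalRing E]
    {M : Type u} [CommGroup M] (e : E ⊗[T] A ≃ₐc[E] MonoidAlgebra E M)
    {x y : E ⊗[T] A} (hx : IsGroupLikeElem E x) (hy : IsGroupLikeElem E y)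
    (h : ∀ n : ℕ, 0 < n → (Ideal.Quotient.mkₐ T (SGA3b.torsionIdeal T A n)).toLinearMap.lTensor E x =
      (Ideal.Quotient.mkₐ T (SGA3b.torsionIdeal T A n)).toLinearMap.lTensor E y) : x = y := by
  obtain ⟨l, rfl⟩ := exists_single_diag e hx
  obtain ⟨l', rfl⟩ := exists_single_diag e hy
  let c := chartOfBaseChange e
  haveI : Nontrivial c.S := inferInstanceAs (Nontrivial E)
  have hfg : Group.FG M := c.group_fg
  have key : ∀ n : ℕ, 0 < n → modPow E M n (MonoidAlgebra.single l 1 - MonoidAlgebra.single l' 1) = 0 := by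
    intro n hn
    let z := e.symm (MonoidAlgebra.single l (1 : E)) - e.symm (MonoidAlgebra.single l' (1 : E))
    have hex := lTensor_exact E (f := ((SGA3b.torsionIdeal T A n).restrictScalars T).subtype)
      (g := (Ideal.Quotient.mkₐ T (SGA3b.torsionIdeal T A n)).toLinearMap)
      (fun a => ⟨fun ha => ⟨⟨a, Ideal.Quotient.eq_zero_iff_mem.1 ha⟩, rfl⟩,
        by rintro ⟨b, rfl⟩; exact Ideal.Quotient.eq_zero_iff_mem.2 b.2⟩)
      Ideal.Quotient.mk_surjective
    obtain ⟨w, hw⟩ := (hex z).mp (by simp only [z, map_sub]; rw [h n hn, sub_self])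
    have hkill : ∀ w, modPow E M n
        (e (((SGA3b.torsionIdeal T A n).restrictScalars T).subtype.lTensor E w)) = 0 := by
      intro w
      induction w using TensorProduct.induction_on with
      | zero => simp
      | add u v hu hv => simp only [map_add, hu, hv, add_zero]
      | tmul s v =>
        rw [LinearMap.lTensor_tmul, Submodule.subtype_apply,
          show s ⊗ₜ[T] (v : A) = s • ((1 : E) ⊗ₜ[T] (v : A)) by rw [TensorProduct.smul_tmul', smul_eq_mul, mul_one],
          map_smul, map_smul]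
        have hj : c.j (v : A) = e ((1 : E) ⊗ₜ[T] (v : A)) := by
          show e ((1 : E) ⊗ₜ[T] ((1 : T) • (v : A))) = _
          rw [one_smul]
        have hv0 : modPow E M n (e ((1 : E) ⊗ₜ[T] (v : A))) = 0 := hj ▸ c.modPow_j_torsion n v.2
        rw [hv0, smul_zero]
    have := hkill w
    rw [hw] at this
    simpa [z] using this
  obtain ⟨k, hk⟩ := dense_group (1 : MonoidAlgebra E M) (MonoidAlgebra.single l 1 - MonoidAlgebra.single l' 1)
    fun n hn => ⟨0, by rw [pow_zero, one_mul]; exact key n hn⟩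
  rw [one_pow, one_mul, sub_eq_zero] at hk
  rw [hk]

/-- Diagonalisability lifts along a Noetherian henselian pair. -/
theorem isDiag_of_henselian_pair [IsNoetherianRing T] (J : Ideal T) [HenselianRing T J]
    (hA : SGA3b.IsMultType T A) [Algebra.FiniteType T A] (h0 : SGA3b.IsDiag (T ⧸ J) ((T ⧸ J) ⊗[T] A)) :
    SGA3b.IsDiag T A := by
  classical
  obtain ⟨M, _, ⟨e₀⟩⟩ := h0
  haveI := isCocomm hA
  haveI := fun n => isHopfIdeal_torsion (R := T) (A := A) n
  have hjac : J ≤ (⊥ : Ideal T).jacobson := HenselianRing.jac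
  let y₀ : M → (T ⧸ J) ⊗[T] A := fun k => e₀.symm (MonoidAlgebra.single k (1 : T ⧸ J))
  have hy₀ : ∀ k, IsGroupLikeElem (T ⧸ J) (y₀ k) := fun k =>
    (MonoidAlgebra.isGroupLikeElem_single_one k).map e₀.symm
  let q := fun n => (Ideal.Quotient.mkₐ T (SGA3b.torsionIdeal T A n)).toLinearMap
  let qh := fun n => Bialgebra.Quotient.mkBialgHom (R := T) (SGA3b.torsionIdeal T A n)
  have hB : ∀ n, SGA3b.IsMultType T (A ⧸ SGA3b.torsionIdeal T A n) := fun n => isMultType_torsion hA n _ rfl
  have hqh : ∀ (n : ℕ) (E : Type u) [CommRing E] [Algebra T E] (z : E ⊗[T] A),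
      (Bialgebra.TensorProduct.map (BialgHom.id E E) (qh n) : E ⊗[T] A →ₐc[E] _) z = (q n).lTensor E z := by
    intro n E _ _ z
    induction z using TensorProduct.induction_on with
    | zero => simp
    | add u v hu hv => simp only [map_add, hu, hv]
    | tmul t a => rfl
  have hqgl : ∀ (n : ℕ) (E : Type u) [CommRing E] [Algebra T E] {z : E ⊗[T] A}, IsGroupLikeElem E z →
      IsGroupLikeElem E ((q n).lTensor E z) := fun n E _ _ z hz => by
    rw [← hqh]
    exact hz.map (Bialgebra.TensorProduct.map (BialgHom.id E E) (qh n) : E ⊗[T] A →ₐc[E] _)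
  have hqnat : ∀ (n : ℕ) {E E' : Type u} [CommRing E] [CommRing E'] [Algebra T E] [Algebra T E']
      (f : E →ₐ[T] E') (z : E ⊗[T] A),
      (q n).lTensor E' (chStage f A z) = chStage f (A ⧸ SGA3b.torsionIdeal T A n) ((q n).lTensor E z) := by
    intro n E E' _ _ _ _ f z
    induction z using TensorProduct.induction_on with
    | zero => simp
    | add u v hu hv => simp only [map_add, hu, hv]
    | tmul t a => simp
  -- lifts modulo torsion
  have hb : ∀ (n : ℕ) (k : M), 0 < n → ∃ a : A, IsGroupLikeElem T (qh n a) ∧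
      (q n).lTensor (T ⧸ J) ((1 : T ⧸ J) ⊗ₜ[T] a) = (q n).lTensor (T ⧸ J) (y₀ k) := by
    intro n k hn
    haveI : Algebra.FiniteType T (A ⧸ SGA3b.torsionIdeal T A n) :=
      Algebra.FiniteType.of_surjective (Ideal.Quotient.mkₐ T _) Ideal.Quotient.mk_surjective
    haveI := finite_of_torsion (hB n) hn (torsionIdeal_quotient n _ rfl)
    obtain ⟨z, hz⟩ := TensorProduct.mk_surjective T (A ⧸ SGA3b.torsionIdeal T A n) (T ⧸ J)
      Ideal.Quotient.mk_surjective ((q n).lTensor (T ⧸ J) (y₀ k))
    rw [TensorProduct.mk_apply] at hz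
    obtain ⟨g, hg, hgz⟩ := exists_groupLike_lift_finite J (hB n) (z := z) (by rw [hz]; exact hqgl n _ (hy₀ k))
    obtain ⟨a, rfl⟩ := Ideal.Quotient.mk_surjective g
    exact ⟨a, hg, by rw [LinearMap.lTensor_tmul]; exact hgz.trans hz⟩
  choose b hbg hb0 using hb
  -- they span modulo torsion
  have hspan : ∀ n : ℕ, 0 < n → ∀ x : A, ∃ y ∈ Submodule.span T
      {a : A | IsGroupLikeMod (R := T) (SGA3b.torsionIdeal T A n) a}, x - y ∈ SGA3b.torsionIdeal T A n := by
    intro n hn
    haveI : Algebra.FiniteType T (A ⧸ SGA3b.torsionIdeal T A n) :=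
      Algebra.FiniteType.of_surjective (Ideal.Quotient.mkₐ T _) Ideal.Quotient.mk_surjective
    haveI := finite_of_torsion (hB n) hn (torsionIdeal_quotient n _ rfl)
    let N := (Submodule.span T {a : A | IsGroupLikeMod (R := T) (SGA3b.torsionIdeal T A n) a}).map (q n)
    have hbm : ∀ k, IsGroupLikeMod (R := T) (SGA3b.torsionIdeal T A n) (b n k hn) := fun k => by
      refine ⟨?_, ?_⟩
      · rw [← CoalgHomClass.counit_comp_apply (qh n)]; exact (hbg n k hn).counit_eq_one
      · exact (CoalgHomClass.map_comp_comul_apply (qh n) (b n k hn)).trans (hbg n k hn).comul_eq_tmul_self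
    have hN : ∀ x : A ⧸ SGA3b.torsionIdeal T A n, x ∈ N ⊔ J • (⊤ : Submodule T _) := by
      intro x
      obtain ⟨a, rfl⟩ := Ideal.Quotient.mk_surjective x
      have hgen : ∀ w : MonoidAlgebra (T ⧸ J) M, ∃ v ∈ N,
          (q n).lTensor (T ⧸ J) (e₀.symm w) = (1 : T ⧸ J) ⊗ₜ[T] v := by
        intro w
        induction w using MonoidAlgebra.induction_linear with
        | zero => exact ⟨0, zero_mem _, by simp⟩
        | add u v hu hv =>
          obtain ⟨u', hu', hu''⟩ := hu
          obtain ⟨v', hv', hv''⟩ := hv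
          exact ⟨u' + v', add_mem hu' hv', by rw [map_add, map_add, hu'', hv'', TensorProduct.tmul_add]⟩
        | single k s =>
          obtain ⟨r, rfl⟩ := Ideal.Quotient.mk_surjective s
          refine ⟨r • q n (b n k hn), N.smul_mem r (Submodule.mem_map_of_mem (Submodule.subset_span (hbm k))), ?_⟩
          rw [show MonoidAlgebra.single k (Ideal.Quotient.mk J r) = r • MonoidAlgebra.single k (1 : T ⧸ J) by
              rw [MonoidAlgebra.smul_single, Algebra.smul_def, mul_one]; rfl,
            ← algebraMap_smul (T ⧸ J) r (MonoidAlgebra.single k (1 : T ⧸ J)), map_smul, algebraMap_smul, map_smul,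
            show e₀.symm (MonoidAlgebra.single k (1 : T ⧸ J)) = y₀ k from rfl, ← hb0 n k hn,
            LinearMap.lTensor_tmul, TensorProduct.tmul_smul]
      obtain ⟨v, hv, hv'⟩ := hgen (e₀ ((1 : T ⧸ J) ⊗ₜ[T] a))
      rw [BialgEquiv.symm_apply_apply, LinearMap.lTensor_tmul] at hv'
      rw [show (Ideal.Quotient.mk (SGA3b.torsionIdeal T A n)) a = v + (q n a - v) from (add_sub_cancel v _).symm]
      refine Submodule.add_mem_sup hv ?_
      have h1 : (1 : T ⧸ J) ⊗ₜ[T] (q n a - v) = 0 := by rw [TensorProduct.tmul_sub, hv', sub_self]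
      have h2 := congrArg (TensorProduct.quotTensorEquivQuotSMul (A ⧸ SGA3b.torsionIdeal T A n) J) h1
      rwa [map_zero, TensorProduct.quotTensorEquivQuotSMul_mk_one_tmul, Submodule.Quotient.mk_eq_zero] at h2
    intro x
    obtain ⟨y, hy, hyx⟩ := Submodule.mem_map.1 (Submodule.le_of_le_smul_of_le_jacobson_bot
      (Module.Finite.fg_top) hjac (fun z _ => hN z) (Submodule.mem_top (x := q n x)))
    exact ⟨y, hy, Ideal.Quotient.eq.1 hyx.symm⟩
  -- diagonalisable at the maximal ideals
  have hdiag : ∀ (m : Ideal T) [m.IsMaximal],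
      SGA3b.IsDiag (Localization.AtPrime m) (Localization.AtPrime m ⊗[T] A) := fun m _ =>
    isDiag_of_span_connected (isMultType_baseChange hA _) isLocalRing_idem_trivial
      (span_groupLike_of_torsion (isMultType_baseChange hA _) fun n hn x => span_mod_baseChange (hspan n hn) _ x)
  let P : ∀ (E : Type u) [CommRing E] [Algebra T E], M → E ⊗[T] A → Prop := fun E _ _ k g =>
    IsGroupLikeElem E g ∧ ∀ n : ℕ, ∀ hn : 0 < n, (q n).lTensor E g = (q n).lTensor E ((1 : E) ⊗ₜ[T] b n k hn)
  have hPnat : ∀ {E E' : Type u} [CommRing E] [CommRing E'] [Algebra T E] [Algebra T E']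
      (f : E →ₐ[T] E') (k : M) (g : E ⊗[T] A), P E k g → P E' k (chStage f A g) := by
    intro E E' _ _ _ _ f k g hg
    refine ⟨isGroupLikeElem_chStage f hg.1, fun n hn => ?_⟩
    rw [hqnat, hg.2 n hn, ← hqnat]
    simp
  have hloc : ∀ (p : Ideal T) [p.IsPrime], ∀ (m : Ideal T) [m.IsMaximal], p ≤ m →
      ∃ f : Localization.AtPrime m →ₐ[T] Localization.AtPrime p, True := fun p _ m _ hpm =>
    ⟨IsLocalization.liftAlgHom (M := m.primeCompl) (f := Algebra.ofId T (Localization.AtPrime p))
      fun y => IsLocalization.map_units (Localization.AtPrime p) (⟨y.1, fun h => y.2 (hpm h)⟩ : p.primeCompl),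
      trivial⟩
  have hdiagp : ∀ (p : Ideal T) [p.IsPrime],
      SGA3b.IsDiag (Localization.AtPrime p) (Localization.AtPrime p ⊗[T] A) := fun p hp => by
    obtain ⟨m, hm, hpm⟩ := Ideal.exists_le_maximal p hp.ne_top
    obtain ⟨f, -⟩ := hloc p m hpm
    letI : Algebra (Localization.AtPrime m) (Localization.AtPrime p) := f.toRingHom.toAlgebra
    haveI : IsScalarTower T (Localization.AtPrime m) (Localization.AtPrime p) :=
      .of_algebraMap_eq fun r => (f.commutes r).symm
    exact isDiag_baseChange (hdiag m) _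
  -- existence and bijectivity at maximal ideals
  have hmax : ∀ (m : Ideal T) [m.IsMaximal], ∃ (M' : Type u) (_ : CommGroup M')
      (e : Localization.AtPrime m ⊗[T] A ≃ₐc[Localization.AtPrime m] MonoidAlgebra (Localization.AtPrime m) M')
      (μ : M → M'), Function.Bijective μ ∧ (∀ x y, μ (x * y) = μ x * μ y) ∧
        ∀ k, P (Localization.AtPrime m) k (e.symm (MonoidAlgebra.single (μ k) 1)) := by
    intro m hm
    obtain ⟨M', _, ⟨e⟩⟩ := hdiag m
    let E := Localization.AtPrime m
    let κ := IsLocalRing.ResidueField E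
    let π : E →ₐ[T] κ := IsScalarTower.toAlgHom T E κ
    have hJm : ∀ x ∈ J, algebraMap T κ x = 0 := fun x hx => by
      rw [IsScalarTower.algebraMap_apply T E κ]
      refine (IsLocalRing.residue_eq_zero_iff _).2 ((IsLocalization.AtPrime.to_map_mem_maximal_iff E m x).2 ?_)
      exact (sInf_le ⟨bot_le, hm⟩ : Ideal.jacobson ⊥ ≤ m) (hjac hx)
    let φ₀ : (T ⧸ J) →ₐ[T] κ := Ideal.Quotient.liftₐ J (Algebra.ofId T κ) hJm
    obtain ⟨b₀, hb₀⟩ := exists_basis_stage e₀ φ₀
    obtain ⟨b₁, hb₁⟩ := exists_basis_stage e π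
    have hg₀ : ∀ k, IsGroupLikeElem κ (b₀ k) := fun k => by
      rw [hb₀]; exact isGroupLikeElem_chStage φ₀ (hy₀ k)
    have hg₁ : ∀ l, IsGroupLikeElem κ (b₁ l) := fun l => by
      rw [hb₁]; exact isGroupLikeElem_chStage π ((MonoidAlgebra.isGroupLikeElem_single_one l).map e.symm)
    choose μ hμ using fun k => mem_range_basis b₁ hg₁ (hg₀ k)
    refine ⟨M', inferInstance, e, μ, ⟨fun x y h => b₀.injective (by rw [← hμ, ← hμ, h]), fun l => ?_⟩,
      fun x y => b₁.injective ?_, fun k => ⟨(MonoidAlgebra.isGroupLikeElem_single_one _).map e.symm, fun n hn => ?_⟩⟩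
    · obtain ⟨k, hk⟩ := mem_range_basis b₀ hg₀ (hg₁ l)
      exact ⟨k, b₁.injective (by rw [hμ, hk])⟩
    · rw [hμ, hb₀, hb₁, ← one_mul (1 : E), ← MonoidAlgebra.single_mul_single, map_mul, map_mul, ← hb₁, ← hb₁,
        hμ, hμ, hb₀, hb₀, ← map_mul, ← map_mul, MonoidAlgebra.single_mul_single, one_mul]
    · refine eq_of_residue (hB n) (hqgl n _ ((MonoidAlgebra.isGroupLikeElem_single_one _).map e.symm)) ?_ ?_
      · rw [LinearMap.lTensor_tmul]
        rw [show (1 : E) ⊗ₜ[T] q n (b n k hn) = chStage (Algebra.ofId T E) _ ((1 : T) ⊗ₜ[T] qh n (b n k hn)) by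
          simp [q, qh]]
        exact isGroupLikeElem_chStage (Algebra.ofId T E)
          ((hbg n k hn).map (Bialgebra.TensorProduct.lid T (A ⧸ SGA3b.torsionIdeal T A n)).symm)
      · show chStage π _ _ = chStage π _ _
        rw [← hqnat, ← hqnat, ← hb₁, hμ, hb₀, hqnat, show e₀.symm (MonoidAlgebra.single k (1 : T ⧸ J)) = y₀ k from rfl,
          ← hb0 n k hn]
        simp
  -- the section at every prime
  have hG : ∀ (p : Ideal T) [p.IsPrime] (k : M), ∃ g, P (Localization.AtPrime p) k g := by
    intro p hp k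
    obtain ⟨m, hm, hpm⟩ := Ideal.exists_le_maximal p hp.ne_top
    obtain ⟨f, -⟩ := hloc p m hpm
    obtain ⟨M', _, e, μ, -, -, hP⟩ := hmax m
    exact ⟨_, hPnat f k _ (hP k)⟩
  choose G hG using hG
  have hGuniq : ∀ (p : Ideal T) [p.IsPrime] (k : M) (g : Localization.AtPrime p ⊗[T] A),
      P (Localization.AtPrime p) k g → g = G p k := by
    intro p _ k g hg
    obtain ⟨M', _, ⟨e⟩⟩ := hdiagp p
    exact eq_of_forall_torsion e hg.1 (hG p k).1 fun n hn => (hg.2 n hn).trans ((hG p k).2 n hn).symm
  -- spreading out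
  have hspread : ∀ (k : M) (m : Ideal T) [m.IsMaximal], ∃ f : T, f ∉ m ∧ ∃ a : A, ∀ (p : Ideal T) [p.IsPrime],
      f ∉ p → f • G p k = (1 : Localization.AtPrime p) ⊗ₜ[T] a := by
    intro k m hm
    let E := Localization.AtPrime m
    obtain ⟨⟨a, s⟩, hs⟩ := IsLocalizedModule.surj m.primeCompl (TensorProduct.mk T E A 1) (G m k)
    replace hs : (s : T) • G m k = (1 : E) ⊗ₜ[T] a := hs
    have hkill : ∀ {V : Type u} [AddCommGroup V] [Module T V] (v : V), (1 : E) ⊗ₜ[T] v = 0 →
        ∃ t : T, t ∉ m ∧ t • v = 0 := by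
      intro V _ _ v hv
      obtain ⟨t, ht⟩ := (IsLocalizedModule.eq_zero_iff m.primeCompl (TensorProduct.mk T E V 1)).1 hv
      exact ⟨t, t.2, ht⟩
    have hsc : algebraMap T E (Coalgebra.counit (R := T) a) = algebraMap T E (s : T) := by
      have := congrArg (Coalgebra.counit (R := E) (A := E ⊗[T] A)) hs
      rw [← algebraMap_smul E (s : T) (G m k), map_smul, (hG m k).1.counit_eq_one, smul_eq_mul, mul_one,
        TensorProduct.counit_tmul, CommSemiring.counit_apply, Algebra.smul_def, mul_one] at this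
      exact this.symm
    obtain ⟨t₁, ht₁, ht₁'⟩ := hkill (Coalgebra.counit (R := T) a - (s : T)) (by
      apply (TensorProduct.rid T E).injective
      rw [map_zero, TensorProduct.rid_tmul, sub_smul, Algebra.smul_def, Algebra.smul_def, mul_one, mul_one, hsc,
        sub_self])
    have hdef : ∀ (E' : Type u) [CommRing E'] [Algebra T E'] (x : E' ⊗[T] A),
        (s : T) • x = (1 : E') ⊗ₜ[T] a →
        algebraMap T E' ((s : T) * (s : T)) • glDefect E' x =
          (1 : E') ⊗ₜ[T] ((s : T) • Coalgebra.comul (R := T) a - a ⊗ₜ[T] a) := by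
      intro E' _ _ x hx
      rw [← algebraMap_smul E' (s : T) x] at hx
      have h1 : algebraMap T E' ((s : T) * (s : T)) • glDefect E' x =
          algebraMap T E' (s : T) • (Coalgebra.comul (R := T)).baseChange E' (algebraMap T E' (s : T) • x) -
            (TensorProduct.AlgebraTensorModule.distribBaseChange T E' A A).symm
              ((algebraMap T E' (s : T) • x) ⊗ₜ[E'] (algebraMap T E' (s : T) • x)) := by
        rw [glDefect, map_smul, TensorProduct.tmul_smul, ← TensorProduct.smul_tmul', map_smul, map_smul,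
          smul_sub, smul_smul, smul_smul, map_mul]
      rw [h1, hx, LinearMap.baseChange_tmul, distrib_symm_tmul, one_mul, TensorProduct.tmul_sub,
        TensorProduct.tmul_smul, algebraMap_smul]
    obtain ⟨t₂, ht₂, ht₂'⟩ := hkill ((s : T) • Coalgebra.comul (R := T) a - a ⊗ₜ[T] a) (by
      rw [← hdef E (G m k) hs, ((isGroupLikeElem_iff_defect _).1 (hG m k).1).2, smul_zero])
    have hfin := minimalPrimes.finite_of_isNoetherianRing T
    obtain ⟨w, hwm, hw⟩ : ∃ w, w ∉ m ∧ ∀ η ∈ minimalPrimes T, ¬ η ≤ m → w ∈ η := by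
      choose x hx hxm using fun η : {η : Ideal T // η ∈ minimalPrimes T ∧ ¬ η ≤ m} =>
        (SetLike.not_le_iff_exists.1 η.2.2 : ∃ x ∈ η.1, x ∉ m)
      haveI : Finite {η : Ideal T // η ∈ minimalPrimes T ∧ ¬ η ≤ m} :=
        (hfin.subset fun η hη => hη.1).to_subtype
      haveI := Fintype.ofFinite {η : Ideal T // η ∈ minimalPrimes T ∧ ¬ η ≤ m}
      refine ⟨∏ η, x η, fun h => ?_, fun η hη hηm =>
        Ideal.prod_mem η (i := (⟨η, hη, hηm⟩ : {η : Ideal T // η ∈ minimalPrimes T ∧ ¬ η ≤ m})) (Finset.mem_univ _) (hx ⟨η, hη, hηm⟩)⟩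
      obtain ⟨η, -, hη⟩ := hm.isPrime.prod_mem_iff.1 h
      exact hxm η hη
    refine ⟨(s : T) * (t₁ * t₂ * w), fun h => ?_, (t₁ * t₂ * w) • a, fun p hp hfp => ?_⟩
    · rcases hm.isPrime.mem_or_mem h with h | h
      · exact s.2 h
      rcases hm.isPrime.mem_or_mem h with h | h
      · rcases hm.isPrime.mem_or_mem h with h | h
        · exact ht₁ h
        · exact ht₂ h
      · exact hwm h
    let Ep := Localization.AtPrime p
    have hu : ∀ r : T, r ∉ p → IsUnit (algebraMap T Ep r) := fun r hr =>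
      IsLocalization.map_units Ep (⟨r, hr⟩ : p.primeCompl)
    have hsp : (s : T) ∉ p := fun h => hfp (Ideal.mul_mem_right _ _ h)
    have ht₁p : t₁ ∉ p := fun h => hfp (Ideal.mul_mem_left _ _ (Ideal.mul_mem_right _ _ (Ideal.mul_mem_right _ _ h)))
    have ht₂p : t₂ ∉ p := fun h => hfp (Ideal.mul_mem_left _ _ (Ideal.mul_mem_right _ _ (Ideal.mul_mem_left _ _ h)))
    have hwp : w ∉ p := fun h => hfp (Ideal.mul_mem_left _ _ (Ideal.mul_mem_left _ _ h))
    let x : Ep ⊗[T] A := (((hu _ hsp).unit⁻¹ : Epˣ) : Ep) ⊗ₜ[T] a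
    have hsx : (s : T) • x = (1 : Ep) ⊗ₜ[T] a := by
      rw [TensorProduct.smul_tmul', Algebra.smul_def, (hu _ hsp).mul_val_inv]
    have hxg : IsGroupLikeElem Ep x := by
      refine (isGroupLikeElem_iff_defect _).2 ⟨?_, ?_⟩
      · rw [TensorProduct.counit_tmul, CommSemiring.counit_apply, Algebra.smul_def]
        have h1 := congrArg (algebraMap T Ep) ht₁'
        rw [smul_eq_mul, map_mul, map_zero, IsUnit.mul_right_eq_zero (hu _ ht₁p), map_sub, sub_eq_zero] at h1
        rw [h1]
        exact (hu _ hsp).mul_val_inv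
      · have h1 := hdef Ep x hsx
        rw [← (IsUnit.smul_eq_zero (hu _ ((Ideal.IsPrime.mul_notMem inferInstance hsp hsp)))), h1,
          ← (IsUnit.smul_eq_zero (hu _ ht₂p)), algebraMap_smul, ← TensorProduct.tmul_smul, ht₂', TensorProduct.tmul_zero]
    obtain ⟨η, hη, hηp⟩ := Ideal.exists_minimalPrimes_le (I := (⊥ : Ideal T)) (J := p) bot_le
    have hηm : η ≤ m := by
      by_contra h
      exact hwp (hηp (hw η hη h))
    haveI := Ideal.minimalPrimes_isPrime hη
    obtain ⟨fm, -⟩ := hloc η m hηm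
    let fp : Ep →ₐ[T] Localization.AtPrime η :=
      IsLocalization.liftAlgHom (M := p.primeCompl) (f := Algebra.ofId T (Localization.AtPrime η))
        fun y => IsLocalization.map_units (Localization.AtPrime η) (⟨y.1, fun h => y.2 (hηp h)⟩ : η.primeCompl)
    have hx : x = G p k := by
      obtain ⟨M', _, ⟨e⟩⟩ := hdiagp p
      refine injective_chStage_diag e fp hxg (hG p k).1 ?_
      rw [hGuniq η k _ (hPnat fp k _ (hG p k)), ← hGuniq η k _ (hPnat fm k _ (hG m k))]
      have hsη : IsUnit (algebraMap T (Localization.AtPrime η) (s : T)) :=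
        IsLocalization.map_units (Localization.AtPrime η) (⟨(s : T), fun h => s.2 (hηm h)⟩ : η.primeCompl)
      apply hsη.smul_left_cancel.1
      rw [algebraMap_smul, algebraMap_smul, ← map_smul, ← map_smul, hsx, hs]
      simp
    rw [← hx, mul_comm (s : T), mul_smul, hsx, TensorProduct.tmul_smul]
  -- gluing
  have hglue : ∀ k, ∃ g : A, ∀ (p : Ideal T) [p.IsPrime], (1 : Localization.AtPrime p) ⊗ₜ[T] g = G p k := by
    intro k
    choose f hf a ha using fun m : MaximalSpectrum T => hspread k m.asIdeal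
    have htop : Ideal.span (Set.range f) = ⊤ := by
      by_contra h
      obtain ⟨m, hm, hle⟩ := Ideal.exists_le_maximal _ h
      exact hf ⟨m, hm⟩ (hle (Ideal.subset_span ⟨_, rfl⟩))
    obtain ⟨S, hS, hSspan⟩ := Submodule.mem_span_finite_of_mem_span ((Ideal.eq_top_iff_one _).1 htop)
    choose idx hidx using fun x : S => hS x.2
    let f' : S → T := fun x => f (idx x)
    let a' : S → A := fun x => a (idx x)
    have hrad : ∀ i j, ∃ N : ℕ, (f' i * f' j) ^ N • (f' j • a' i - f' i • a' j) = 0 := by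
      intro i j
      let v := f' j • a' i - f' i • a' j
      have hmem : f' i * f' j ∈ (Submodule.colon (⊥ : Submodule T A) ({v} : Set A)).radical := by
        rw [Ideal.radical_eq_sInf, Ideal.mem_sInf]
        rintro p ⟨hle, hp⟩
        haveI := hp
        by_contra hfp
        have hi : f' i ∉ p := fun h => hfp (Ideal.mul_mem_right _ _ h)
        have hj : f' j ∉ p := fun h => hfp (Ideal.mul_mem_left _ _ h)
        have hv : (1 : Localization.AtPrime p) ⊗ₜ[T] v = 0 := by
          rw [TensorProduct.tmul_sub, TensorProduct.tmul_smul, TensorProduct.tmul_smul, ← ha _ p hi, ← ha _ p hj,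
            smul_comm, sub_self]
        obtain ⟨t, ht⟩ := (IsLocalizedModule.eq_zero_iff p.primeCompl
          (TensorProduct.mk T (Localization.AtPrime p) A 1)).1 hv
        exact t.2 (hle (Submodule.mem_colon_singleton.2 ((Submodule.mem_bot T).2 ht)))
      obtain ⟨N, hN⟩ := hmem
      exact ⟨N, (Submodule.mem_bot T).1 (Submodule.mem_colon_singleton.1 hN)⟩
    choose N hN using hrad
    let N₀ := Finset.univ.sup fun ij : S × S => N ij.1 ij.2
    have hN₀ : ∀ i j, (f' i * f' j) ^ N₀ • (f' j • a' i - f' i • a' j) = 0 := by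
      intro i j
      obtain ⟨d, hd⟩ := Nat.exists_eq_add_of_le
        (Finset.le_sup (f := fun ij : S × S => N ij.1 ij.2) (Finset.mem_univ (i, j)))
      rw [show N₀ = N i j + d from hd, pow_add, mul_comm, mul_smul, hN, smul_zero]
    have htop' : Ideal.span (Set.range f') = ⊤ := by
      rw [Ideal.eq_top_iff_one]
      refine Submodule.span_mono ?_ hSspan
      intro x hx
      exact ⟨⟨x, hx⟩, hidx ⟨x, hx⟩⟩
    have hpow := Ideal.span_pow_eq_top _ htop' (N₀ + 1)
    rw [← Set.range_comp, Ideal.eq_top_iff_one, Ideal.mem_span_range_iff_exists_fun] at hpow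
    obtain ⟨c, hc⟩ := hpow
    refine ⟨∑ i, c i • f' i ^ N₀ • a' i, fun p hp => ?_⟩
    obtain ⟨j, hj⟩ : ∃ j, f' j ∉ p := by
      by_contra h
      push Not at h
      refine hp.ne_top (eq_top_iff.2 (htop' ▸ Ideal.span_le.2 ?_))
      rintro _ ⟨i, rfl⟩
      exact h i
    have hju : f' j ^ (N₀ + 1) ∉ p := fun h => hj (hp.mem_of_pow_mem _ h)
    have key : f' j ^ (N₀ + 1) • ∑ i, c i • f' i ^ N₀ • a' i = f' j ^ N₀ • a' j := by
      rw [Finset.smul_sum]
      calc ∑ i, f' j ^ (N₀ + 1) • c i • f' i ^ N₀ • a' i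
          = ∑ i, (c i * f' i ^ (N₀ + 1)) • f' j ^ N₀ • a' j := Finset.sum_congr rfl fun i _ => by
            have h := hN₀ i j
            rw [smul_sub, smul_smul, smul_smul, sub_eq_zero] at h
            simp only [smul_smul]
            rw [show f' j ^ (N₀ + 1) * (c i * f' i ^ N₀) = c i * ((f' i * f' j) ^ N₀ * f' j) by rw [mul_pow, pow_succ]; ring,
              mul_smul, h, ← mul_smul]
            congr 1
            rw [mul_pow, pow_succ]
            ring
        _ = f' j ^ N₀ • a' j := by rw [← Finset.sum_smul]; erw [hc]; rw [one_smul]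
    apply ((IsLocalization.map_units (Localization.AtPrime p) (⟨_, hju⟩ : p.primeCompl))).smul_left_cancel.1
    show algebraMap T (Localization.AtPrime p) (f' j ^ (N₀ + 1)) • _ = algebraMap T (Localization.AtPrime p) (f' j ^ (N₀ + 1)) • _
    rw [algebraMap_smul, algebraMap_smul, ← TensorProduct.tmul_smul, key, TensorProduct.tmul_smul, ← ha _ p hj,
      smul_smul, pow_succ]
  choose g hg using hglue
  have hggl : ∀ k, IsGroupLikeElem T (g k) := by
    intro k
    refine ⟨sub_eq_zero.1 (eq_zero_of_localizations (T := T) (V := T) (Coalgebra.counit (R := T) (g k) - 1) fun m hm => ?_),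
      sub_eq_zero.1 (eq_zero_of_localizations (T := T) (V := A ⊗[T] A) (Coalgebra.comul (R := T) (g k) - g k ⊗ₜ[T] g k) fun m hm => ?_)⟩
    · have := (hG m k).1.counit_eq_one
      rw [← hg k m, TensorProduct.counit_tmul, CommSemiring.counit_apply] at this
      apply (TensorProduct.rid T (Localization.AtPrime m)).injective
      rw [map_zero, TensorProduct.rid_tmul, sub_smul, one_smul, this, sub_self]
    · have := ((isGroupLikeElem_iff_defect _).1 (hG m k).1).2
      rw [← hg k m, glDefect, LinearMap.baseChange_tmul, distrib_symm_tmul, one_mul, ← TensorProduct.tmul_sub] at this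
      exact this
  have hgm : ∀ (m : Ideal T) [m.IsMaximal], ∃ (M' : Type u) (_ : CommGroup M')
      (e : Localization.AtPrime m ⊗[T] A ≃ₐc[Localization.AtPrime m] MonoidAlgebra (Localization.AtPrime m) M')
      (μ : M → M'), Function.Bijective μ ∧ (∀ x y, μ (x * y) = μ x * μ y) ∧
        ∀ k, (1 : Localization.AtPrime m) ⊗ₜ[T] g k = e.symm (MonoidAlgebra.single (μ k) 1) := by
    intro m hm
    obtain ⟨M', _, e, μ, hbij, hmul, hP⟩ := hmax m
    exact ⟨M', inferInstance, e, μ, hbij, hmul, fun k => by rw [hg k m, hGuniq m k _ (hP k)]⟩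
  have hgmul : ∀ x y, g (x * y) = g x * g y := fun x y => sub_eq_zero.1 (eq_zero_of_localizations _ fun m hm => by
    obtain ⟨M', _, e, μ, -, hmul, hgk⟩ := hgm m
    rw [TensorProduct.tmul_sub, ← one_mul (1 : Localization.AtPrime m), ← Algebra.TensorProduct.tmul_mul_tmul,
      one_mul, hgk, hgk, hgk, hmul, ← map_mul, MonoidAlgebra.single_mul_single, one_mul, sub_self])
  have hg1 : g 1 = 1 := by
    have h := hgmul 1 1
    rw [mul_one] at h
    have hu := IsGroupLikeElem.isUnit (hggl 1)
    exact (hu.mul_left_cancel (by rw [mul_one]; exact h.symm))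
  let ν : M →* GroupLike T A :=
    { toFun := fun k => ⟨g k, hggl k⟩
      map_one' := GroupLike.val_injective hg1
      map_mul' := fun x y => GroupLike.val_injective (hgmul x y) }
  let L : MonoidAlgebra T M →ₐc[T] A :=
    (MonoidAlgebra.liftGroupLikeBialgHom : MonoidAlgebra T (GroupLike T A) →ₐc[T] A).comp
      (MonoidAlgebra.mapDomainBialgHom T ν)
  let uL := (L : MonoidAlgebra T M →ₐ[T] A).toLinearMap
  have hLm : ∀ (m : Ideal T) [m.IsMaximal], Function.Bijective (uL.lTensor (Localization.AtPrime m)) := by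
    intro m hm
    obtain ⟨M', _, e, μ, hbij, -, hgk⟩ := hgm m
    let E := Localization.AtPrime m
    let sT := MonoidAlgebra.scalarTensorEquiv (M := M) T E
    have h : ∀ w, uL.lTensor E (sT.symm w) = e.symm (MonoidAlgebra.mapDomain μ w) := by
      intro w
      induction w using MonoidAlgebra.induction_linear with
      | zero => simp
      | add u v hu hv => simp only [map_add, MonoidAlgebra.mapDomain_add, hu, hv]
      | single k s =>
        rw [MonoidAlgebra.scalarTensorEquiv_symm_single, LinearMap.lTensor_tmul, MonoidAlgebra.mapDomain_single,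
          show MonoidAlgebra.single (μ k) s = s • MonoidAlgebra.single (μ k) (1 : E) by
            rw [MonoidAlgebra.smul_single, smul_eq_mul, mul_one], map_smul, ← hgk,
          TensorProduct.smul_tmul', smul_eq_mul, mul_one]
        congr 1
        simp [uL, L, ν]
    let μe := Equiv.ofBijective μ hbij
    rw [show ⇑(uL.lTensor E) = e.symm ∘ MonoidAlgebra.mapDomain μ ∘ sT from
      funext fun w => by simp only [Function.comp_apply, ← h, AlgEquiv.symm_apply_apply]]
    refine (EquivLike.bijective e.symm).comp (Function.Bijective.comp ?_ sT.bijective)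
    have hmd : (MonoidAlgebra.mapDomain μ : MonoidAlgebra E M → MonoidAlgebra E M') = MonoidAlgebra.mapDomainLinearEquiv E E μe :=
      funext fun w => by
        induction w using MonoidAlgebra.induction_linear with
        | zero => simp
        | add u v hu hv => rw [MonoidAlgebra.mapDomain_add, hu, hv, map_add]
        | single k s => simp [μe]
    rw [hmd]
    exact (MonoidAlgebra.mapDomainLinearEquiv E E μe).bijective
  refine ⟨M, inferInstance, ⟨(BialgEquiv.ofBijective L ⟨fun x y hxy => ?_, fun y => ?_⟩).symm⟩⟩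
  · refine sub_eq_zero.1 (eq_zero_of_localizations _ fun m hm => (hLm m).1 ?_)
    rw [map_zero, LinearMap.lTensor_tmul, map_sub, show uL x = uL y from hxy, sub_self, TensorProduct.tmul_zero]
  · obtain ⟨x, hx⟩ := (Submodule.Quotient.mk_eq_zero (LinearMap.range uL)).1
      (eq_zero_of_localizations ((LinearMap.range uL).mkQ y) fun m hm => by
        obtain ⟨v, hv⟩ := (hLm m).2 ((1 : Localization.AtPrime m) ⊗ₜ[T] y)
        rw [← LinearMap.lTensor_tmul, ← hv, ← LinearMap.lTensor_comp_apply,
          show (LinearMap.range uL).mkQ ∘ₗ uL = 0 from LinearMap.ext fun a =>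
            (Submodule.Quotient.mk_eq_zero _).2 ⟨a, rfl⟩, LinearMap.lTensor_zero, LinearMap.zero_apply])
    exact ⟨x, hx⟩

end Groth.Agent.MultT
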