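import Mathlib

/-! A product of Hopf algebras over the factors of a finite decomposition of the base is a Hopf algebra
over the base. -/

set_option autoImplicit false
set_option synthInstance.maxHeartbeats 400000

open TensorProduct

universe u

noncomputable section

namespace Groth.Agent.MultT.PiHopf

variable {R : Type u} [CommRing R] {K : Type u} [CommRing K] [Algebra R K]

theorem compatibleSMul_of_surjective (hs : Function.Surjective (algebraMap R K)) (M N : Type u) [AddCommGroup M]
    [Module R M] [Module K M] [IsScalarTower R K M] [AddCommGroup N] [Module R N] [Module K N]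
    [IsScalarTower R K N] : CompatibleSMul R K M N := by
  refine ⟨fun k m n => ?_⟩
  obtain ⟨r, rfl⟩ := hs k
  rw [algebraMap_smul, algebraMap_smul, TensorProduct.smul_tmul]

/-- A section of a projection to a factor. -/
theorem exists_sec {e : R} (he : IsIdempotentElem e) (hs : Function.Surjective (algebraMap R K))
    (hk : ∀ r, algebraMap R K r = 0 ↔ e * r = 0) :
    ∃ σ : K →ₗ[R] R, (∀ r, σ (algebraMap R K r) = e * r) ∧ ∀ x y, σ (x * y) = σ x * σ y := by
  choose f hf using hs
  have key : ∀ k r, algebraMap R K r = k → e * f k = e * r := fun k r h =>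
    sub_eq_zero.1 (by rw [← mul_sub, ← hk, map_sub, hf, h, sub_self])
  refine ⟨{ toFun := fun k => e * f k, map_add' := fun x y => ?_, map_smul' := fun c x => ?_ },
    fun r => key _ r rfl, fun x y => ?_⟩
  · rw [key _ (f x + f y) (by rw [map_add, hf, hf]), mul_add]
  · rw [key _ (c * f x) (by rw [map_mul, hf, Algebra.smul_def])]
    simp; ring
  · show e * f (x * y) = (e * f x) * (e * f y)
    rw [key _ (f x * f y) (by rw [map_mul, hf, hf])]
    calc e * (f x * f y) = (e * e) * (f x * f y) := by rw [he.eq]
      _ = _ := by ring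

variable {ι : Type u} [Fintype ι] [DecidableEq ι] {e : ι → R} (he : CompleteOrthogonalIdempotents e)
  {K : ι → Type u} [∀ i, CommRing (K i)] [∀ i, Algebra R (K i)]
  (hs : ∀ i, Function.Surjective (algebraMap R (K i)))
  (hk : ∀ i r, algebraMap R (K i) r = 0 ↔ e i * r = 0)
  {A : ι → Type u} [∀ i, CommRing (A i)] [∀ i, HopfAlgebra (K i) (A i)] [∀ i, Algebra R (A i)]
  [∀ i, IsScalarTower R (K i) (A i)]

include he hs hk

omit hs [DecidableEq ι] in
theorem algebraMap_idem (i : ι) : algebraMap R (K i) (e i) = 1 := by
  rw [← sub_eq_zero, ← map_one (algebraMap R (K i)), ← map_sub, hk, mul_sub, mul_one, (he.idem i).eq, sub_self]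

omit hs in
theorem smul_single (i j : ι) (a : A j) :
    e i • Pi.single (M := A) j a = if i = j then Pi.single j a else 0 := by
  rw [← Pi.single_smul, ← algebraMap_smul (K j) (e i) a]
  split_ifs with h
  · subst h; rw [algebraMap_idem he hk, one_smul]
  · rw [(hk j (e i)).2 (he.ortho (Ne.symm h)), zero_smul, Pi.single_zero]

omit hs in
theorem single_tmul_single_ne {i j : ι} (h : i ≠ j) (a : A i) (b : A j) :
    Pi.single (M := A) i a ⊗ₜ[R] Pi.single (M := A) j b = 0 := by
  have h1 := smul_single he hk i i a
  rw [if_pos rfl] at h1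
  rw [← h1, TensorProduct.smul_tmul, smul_single he hk, if_neg h, TensorProduct.tmul_zero]

omit hs hk [∀ i, CommRing (K i)] [∀ i, Algebra R (K i)] he [∀ i, HopfAlgebra (K i) (A i)]
  [∀ i, IsScalarTower R (K i) (A i)] in
theorem linearMap_ext {N : Type u} [AddCommGroup N] [Module R N] {f g : (∀ i, A i) →ₗ[R] N}
    (h : ∀ i a, f (Pi.single i a) = g (Pi.single i a)) : f = g :=
  LinearMap.pi_ext h

set_option maxHeartbeats 1000000 in
theorem exists_hopf : ∃ (B : Type u) (_ : CommRing B) (_ : HopfAlgebra R B),
    ∀ i, Nonempty ((K i ⊗[R] B) ≃ₐc[K i] A i) := by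
  classical
  choose σ hσ hσm using fun i => exists_sec (he.idem i) (hs i) (hk i)
  haveI hc : ∀ i, CompatibleSMul R (K i) (A i) (A i) := fun i => compatibleSMul_of_surjective (hs i) _ _
  let sI : ∀ i, A i →ₗ[R] (∀ j, A j) := fun i => LinearMap.single R A i
  let κ : ∀ i, A i ⊗[K i] A i →ₗ[R] (∀ j, A j) ⊗[R] (∀ j, A j) := fun i =>
    TensorProduct.map (sI i) (sI i) ∘ₗ
      ((TensorProduct.equivOfCompatibleSMul R (K i) (K i) (A i) (A i)).toLinearMap.restrictScalars R)
  have hκ : ∀ i a b, κ i (a ⊗ₜ b) = Pi.single i a ⊗ₜ Pi.single i b := fun i a b => rfl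
  have hκmul : ∀ i j x y, κ i x * κ j y = if h : i = j then κ i (x * h ▸ y) else 0 := by
    intro i j x y
    induction x using TensorProduct.induction_on with
    | zero => simp
    | add x x' hx hx' => simp only [map_add, add_mul, hx, hx']; split_ifs <;> simp
    | tmul a b =>
      induction y using TensorProduct.induction_on with
      | zero => split_ifs with h <;> [(subst h; simp); simp]
      | add y y' hy hy' =>
        simp only [map_add, mul_add, hy, hy']
        split_ifs with h
        · subst h; simp [mul_add]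
        · simp
      | tmul c d =>
        rw [hκ, hκ, Algebra.TensorProduct.tmul_mul_tmul]
        split_ifs with h
        · subst h
          simp [hκ, Pi.single_mul]
        · have h1 : Pi.single (M := A) i a * Pi.single (M := A) j c = 0 := by
            ext l
            rcases eq_or_ne l i with rfl | hl
            · rw [Pi.mul_apply, Pi.single_eq_of_ne h, mul_zero]; rfl
            · rw [Pi.mul_apply, Pi.single_eq_of_ne hl, zero_mul]; rfl
          rw [h1, TensorProduct.zero_tmul]
  let Δl : (∀ i, A i) →ₗ[R] (∀ j, A j) ⊗[R] (∀ j, A j) :=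
    ∑ i, κ i ∘ₗ ((Coalgebra.comul (R := K i) (A := A i)).restrictScalars R) ∘ₗ LinearMap.proj i
  have hΔ : ∀ x, Δl x = ∑ i, κ i (Coalgebra.comul (R := K i) (x i)) := fun x => by simp [Δl]
  have hΔs : ∀ i a, Δl (Pi.single i a) = κ i (Coalgebra.comul (R := K i) a) := fun i a => by
    rw [hΔ, Finset.sum_eq_single i (fun j _ hj => by rw [Pi.single_eq_of_ne hj, map_zero, map_zero])
      (fun h => absurd (Finset.mem_univ i) h), Pi.single_eq_same]
  let Δ : (∀ i, A i) →ₐ[R] (∀ j, A j) ⊗[R] (∀ j, A j) := AlgHom.ofLinearMap Δl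
    (by
      rw [hΔ, Algebra.TensorProduct.one_def, show (1 : ∀ i, A i) = ∑ i, Pi.single i 1 from
        (Finset.univ_sum_single (1 : ∀ i, A i)).symm, TensorProduct.sum_tmul]
      refine Finset.sum_congr rfl fun i _ => ?_
      rw [TensorProduct.tmul_sum, Finset.sum_eq_single i (fun j _ hj => single_tmul_single_ne he hk hj.symm _ _)
        (fun h => absurd (Finset.mem_univ i) h), Finset.univ_sum_single, Bialgebra.comul_one,
        Algebra.TensorProduct.one_def, hκ])
    (fun x y => by
      rw [hΔ, hΔ, hΔ, Finset.sum_mul]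
      refine Finset.sum_congr rfl fun i _ => ?_
      rw [Finset.mul_sum, Finset.sum_eq_single i (fun j _ hj => by rw [hκmul, dif_neg hj.symm])
        (fun h => absurd (Finset.mem_univ i) h), hκmul, dif_pos rfl, Pi.mul_apply, Bialgebra.comul_mul])
  let εl : (∀ i, A i) →ₗ[R] R :=
    ∑ i, σ i ∘ₗ ((Coalgebra.counit (R := K i) (A := A i)).restrictScalars R) ∘ₗ LinearMap.proj i
  have hε : ∀ x, εl x = ∑ i, σ i (Coalgebra.counit (R := K i) (x i)) := fun x => by simp [εl]
  have hσ1 : ∀ i, σ i 1 = e i := fun i => by rw [← map_one (algebraMap R (K i)), hσ, mul_one]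
  have hσo : ∀ i j, i ≠ j → ∀ x y, σ i x * σ j y = 0 := by
    intro i j hij x y
    obtain ⟨r, rfl⟩ := hs i x; obtain ⟨t, rfl⟩ := hs j y
    rw [hσ, hσ, show e i * r * (e j * t) = e i * e j * (r * t) by ring, he.ortho hij, zero_mul]
  have hεs : ∀ i a, εl (Pi.single i a) = σ i (Coalgebra.counit (R := K i) a) := fun i a => by
    rw [hε, Finset.sum_eq_single i (fun j _ hj => by rw [Pi.single_eq_of_ne hj, map_zero, map_zero])
      (fun h => absurd (Finset.mem_univ i) h), Pi.single_eq_same]
  let ε : (∀ i, A i) →ₐ[R] R := AlgHom.ofLinearMap εl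
    (by rw [hε, ← he.complete]; simp [hσ1])
    (fun x y => by
      rw [hε, hε, hε, Finset.sum_mul]
      refine Finset.sum_congr rfl fun i _ => ?_
      rw [Finset.mul_sum, Finset.sum_eq_single i (fun j _ hj => hσo i j hj.symm _ _)
        (fun h => absurd (Finset.mem_univ i) h), Pi.mul_apply, Bialgebra.counit_mul, hσm])
  let S : (∀ i, A i) →ₐ[R] (∀ i, A i) := AlgHom.pi fun i =>
    ((HopfAlgebra.antipodeAlgHom (K i) (A i)).restrictScalars R).comp (Pi.evalAlgHom R A i)
  have hSs : ∀ i a, S (Pi.single i a) = Pi.single i (HopfAlgebra.antipode (K i) a) := fun i a => by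
    ext j
    rcases eq_or_ne j i with rfl | hj
    · simp [S]
    · simp [S, hj]
  -- evaluation rules
  have hsm : ∀ i k b, σ i k • Pi.single (M := A) i b = Pi.single i (k • b) := by
    intro i k b
    obtain ⟨r, rfl⟩ := hs i k
    rw [hσ, mul_comm, mul_smul, smul_single he hk, if_pos rfl, ← Pi.single_smul, algebraMap_smul]
  let κ₃ : ∀ i, A i ⊗[K i] (A i ⊗[K i] A i) →ₗ[R] (∀ j, A j) ⊗[R] ((∀ j, A j) ⊗[R] (∀ j, A j)) := fun i =>
    haveI : CompatibleSMul R (K i) (A i) (A i ⊗[K i] A i) := compatibleSMul_of_surjective (hs i) _ _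
    TensorProduct.map (sI i) (κ i) ∘ₗ
      ((TensorProduct.equivOfCompatibleSMul R (K i) (K i) (A i) (A i ⊗[K i] A i)).toLinearMap.restrictScalars R)
  have hκ₃ : ∀ i a z, κ₃ i (a ⊗ₜ z) = Pi.single i a ⊗ₜ κ i z := fun i a z => rfl
  have h1 : (Algebra.TensorProduct.assoc R R R (∀ i, A i) (∀ i, A i) (∀ i, A i)).toAlgHom.comp
      ((Algebra.TensorProduct.map Δ (.id R _)).comp Δ) = (Algebra.TensorProduct.map (.id R _) Δ).comp Δ := by
    refine AlgHom.toLinearMap_injective (linearMap_ext fun i a => ?_)
    show Algebra.TensorProduct.assoc R R R _ _ _ (Algebra.TensorProduct.map Δ (.id R _) (Δl (Pi.single i a))) =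
      Algebra.TensorProduct.map (.id R _) Δ (Δl (Pi.single i a))
    rw [hΔs]
    have hl : ∀ z, Algebra.TensorProduct.assoc R R R _ _ _ (Algebra.TensorProduct.map Δ (.id R _) (κ i z)) =
        κ₃ i (TensorProduct.assoc (K i) (A i) (A i) (A i)
          ((Coalgebra.comul (R := K i) (A := A i)).rTensor (A i) z)) := by
      intro z
      induction z using TensorProduct.induction_on with
      | zero => simp
      | add x y hx hy => simp only [map_add, hx, hy]
      | tmul x y =>
        rw [hκ, Algebra.TensorProduct.map_tmul, LinearMap.rTensor_tmul, show Δ (Pi.single i x) = _ from hΔs i x]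
        induction Coalgebra.comul (R := K i) x using TensorProduct.induction_on with
        | zero => simp
        | add u v hu hv => simp only [TensorProduct.add_tmul, map_add, hu, hv]
        | tmul u v => simp [hκ, hκ₃]
    have hr : ∀ z, Algebra.TensorProduct.map (.id R _) Δ (κ i z) =
        κ₃ i ((Coalgebra.comul (R := K i) (A := A i)).lTensor (A i) z) := by
      intro z
      induction z using TensorProduct.induction_on with
      | zero => simp
      | add x y hx hy => simp only [map_add, hx, hy]
      | tmul x y =>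
        rw [hκ, Algebra.TensorProduct.map_tmul, LinearMap.lTensor_tmul, show Δ (Pi.single i y) = _ from hΔs i y,
          hκ₃]
        rfl
    rw [hl, hr, Coalgebra.coassoc_apply]
  have h2 : (Algebra.TensorProduct.map ε (.id R _)).comp Δ = (Algebra.TensorProduct.lid R (∀ i, A i)).symm := by
    refine AlgHom.toLinearMap_injective (linearMap_ext fun i a => ?_)
    show Algebra.TensorProduct.map ε (.id R _) (Δl (Pi.single i a)) =
      (Algebra.TensorProduct.lid R (∀ i, A i)).symm (Pi.single i a)
    apply (Algebra.TensorProduct.lid R (∀ i, A i)).injective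
    rw [AlgEquiv.apply_symm_apply, hΔs]
    have hl : ∀ z, Algebra.TensorProduct.lid R _ (Algebra.TensorProduct.map ε (.id R _) (κ i z)) =
        Pi.single i (TensorProduct.lid (K i) (A i) ((Coalgebra.counit (R := K i) (A := A i)).rTensor (A i) z)) := by
      intro z
      induction z using TensorProduct.induction_on with
      | zero => simp
      | add x y hx hy => simp only [map_add, hx, hy, Pi.single_add]
      | tmul x y =>
        rw [hκ, Algebra.TensorProduct.map_tmul, Algebra.TensorProduct.lid_tmul, show ε (Pi.single i x) = _ from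
          hεs i x, AlgHom.id_apply, hsm]
        simp
    rw [hl, Coalgebra.rTensor_counit_comul]; simp
  have h3 : (Algebra.TensorProduct.map (.id R _) ε).comp Δ = (Algebra.TensorProduct.rid R R (∀ i, A i)).symm := by
    refine AlgHom.toLinearMap_injective (linearMap_ext fun i a => ?_)
    show Algebra.TensorProduct.map (.id R _) ε (Δl (Pi.single i a)) =
      (Algebra.TensorProduct.rid R R (∀ i, A i)).symm (Pi.single i a)
    apply (Algebra.TensorProduct.rid R R (∀ i, A i)).injective
    rw [AlgEquiv.apply_symm_apply, hΔs]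
    have hl : ∀ z, Algebra.TensorProduct.rid R R _ (Algebra.TensorProduct.map (.id R _) ε (κ i z)) =
        Pi.single i (TensorProduct.rid (K i) (A i) ((Coalgebra.counit (R := K i) (A := A i)).lTensor (A i) z)) := by
      intro z
      induction z using TensorProduct.induction_on with
      | zero => simp
      | add x y hx hy => simp only [map_add, hx, hy, Pi.single_add]
      | tmul x y =>
        rw [hκ, Algebra.TensorProduct.map_tmul, Algebra.TensorProduct.rid_tmul, show ε (Pi.single i y) = _ from
          hεs i y, AlgHom.id_apply, hsm]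
        simp
    rw [hl, Coalgebra.lTensor_counit_comul]; simp
  letI instB : Bialgebra R (∀ i, A i) := Bialgebra.ofAlgHom Δ ε h1 h2 h3
  have hcomul : ∀ x, Coalgebra.comul (R := R) (A := ∀ i, A i) x = Δl x := fun x => rfl
  have hcounit : ∀ x, Coalgebra.counit (R := R) (A := ∀ i, A i) x = εl x := fun x => rfl
  have hau : ∀ i (a : A i), algebraMap R (∀ j, A j) (σ i (Coalgebra.counit (R := K i) a)) =
      Pi.single i (algebraMap (K i) (A i) (Coalgebra.counit (R := K i) a)) := by
    intro i a
    rw [Algebra.algebraMap_eq_smul_one, ← Finset.univ_sum_single (1 : ∀ j, A j), Finset.smul_sum,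
      Finset.sum_eq_single i ?_ (fun h => absurd (Finset.mem_univ i) h)]
    · rw [hsm, Pi.one_apply, Algebra.algebraMap_eq_smul_one]
    · intro j _ hj
      obtain ⟨r, hr⟩ := hs i (Coalgebra.counit (R := K i) a)
      rw [← hr, hσ, mul_comm, mul_smul, smul_single he hk, if_neg hj.symm, smul_zero]
  letI instH : HopfAlgebra R (∀ i, A i) := HopfAlgebra.ofAlgHom S
    (by
      refine AlgHom.toLinearMap_injective (linearMap_ext fun i a => ?_)
      show Algebra.TensorProduct.lift S (.id R _) (fun _ => Commute.all _) (Δl (Pi.single i a)) =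
        algebraMap R _ (εl (Pi.single i a))
      rw [hΔs, hεs, hau, ← HopfAlgebra.mul_antipode_rTensor_comul_apply (R := K i) a]
      induction Coalgebra.comul (R := K i) a using TensorProduct.induction_on with
      | zero => simp
      | add x y hx hy => simp only [map_add, hx, hy, Pi.single_add]
      | tmul x y =>
        rw [hκ]
        simp only [LinearMap.rTensor_tmul, LinearMap.lTensor_tmul, LinearMap.mul'_apply, Pi.single_mul, ← hSs]
        exact Algebra.TensorProduct.lift_tmul _ _ _ _ _)
    (by
      refine AlgHom.toLinearMap_injective (linearMap_ext fun i a => ?_)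
      show Algebra.TensorProduct.lift (.id R _) S (fun _ _ => Commute.all _ _) (Δl (Pi.single i a)) =
        algebraMap R _ (εl (Pi.single i a))
      rw [hΔs, hεs, hau, ← HopfAlgebra.mul_antipode_lTensor_comul_apply (R := K i) a]
      induction Coalgebra.comul (R := K i) a using TensorProduct.induction_on with
      | zero => simp
      | add x y hx hy => simp only [map_add, hx, hy, Pi.single_add]
      | tmul x y =>
        rw [hκ]
        simp only [LinearMap.rTensor_tmul, LinearMap.lTensor_tmul, LinearMap.mul'_apply, Pi.single_mul, ← hSs]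
        exact Algebra.TensorProduct.lift_tmul _ _ _ _ _)
  refine ⟨∀ i, A i, inferInstance, inferInstance, fun i => ?_⟩
  let g : K i ⊗[R] (∀ j, A j) →ₐ[K i] A i :=
    Algebra.TensorProduct.lift (Algebra.ofId _ _) (Pi.evalAlgHom R A i) fun _ _ => Commute.all _ _
  have hg : ∀ k x, g (k ⊗ₜ x) = k • x i := fun k x => by simp [g, Algebra.smul_def, Algebra.ofId_apply]
  have hz : ∀ j, j ≠ i → ∀ k b, (k : K i) ⊗ₜ[R] Pi.single (M := A) j b = 0 := by
    intro j hj k b
    have h1 := smul_single he hk j j b
    rw [if_pos rfl] at h1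
    rw [← h1, ← TensorProduct.smul_tmul, Algebra.smul_def, (hk i (e j)).2 (he.ortho hj.symm), zero_mul,
      TensorProduct.zero_tmul]
  have hinv : ∀ z, (1 : K i) ⊗ₜ[R] Pi.single (M := A) i (g z) = z := by
    intro z
    induction z using TensorProduct.induction_on with
    | zero => simp
    | add x y hx hy => rw [map_add, Pi.single_add, TensorProduct.tmul_add, hx, hy]
    | tmul k x =>
      obtain ⟨r, rfl⟩ := hs i k
      rw [hg, algebraMap_smul, Pi.single_smul, ← TensorProduct.smul_tmul, Algebra.smul_def, mul_one]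
      conv_rhs => rw [← Finset.univ_sum_single x, TensorProduct.tmul_sum,
        Finset.sum_eq_single i (fun j _ hj => hz j hj _ _) (fun h => absurd (Finset.mem_univ i) h)]
  have hbij : Function.Bijective g := Function.bijective_iff_has_inverse.2
    ⟨fun a => (1 : K i) ⊗ₜ[R] Pi.single (M := A) i a, hinv, fun a => by rw [hg, one_smul, Pi.single_eq_same]⟩
  refine ⟨BialgEquiv.ofBijective (BialgHom.ofAlgHom g (Algebra.TensorProduct.ext (Subsingleton.elim _ _)
    (AlgHom.toLinearMap_injective (linearMap_ext fun j b => ?_))) (Algebra.TensorProduct.ext (Subsingleton.elim _ _)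
    (AlgHom.toLinearMap_injective (linearMap_ext fun j b => ?_)))) hbij⟩
  · show Bialgebra.counitAlgHom (K i) (A i) (g ((1 : K i) ⊗ₜ[R] Pi.single j b)) =
      Bialgebra.counitAlgHom (K i) (K i ⊗[R] (∀ l, A l)) ((1 : K i) ⊗ₜ[R] Pi.single j b)
    simp only [Bialgebra.counitAlgHom_apply]
    rw [hg, one_smul, TensorProduct.counit_tmul, hcounit, hεs, Algebra.smul_def]
    rcases eq_or_ne j i with rfl | hj
    · obtain ⟨r, hr⟩ := hs j (Coalgebra.counit (R := K j) b)
      simp [Pi.single_eq_same, ← hr, hσ, map_mul, algebraMap_idem he hk]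
    · obtain ⟨r, hr⟩ := hs j (Coalgebra.counit (R := K j) b)
      rw [Pi.single_eq_of_ne hj.symm, map_zero, ← hr, hσ, map_mul, (hk i (e j)).2 (he.ortho hj.symm)]
      simp
  · show Algebra.TensorProduct.map g g
        (Bialgebra.comulAlgHom (K i) (K i ⊗[R] (∀ l, A l)) ((1 : K i) ⊗ₜ[R] Pi.single j b)) =
      Bialgebra.comulAlgHom (K i) (A i) (g ((1 : K i) ⊗ₜ[R] Pi.single j b))
    simp only [Bialgebra.comulAlgHom_apply]
    rw [hg, one_smul, TensorProduct.comul_tmul, hcomul, hΔs]
    rcases eq_or_ne j i with rfl | hj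
    · rw [Pi.single_eq_same]
      induction Coalgebra.comul (R := K j) b using TensorProduct.induction_on with
      | zero => simp
      | add x y hx hy => simp only [map_add, TensorProduct.tmul_add, hx, hy]
      | tmul x y => simp [hκ, hg]
    · rw [Pi.single_eq_of_ne hj.symm, map_zero]
      induction Coalgebra.comul (R := K j) b using TensorProduct.induction_on with
      | zero => simp
      | add x y hx hy => simp only [map_add, TensorProduct.tmul_add, hx, hy, add_zero]
      | tmul x y => simp [hκ, hg, hj.symm]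

end Groth.Agent.MultT.PiHopf
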