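import Groth.Agent.MultT.DualLift
import Mathlib

/-! Finite étale Hopf algebras lift from the residue field of a henselian local ring. -/

set_option autoImplicit false

open TensorProduct

universe u

namespace Groth.Agent.MultT

variable {R : Type u} [CommRing R] [HenselianLocalRing R]


/-- The map from the closed fibre induced by a map to an algebra over the residue field. -/
noncomputable def redMap {X X₀ : Type u} [CommRing X] [CommRing X₀] [Algebra R X] [Algebra R X₀]
    [Algebra (IsLocalRing.ResidueField R) X₀] [IsScalarTower R (IsLocalRing.ResidueField R) X₀] (p : X →ₐ[R] X₀) : (IsLocalRing.ResidueField R) ⊗[R] X →ₐ[(IsLocalRing.ResidueField R)] X₀ :=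
  Algebra.TensorProduct.lift (Algebra.ofId (IsLocalRing.ResidueField R) X₀) p fun _ _ => Commute.all _ _

theorem redMap_tmul {X X₀ : Type u} [CommRing X] [CommRing X₀] [Algebra R X] [Algebra R X₀]
    [Algebra (IsLocalRing.ResidueField R) X₀] [IsScalarTower R (IsLocalRing.ResidueField R) X₀] (p : X →ₐ[R] X₀) (s : (IsLocalRing.ResidueField R)) (x : X) :
    redMap p (s ⊗ₜ x) = s • p x := by
  simp [redMap, Algebra.smul_def]

/-- The reduction of a tensor product. -/
noncomputable def redTensor {X X₀ Y Y₀ : Type u} [CommRing X] [CommRing X₀] [Algebra R X] [Algebra R X₀]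
    [Algebra (IsLocalRing.ResidueField R) X₀] [IsScalarTower R (IsLocalRing.ResidueField R) X₀] [CommRing Y] [CommRing Y₀] [Algebra R Y] [Algebra R Y₀]
    [Algebra (IsLocalRing.ResidueField R) Y₀] [IsScalarTower R (IsLocalRing.ResidueField R) Y₀] (p : X →ₐ[R] X₀) (q : Y →ₐ[R] Y₀) :
    X ⊗[R] Y →ₐ[R] X₀ ⊗[(IsLocalRing.ResidueField R)] Y₀ :=
  Algebra.TensorProduct.lift
    (((Algebra.TensorProduct.includeLeft : X₀ →ₐ[(IsLocalRing.ResidueField R)] X₀ ⊗[(IsLocalRing.ResidueField R)] Y₀).restrictScalars R).comp p)
    (((Algebra.TensorProduct.includeRight : Y₀ →ₐ[(IsLocalRing.ResidueField R)] X₀ ⊗[(IsLocalRing.ResidueField R)] Y₀).restrictScalars R).comp q)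
    fun _ _ => Commute.all _ _

theorem redTensor_tmul {X X₀ Y Y₀ : Type u} [CommRing X] [CommRing X₀] [Algebra R X] [Algebra R X₀]
    [Algebra (IsLocalRing.ResidueField R) X₀] [IsScalarTower R (IsLocalRing.ResidueField R) X₀] [CommRing Y] [CommRing Y₀] [Algebra R Y] [Algebra R Y₀]
    [Algebra (IsLocalRing.ResidueField R) Y₀] [IsScalarTower R (IsLocalRing.ResidueField R) Y₀] (p : X →ₐ[R] X₀) (q : Y →ₐ[R] Y₀) (x : X) (y : Y) :
    redTensor p q (x ⊗ₜ y) = p x ⊗ₜ q y := by
  simp [redTensor]

theorem bijective_redTensor {X X₀ Y Y₀ : Type u} [CommRing X] [CommRing X₀] [Algebra R X] [Algebra R X₀]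
    [Algebra (IsLocalRing.ResidueField R) X₀] [IsScalarTower R (IsLocalRing.ResidueField R) X₀] [CommRing Y] [CommRing Y₀] [Algebra R Y] [Algebra R Y₀]
    [Algebra (IsLocalRing.ResidueField R) Y₀] [IsScalarTower R (IsLocalRing.ResidueField R) Y₀] {p : X →ₐ[R] X₀} {q : Y →ₐ[R] Y₀}
    (hp : Function.Bijective (redMap p)) (hq : Function.Bijective (redMap q)) :
    Function.Bijective (redMap (redTensor p q)) := by
  let ep := AlgEquiv.ofBijective (redMap p) hp
  let eq := AlgEquiv.ofBijective (redMap q) hq
  let Θ : X₀ ⊗[(IsLocalRing.ResidueField R)] Y₀ →ₐ[(IsLocalRing.ResidueField R)] (IsLocalRing.ResidueField R) ⊗[R] (X ⊗[R] Y) := Algebra.TensorProduct.lift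
    ((Algebra.TensorProduct.map (AlgHom.id (IsLocalRing.ResidueField R) (IsLocalRing.ResidueField R)) Algebra.TensorProduct.includeLeft).comp ep.symm.toAlgHom)
    ((Algebra.TensorProduct.map (AlgHom.id (IsLocalRing.ResidueField R) (IsLocalRing.ResidueField R)) Algebra.TensorProduct.includeRight).comp eq.symm.toAlgHom)
    fun _ _ => Commute.all _ _
  have hep : ∀ x, ep.symm (p x) = (1 : (IsLocalRing.ResidueField R)) ⊗ₜ x := fun x =>
    ep.symm_apply_eq.2 (by show p x = redMap p ((1 : (IsLocalRing.ResidueField R)) ⊗ₜ x); rw [redMap_tmul, one_smul])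
  have heq : ∀ y, eq.symm (q y) = (1 : (IsLocalRing.ResidueField R)) ⊗ₜ y := fun y =>
    eq.symm_apply_eq.2 (by show q y = redMap q ((1 : (IsLocalRing.ResidueField R)) ⊗ₜ y); rw [redMap_tmul, one_smul])
  have h1 : Θ.comp (redMap (redTensor p q)) = AlgHom.id (IsLocalRing.ResidueField R) _ :=
    Algebra.TensorProduct.ext (Subsingleton.elim _ _)
      (Algebra.TensorProduct.ext (AlgHom.ext fun x => by simp [redMap_tmul, redTensor_tmul, Θ, hep])
        (AlgHom.ext fun y => by simp [redMap_tmul, redTensor_tmul, Θ, heq]))
  have hl : ∀ z, redMap (redTensor p q)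
      (Algebra.TensorProduct.map (AlgHom.id (IsLocalRing.ResidueField R) (IsLocalRing.ResidueField R)) Algebra.TensorProduct.includeLeft z) = redMap p z ⊗ₜ 1 := by
    intro z
    induction z using TensorProduct.induction_on with
    | zero => simp
    | tmul s x => simp [redMap_tmul, redTensor_tmul, TensorProduct.smul_tmul']
    | add u v hu hv => simp only [map_add, hu, hv, TensorProduct.add_tmul]
  have hr : ∀ z, redMap (redTensor p q)
      (Algebra.TensorProduct.map (AlgHom.id (IsLocalRing.ResidueField R) (IsLocalRing.ResidueField R)) Algebra.TensorProduct.includeRight z) = 1 ⊗ₜ redMap q z := by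
    intro z
    induction z using TensorProduct.induction_on with
    | zero => simp
    | tmul s x => simp [redMap_tmul, redTensor_tmul, TensorProduct.tmul_smul]
    | add u v hu hv => simp only [map_add, hu, hv, TensorProduct.tmul_add]
  have h2 : (redMap (redTensor p q)).comp Θ = AlgHom.id (IsLocalRing.ResidueField R) _ := by
    refine Algebra.TensorProduct.ext (AlgHom.ext fun a => ?_) (AlgHom.ext fun b => ?_)
    · obtain ⟨z, rfl⟩ := ep.surjective a
      simp [Θ, hl]
      rfl
    · obtain ⟨z, rfl⟩ := eq.surjective b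
      simp [Θ, hr]
      rfl
  exact ⟨Function.LeftInverse.injective (g := Θ) (AlgHom.congr_fun h1),
    Function.RightInverse.surjective (g := Θ) (AlgHom.congr_fun h2)⟩

theorem red_inj {E X X₀ : Type u} [CommRing E] [Algebra R E] [Algebra.Etale R E] [CommRing X] [CommRing X₀]
    [Algebra R X] [Module.Finite R X] [Algebra R X₀] [Algebra (IsLocalRing.ResidueField R) X₀] [IsScalarTower R (IsLocalRing.ResidueField R) X₀] {p : X →ₐ[R] X₀}
    (hp : Function.Bijective (redMap p)) {G G' : E →ₐ[R] X} (h : ∀ f, p (G f) = p (G' f)) : G = G' :=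
  algHom_eq_of_residue fun f => hp.1 (by rw [redMap_tmul, redMap_tmul, one_smul, one_smul, h])

theorem red_exists {E X X₀ : Type u} [CommRing E] [Algebra R E] [Algebra.Etale R E] [CommRing X] [CommRing X₀]
    [Algebra R X] [Module.Finite R X] [Algebra R X₀] [Algebra (IsLocalRing.ResidueField R) X₀] [IsScalarTower R (IsLocalRing.ResidueField R) X₀] {p : X →ₐ[R] X₀}
    (hp : Function.Bijective (redMap p)) (σ : E →ₐ[R] X₀) : ∃ G : E →ₐ[R] X, ∀ f, p (G f) = σ f := by
  haveI : HenselianRing R (IsLocalRing.maximalIdeal R) := inferInstance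
  let ep := AlgEquiv.ofBijective (redMap p) hp
  obtain ⟨G, hG⟩ := (Hensel.bijective_baseChange _ (IsLocalRing.ResidueField R) IsLocalRing.residue_surjective
    (le_of_eq IsLocalRing.ker_residue) E X).2 (ep.symm.toAlgHom.comp (redMap σ))
  refine ⟨G, fun f => ?_⟩
  have h1 := congrArg (redMap p) (AlgHom.congr_fun hG ((1 : (IsLocalRing.ResidueField R)) ⊗ₜ f))
  simp only [Algebra.TensorProduct.map_tmul, map_one, redMap_tmul, one_smul, AlgHom.comp_apply] at h1
  rw [h1, show redMap p (ep.symm.toAlgHom (σ f)) = σ f from ep.apply_symm_apply _]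

variable {E₀ : Type u} [CommRing E₀] [HopfAlgebra (IsLocalRing.ResidueField R) E₀] [Module.Finite (IsLocalRing.ResidueField R) E₀] [Algebra.Etale (IsLocalRing.ResidueField R) E₀]

/-- A finite étale Hopf algebra over the residue field lifts. -/
theorem exists_lift_hopf [Coalgebra.IsCocomm (IsLocalRing.ResidueField R) E₀] [Algebra R E₀] [IsScalarTower R (IsLocalRing.ResidueField R) E₀] :
    ∃ (E : Type u) (_ : CommRing E) (_ : HopfAlgebra R E) (p : E →ₐ[R] E₀), Module.Finite R E ∧
      Algebra.Etale R E ∧ Coalgebra.IsCocomm R E ∧ Function.Bijective (redMap p) ∧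
      (∀ f, Coalgebra.comul (R := (IsLocalRing.ResidueField R)) (p f) = redTensor p p (Coalgebra.comul (R := R) f)) ∧
      (∀ f, Coalgebra.counit (R := (IsLocalRing.ResidueField R)) (p f) = algebraMap R (IsLocalRing.ResidueField R) (Coalgebra.counit (R := R) f)) := by
  obtain ⟨E, _, _, hfin, het, ⟨e⟩⟩ := Hensel.exists_finite_etale_lift R E₀
  let p : E →ₐ[R] E₀ := (e.toAlgHom.restrictScalars R).comp Algebra.TensorProduct.includeRight
  have hp : Function.Bijective (redMap p) := by
    have : redMap p = e.toAlgHom := Algebra.TensorProduct.ext (Subsingleton.elim _ _) (AlgHom.ext fun f => by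
      simp [redMap_tmul, p])
    rw [this]
    exact e.bijective
  let p2 := redTensor p p
  have hp2 : Function.Bijective (redMap p2) := bijective_redTensor hp hp
  have hp3 : Function.Bijective (redMap (redTensor p p2)) := bijective_redTensor hp hp2
  have hpR : Function.Bijective (redMap (Algebra.ofId R (IsLocalRing.ResidueField R))) := by
    have : redMap (Algebra.ofId R (IsLocalRing.ResidueField R)) = (Algebra.TensorProduct.rid R (IsLocalRing.ResidueField R) (IsLocalRing.ResidueField R)).toAlgHom :=
      Algebra.TensorProduct.ext (Subsingleton.elim _ _) (Subsingleton.elim _ _)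
    rw [this]
    exact AlgEquiv.bijective _
  obtain ⟨Δ, hΔ⟩ := red_exists hp2 (((Bialgebra.comulAlgHom (IsLocalRing.ResidueField R) E₀).restrictScalars R).comp p)
  obtain ⟨ε, hε⟩ := red_exists hpR (((Bialgebra.counitAlgHom (IsLocalRing.ResidueField R) E₀).restrictScalars R).comp p)
  obtain ⟨S, hS⟩ := red_exists hp (((HopfAlgebra.antipodeAlgHom (IsLocalRing.ResidueField R) E₀).restrictScalars R).comp p)
  simp only [AlgHom.comp_apply, AlgHom.restrictScalars_apply, Bialgebra.comulAlgHom_apply,
    Bialgebra.counitAlgHom_apply, Algebra.ofId_apply] at hΔ hε hS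
  have hco : (Algebra.TensorProduct.assoc R R R E E E).toAlgHom.comp
      ((Algebra.TensorProduct.map Δ (.id R E)).comp Δ) = (Algebra.TensorProduct.map (.id R E) Δ).comp Δ := by
    refine red_inj hp3 fun f => ?_
    have hL : ∀ (w : E ⊗[R] E) (y : E),
        redTensor p p2 (Algebra.TensorProduct.assoc R R R E E E (w ⊗ₜ y)) =
          TensorProduct.assoc (IsLocalRing.ResidueField R) E₀ E₀ E₀ (p2 w ⊗ₜ p y) := by
      intro w y
      induction w using TensorProduct.induction_on with
      | zero => simp
      | tmul a b => simp [redTensor_tmul, p2]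
      | add u v hu hv => simp only [TensorProduct.add_tmul, map_add, hu, hv]
    have h1 : ∀ z : E ⊗[R] E, redTensor p p2 ((Algebra.TensorProduct.assoc R R R E E E)
        (Algebra.TensorProduct.map Δ (AlgHom.id R E) z)) =
        TensorProduct.assoc (IsLocalRing.ResidueField R) E₀ E₀ E₀ ((Coalgebra.comul (R := (IsLocalRing.ResidueField R))).rTensor E₀ (p2 z)) := by
      intro z
      induction z using TensorProduct.induction_on with
      | zero => simp
      | tmul a b => rw [Algebra.TensorProduct.map_tmul, hL]; simp [redTensor_tmul, p2, ← hΔ]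
      | add u v hu hv => simp only [map_add, hu, hv]
    have h2 : ∀ z : E ⊗[R] E, redTensor p p2 (Algebra.TensorProduct.map (AlgHom.id R E) Δ z) =
        (Coalgebra.comul (R := (IsLocalRing.ResidueField R))).lTensor E₀ (p2 z) := by
      intro z
      induction z using TensorProduct.induction_on with
      | zero => simp
      | tmul a b => simp [redTensor_tmul, p2, ← hΔ]
      | add u v hu hv => simp only [map_add, hu, hv]
    simp only [AlgHom.comp_apply, AlgEquiv.coe_toAlgHom]
    rw [h1, h2, hΔ, Coalgebra.coassoc_apply]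
  have hR1 : (Algebra.TensorProduct.map ε (.id R E)).comp Δ = (Algebra.TensorProduct.lid R E).symm := by
    have h1 : (Algebra.TensorProduct.lid R E).toAlgHom.comp ((Algebra.TensorProduct.map ε (.id R E)).comp Δ) =
        AlgHom.id R E := by
      refine red_inj hp fun f => ?_
      have : ∀ z : E ⊗[R] E, p (Algebra.TensorProduct.lid R E (Algebra.TensorProduct.map ε (AlgHom.id R E) z)) =
          TensorProduct.lid (IsLocalRing.ResidueField R) E₀ ((Coalgebra.counit (R := (IsLocalRing.ResidueField R))).rTensor E₀ (p2 z)) := by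
        intro z
        induction z using TensorProduct.induction_on with
        | zero => simp
        | tmul a b =>
          simp [redTensor_tmul, p2, ← hε]
          exact (algebraMap_smul _ _ _).symm
        | add u v hu hv => simp only [map_add, hu, hv]
      simp only [AlgHom.comp_apply, AlgEquiv.coe_toAlgHom, AlgHom.id_apply]
      rw [this, hΔ, Coalgebra.rTensor_counit_comul, TensorProduct.lid_tmul, one_smul]
    refine AlgHom.ext fun f => (Algebra.TensorProduct.lid R E).injective ?_
    simpa using AlgHom.congr_fun h1 f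
  have hR2 : (Algebra.TensorProduct.map (.id R E) ε).comp Δ = (Algebra.TensorProduct.rid R R E).symm := by
    have h1 : (Algebra.TensorProduct.rid R R E).toAlgHom.comp ((Algebra.TensorProduct.map (.id R E) ε).comp Δ) =
        AlgHom.id R E := by
      refine red_inj hp fun f => ?_
      have : ∀ z : E ⊗[R] E, p (Algebra.TensorProduct.rid R R E (Algebra.TensorProduct.map (AlgHom.id R E) ε z)) =
          TensorProduct.rid (IsLocalRing.ResidueField R) E₀ ((Coalgebra.counit (R := (IsLocalRing.ResidueField R))).lTensor E₀ (p2 z)) := by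
        intro z
        induction z using TensorProduct.induction_on with
        | zero => simp
        | tmul a b =>
          simp [redTensor_tmul, p2, ← hε]
          exact (algebraMap_smul _ _ _).symm
        | add u v hu hv => simp only [map_add, hu, hv]
      simp only [AlgHom.comp_apply, AlgEquiv.coe_toAlgHom, AlgHom.id_apply]
      rw [this, hΔ, Coalgebra.lTensor_counit_comul, TensorProduct.rid_tmul, one_smul]
    refine AlgHom.ext fun f => (Algebra.TensorProduct.rid R R E).injective ?_
    simpa using AlgHom.congr_fun h1 f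
  letI : Bialgebra R E := Bialgebra.ofAlgHom Δ ε hco hR1 hR2
  have hA1 : (Algebra.TensorProduct.lift S (.id R E) fun _ => Commute.all _).comp
      (Bialgebra.comulAlgHom R E) = (Algebra.ofId R E).comp (Bialgebra.counitAlgHom R E) := by
    refine red_inj hp fun f => ?_
    have : ∀ z : E ⊗[R] E, p (Algebra.TensorProduct.lift S (.id R E) (fun _ => Commute.all _) z) =
        LinearMap.mul' (IsLocalRing.ResidueField R) E₀ ((HopfAlgebra.antipode (IsLocalRing.ResidueField R) (A := E₀)).rTensor E₀ (p2 z)) := by
      intro z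
      induction z using TensorProduct.induction_on with
      | zero => simp
      | tmul a b =>
        erw [Algebra.TensorProduct.lift_tmul]
        rw [map_mul, redTensor_tmul]
        simp [hS]
      | add u v hu hv => simp only [map_add, hu, hv]
    show p (Algebra.TensorProduct.lift S (.id R E) (fun _ => Commute.all _) (Δ f)) = p (algebraMap R E (ε f))
    rw [this, hΔ, HopfAlgebra.mul_antipode_rTensor_comul_apply, ← hε, p.commutes, IsScalarTower.algebraMap_apply R (IsLocalRing.ResidueField R) E₀]
  have hA2 : (Algebra.TensorProduct.lift (.id R E) S fun _ _ => Commute.all _ _).comp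
      (Bialgebra.comulAlgHom R E) = (Algebra.ofId R E).comp (Bialgebra.counitAlgHom R E) := by
    refine red_inj hp fun f => ?_
    have : ∀ z : E ⊗[R] E, p (Algebra.TensorProduct.lift (.id R E) S (fun _ _ => Commute.all _ _) z) =
        LinearMap.mul' (IsLocalRing.ResidueField R) E₀ ((HopfAlgebra.antipode (IsLocalRing.ResidueField R) (A := E₀)).lTensor E₀ (p2 z)) := by
      intro z
      induction z using TensorProduct.induction_on with
      | zero => simp
      | tmul a b =>
        erw [Algebra.TensorProduct.lift_tmul]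
        rw [map_mul, redTensor_tmul]
        simp [hS]
      | add u v hu hv => simp only [map_add, hu, hv]
    show p (Algebra.TensorProduct.lift (.id R E) S (fun _ _ => Commute.all _ _) (Δ f)) = p (algebraMap R E (ε f))
    rw [this, hΔ, HopfAlgebra.mul_antipode_lTensor_comul_apply, ← hε, p.commutes, IsScalarTower.algebraMap_apply R (IsLocalRing.ResidueField R) E₀]
  letI : HopfAlgebra R E := HopfAlgebra.ofAlgHom S hA1 hA2
  refine ⟨E, inferInstance, inferInstance, p, hfin, het, ⟨?_⟩, hp, fun f => (hΔ f).symm, fun f => (hε f).symm⟩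
  have h1 : (Algebra.TensorProduct.comm R E E).toAlgHom.comp Δ = Δ := by
    refine red_inj hp2 fun f => ?_
    have : ∀ z : E ⊗[R] E, p2 (Algebra.TensorProduct.comm R E E z) = TensorProduct.comm (IsLocalRing.ResidueField R) E₀ E₀ (p2 z) := by
      intro z
      induction z using TensorProduct.induction_on with
      | zero => simp
      | tmul a b => simp [redTensor_tmul, p2]
      | add u v hu hv => simp only [map_add, hu, hv]
    simp only [AlgHom.comp_apply, AlgEquiv.coe_toAlgHom]
    rw [this, hΔ, Coalgebra.comm_comul]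
  refine LinearMap.ext fun f => ?_
  exact AlgHom.congr_fun h1 f

end Groth.Agent.MultT
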