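import Groth.Agent.MultT.QFKilled
import Groth.Agent.MultT.Power
import Groth.Agent.MultT.ChartEquiv
import Groth.Agent.MultT.Local
import Groth.Agent.MultT.Basic2
import Mathlib

/-!
A closed subgroup of a group of multiplicative type over a local base with finite closed fibre is killed by an
integer: the type of a diagonalisable subgroup grows along generisation.
-/

set_option autoImplicit false
set_option linter.unusedSectionVars false
set_option linter.style.haveILetI false
set_option backward.isDefEq.respectTransparency false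
set_option synthInstance.maxHeartbeats 400000
set_option maxHeartbeats 2000000

universe u

open TensorProduct Coalgebra MonoidAlgebra

noncomputable section

namespace Groth.Agent.MultT

variable {R : Type u} [CommRing R] {A : Type u} [CommRing A] [HopfAlgebra R A]

/-- The kernel of the group algebra of a field on a bialgebra quotient is generated by characters. -/
theorem exists_char_kernel {K : Type u} [Field K] {M : Type u} [CommGroup M] {H : Type u} [CommRing H]
    [HopfAlgebra K H] (Φ : MonoidAlgebra K M →ₐc[K] H) :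
    ∃ N : Subgroup M, (∀ m ∈ N, Φ (single m (1 : K)) = 1) ∧
      ∀ z, Φ z = 0 → MonoidAlgebra.mapDomainAlgHom K K (QuotientGroup.mk' N) z = 0 := by
  classical
  let g : M →* H := (Φ : MonoidAlgebra K M →* H).comp (MonoidAlgebra.of K M)
  let N := g.ker
  refine ⟨N, fun m hm => hm, fun z hz => ?_⟩
  let gq : M ⧸ N →* H := QuotientGroup.lift N g le_rfl
  let ι : MonoidAlgebra K (M ⧸ N) →ₐ[K] H := MonoidAlgebra.lift K H (M ⧸ N) gq
  have hgl : ∀ n : M ⧸ N, IsGroupLikeElem K (gq n) := fun n => by
    obtain ⟨m, rfl⟩ := QuotientGroup.mk_surjective n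
    exact (MonoidAlgebra.isGroupLikeElem_single_one m).map Φ
  have hinj : Function.Injective gq := by
    intro x y h
    obtain ⟨a, rfl⟩ := QuotientGroup.mk_surjective x
    obtain ⟨b, rfl⟩ := QuotientGroup.mk_surjective y
    refine QuotientGroup.eq.2 ?_
    have h' : g a = g b := h
    show g (a⁻¹ * b) = 1
    rw [map_mul, ← h', ← map_mul, inv_mul_cancel, map_one]
  have hli : LinearIndependent K (fun n => gq n) :=
    (linearIndepOn_isGroupLikeElem (R := K) (A := H)).linearIndependent.comp
      (fun n => (⟨gq n, hgl n⟩ : {a : H | IsGroupLikeElem K a})) fun a b h => hinj (congrArg Subtype.val h)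
  have hι : Function.Injective ι := by
    have hb : LinearIndependent K (fun n => ι.toLinearMap (MonoidAlgebra.basis (M ⧸ N) K n)) := by
      simpa [ι, MonoidAlgebra.basis_apply] using hli
    exact LinearMap.injective_of_linearIndependent (MonoidAlgebra.basis (M ⧸ N) K).span_eq hb
  have hfac : ∀ y, ι (MonoidAlgebra.mapDomainAlgHom K K (QuotientGroup.mk' N) y) = Φ y := by
    intro y
    induction y using MonoidAlgebra.induction_linear with
    | zero => simp
    | add a b ha hb => simp only [map_add, ha, hb]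
    | single m r =>
      rw [show single m r = r • single m (1 : K) by rw [smul_single, smul_eq_mul, mul_one], map_smul, map_smul,
        map_smul]
      congr 1
      simp [ι, gq, g]
  exact hι ((hfac z).trans (hz.trans (map_zero ι).symm))

/-- **A subgroup of a group of multiplicative type is killed by what kills its closed fibre.** -/
theorem fibre_killed_of_closed [IsLocalRing R] (hA : SGA3b.IsMultType R A) (J : Ideal A) [J.IsHopfIdeal R]
    (N : ℕ)
    (hN : ∀ a, (1 : IsLocalRing.ResidueField R) ⊗ₜ[R] Ideal.Quotient.mkₐ R J (SGA3b.powConv R A N a) =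
      algebraMap R (IsLocalRing.ResidueField R) (counit a) ⊗ₜ[R] 1)
    (p : Ideal R) [p.IsPrime] (a : A) :
    (1 : p.ResidueField) ⊗ₜ[R] Ideal.Quotient.mkₐ R J (SGA3b.powConv R A N a) =
      algebraMap R p.ResidueField (counit a) ⊗ₜ[R] 1 := by
  classical
  obtain ⟨c, hff⟩ := exists_chart_local hA
  haveI := hff
  let m := IsLocalRing.maximalIdeal R
  obtain ⟨⟨Qm, hQm⟩, hQmm⟩ := PrimeSpectrum.comap_surjective_of_faithfullyFlat (B := c.S) (⟨m, inferInstance⟩ : PrimeSpectrum R)
  have hQmc : Qm.comap (algebraMap R c.S) = m := congrArg PrimeSpectrum.asIdeal hQmm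
  haveI : Qm.LiesOver m := ⟨hQmc.symm⟩
  obtain ⟨Q, hQle, hQp, hQo⟩ := Ideal.exists_ideal_le_liesOver_of_le (p := p) (q := m) Qm
    (IsLocalRing.le_maximalIdeal (Ideal.IsPrime.ne_top ‹_›))
  haveI := hQp
  let K := Q.ResidueField
  obtain ⟨e, he⟩ := c.exists_bialgEquiv_tmul K
  let π := Bialgebra.Quotient.mkBialgHom (R := R) J
  let ΦB : K ⊗[R] A →ₐc[K] K ⊗[R] (A ⧸ J) := Bialgebra.TensorProduct.map (BialgHom.id K K) π
  let Φ : MonoidAlgebra K c.M →ₐc[K] K ⊗[R] (A ⧸ J) := ΦB.comp e.symm
  have hΦ : ∀ b : A, Φ (MonoidAlgebra.mapAlgHom c.M (IsScalarTower.toAlgHom R c.S K) (c.j b)) =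
      (1 : K) ⊗ₜ[R] Ideal.Quotient.mkₐ R J b := fun b => by
    show ΦB (e.symm _) = _
    rw [← he, BialgEquiv.symm_apply_apply]
    rfl
  obtain ⟨N', hN1, hN2⟩ := exists_char_kernel Φ
  let P := MonoidAlgebra.mapDomainAlgHom c.S c.S (QuotientGroup.mk' N')
  -- coefficients of the ideal along the subgroup lie in the deeper prime
  have hJ : ∀ b ∈ J, ∀ q, (P (c.j b)).coeff q ∈ Qm := by
    intro b hb q
    apply hQle
    refine Ideal.algebraMap_residueField_eq_zero.1 ?_
    have h0 : Φ (MonoidAlgebra.mapAlgHom c.M (IsScalarTower.toAlgHom R c.S K) (c.j b)) = 0 := by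
      rw [hΦ, show Ideal.Quotient.mkₐ R J b = 0 from Ideal.Quotient.eq_zero_iff_mem.2 hb, TensorProduct.tmul_zero]
    have h1 := hN2 _ h0
    have hc : ∀ y : MonoidAlgebra c.S c.M, MonoidAlgebra.mapAlgHom (c.M ⧸ N') (IsScalarTower.toAlgHom R c.S K) (P y) =
        MonoidAlgebra.mapDomainAlgHom K K (QuotientGroup.mk' N')
          (MonoidAlgebra.mapAlgHom c.M (IsScalarTower.toAlgHom R c.S K) y) := by
      intro y
      induction y using MonoidAlgebra.induction_linear with
      | zero => simp
      | add u v hu hv => simp only [map_add, hu, hv]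
      | single l r => simp [P]
    have h2 := congrArg (fun y : MonoidAlgebra K (c.M ⧸ N') => y.coeff q) ((hc (c.j b)).trans h1)
    simp at h2
    exact h2
  let k := c.S ⧸ Qm
  haveI : Nontrivial k := Ideal.Quotient.nontrivial_iff.2 hQm.ne_top
  let Y : A →ₐ[R] MonoidAlgebra k (c.M ⧸ N') :=
    (MonoidAlgebra.mapAlgHom (c.M ⧸ N') (Ideal.Quotient.mkₐ R Qm)).comp ((P.restrictScalars R).comp c.j)
  have hY : J ≤ RingHom.ker Y := fun b hb => by
    show Y b = 0
    refine MonoidAlgebra.ext (Finsupp.ext fun q => ?_)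
    show (MonoidAlgebra.mapAlgHom (c.M ⧸ N') (Ideal.Quotient.mkₐ R Qm) (P (c.j b))).coeff q = (0 : k)
    simpa using Ideal.Quotient.eq_zero_iff_mem.2 (hJ b hb q)
  let y : A ⧸ J →ₐ[R] MonoidAlgebra k (c.M ⧸ N') := Ideal.Quotient.liftₐ J Y hY
  letI : Algebra (IsLocalRing.ResidueField R) k :=
    (Ideal.Quotient.lift m (algebraMap R k) fun r hr => by
      show Ideal.Quotient.mk Qm (algebraMap R c.S r) = 0
      exact Ideal.Quotient.eq_zero_iff_mem.2 (Ideal.mem_comap.1 (hQmc.ge hr))).toAlgebra
  haveI : IsScalarTower R (IsLocalRing.ResidueField R) k := .of_algebraMap_eq fun _ => rfl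
  have hkill : ∀ b : A, Y (SGA3b.powConv R A N b) = algebraMap R _ (counit b) := by
    intro b
    let W : IsLocalRing.ResidueField R ⊗[R] (A ⧸ J) →ₐ[R] MonoidAlgebra k (c.M ⧸ N') :=
      Algebra.TensorProduct.lift
        ((IsScalarTower.toAlgHom R k (MonoidAlgebra k (c.M ⧸ N'))).comp (IsScalarTower.toAlgHom R (IsLocalRing.ResidueField R) k))
        y fun _ _ => Commute.all _ _
    have h := congrArg W (hN b)
    simp only [W, Algebra.TensorProduct.lift_tmul, map_one, one_mul, mul_one] at h
    refine (show Y (SGA3b.powConv R A N b) = y (Ideal.Quotient.mkₐ R J (SGA3b.powConv R A N b)) from rfl).trans (h.trans ?_)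
    exact AlgHom.commutes _ _
  -- every character becomes trivial after raising to the power
  have hm : ∀ l : c.M, l ^ N ∈ N' := by
    intro l
    let G : MonoidAlgebra c.S c.M →+* MonoidAlgebra k (c.M ⧸ N') :=
      (MonoidAlgebra.mapAlgHom (c.M ⧸ N') (Ideal.Quotient.mkₐ R Qm)).toRingHom.comp
        ((P.toRingHom).comp (c.mapD (powMonoidHom N)).toRingHom)
    let G' : MonoidAlgebra c.S c.M →+* MonoidAlgebra k (c.M ⧸ N') :=
      (MonoidAlgebra.mapAlgHom (c.M ⧸ N') (Ideal.Quotient.mkₐ R Qm)).toRingHom.comp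
        ((P.toRingHom).comp (c.mapD 1).toRingHom)
    have hG : ∀ z, G z = G' z := by
      intro z
      obtain ⟨w, rfl⟩ := c.linEquiv.surjective z
      induction w using TensorProduct.induction_on with
      | zero => simp
      | add u v hu hv => simp only [map_add, hu, hv]
      | tmul s b =>
        have hs : ∀ f : c.M →* c.M, c.mapD f (s • c.j b) = s • c.mapD f (c.j b) := fun f =>
          map_smul (MonoidAlgebra.mapDomainAlgHom c.S c.S f) s _
        have hsame : ∀ y₁ y₂ : MonoidAlgebra c.S c.M,
            MonoidAlgebra.mapAlgHom (c.M ⧸ N') (Ideal.Quotient.mkₐ R Qm) (P y₁) =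
              MonoidAlgebra.mapAlgHom (c.M ⧸ N') (Ideal.Quotient.mkₐ R Qm) (P y₂) →
            MonoidAlgebra.mapAlgHom (c.M ⧸ N') (Ideal.Quotient.mkₐ R Qm) (P (s • y₁)) =
              MonoidAlgebra.mapAlgHom (c.M ⧸ N') (Ideal.Quotient.mkₐ R Qm) (P (s • y₂)) := fun y₁ y₂ h => by
          rw [Algebra.smul_def, Algebra.smul_def, map_mul, map_mul, map_mul, map_mul, h]
        rw [Chart.linEquiv_tmul]
        show MonoidAlgebra.mapAlgHom _ _ (P (c.mapD _ (s • c.j b))) = MonoidAlgebra.mapAlgHom _ _ (P (c.mapD _ (s • c.j b)))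
        rw [hs, hs]
        refine hsame _ _ ?_
        rw [show c.mapD (powMonoidHom N) (c.j b) = c.j (SGA3b.powConv R A N b) from
          (AlgHom.congr_fun (c.j_powConv N) b).symm]
        refine (hkill b).trans ?_
        have h1 : c.mapD 1 (c.j b) = algebraMap R _ (counit b) := by
          have := congrArg (fun f => f.ofConv b) c.mapD_one_comp
          simpa [AlgHom.convOne_apply] using this
        rw [h1, AlgHom.map_algebraMap, AlgHom.commutes]
    have h := hG (single l 1)
    have h1 : G (single l 1) = single ((l ^ N : c.M) : c.M ⧸ N') (1 : k) := by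
      show MonoidAlgebra.mapAlgHom (c.M ⧸ N') (Ideal.Quotient.mkₐ R Qm) (P (c.mapD (powMonoidHom N) (single l 1))) = _
      simp [P, c.mapD_single]
    have h2 : G' (single l 1) = single ((1 : c.M) : c.M ⧸ N') (1 : k) := by
      show MonoidAlgebra.mapAlgHom (c.M ⧸ N') (Ideal.Quotient.mkₐ R Qm) (P (c.mapD 1 (single l 1))) = _
      simp [P, c.mapD_single]
    rw [h1, h2] at h
    exact (QuotientGroup.eq_one_iff _).1 (MonoidAlgebra.single_left_injective (one_ne_zero (α := k)) h)
  -- conclude in the fibre
  let ψ : MonoidAlgebra c.S c.M →ₐ[R] K ⊗[R] (A ⧸ J) :=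
    (Φ.toAlgHom.restrictScalars R).comp (MonoidAlgebra.mapAlgHom c.M (IsScalarTower.toAlgHom R c.S K))
  have hψ : ∀ z, ψ (c.mapD (powMonoidHom N) z) = ψ (c.mapD 1 z) := by
    intro z
    induction z using MonoidAlgebra.induction_linear with
    | zero => simp
    | add u v hu hv => simp only [map_add, hu, hv]
    | single l r =>
      simp only [c.mapD_single, powMonoidHom_apply, MonoidHom.one_apply, ψ, AlgHom.comp_apply,
        AlgHom.restrictScalars_apply, MonoidAlgebra.mapAlgHom_single]
      have h1 : ∀ x : c.M, single x (IsScalarTower.toAlgHom R c.S K r) =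
          (IsScalarTower.toAlgHom R c.S K r) • single x (1 : K) := fun x => by
        rw [smul_single, smul_eq_mul, mul_one]
      rw [h1, h1, map_smul, map_smul]
      congr 1
      show Φ (single (l ^ N) 1) = Φ (single 1 1)
      rw [hN1 _ (hm l), ← MonoidAlgebra.one_def, map_one]
  have hK : (1 : K) ⊗ₜ[R] Ideal.Quotient.mkₐ R J (SGA3b.powConv R A N a) = algebraMap R K (counit a) ⊗ₜ[R] 1 := by
    rw [← hΦ]
    show ψ (c.j (SGA3b.powConv R A N a)) = _
    rw [show c.j (SGA3b.powConv R A N a) = c.mapD (powMonoidHom N) (c.j a) from AlgHom.congr_fun (c.j_powConv N) a,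
      hψ, show c.mapD 1 (c.j a) = algebraMap R _ (counit a) by
        have := congrArg (fun f => f.ofConv a) c.mapD_one_comp
        simpa [AlgHom.convOne_apply] using this, AlgHom.commutes, Algebra.TensorProduct.algebraMap_apply]
  let φ : p.ResidueField →ₐ[R] K :=
    { toRingHom := Ideal.ResidueField.map p Q (algebraMap R c.S) hQo.over
      commutes' := fun r => by
        show Ideal.ResidueField.map p Q (algebraMap R c.S) hQo.over (algebraMap R p.ResidueField r) = _
        rw [Ideal.ResidueField.map_algebraMap, ← IsScalarTower.algebraMap_apply] }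
  letI : Algebra p.ResidueField K := φ.toRingHom.toAlgebra
  haveI : IsScalarTower R p.ResidueField K := .of_algebraMap_eq fun r => (φ.commutes r).symm
  let cb := Algebra.TensorProduct.cancelBaseChange R p.ResidueField K K (A ⧸ J)
  have hinj : Function.Injective fun w : p.ResidueField ⊗[R] (A ⧸ J) => cb ((1 : K) ⊗ₜ[p.ResidueField] w) :=
    cb.injective.comp (Algebra.TensorProduct.includeRight_injective (algebraMap p.ResidueField K).injective)
  apply hinj
  simp only [cb, Algebra.TensorProduct.cancelBaseChange_tmul, one_smul]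
  rw [hK, Algebra.algebraMap_eq_smul_one (R := R) (A := p.ResidueField),
    Algebra.algebraMap_eq_smul_one (R := R) (A := K), smul_assoc, one_smul]

/-- **A closed subgroup with finite closed fibre lies in a torsion subgroup.** -/
theorem exists_torsion_le [IsLocalRing R] (hA : SGA3b.IsMultType R A) (J : Ideal A) [J.IsHopfIdeal R]
    [Algebra.FinitePresentation R (A ⧸ J)]
    [Module.Finite (IsLocalRing.ResidueField R) (IsLocalRing.ResidueField R ⊗[R] (A ⧸ J))] :
    ∃ n : ℕ, 0 < n ∧ SGA3b.torsionIdeal R A n ≤ J := by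
  haveI := isCocomm hA
  let κ := IsLocalRing.ResidueField R
  let B := A ⧸ J
  let π := Bialgebra.Quotient.mkBialgHom (R := R) J
  haveI : IsCocomm R B := ⟨LinearMap.ext fun b => by
    obtain ⟨a, rfl⟩ := Ideal.Quotient.mk_surjective b
    show TensorProduct.comm R B B (comul (R := R) (π a)) = comul (R := R) (π a)
    rw [← CoalgHomClass.map_comp_comul_apply π a]
    conv_rhs => rw [← Coalgebra.comm_comul (R := R) a]
    rw [TensorProduct.map_comm]⟩
  haveI : Algebra.FinitePresentation κ (κ ⊗[R] B) := inferInstance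
  haveI : Algebra.QuasiFinite κ (κ ⊗[R] B) := inferInstance
  obtain ⟨N, hN, hkill⟩ := QFKilled.exists_killed (R := κ) (C := κ ⊗[R] B)
  have hclosed : ∀ a, (1 : κ) ⊗ₜ[R] Ideal.Quotient.mkₐ R J (SGA3b.powConv R A N a) =
      algebraMap R κ (counit a) ⊗ₜ[R] 1 := by
    intro a
    have h := hkill ((1 : κ) ⊗ₜ π a)
    rw [VerschComp.powConv_one_tmul, ← powConv_comp, TensorProduct.counit_tmul, CoalgHomClass.counit_comp_apply,
      Algebra.TensorProduct.algebraMap_apply, Algebra.algebraMap_self_apply, CommSemiring.counit_apply,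
      Algebra.smul_def, mul_one] at h
    exact h
  obtain ⟨n, hn, hB⟩ := QFKilled.exists_killed_of_fibres (R := R) (C := B) N hN fun p _ b => by
    obtain ⟨a, rfl⟩ := Ideal.Quotient.mk_surjective b
    show (1 : p.ResidueField) ⊗ₜ[R] SGA3b.powConv R B N (π a) =
      (1 : p.ResidueField) ⊗ₜ[R] algebraMap R B (counit (π a))
    rw [← powConv_comp, CoalgHomClass.counit_comp_apply]
    refine (fibre_killed_of_closed hA J N hclosed p a).trans ?_
    rw [Algebra.algebraMap_eq_smul_one, Algebra.algebraMap_eq_smul_one, TensorProduct.smul_tmul]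
  refine ⟨n, hn, Ideal.map_le_iff_le_comap.2 fun a ha => ?_⟩
  rw [Ideal.mem_comap, ← Ideal.Quotient.eq_zero_iff_mem]
  show π (SGA3b.powConv R A n a) = 0
  rw [powConv_comp, hB, CoalgHomClass.counit_comp_apply, show counit (R := R) a = 0 from ha, map_zero]

end Groth.Agent.MultT
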