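import Groth.Agent.MultT.ConnFibre
import Groth.Agent.MultT.HochLift
import Mathlib

/-! Groups with finite torsion subgroups and isotrivial special fibre over adically complete rings. -/

set_option autoImplicit false
set_option synthInstance.maxHeartbeats 400000

open TensorProduct WithConv Coalgebra

universe u

noncomputable section

namespace Groth.Agent.MultT

/-- A Noetherian ring has finitely many idempotents. -/
theorem finite_idempotents (B : Type u) [CommRing B] [IsNoetherianRing B] :
    {e : B | IsIdempotentElem e}.Finite := by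
  have hf := minimalPrimes.finite_of_isNoetherianRing B
  let Φ : B → Set (Ideal B) := fun e => {p ∈ minimalPrimes B | e ∈ p}
  refine Set.Finite.of_finite_image (f := Φ) (hf.finite_subsets.subset ?_) ?_
  · rintro _ ⟨e, -, rfl⟩
    exact fun p hp => hp.1
  · intro e he f hf' h
    have key : ∀ (g : B), IsIdempotentElem g → ∀ (p q : Ideal B), p.IsPrime → q.IsPrime → p ≤ q → (g ∈ q ↔ g ∈ p) := by
      intro g hg p q hp hq hle
      refine ⟨fun hgq => ?_, fun hgp => hle hgp⟩
      have h0 : g * (1 - g) ∈ p := by rw [mul_sub, mul_one, hg.eq, sub_self]; exact p.zero_mem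
      refine (hp.mem_or_mem h0).resolve_right fun h1 => ?_
      exact hq.ne_top (q.eq_top_iff_one.2 (by simpa using add_mem hgq (hle h1)))
    have hnil : e - f ∈ nilradical B := by
      rw [nilradical_eq_sInf, Ideal.mem_sInf]
      intro q hq
      haveI : q.IsPrime := hq
      obtain ⟨p, hp, hpq⟩ := Ideal.exists_minimalPrimes_le (I := (⊥ : Ideal B)) (J := q) bot_le
      have hiff : e ∈ q ↔ f ∈ q := by
        rw [key e he p q hp.1.1 hq hpq, key f hf' p q hp.1.1 hq hpq]
        have := Set.ext_iff.1 h p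
        exact ⟨fun hx => (this.1 ⟨hp, hx⟩).2, fun hx => (this.2 ⟨hp, hx⟩).2⟩
      by_cases hx : e ∈ q
      · exact sub_mem hx (hiff.1 hx)
      · have h1 : ∀ g : B, IsIdempotentElem g → g ∉ q → 1 - g ∈ q := fun g hg hgq =>
          (Ideal.IsPrime.mem_or_mem ‹q.IsPrime› (by
            show g * (1 - g) ∈ q
            rw [mul_sub, mul_one, hg.eq, sub_self]; exact q.zero_mem)).resolve_left hgq
        rw [show e - f = (1 - f) - (1 - e) by ring]
        exact sub_mem (h1 f hf' fun hfq => hx (hiff.2 hfq)) (h1 e he hx)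
    exact Hensel.eq_of_idempotent (J := nilradical B) (le_sInf fun P hP => haveI := hP.2.isPrime; nilradical_le_prime P) he hf' hnil

/-- Characters of a finitely generated group: a power of a character has roots of every order. -/
theorem exists_root_character {M : Type u} [CommGroup M] [Group.FG M] (K : Type u) [Field K] [IsAlgClosed K] :
    ∃ m : ℕ, 0 < m ∧ ∀ (z : M →* K) (N : ℕ), 0 < N → ∃ w : M →* K, ∀ a, w a ^ (N * m) = z a ^ m := by
  haveI : Module.Finite ℤ (Additive M) := Module.Finite.iff_addGroup_fg.2 inferInstance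
  let T := Submodule.torsion ℤ (Additive M)
  haveI : Finite T := Module.finite_of_fg_torsion T (Submodule.torsion_isTorsion)
  refine ⟨Nat.card T, Nat.card_pos, fun z N hN => ?_⟩
  let L : Additive M →ₗ[ℤ] Additive Kˣ := (MonoidHom.toAdditive z.toHomUnits).toIntLinearMap
  have hT : T ≤ LinearMap.ker (Nat.card T • L) := fun t ht => by
    rw [LinearMap.mem_ker, LinearMap.smul_apply, ← map_nsmul]
    have h1 : Nat.card T • (⟨t, ht⟩ : T) = 0 := card_nsmul_eq_zero'
    rw [show Nat.card T • t = ((Nat.card T • (⟨t, ht⟩ : T) : T) : Additive M) from rfl, h1]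
    exact map_zero L
  let g := T.liftQ (Nat.card T • L) hT
  let b := Module.Free.chooseBasis ℤ (Additive M ⧸ T)
  have hroot : ∀ i, ∃ u : Additive Kˣ, (N * Nat.card T) • u = g (b i) := by
    intro i
    obtain ⟨r, hr⟩ := IsAlgClosed.exists_pow_nat_eq (n := N * Nat.card T) ((Additive.toMul (g (b i)) : Kˣ) : K)
      (Nat.mul_pos hN Nat.card_pos)
    have hr0 : r ≠ 0 := fun h => by
      rw [h, zero_pow (Nat.mul_pos hN Nat.card_pos).ne'] at hr
      exact Units.ne_zero _ hr.symm
    exact ⟨Additive.ofMul (Units.mk0 r hr0), Additive.toMul.injective (Units.ext (by simpa using hr))⟩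
  choose u hu using hroot
  let W : (Additive M ⧸ T) →ₗ[ℤ] Additive Kˣ := b.constr ℤ u
  have hW : (N * Nat.card T) • W = g := b.ext fun i => by simp [W, hu]
  refine ⟨(Units.coeHom K).comp (MonoidHom.toAdditive.symm (W.comp T.mkQ).toAddMonoidHom), fun a => ?_⟩
  have h2 := congrArg (fun x => ((Additive.toMul x : Kˣ) : K)) (LinearMap.congr_fun hW (T.mkQ (Additive.ofMul a)))
  simpa [g, L] using h2

variable {R : Type u} [CommRing R] {C : Type u} [CommRing C] [HopfAlgebra R C]

/-- A point of finite order factors through the torsion subgroup. -/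
theorem torsionIdeal_le_ker {K : Type u} [CommRing K] [Algebra R K] {n : ℕ} {y : WithConv (C →ₐ[R] K)}
    (hy : y ^ n = 1) : SGA3b.torsionIdeal R C n ≤ RingHom.ker y.ofConv := by
  have hpow : ∀ k : ℕ, y ^ k = toConv (y.ofConv.comp ((toConv (AlgHom.id R C)) ^ k).ofConv) := by
    intro k
    induction k with
    | zero =>
      refine WithConv.ext (AlgHom.ext fun c => ?_)
      rw [pow_zero, pow_zero, AlgHom.convOne_apply]
      show _ = y.ofConv ((1 : WithConv (C →ₐ[R] C)) c)
      rw [AlgHom.convOne_apply, AlgHom.commutes]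
    | succ k ih =>
      rw [pow_succ, pow_succ, ih, AlgHom.comp_convMul_distrib, toConv_ofConv, AlgHom.comp_id]
  refine Ideal.map_le_iff_le_comap.2 fun c hc => ?_
  show y.ofConv (SGA3b.powConv R C n c) = 0
  have h1 := congrArg (fun f : WithConv (C →ₐ[R] K) => f.ofConv c) (hpow n)
  simp only [hy, AlgHom.comp_apply] at h1
  rw [show SGA3b.powConv R C n c = ((toConv (AlgHom.id R C)) ^ n).ofConv c from rfl, ← h1]
  show (1 : WithConv (C →ₐ[R] K)) c = 0
  rw [AlgHom.convOne_apply, show counit (R := R) c = 0 from hc, map_zero]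

open scoped Groth.Agent.MultT in
/-- Every point is a torsion translate of a point of an open isotrivial subgroup. -/
theorem exists_torsion_translate [Coalgebra.IsCocomm R C] [Algebra.FiniteType R C] {e : C} (he : IsIdempotentElem e)
    (hε : counit (R := R) e = 0) [(Ideal.span {e}).IsHopfIdeal R]
    (hiso : SGA3b.IsIsotrivial R (C ⧸ Ideal.span {e})) (K : Type u) [Field K] [IsAlgClosed K] [Algebra R K]
    (x : C →ₐ[R] K) : ∃ (n : ℕ) (t : WithConv (C →ₐ[R] K)), 0 < n ∧ t ^ n = 1 ∧
      (t⁻¹ * toConv x) e = 0 ∧ (t e = 0 → x e = 0) := by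
  let E := Ideal.span {e}
  let C' := C ⧸ E
  let q : C →ₐc[R] C' := Bialgebra.Quotient.mkBialgHom E
  -- points of the subgroup
  have hq : ∀ y : C' →ₐ[R] K, (y.comp (q : C →ₐ[R] C')) e = 0 := fun y => by
    show y (q e) = 0
    rw [show q e = 0 from Ideal.Quotient.eq_zero_iff_mem.2 (Ideal.mem_span_singleton_self e), map_zero]
  have hSmul : ∀ y y' : WithConv (C →ₐ[R] K), y e = 0 → y' e = 0 → (y * y') e = 0 := by
    intro y y' hy hy'
    have hf : ∀ w : WithConv (C →ₐ[R] K), w e = 0 → ∃ w' : C' →ₐ[R] K, w = toConv (w'.comp (q : C →ₐ[R] C')) := by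
      intro w hw
      have hle : E ≤ RingHom.ker w.ofConv := by rw [Ideal.span_le, Set.singleton_subset_iff]; exact hw
      exact ⟨Ideal.Quotient.liftₐ E w.ofConv hle, WithConv.ext (AlgHom.ext fun c => rfl)⟩
    obtain ⟨a, rfl⟩ := hf y hy
    obtain ⟨b, rfl⟩ := hf y' hy'
    rw [show toConv (a.comp (q : C →ₐ[R] C')) * toConv (b.comp (q : C →ₐ[R] C')) =
      toConv (((toConv a * toConv b : WithConv (C' →ₐ[R] K))).ofConv.comp (q : C →ₐ[R] C')) by
        rw [AlgHom.convMul_comp_bialgHom_distrib]]
    exact hq _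
  -- some power of the point lies in the subgroup
  obtain ⟨N, hN, hxN⟩ : ∃ N : ℕ, 0 < N ∧ (toConv x ^ N) e = 0 := by
    haveI : IsNoetherianRing (K ⊗[R] C) := Algebra.FiniteType.isNoetherianRing K _
    let τ : ℕ → K ⊗[R] C := fun i =>
      Algebra.TensorProduct.map (toConv x ^ i).ofConv (AlgHom.id R C) (comul (R := R) e)
    have hτ : ∀ i, τ i ∈ {b : K ⊗[R] C | IsIdempotentElem b} := fun i =>
      (he.map (Bialgebra.comulAlgHom R C)).map _
    haveI := (finite_idempotents (K ⊗[R] C)).to_subtype
    obtain ⟨i, j, hij, heq⟩ := Finite.exists_ne_map_eq_of_infinite (fun i => (⟨τ i, hτ i⟩ :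
      {b : K ⊗[R] C | IsIdempotentElem b}))
    have heq' : τ i = τ j := congrArg Subtype.val heq
    have key : ∀ a b : ℕ, a < b → τ a = τ b → ∃ N : ℕ, 0 < N ∧ (toConv x ^ N) e = 0 := by
      intro a b hab h
      refine ⟨b - a, by omega, ?_⟩
      have hev : ∀ (y y' : WithConv (C →ₐ[R] K)), (y * y') e = Algebra.TensorProduct.lift (AlgHom.id R K) y'.ofConv
          (fun _ _ => Commute.all _ _) (Algebra.TensorProduct.map y.ofConv (AlgHom.id R C) (comul (R := R) e)) := by
        intro y y'
        rw [AlgHom.convMul_apply]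
        induction comul (R := R) e using TensorProduct.induction_on with
        | zero => simp
        | add u v hu hv => simp only [map_add, hu, hv]
        | tmul u v => simp
      have h1 := hev (toConv x ^ a) (toConv x ^ a)⁻¹
      have h2 := hev (toConv x ^ b) (toConv x ^ a)⁻¹
      rw [show Algebra.TensorProduct.map (toConv x ^ a).ofConv (AlgHom.id R C) (comul (R := R) e) = τ a from rfl,
        h] at h1
      rw [mul_inv_cancel, AlgHom.convOne_apply, hε, map_zero] at h1
      rw [show Algebra.TensorProduct.map (toConv x ^ b).ofConv (AlgHom.id R C) (comul (R := R) e) = τ b from rfl,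
        ← h1, ← pow_sub _ hab.le] at h2
      exact h2
    rcases lt_or_gt_of_ne hij with h | h
    · exact key i j h heq'
    · exact key j i h heq'.symm
  -- divisibility in the subgroup
  obtain ⟨S, _, _, het, hfin, hff, M, _, ⟨es⟩⟩ := hiso
  haveI := hfin; haveI := hff
  haveI : Nontrivial (K ⊗[R] S) := Module.FaithfullyFlat.rTensor_nontrivial R S K
  obtain ⟨w, hw⟩ := Ideal.exists_maximal (K ⊗[R] S)
  letI : Field ((K ⊗[R] S) ⧸ w) := Ideal.Quotient.field w
  haveI : Module.Finite K ((K ⊗[R] S) ⧸ w) := Module.Finite.of_surjective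
    (Ideal.Quotient.mkₐ K w).toLinearMap Ideal.Quotient.mk_surjective
  let κ := (AlgEquiv.ofBijective (Algebra.ofId K ((K ⊗[R] S) ⧸ w))
    IsAlgClosed.algebraMap_bijective_of_isIntegral).symm
  let σ : S →ₐ[R] K := ((κ : _ →ₐ[K] K).restrictScalars R).comp
    (((Ideal.Quotient.mkₐ K w).restrictScalars R).comp Algebra.TensorProduct.includeRight)
  obtain ⟨EK, -⟩ := exists_baseEquiv es σ
  haveI : Algebra.FiniteType R C' := Algebra.FiniteType.of_surjective (Ideal.Quotient.mkₐ R E) Ideal.Quotient.mk_surjective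
  haveI : Group.FG M := by
    rw [← MonoidAlgebra.finiteType_iff_group_fg (R := K)]
    exact Algebra.FiniteType.of_surjective (A := K ⊗[R] C') (EK : (K ⊗[R] C') ≃ₐ[K] MonoidAlgebra K M).toAlgHom
      (EK : (K ⊗[R] C') ≃ₐ[K] MonoidAlgebra K M).surjective
  let P : (M →* K) → WithConv (C →ₐ[R] K) := fun z => toConv
    (((((MonoidAlgebra.lift K K M z).comp (EK : (K ⊗[R] C') ≃ₐ[K] MonoidAlgebra K M).toAlgHom).restrictScalars R).comp
      Algebra.TensorProduct.includeRight).comp (q : C →ₐ[R] C'))
  have hPq : ∀ z, P z e = 0 := fun z => hq _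
  have hPmul : ∀ z z', P (z * z') = P z * P z' := by
    intro z z'
    let Z : WithConv (K ⊗[R] C' →ₐ[K] K) := toConv ((MonoidAlgebra.lift K K M z).comp (EK : (K ⊗[R] C') ≃ₐ[K] MonoidAlgebra K M).toAlgHom)
    let Z' : WithConv (K ⊗[R] C' →ₐ[K] K) := toConv ((MonoidAlgebra.lift K K M z').comp (EK : (K ⊗[R] C') ≃ₐ[K] MonoidAlgebra K M).toAlgHom)
    have hZ : toConv ((MonoidAlgebra.lift K K M (z * z')).comp (EK : (K ⊗[R] C') ≃ₐ[K] MonoidAlgebra K M).toAlgHom) = Z * Z' := by
      have h1 : toConv (MonoidAlgebra.lift K K M (z * z')) =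
          toConv (MonoidAlgebra.lift K K M z) * toConv (MonoidAlgebra.lift K K M z') := by
        refine WithConv.ext (AlgHom.ext fun v => ?_)
        rw [AlgHom.convMul_apply]
        induction v using MonoidAlgebra.induction_linear with
        | zero => simp
        | add a b ha hb => simp only [map_add, ← ha, ← hb]
        | single m t => simp; ring
      have h2 := congrArg (fun f : WithConv (MonoidAlgebra K M →ₐ[K] K) =>
        toConv (f.ofConv.comp ((EK : (K ⊗[R] C') →ₐc[K] MonoidAlgebra K M) : (K ⊗[R] C') →ₐ[K] MonoidAlgebra K M))) h1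
      simp only [AlgHom.convMul_comp_bialgHom_distrib, toConv_ofConv] at h2
      exact h2
    let F : WithConv (K ⊗[R] C' →ₐ[K] K) → WithConv (C' →ₐ[R] K) := fun f =>
      toConv ((f.ofConv.restrictScalars R).comp Algebra.TensorProduct.includeRight)
    have hF : F (Z * Z') = F Z * F Z' := by
      refine WithConv.ext (AlgHom.ext fun c => ?_)
      show (Z * Z') ((1 : K) ⊗ₜ c) = (F Z * F Z') c
      rw [AlgHom.convMul_apply, AlgHom.convMul_apply, TensorProduct.comul_tmul, CommSemiring.comul_apply]
      induction comul (R := R) c using TensorProduct.induction_on with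
      | zero => simp
      | tmul a b => simp [F]
      | add a b ha hb => simp only [TensorProduct.tmul_add, map_add, ha, hb]
    have h3 := congrArg (fun f : WithConv (C' →ₐ[R] K) => toConv (f.ofConv.comp (q : C →ₐ[R] C'))) ((congrArg F hZ).trans hF)
    simp only [AlgHom.convMul_comp_bialgHom_distrib, toConv_ofConv] at h3
    exact h3
  have hPone : P 1 = 1 := by
    refine mul_left_cancel (a := P 1) ?_
    rw [← hPmul, mul_one, mul_one]
  have hPpow : ∀ z (k : ℕ), P (z ^ k) = P z ^ k := by
    intro z k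
    induction k with
    | zero => rw [pow_zero, pow_zero, hPone]
    | succ k ih => rw [pow_succ, pow_succ, hPmul, ih]
  have hPsurj : ∀ y : WithConv (C →ₐ[R] K), y e = 0 → ∃ z, P z = y := by
    intro y hy
    have hle : E ≤ RingHom.ker y.ofConv := by rw [Ideal.span_le, Set.singleton_subset_iff]; exact hy
    let y' : C' →ₐ[R] K := Ideal.Quotient.liftₐ E y.ofConv hle
    let Y : K ⊗[R] C' →ₐ[K] K := Algebra.TensorProduct.lift (AlgHom.id K K) y' fun _ _ => Commute.all _ _
    refine ⟨(MonoidAlgebra.lift K K M).symm (Y.comp (EK : (K ⊗[R] C') ≃ₐ[K] MonoidAlgebra K M).symm.toAlgHom), ?_⟩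
    refine WithConv.ext (AlgHom.ext fun c => ?_)
    show (MonoidAlgebra.lift K K M ((MonoidAlgebra.lift K K M).symm _)) (EK ((1 : K) ⊗ₜ q c)) = y c
    rw [Equiv.apply_symm_apply]
    show Y ((EK : (K ⊗[R] C') ≃ₐ[K] MonoidAlgebra K M).symm ((EK : (K ⊗[R] C') ≃ₐ[K] MonoidAlgebra K M) ((1 : K) ⊗ₜ q c))) = _
    rw [AlgEquiv.symm_apply_apply]
    show Y ((1 : K) ⊗ₜ q c) = _
    rw [Algebra.TensorProduct.lift_tmul, map_one, one_mul]
    rfl
  obtain ⟨z, hz⟩ := hPsurj _ hxN
  obtain ⟨m, hm, hroot⟩ := exists_root_character (M := M) K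
  obtain ⟨r, hr⟩ := hroot z N hN
  have hr' : r ^ (N * m) = z ^ m := MonoidHom.ext fun a => by simpa using hr a
  let y := P r
  have htor' : (toConv x * y⁻¹) ^ (N * m) = 1 := by
    have hcomm : Commute (toConv x) y⁻¹ := (Commute.inv_right (mul_comm _ _ : toConv x * y = y * toConv x))
    rw [hcomm.mul_pow, inv_pow, mul_inv_eq_one]
    show _ = P r ^ (N * m)
    rw [← hPpow, hr', hPpow, hz, pow_mul]
  refine ⟨N * m, toConv x * y⁻¹, Nat.mul_pos hN hm, htor', ?_, fun ht => ?_⟩
  · rw [mul_inv_rev, inv_inv, mul_assoc, inv_mul_cancel, mul_one]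
    exact hPq r
  · have h := hSmul _ _ ht (hPq r)
    rwa [inv_mul_cancel_right] at h

/-- An idempotent vanishing at all torsion points vanishes at all points. -/
theorem eq_zero_of_torsion_points [Coalgebra.IsCocomm R C] [Algebra.FiniteType R C] {e : C} (he : IsIdempotentElem e)
    (hε : counit (R := R) e = 0) [(Ideal.span {e}).IsHopfIdeal R]
    (hiso : SGA3b.IsIsotrivial R (C ⧸ Ideal.span {e})) (K : Type u) [Field K] [IsAlgClosed K] [Algebra R K]
    (htors : ∀ (n : ℕ) (y : WithConv (C →ₐ[R] K)), 0 < n → y ^ n = 1 → y e = 0)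
    (x : C →ₐ[R] K) : x e = 0 := by
  obtain ⟨n, t, hn, ht, -, h⟩ := exists_torsion_translate he hε hiso K x
  exact h (htors n t hn ht)

/-- An idempotent cutting out an isotrivial subgroup containing all torsion subgroups vanishes on points. -/
theorem mem_prime_of_torsion [Coalgebra.IsCocomm R C] [Algebra.FiniteType R C] {e : C} (he : IsIdempotentElem e)
    (hε : counit (R := R) e = 0) [(Ideal.span {e}).IsHopfIdeal R]
    (hiso : SGA3b.IsIsotrivial R (C ⧸ Ideal.span {e}))
    (htor : ∀ n : ℕ, 0 < n → e ∈ SGA3b.torsionIdeal R C n) (K : Type u) [Field K] [IsAlgClosed K] [Algebra R K]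
    (x : C →ₐ[R] K) : x e = 0 :=
  eq_zero_of_torsion_points he hε hiso K (fun n _ hn hy => torsionIdeal_le_ker hy (htor n hn)) x

/-- A commutative group, flat of finite type over an adically complete ring, with finite torsion and isotrivial
special fibre is isotrivial. -/
theorem isIsotrivial_of_torsion [IsNoetherianRing R] (I : Ideal R) [IsAdicComplete I R] [Module.Flat R C]
    [Coalgebra.IsCocomm R C] [Algebra.FiniteType R C]
    (h0 : SGA3b.IsIsotrivial (R ⧸ I) ((R ⧸ I) ⊗[R] C))
    (hfin : ∀ n : ℕ, 0 < n → Module.Finite R (C ⧸ SGA3b.torsionIdeal R C n)) : SGA3b.IsIsotrivial R C := by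
  haveI : HenselianRing R I := IsAdicComplete.henselianRing R I
  have hI : I ≤ Ideal.jacobson ⊥ := HenselianRing.jac
  obtain ⟨e, he, heI, hK, hiso⟩ := exists_open_subgroup I (fun q _ _ => by
    haveI : Module.Flat C (Localization.AtPrime q) := IsLocalization.flat _ q.primeCompl
    exact Module.Flat.trans R C _) h0
  haveI := hK
  have hε : counit (R := R) e = 0 := by
    have h1 : counit (R := R) e ∈ I := map_self_mem (counit (R := R) (A := C)) heI
    exact Hensel.eq_of_idempotent hI (he.map (Bialgebra.counitAlgHom R C))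
      IsIdempotentElem.zero (by simpa using h1)
  have htor : ∀ n : ℕ, 0 < n → e ∈ SGA3b.torsionIdeal R C n := by
    intro n hn
    let F := C ⧸ SGA3b.torsionIdeal R C n
    haveI := hfin n hn
    haveI : Algebra.IsIntegral R F := Algebra.IsIntegral.of_finite R F
    refine Ideal.Quotient.eq_zero_iff_mem.1 (Hensel.eq_of_idempotent (J := I.map (algebraMap R F))
      (Hensel.map_le_jacobson hI) (he.map (Ideal.Quotient.mk _)) IsIdempotentElem.zero ?_)
    rw [sub_zero, IsScalarTower.algebraMap_eq R C F, ← Ideal.map_map]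
    exact Ideal.mem_map_of_mem _ heI
  have he0 : e = 0 := by
    suffices h : ∀ q : Ideal C, q.IsPrime → e ∈ q by
      obtain ⟨n, hn⟩ := nilpotent_iff_mem_prime.2 h
      rw [← he.pow_succ_eq n, pow_succ, hn, zero_mul]
    intro q hq
    let K := AlgebraicClosure q.ResidueField
    have h1 := mem_prime_of_torsion he hε hiso htor K
      ((IsScalarTower.toAlgHom R q.ResidueField K).comp (IsScalarTower.toAlgHom R C q.ResidueField))
    have h2 : algebraMap q.ResidueField K (algebraMap C q.ResidueField e) = 0 := h1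
    exact Ideal.algebraMap_residueField_eq_zero.1 ((map_eq_zero _).1 h2)
  subst he0
  refine isIsotrivial_of_equiv (BialgEquiv.ofBijective
    (Bialgebra.Quotient.mkBialgHom (Ideal.span {(0 : C)})) ⟨fun x y h => ?_, Ideal.Quotient.mk_surjective⟩) hiso
  have h' := Ideal.Quotient.eq.1 (show Ideal.Quotient.mk _ x = Ideal.Quotient.mk _ y from h)
  rw [Ideal.mem_span_singleton] at h'
  exact sub_eq_zero.1 (zero_dvd_iff.1 h')

end Groth.Agent.MultT
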